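import Cfsg.Prelude.Def_Solvable
import Cfsg.Prelude.Def_Local
import Mathlib.GroupTheory.Sylow
import Mathlib.GroupTheory.SchurZassenhaus
import Mathlib.GroupTheory.Index

set_option autoImplicit false

namespace Cfsg.Agent.Lib.Helper76

open Cfsg

section cores

variable {G : Type*} [Group G]

theorem le_pCore (p : ℕ) (N : Subgroup G) (hN : N.Normal) (hp : IsPGroup p N) : N ≤ pCore p G :=
  le_sSup ⟨hN, hp⟩

theorem pCore_le_sylow (p : ℕ) [Fact p.Prime] (P : Sylow p G) : pCore p G ≤ P := by
  apply sSup_le
  rintro N ⟨hN, hp⟩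
  have := hN
  exact hp.le_sylow_of_normal P

theorem pCore_isPGroup (p : ℕ) [Fact p.Prime] : IsPGroup p (pCore p G) := by
  obtain ⟨P⟩ : Nonempty (Sylow p G) := inferInstance
  exact P.2.to_le (pCore_le_sylow p P)

theorem le_pPrimeCore (p : ℕ) (N : Subgroup G) (hN : N.Normal) (hp : (Nat.card N).Coprime p) :
    N ≤ pPrimeCore p G :=
  le_sSup ⟨hN, hp⟩

theorem card_sup_dvd_of_normal (A B : Subgroup G) [B.Normal] :
    Nat.card (A ⊔ B : Subgroup G) ∣ Nat.card A * Nat.card B := by
  have h1 : Nat.card (B.subgroupOf (A ⊔ B)) * B.relIndex (A ⊔ B) = Nat.card (A ⊔ B : Subgroup G) :=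
    Subgroup.card_mul_index _
  rw [Subgroup.relIndex_sup_right] at h1
  have h2 : Nat.card (B.subgroupOf (A ⊔ B)) = Nat.card B :=
    Nat.card_congr (Subgroup.subgroupOfEquivOfLe le_sup_right).toEquiv
  rw [← h1, h2, mul_comm]
  exact Nat.mul_dvd_mul_right (Subgroup.relIndex_dvd_card B A) _

theorem pPrimeCore_coprime [Finite G] (p : ℕ) : (Nat.card (pPrimeCore p G)).Coprime p := by
  classical
  have hfin : Set.Finite {N : Subgroup G | N.Normal ∧ (Nat.card N).Coprime p} := Set.toFinite _
  have : pPrimeCore p G = hfin.toFinset.sup id := by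
    rw [Finset.sup_id_eq_sSup]; simp [pPrimeCore]
  rw [this]
  have key : (hfin.toFinset.sup id).Normal ∧ (Nat.card (hfin.toFinset.sup id : Subgroup G)).Coprime p := by
    refine Finset.sup_induction (p := fun H : Subgroup G => H.Normal ∧ (Nat.card H).Coprime p)
      ?_ ?_ ?_
    · exact ⟨inferInstance, by simp⟩
    · rintro A ⟨hA, hA'⟩ B ⟨hB, hB'⟩
      have := hA; have := hB
      refine ⟨inferInstance, ?_⟩
      exact Nat.Coprime.coprime_dvd_left (card_sup_dvd_of_normal A B) (Nat.Coprime.mul_left hA' hB')
    · intro N hN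
      simpa using hN
  exact key.2

end cores

section psolv

variable {G : Type*} [Group G]

/-- the image of a `p`-solvable group under a surjective homomorphism is `p`-solvable. -/
theorem IsPSolvable_of_surjective {G' : Type*} [Group G'] (p : ℕ) [Fact p.Prime]
    (f : G →* G') (hf : Function.Surjective f) (h : IsPSolvable p G) : IsPSolvable p G' := by
  obtain ⟨n, H, h0, hlast, hmono, hnorm, hstep⟩ := h
  refine ⟨n, fun i => (H i).map f, ?_, ?_, ?_, ?_, ?_⟩
  · simp [h0]
  · simp only [hlast]
    exact Subgroup.map_top_of_surjective f hf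
  · intro i j hij
    exact Subgroup.map_mono (hmono hij)
  · intro i
    exact (hnorm i).map f hf
  · intro i
    have hle : H i.castSucc ≤ H i.succ := hmono (Fin.castSucc_lt_succ (i := i)).le
    have hdvd : ((H i.castSucc).map f).relIndex ((H i.succ).map f)
        ∣ (H i.castSucc).relIndex (H i.succ) := by
      rw [Subgroup.relIndex_map_map]
      have := hnorm i.castSucc
      have h1 : (H i.castSucc ⊔ f.ker) ⊔ H i.succ = H i.succ ⊔ f.ker := by
        rw [sup_comm, ← sup_assoc, sup_eq_left.mpr hle]
      rw [← h1, Subgroup.relIndex_sup_left]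
      exact Subgroup.relIndex_dvd_of_le_left _ le_sup_left
    rcases hstep i with ⟨m, hm⟩ | hc
    · left
      rw [hm] at hdvd
      obtain ⟨j, _, hj⟩ := (Nat.dvd_prime_pow Fact.out).mp hdvd
      exact ⟨j, hj⟩
    · right
      exact Nat.Coprime.coprime_dvd_left hdvd hc

/-- An element of `p`-power order whose order divides a number coprime to `p` is trivial. -/
theorem eq_one_of_pow_eq_one_of_coprime {A : Type*} [Group A] (p : ℕ) (b : A) (n k : ℕ)
    (hn : n.Coprime p) (h1 : b ^ n = 1) (h2 : b ^ p ^ k = 1) : b = 1 := by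
  have hcop : Nat.Coprime n (p ^ k) := Nat.Coprime.pow_right k hn
  have h3 : orderOf b ∣ Nat.gcd n (p ^ k) :=
    Nat.dvd_gcd (orderOf_dvd_of_pow_eq_one h1) (orderOf_dvd_of_pow_eq_one h2)
  rw [hcop.gcd_eq_one, Nat.dvd_one] at h3
  exact orderOf_eq_one_iff.mp h3

/-- Key step of Hall–Higman 1.2.3: a normal subgroup `A` with a `G`-normal central `p`-subgroup `B`
of index prime to `p` equals `B`, if `G` has no nontrivial normal `p'`-subgroups. -/
theorem le_of_central_coprime_relIndex [Finite G] (p : ℕ) [Fact p.Prime]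
    (hcore : ∀ N : Subgroup G, N.Normal → (Nat.card N).Coprime p → N = ⊥)
    (A B : Subgroup G) (hA : A.Normal) (hBA : B ≤ A) (hB : B.Normal) (hBp : IsPGroup p B)
    (hcomm : ∀ b ∈ B, ∀ a ∈ A, a * b = b * a)
    (hidx : (B.relIndex A).Coprime p) : A ≤ B := by
  have hB'n : (B.subgroupOf A).Normal := inferInstance
  have hB'card : Nat.card (B.subgroupOf A) = Nat.card B :=
    Nat.card_congr (Subgroup.subgroupOfEquivOfLe hBA).toEquiv
  obtain ⟨k, hk⟩ := IsPGroup.iff_card.mp hBp
  have hcop : Nat.Coprime (Nat.card (B.subgroupOf A)) (B.subgroupOf A).index := by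
    rw [hB'card, hk]
    exact (Nat.Coprime.pow_left k (Nat.Coprime.symm hidx))
  obtain ⟨M', hM'⟩ := Subgroup.exists_right_complement'_of_coprime hcop
  set M : Subgroup G := M'.map A.subtype with hM
  have hMA : M ≤ A := Subgroup.map_subtype_le M'
  have hMcard : Nat.card M = B.relIndex A := by
    rw [hM, Subgroup.card_subtype]
    exact hM'.symm.index_eq_card.symm
  -- every element of `A` of order prime to `p` lies in `M`
  have hmem : ∀ y ∈ A, (orderOf y).Coprime p → y ∈ M := by
    intro y hy hyo
    obtain ⟨⟨⟨b, hb⟩, ⟨m, hm⟩⟩, hbm, -⟩ := hM'.existsUnique ⟨y, hy⟩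
    simp only at hbm
    have hbB : (b : G) ∈ B := by simpa [Subgroup.mem_subgroupOf] using hb
    have hmA : (m : G) ∈ A := m.2
    have hyeq : y = (b : G) * (m : G) := by
      have := congrArg Subtype.val hbm
      simpa using this.symm
    have hc : Commute (b : G) (m : G) := (hcomm _ hbB _ hmA).symm
    have h1 : (b : G) ^ orderOf y * (m : G) ^ orderOf y = 1 := by
      rw [← hc.mul_pow, ← hyeq, pow_orderOf_eq_one]
    -- b ^ n ∈ B ∩ M
    have hbn : (b ^ orderOf y : A) ∈ B.subgroupOf A := Subgroup.pow_mem _ hb _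
    have hbn' : (b ^ orderOf y : A) ∈ M' := by
      have : (b ^ orderOf y : A) = (m ^ orderOf y)⁻¹ := by
        apply Subtype.ext
        have := eq_inv_of_mul_eq_one_left h1
        simpa using this
      rw [this]
      exact M'.inv_mem (M'.pow_mem hm _)
    have hb1 : (b ^ orderOf y : A) = 1 := by
      have := hM'.disjoint.le_bot ⟨hbn, hbn'⟩
      simpa using this
    obtain ⟨j, hj⟩ := hBp ⟨(b : G), hbB⟩
    have hbj : (b : G) ^ p ^ j = 1 := by
      have := congrArg Subtype.val hj
      simpa using this
    have hb1' : (b : G) ^ orderOf y = 1 := by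
      have := congrArg Subtype.val hb1
      simpa using this
    have hbone : (b : G) = 1 := eq_one_of_pow_eq_one_of_coprime p _ _ j hyo hb1' hbj
    rw [hyeq, hbone, one_mul]
    exact ⟨m, hm, rfl⟩
  have hMcop : (Nat.card M).Coprime p := by rw [hMcard]; exact hidx
  have hMn : M.Normal := by
    constructor
    intro x hx g
    apply hmem
    · exact hA.conj_mem x (hMA hx) g
    · have : orderOf (g * x * g⁻¹) = orderOf x := by
        simpa using orderOf_injective (MulAut.conj g).toMonoidHom (MulAut.conj g).injective x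
      rw [this]
      have hd : orderOf x ∣ Nat.card M := by
        have := orderOf_dvd_natCard (⟨x, hx⟩ : M)
        rwa [Subgroup.orderOf_mk] at this
      exact Nat.Coprime.coprime_dvd_left hd hMcop
  have hMbot : M = ⊥ := hcore M hMn hMcop
  have hidx1 : B.relIndex A = 1 := by
    rw [← hMcard, hMbot]; simp
  exact Subgroup.relIndex_eq_one.mp hidx1

/-- **Hall–Higman Lemma 1.2.3**: in a finite `p`-solvable group with trivial `p'`-core, the
centralizer of `O_p(G)` is contained in `O_p(G)`. -/
theorem centralizer_pCore_le [Finite G] (p : ℕ) [Fact p.Prime] (hsolv : IsPSolvable p G)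
    (hcore : ∀ N : Subgroup G, N.Normal → (Nat.card N).Coprime p → N = ⊥) :
    Subgroup.centralizer (pCore p G : Set G) ≤ pCore p G := by
  have hRn : (pCore p G).Normal := inferInstance
  have hCn : (Subgroup.centralizer (pCore p G : Set G)).Normal := Subgroup.normal_centralizer
  set R := pCore p G with hR
  set C := Subgroup.centralizer (R : Set G) with hC
  obtain ⟨n, H, h0, hlast, hmono, hnorm, hstep⟩ := hsolv
  have key : ∀ i : Fin (n + 1), C ⊓ H i ≤ R := by
    intro i
    induction i using Fin.induction with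
    | zero => rw [h0]; simp
    | succ i ih =>
      have hle : H i.castSucc ≤ H i.succ := hmono (Fin.castSucc_lt_succ (i := i)).le
      set A := C ⊓ H i.succ with hAdef
      set B := C ⊓ H i.castSucc with hBdef
      have hAn : A.Normal := by
        have := hnorm i.succ
        exact inferInstance
      have hBn : B.Normal := by
        have := hnorm i.castSucc
        exact inferInstance
      have hBA : B ≤ A := inf_le_inf_left C hle
      have hBp : IsPGroup p B := (pCore_isPGroup p).to_le ih
      have hdvd : B.relIndex A ∣ (H i.castSucc).relIndex (H i.succ) := by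
        have h1 : B = A ⊓ H i.castSucc := by
          rw [hBdef, hAdef, inf_assoc, inf_eq_right.mpr hle]
        rw [h1, Subgroup.inf_relIndex_left]
        have := hnorm i.castSucc
        have h2 : (H i.castSucc).relIndex A = (H i.castSucc).relIndex (H i.castSucc ⊔ A) := by
          rw [Subgroup.relIndex_sup_left]
        rw [h2]
        have h3 : H i.castSucc ⊔ A ≤ H i.succ := sup_le hle inf_le_right
        have h4 := Subgroup.relIndex_mul_relIndex (H i.castSucc) (H i.castSucc ⊔ A) (H i.succ)
          le_sup_left h3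
        exact Dvd.intro _ h4
      rcases hstep i with ⟨m, hm⟩ | hc
      · -- `p`-power case: `A` is a normal `p`-subgroup
        rw [hm] at hdvd
        obtain ⟨j, _, hj⟩ := (Nat.dvd_prime_pow Fact.out).mp hdvd
        have hAp : IsPGroup p A := by
          obtain ⟨k, hk⟩ := IsPGroup.iff_card.mp hBp
          have h1 : Nat.card (B.subgroupOf A) * B.relIndex A = Nat.card A :=
            Subgroup.card_mul_index _
          have h2 : Nat.card (B.subgroupOf A) = Nat.card B :=
            Nat.card_congr (Subgroup.subgroupOfEquivOfLe hBA).toEquiv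
          rw [h2, hk, hj, ← pow_add] at h1
          exact IsPGroup.of_card h1.symm
        exact le_pCore p A hAn hAp
      · -- `p'` case
        have hcop : (B.relIndex A).Coprime p := Nat.Coprime.coprime_dvd_left hdvd hc
        have hcomm : ∀ b ∈ B, ∀ a ∈ A, a * b = b * a := by
          intro b hb a ha
          have haC : a ∈ C := ha.1
          have hbR : b ∈ R := ih hb
          exact (Subgroup.mem_centralizer_iff.mp haC b hbR).symm
        exact (le_of_central_coprime_relIndex p hcore A B hAn hBA hBn hBp hcomm hcop).trans ih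
  have := key (Fin.last n)
  rw [hlast, inf_top_eq] at this
  exact this

/-- `G / O_{p'}(G)` has no nontrivial normal `p'`-subgroups. -/
theorem quotient_pPrimeCore_core_trivial [Finite G] (p : ℕ) [Fact p.Prime]
    (N : Subgroup (G ⧸ pPrimeCore p G)) (hN : N.Normal) (hcop : (Nat.card N).Coprime p) :
    N = ⊥ := by
  have hK : (pPrimeCore p G).Normal := inferInstance
  set K := pPrimeCore p G with hKdef
  set π := QuotientGroup.mk' K with hπ
  have hsurj : Function.Surjective π := QuotientGroup.mk'_surjective K
  set L := N.comap π with hL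
  have hLn : L.Normal := hN.comap π
  have hker : π.ker = K := QuotientGroup.ker_mk' K
  have hKL : K ≤ L := by
    rw [← hker]; exact Subgroup.ker_le_comap π N
  have hcard : Nat.card L = Nat.card K * Nat.card N := by
    have h1 : Nat.card (K.subgroupOf L) * K.relIndex L = Nat.card L := Subgroup.card_mul_index _
    have h2 : Nat.card (K.subgroupOf L) = Nat.card K :=
      Nat.card_congr (Subgroup.subgroupOfEquivOfLe hKL).toEquiv
    have h3 : K.relIndex L = Nat.card N := by
      have h4 : N = L.map π := by rw [hL, Subgroup.map_comap_eq_self_of_surjective hsurj]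
      have : K.relIndex L = (⊥ : Subgroup (G ⧸ K)).relIndex N := by
        rw [h4, ← Subgroup.map_bot π, Subgroup.relIndex_map_map, hker, bot_sup_eq,
          sup_eq_left.mpr hKL]
      rw [this, Subgroup.relIndex_bot_left]
    rw [← h1, h2, h3]
  have hLcop : (Nat.card L).Coprime p := by
    rw [hcard]; exact Nat.Coprime.mul_left (pPrimeCore_coprime p) hcop
  have hLK : L ≤ K := le_pPrimeCore p L hLn hLcop
  have : N = L.map π := by rw [hL, Subgroup.map_comap_eq_self_of_surjective hsurj]
  rw [this, eq_bot_iff]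
  calc L.map π ≤ K.map π := Subgroup.map_mono hLK
    _ = ⊥ := (Subgroup.map_eq_bot_iff _).mpr hker.ge

/-- In a `p`-solvable group with trivial `p'`-core, a `q`-subgroup (`q ≠ p`) normalized by a
Sylow `p`-subgroup is trivial. -/
theorem eq_bot_of_sylow_le_normalizer [Finite G] (p q : ℕ) [Fact p.Prime] [Fact q.Prime]
    (hpq : p ≠ q) (hsolv : IsPSolvable p G)
    (hcore : ∀ N : Subgroup G, N.Normal → (Nat.card N).Coprime p → N = ⊥)
    (P : Sylow p G) (Q : Subgroup G) (hQ : IsPGroup q Q)
    (hPQ : (P : Subgroup G) ≤ Subgroup.normalizer (Q : Set G)) : Q = ⊥ := by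
  have hRn : (pCore p G).Normal := inferInstance
  have hRP : pCore p G ≤ P := pCore_le_sylow p P
  have hRp : IsPGroup p (pCore p G) := pCore_isPGroup p
  have hdisj : pCore p G ⊓ Q = ⊥ := by
    rw [← disjoint_iff]
    exact IsPGroup.disjoint_of_ne p q hpq _ _ hRp hQ
  have hQC : Q ≤ Subgroup.centralizer (pCore p G : Set G) := by
    intro x hx
    rw [Subgroup.mem_centralizer_iff]
    intro r hr
    have hrN : r ∈ Subgroup.normalizer (Q : Set G) := hPQ (hRP hr)
    have h1 : r * x * r⁻¹ * x⁻¹ ∈ Q := by
      have := (Subgroup.mem_normalizer_iff.mp hrN x).mp hx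
      exact Q.mul_mem this (Q.inv_mem hx)
    have h2 : r * x * r⁻¹ * x⁻¹ ∈ pCore p G := by
      have : x * r⁻¹ * x⁻¹ ∈ pCore p G := hRn.conj_mem _ (Subgroup.inv_mem _ hr) x
      have := Subgroup.mul_mem _ hr this
      simpa [mul_assoc] using this
    have h3 : r * x * r⁻¹ * x⁻¹ ∈ pCore p G ⊓ Q := ⟨h2, h1⟩
    rw [hdisj, Subgroup.mem_bot] at h3
    calc r * x = r * x * r⁻¹ * x⁻¹ * x * r := by group
      _ = x * r := by rw [h3, one_mul]
  have hQR : Q ≤ pCore p G := hQC.trans (centralizer_pCore_le p hsolv hcore)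
  rw [eq_bot_iff, ← hdisj]
  exact le_inf hQR le_rfl

end psolv

end Cfsg.Agent.Lib.Helper76
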