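import Mathlib
import Cfsg.Prelude.Def_Blocks

set_option autoImplicit false

namespace Cfsg.Agent.Lib.Helper76

open Module IntermediateField

section eigenbasis

variable {V : Type*} [AddCommGroup V] [Module ℂ V] [FiniteDimensional ℂ V]

/-- A finite-order endomorphism of a complex vector space has an eigenbasis. -/
theorem exists_eigenbasis_of_pow_eq_one' (f : Module.End ℂ V) (n : ℕ) (hn : 0 < n)
    (hf : f ^ n = 1) :
    ∃ (b : Basis (Fin (finrank ℂ V)) ℂ V) (μ : Fin (finrank ℂ V) → ℂ),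
      ∀ i, f (b i) = μ i • b i := by
  classical
  have hsep : (Polynomial.X ^ n - Polynomial.C (1 : ℂ)).Separable :=
    Polynomial.separable_X_pow_sub_C (1 : ℂ) (by exact_mod_cast hn.ne') one_ne_zero
  have hss : f.IsSemisimple := by
    apply Module.End.isSemisimple_of_squarefree_aeval_eq_zero hsep.squarefree
    simp [hf]
  have hind := f.eigenspaces_iSupIndep
  have htop := hss.iSup_eigenspace_eq_top
  have hint := DirectSum.isInternal_submodule_of_iSupIndep_of_iSup_eq_top hind htop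
  let v : ∀ μ : ℂ, Basis (Module.Free.ChooseBasisIndex ℂ (f.eigenspace μ)) ℂ (f.eigenspace μ) :=
    fun μ => Module.Free.chooseBasis ℂ (f.eigenspace μ)
  let B := hint.collectedBasis v
  have : Finite (Σ μ : ℂ, Module.Free.ChooseBasisIndex ℂ (f.eigenspace μ)) :=
    Module.Finite.finite_basis B
  have : Fintype (Σ μ : ℂ, Module.Free.ChooseBasisIndex ℂ (f.eigenspace μ)) :=
    Fintype.ofFinite _
  have hcard : Fintype.card (Σ μ : ℂ, Module.Free.ChooseBasisIndex ℂ (f.eigenspace μ)) =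
      finrank ℂ V := (Module.finrank_eq_card_basis B).symm
  let e := (Fintype.equivFinOfCardEq hcard)
  refine ⟨B.reindex e, fun i => (e.symm i).1, fun i => ?_⟩
  have hmem : B (e.symm i) ∈ f.eigenspace (e.symm i).1 := hint.collectedBasis_mem v (e.symm i)
  rw [Basis.reindex_apply]
  exact Module.End.mem_eigenspace_iff.mp hmem

variable {G : Type*} [Group G]

/-- For `g` with `g ^ N = 1`, there is a basis of eigenvectors of `ρ g` whose eigenvalues are
`N`-th roots of unity; it diagonalizes all powers of `g` simultaneously. -/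
theorem exists_eigenbasis_rep (ρ : Representation ℂ G V) (g : G) (N : ℕ) (hN : 0 < N)
    (hg : g ^ N = 1) :
    ∃ (b : Basis (Fin (finrank ℂ V)) ℂ V) (μ : Fin (finrank ℂ V) → ℂ),
      (∀ i, μ i ^ N = 1) ∧ ∀ (k : ℕ) (i : Fin (finrank ℂ V)), ρ (g ^ k) (b i) = μ i ^ k • b i := by
  have hf : (ρ g) ^ N = 1 := by rw [← map_pow, hg, map_one]
  obtain ⟨b, μ, hb⟩ := exists_eigenbasis_of_pow_eq_one' (ρ g) N hN hf
  have hpow : ∀ (k : ℕ) (i : Fin (finrank ℂ V)), ρ (g ^ k) (b i) = μ i ^ k • b i := by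
    intro k i
    induction k with
    | zero => simp
    | succ k ih =>
      rw [pow_succ', map_mul, Module.End.mul_apply, ih, map_smul, hb i, smul_smul, pow_succ]
  refine ⟨b, μ, fun i => ?_, hpow⟩
  have h1 := hpow N i
  rw [hg, map_one, Module.End.one_apply] at h1
  have hne : b i ≠ 0 := b.ne_zero i
  have : (μ i ^ N - 1) • b i = 0 := by rw [sub_smul, one_smul, ← h1, sub_self]
  rcases smul_eq_zero.mp this with h | h
  · exact sub_eq_zero.mp h
  · exact absurd h hne

omit [FiniteDimensional ℂ V] in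
/-- Trace in an eigenbasis. -/
theorem character_eq_sum_of_eigenbasis' {ι : Type*} [Fintype ι] [DecidableEq ι]
    (ρ : Representation ℂ G V) (g : G)
    (b : Basis ι ℂ V) (μ : ι → ℂ) (hb : ∀ i, ρ g (b i) = μ i • b i) :
    ρ.character g = ∑ i, μ i := by
  unfold Representation.character
  rw [LinearMap.trace_eq_matrix_trace ℂ b, Matrix.trace]
  refine Finset.sum_congr rfl fun i _ => ?_
  simp [Matrix.diag_apply, LinearMap.toMatrix_apply, hb i]

/-- All character values at powers of `g` are power sums of the same family of roots of unity. -/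
theorem exists_character_pow_eq_sum (ρ : Representation ℂ G V) (g : G) (N : ℕ) (hN : 0 < N)
    (hg : g ^ N = 1) :
    ∃ μ : Fin (finrank ℂ V) → ℂ, (∀ i, μ i ^ N = 1) ∧
      ∀ k : ℕ, ρ.character (g ^ k) = ∑ i, μ i ^ k := by
  classical
  obtain ⟨b, μ, hμ, hb⟩ := exists_eigenbasis_rep ρ g N hN hg
  exact ⟨μ, hμ, fun k => character_eq_sum_of_eigenbasis' ρ (g ^ k) b (fun i => μ i ^ k) (hb k)⟩

/-- `χ(g⁻¹) = conj χ(g)`. -/
theorem character_inv_eq_conj [Finite G] (ρ : Representation ℂ G V) (g : G) :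
    ρ.character g⁻¹ = (starRingEnd ℂ) (ρ.character g) := by
  have hN : 0 < orderOf g := orderOf_pos g
  obtain ⟨μ, hμ, hk⟩ := exists_character_pow_eq_sum ρ g (orderOf g) hN (pow_orderOf_eq_one g)
  have h1 : g⁻¹ = g ^ (orderOf g - 1) := by
    rw [eq_comm, ← mul_eq_one_iff_eq_inv, ← pow_succ, Nat.sub_add_cancel hN, pow_orderOf_eq_one]
  have h2 := hk 1
  rw [pow_one] at h2
  rw [h1, hk, h2, map_sum]
  refine Finset.sum_congr rfl fun i _ => ?_
  have hnorm : ‖μ i‖ = 1 := Complex.norm_eq_one_of_pow_eq_one (hμ i) hN.ne'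
  have hinv : (μ i)⁻¹ = (starRingEnd ℂ) (μ i) := Complex.inv_eq_conj hnorm
  rw [pow_one, ← hinv]
  have hne : μ i ≠ 0 := fun h0 => by simp [h0] at hnorm
  apply eq_inv_of_mul_eq_one_left
  rw [← pow_succ, Nat.sub_add_cancel hN, hμ i]

end eigenbasis

section galois

variable {V : Type*} [AddCommGroup V] [Module ℂ V] [FiniteDimensional ℂ V]
variable {G : Type*} [Group G]

/-- Character values lie in the cyclotomic field `ℚ(ζ)` (`ζ` a primitive `N`-th root of unity,
`g ^ N = 1`). -/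
theorem character_mem_adjoin (ρ : Representation ℂ G V) (N : ℕ) (hN : 0 < N)
    (ζ : ℂ) (hζ : IsPrimitiveRoot ζ N) (g : G) (hg : g ^ N = 1) :
    ρ.character g ∈ adjoin ℚ ({ζ} : Set ℂ) := by
  have : NeZero N := ⟨hN.ne'⟩
  obtain ⟨μ, hμ, hk⟩ := exists_character_pow_eq_sum ρ g N hN hg
  have h1 := hk 1
  rw [pow_one] at h1
  rw [h1]
  refine sum_mem fun i _ => ?_
  obtain ⟨a, -, ha⟩ := hζ.eq_pow_of_pow_eq_one (hμ i)
  rw [pow_one, ← ha]
  exact pow_mem (mem_adjoin_simple_self ℚ ζ) a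

/-- **Galois conjugates of character values.** Every embedding `σ` of `ℚ(ζ_N)` into `ℂ` acts on
character values as `χ(g) ↦ χ(g ^ u)` for a fixed `u` coprime to `N`. -/
theorem exists_pow_of_embedding (ρ : Representation ℂ G V) (N : ℕ) (hN : 0 < N)
    (hG : ∀ g : G, g ^ N = 1) (ζ : ℂ) (hζ : IsPrimitiveRoot ζ N)
    (σ : adjoin ℚ ({ζ} : Set ℂ) →ₐ[ℚ] ℂ) :
    ∃ u : ℕ, u.Coprime N ∧ ∀ (g : G) (h : ρ.character g ∈ adjoin ℚ ({ζ} : Set ℂ)),
      σ ⟨ρ.character g, h⟩ = ρ.character (g ^ u) := by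
  have : NeZero N := ⟨hN.ne'⟩
  obtain ⟨ζK, hζK⟩ : ∃ z : adjoin ℚ ({ζ} : Set ℂ), (z : ℂ) = ζ :=
    ⟨⟨ζ, mem_adjoin_simple_self ℚ ζ⟩, rfl⟩
  have hζKprim : IsPrimitiveRoot ζK N := by
    have : IsPrimitiveRoot ((algebraMap (adjoin ℚ ({ζ} : Set ℂ)) ℂ) ζK) N := by
      rw [IntermediateField.algebraMap_apply, hζK]; exact hζ
    exact IsPrimitiveRoot.of_map_of_injective (f := algebraMap (adjoin ℚ ({ζ} : Set ℂ)) ℂ) this
      (algebraMap (adjoin ℚ ({ζ} : Set ℂ)) ℂ).injective
  have hσprim : IsPrimitiveRoot (σ ζK) N := hζKprim.map_of_injective σ.injective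
  obtain ⟨u, -, hu⟩ := hζ.eq_pow_of_pow_eq_one hσprim.pow_eq_one
  have hucop : u.Coprime N := by
    rw [← hζ.pow_iff_coprime hN u, hu]; exact hσprim
  refine ⟨u, hucop, fun g h => ?_⟩
  obtain ⟨μ, hμ, hk⟩ := exists_character_pow_eq_sum ρ g N hN (hG g)
  have h1 := hk 1
  rw [pow_one] at h1
  choose a ha using fun i => hζ.eq_pow_of_pow_eq_one (hμ i)
  have hsum : (⟨ρ.character g, h⟩ : adjoin ℚ ({ζ} : Set ℂ)) = ∑ i, ζK ^ a i := by
    apply Subtype.ext
    rw [AddSubmonoidClass.coe_finsetSum]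
    change ρ.character g = _
    rw [h1]
    refine Finset.sum_congr rfl fun i _ => ?_
    simp [hζK, (ha i).2]
  rw [hsum, map_sum, hk u]
  refine Finset.sum_congr rfl fun i _ => ?_
  rw [map_pow, ← hu, ← (ha i).2, ← pow_mul, ← pow_mul, mul_comm]

/-- The product of the conjugates of a nonzero algebraic integer of a number field
`K ⊆ ℂ` has absolute value at least `1`. -/
theorem one_le_norm_prod_embeddings (K : IntermediateField ℚ ℂ) [FiniteDimensional ℚ K]
    (a : K) (hint : IsIntegral ℤ (a : ℂ)) (ha : a ≠ 0) :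
    1 ≤ ‖∏ σ : K →ₐ[ℚ] ℂ, σ a‖ := by
  have haint : IsIntegral ℤ a := by
    have : IsIntegral ℤ (algebraMap K ℂ a) := by
      rw [IntermediateField.algebraMap_apply]; exact hint
    exact (isIntegral_algebraMap_iff (algebraMap K ℂ).injective).mp this
  have hnint : IsIntegral ℤ (Algebra.norm ℚ a) := Algebra.isIntegral_norm ℚ haint
  obtain ⟨z, hz⟩ := IsIntegrallyClosed.isIntegral_iff.mp hnint
  have hprod := Algebra.norm_eq_prod_embeddings ℚ ℂ a
  rw [← hprod, ← hz]
  have hz0 : z ≠ 0 := by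
    rintro rfl
    have hnorm0 : Algebra.norm ℚ a = 0 := by rw [← hz]; simp
    exact ha (Algebra.norm_eq_zero_iff.mp hnorm0)
  have h0 : (algebraMap ℚ ℂ) ((algebraMap ℤ ℚ) z) = ((z : ℤ) : ℂ) := by simp
  rw [h0, Complex.norm_intCast]
  have h1 : (1 : ℤ) ≤ |z| := Int.one_le_abs hz0
  exact_mod_cast h1

/-- AM–GM in the form: nonnegative reals with product `≥ 1` have sum `≥` their number. -/
theorem card_le_sum_of_one_le_prod {ι : Type*} [Fintype ι] (y : ι → ℝ) (hy : ∀ i, 0 ≤ y i)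
    (hprod : 1 ≤ ∏ i, y i) : (Fintype.card ι : ℝ) ≤ ∑ i, y i := by
  rcases isEmpty_or_nonempty ι with hι | hι
  · simp
  have hcard : (0 : ℝ) < Fintype.card ι := by exact_mod_cast Fintype.card_pos
  have hw : ∑ i : ι, (1 / (Fintype.card ι : ℝ)) = 1 := by
    rw [Finset.sum_const, Finset.card_univ, nsmul_eq_mul]
    field_simp
  have key := Real.geom_mean_le_arith_mean_weighted Finset.univ (fun _ : ι => 1 / (Fintype.card ι : ℝ))
    y (fun i _ => by positivity) hw (fun i _ => hy i)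
  have h1 : ∏ i, y i ^ (1 / (Fintype.card ι : ℝ)) = (∏ i, y i) ^ (1 / (Fintype.card ι : ℝ)) :=
    Real.finsetProd_rpow _ _ (fun i _ => hy i) _
  have h2 : (1 : ℝ) ≤ (∏ i, y i) ^ (1 / (Fintype.card ι : ℝ)) :=
    Real.one_le_rpow hprod (by positivity)
  have h3 : ∑ i, 1 / (Fintype.card ι : ℝ) * y i = (∑ i, y i) / Fintype.card ι := by
    rw [Finset.sum_div]
    refine Finset.sum_congr rfl fun i _ => ?_
    ring
  rw [h1, h3] at key
  have := h2.trans key
  rwa [le_div_iff₀ hcard, one_mul] at this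

end galois

end Cfsg.Agent.Lib.Helper76
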