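import Mathlib
import Cfsg.Agent.Lib.Helper76.PCore
import Cfsg.Agent.Lib.Helper54.Coprime

/-!
# Sylow `p`-subgroups normalizing Sylow `q`-subgroups: tools

Index computations with a normal subgroup, passing class-size hypotheses to quotients,
and a coprime-action lemma (an invariant Sylow subgroup is centralized).
-/

namespace Cfsg.Agent.Lib.Helper76

open Subgroup Pointwise
open Cfsg.Agent.Lib.Helper54

variable {G : Type*} [Group G]

/-- For `M` normal, `[HM : H] = [M : M ∩ H]`. -/
theorem relIndex_sup_of_normal [Finite G] (H M : Subgroup G) [M.Normal] :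
    H.relIndex (H ⊔ M) = H.relIndex M := by
  have e1 := card_mul_relIndex (le_sup_left : H ≤ H ⊔ M)
  have e2 := card_mul_relIndex (le_sup_right : M ≤ H ⊔ M)
  rw [Subgroup.relIndex_sup_right] at e2
  have e3 := card_mul_relIndex (inf_le_left : H ⊓ M ≤ H)
  rw [Subgroup.inf_relIndex_left] at e3
  have e4 := card_mul_relIndex (inf_le_right : H ⊓ M ≤ M)
  rw [Subgroup.inf_relIndex_right] at e4
  have hpos : 0 < Nat.card H := Nat.card_pos
  apply Nat.eq_of_mul_eq_mul_left hpos
  rw [e1, ← e2, ← e4, ← e3]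
  ring

/-- For `M` normal, `[M : M ∩ H]` divides `[G : H]`. -/
theorem relIndex_dvd_index_of_normal_right [Finite G] (H M : Subgroup G) [M.Normal] :
    H.relIndex M ∣ H.index := by
  rw [← relIndex_sup_of_normal H M]
  exact Dvd.intro _ (Subgroup.relIndex_mul_index (le_sup_left : H ≤ H ⊔ M))

/-- A subgroup of index prime to `p` contains a Sylow `p`-subgroup. -/
theorem exists_sylow_le_of_not_dvd_index [Finite G] (p : ℕ) [Fact p.Prime] (H : Subgroup G)
    (h : ¬ p ∣ H.index) : ∃ S : Sylow p G, (S : Subgroup G) ≤ H := by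
  obtain ⟨P1⟩ : Nonempty (Sylow p H) := inferInstance
  have hP2 : IsPGroup p ((P1 : Subgroup H).map H.subtype) := P1.2.map _
  have hP2idx : ¬ p ∣ ((P1 : Subgroup H).map H.subtype).index := by
    rw [Subgroup.index_map_subtype]
    exact Nat.Prime.not_dvd_mul Fact.out P1.not_dvd_index h
  refine ⟨hP2.toSylow hP2idx, ?_⟩
  intro x hx
  have hx' : x ∈ (P1 : Subgroup H).map H.subtype := (IsPGroup.mem_toSylow hP2 hP2idx).mp hx
  exact Subgroup.map_subtype_le _ hx'

/-- If a Sylow `p`-subgroup lies in `H` then `p ∤ [G : H]`. -/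
theorem not_dvd_index_of_sylow_le [Finite G] (p : ℕ) [Fact p.Prime] (H : Subgroup G)
    (S : Sylow p G) (h : (S : Subgroup G) ≤ H) : ¬ p ∣ H.index := fun hd =>
  S.not_dvd_index (dvd_trans hd (Subgroup.index_dvd_of_le h))

/-- A nontrivial finite `q`-solvable group has a nontrivial normal subgroup that is a `q`-group or
a `q'`-group. -/
theorem exists_normal_of_isPSolvable [Finite G] [Nontrivial G] (q : ℕ) [Fact q.Prime]
    (hsolv : Cfsg.IsPSolvable q G) :
    ∃ M : Subgroup G, M.Normal ∧ M ≠ ⊥ ∧ (IsPGroup q M ∨ (Nat.card M).Coprime q) := by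
  obtain ⟨n, H, h0, hlast, hmono, hnorm, hstep⟩ := hsolv
  by_contra hcon
  have key : ∀ i : Fin (n + 1), H i = ⊥ := by
    intro i
    induction i using Fin.induction with
    | zero => exact h0
    | succ i ih =>
      by_contra hne
      have hrel : (H i.castSucc).relIndex (H i.succ) = Nat.card (H i.succ) := by
        rw [ih, Subgroup.relIndex_bot_left]
      apply hcon
      refine ⟨H i.succ, hnorm _, hne, ?_⟩
      rcases hstep i with ⟨m, hm⟩ | hc
      · left
        exact IsPGroup.of_card (by rw [← hrel, hm])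
      · right
        rwa [hrel] at hc
  have := key (Fin.last n)
  rw [hlast] at this
  exact top_ne_bot this

/-- The hypothesis "no `q`-element has class size divisible by `p`" passes to homomorphic
images. -/
theorem classSize_hyp_of_surjective [Finite G] {G' : Type*} [Group G'] (p q : ℕ)
    [Fact p.Prime] [Fact q.Prime] (f : G →* G') (hf : Function.Surjective f)
    (h : ∀ y : G, (∃ k : ℕ, orderOf y = q ^ k) →
      ¬ p ∣ (centralizer ({y} : Set G)).index) :
    ∀ y' : G', (∃ k : ℕ, orderOf y' = q ^ k) →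
      ¬ p ∣ (centralizer ({y'} : Set G')).index := by
  rintro y' ⟨k, hk⟩
  have : Finite G' := Finite.of_surjective f hf
  have hz : IsPGroup q (zpowers y') := IsPGroup.of_card (by rw [Nat.card_zpowers, hk])
  obtain ⟨Q', hQ'⟩ := hz.exists_le_sylow
  obtain ⟨Q, rfl⟩ := Sylow.mapSurjective_surjective hf q Q'
  have hy' : y' ∈ ((Q.mapSurjective hf : Sylow q G') : Subgroup G') := hQ' (mem_zpowers y')
  rw [Sylow.coe_mapSurjective] at hy'
  obtain ⟨y, hyQ, rfl⟩ := hy'
  have hyord : ∃ j : ℕ, orderOf y = q ^ j := by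
    obtain ⟨j, hj⟩ := (IsPGroup.iff_orderOf.mp Q.2) ⟨y, hyQ⟩
    exact ⟨j, by rwa [Subgroup.orderOf_mk] at hj⟩
  have h1 := h y hyord
  intro hp
  apply h1
  have h2 : (centralizer ({y} : Set G)).map f ≤ centralizer ({f y} : Set G') := by
    rintro _ ⟨c, hc, rfl⟩
    have hc' : c ∈ centralizer ({y} : Set G) := hc
    rw [mem_centralizer_iff] at hc' ⊢
    intro z hz
    rw [Set.mem_singleton_iff] at hz; subst hz
    rw [← map_mul, ← map_mul, hc' y rfl]
  exact dvd_trans hp (dvd_trans (Subgroup.index_dvd_of_le h2) (Subgroup.index_map_dvd _ hf))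

/-- Coprime action: if `M` is a normal `q'`-subgroup, `y` a `q`-element whose centralizer has index
prime to `p`, then every `⟨y⟩`-invariant Sylow `p`-subgroup of `M` is centralized by `y`. -/
theorem invariant_sylow_le_centralizer [Finite G] (p q : ℕ) [Fact p.Prime] [Fact q.Prime]
    (M : Subgroup G) [hMn : M.Normal] (hM : (Nat.card M).Coprime q) (y : G) (k : ℕ)
    (hy : orderOf y = q ^ k) (hidx : ¬ p ∣ (centralizer ({y} : Set G)).index)
    (S₀ : Sylow p M)
    (hS : zpowers y ≤ normalizer (((S₀ : Subgroup M).map M.subtype : Subgroup G) : Set G)) :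
    (S₀ : Subgroup M).map M.subtype ≤ centralizer ({y} : Set G) := by
  have hp : p.Prime := Fact.out
  set A := zpowers y with hA
  set C := centralizer ({y} : Set G) with hC
  have hAcard : Nat.card A = q ^ k := by rw [hA, Nat.card_zpowers, hy]
  have hcop : (Nat.card A).Coprime (Nat.card M) := by
    rw [hAcard]; exact Nat.Coprime.pow_left k hM.symm
  have hAM : A ≤ normalizer (M : Set G) := by
    rw [Subgroup.normalizer_eq_top]; exact le_top
  have hsolvA : Group.IsSolvable A := by
    have hcomm : IsMulCommutative (zpowers y) := zpowers_isMulCommutative y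
    exact Group.isSolvable_of_comm fun a b => hcomm.is_comm.comm a b
  -- a Sylow `p`-subgroup of `M` inside `C`
  set D := M ⊓ C with hD
  obtain ⟨T₁⟩ : Nonempty (Sylow p D) := inferInstance
  set T := (T₁ : Subgroup D).map D.subtype with hT
  have hTD : T ≤ D := Subgroup.map_subtype_le _
  have hTM : T ≤ M := hTD.trans inf_le_left
  have hTC : T ≤ C := hTD.trans inf_le_right
  have hrel : ¬ p ∣ D.relIndex M := by
    rw [hD, Subgroup.inf_relIndex_left]
    intro hd
    exact hidx (dvd_trans hd (relIndex_dvd_index_of_normal_right C M))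
  have hfac : (Nat.card D).factorization p = (Nat.card M).factorization p := by
    have e := card_mul_relIndex (inf_le_left : D ≤ M)
    have hDpos : Nat.card D ≠ 0 := Nat.card_pos.ne'
    have hrpos : D.relIndex M ≠ 0 := by
      intro h0; rw [h0, mul_zero] at e
      exact (Nat.card_pos (α := M)).ne' e.symm
    rw [← e, Nat.factorization_mul hDpos hrpos]
    simp [Nat.factorization_eq_zero_of_not_dvd hrel]
  have hTcard : Nat.card T = p ^ (Nat.card M).factorization p := by
    rw [hT, card_map_sylow, hfac]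
  obtain ⟨T₀, hT₀⟩ := exists_sylow_of_card (p := p) M T hTM hTcard
  have hyT : zpowers y ≤ normalizer (((T₀ : Subgroup M).map M.subtype : Subgroup G) : Set G) := by
    rw [hT₀]
    refine le_trans ?_ (Subgroup.centralizer_le_normalizer (T : Set G))
    rw [zpowers_le, mem_centralizer_iff]
    intro t ht
    have := hTC ht
    rw [hC, mem_centralizer_iff] at this
    exact (this y rfl).symm
  obtain ⟨c, hcA, hc⟩ := exists_centralizer_conj_sylow A M hAM hcop (Or.inl hsolvA) p T₀ S₀ hyT hS
  have hmap := map_sylow_conj_smul M c T₀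
  rw [hc, hT₀] at hmap
  intro s hs
  rw [hmap, mem_conj_smul_iff] at hs
  have h1 := hTC hs
  rw [hC, mem_centralizer_iff] at h1 ⊢
  intro z hz
  rw [Set.mem_singleton_iff] at hz; subst hz
  have h2 : z * ((c : G)⁻¹ * s * c) = (c : G)⁻¹ * s * c * z := h1 z rfl
  have h3 : z * (c : G) = c * z := by
    rw [mem_centralizer_iff] at hcA
    exact hcA z (mem_zpowers z)
  have h3' : z * (c : G)⁻¹ = (c : G)⁻¹ * z := by
    have : (c : G)⁻¹ * (z * c) * (c : G)⁻¹ = (c : G)⁻¹ * (c * z) * (c : G)⁻¹ := by rw [h3]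
    calc z * (c : G)⁻¹ = (c : G)⁻¹ * (c * z) * (c : G)⁻¹ := by group
      _ = (c : G)⁻¹ * (z * c) * (c : G)⁻¹ := by rw [h3]
      _ = (c : G)⁻¹ * z := by group
  calc z * s = (c : G) * (z * ((c : G)⁻¹ * s * c)) * (c : G)⁻¹ := by
        rw [← mul_assoc (c : G), ← h3, mul_assoc z]; group
    _ = (c : G) * ((c : G)⁻¹ * s * c * z) * (c : G)⁻¹ := by rw [h2]
    _ = s * (c * (z * (c : G)⁻¹)) := by group
    _ = s * (c * ((c : G)⁻¹ * z)) := by rw [h3']
    _ = s * z := by group

end Cfsg.Agent.Lib.Helper76
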