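import Mathlib

set_option autoImplicit false

/-!
# Fixed points of `k` counted modulo `p` via a commuting `p`-element

If `x` is a `p`-element commuting with `k`, acting on a finite set `α`, and `x` has a unique fixed
point `q₀` on `α`, which is also fixed by `k`, then `|Fix(k)| ≡ 1 mod p`.
-/

namespace Cfsg.Agent.Lib.Helper76.FixedByCommute

open MulAction

variable {G α : Type*} [Group G] [MulAction G α]

/-- The action of `⟨x⟩` on the fixed points of a commuting element `k`. -/
def zpowersActOnFixedBy (x k : G) (hc : Commute x k) :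
    MulAction (Subgroup.zpowers x) (fixedBy α k) where
  smul g q := ⟨(g : G) • (q : α), by
    have hgk : Commute (g : G) k := by
      obtain ⟨i, hi⟩ := Subgroup.mem_zpowers_iff.1 g.2
      rw [← hi]
      exact hc.zpow_left i
    rw [mem_fixedBy, smul_smul, ← hgk.eq, ← smul_smul, (mem_fixedBy.1 q.2)]⟩
  one_smul q := Subtype.ext (one_smul G (q : α))
  mul_smul g h q := Subtype.ext (mul_smul (g : G) (h : G) (q : α))

theorem card_fixedBy_modEq_one [Finite α] {p : ℕ} [Fact p.Prime] (x k : G) (n : ℕ)
    (hx : x ^ p ^ n = 1) (hc : Commute x k) (q₀ : α) (hq₀k : k • q₀ = q₀) (hq₀x : x • q₀ = q₀)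
    (hfix : ∀ q : α, x • q = q → q = q₀) :
    Nat.card (fixedBy α k) ≡ 1 [MOD p] := by
  letI := zpowersActOnFixedBy (α := α) x k hc
  have hsmul : ∀ (g : Subgroup.zpowers x) (q : fixedBy α k), ((g • q : fixedBy α k) : α) =
      (g : G) • (q : α) := fun g q => rfl
  have hX : IsPGroup p (Subgroup.zpowers x) := by
    rintro ⟨g, hg⟩
    obtain ⟨i, rfl⟩ := Subgroup.mem_zpowers_iff.1 hg
    refine ⟨n, Subtype.ext ?_⟩
    show (x ^ i) ^ p ^ n = 1
    rw [← zpow_natCast, ← zpow_mul, mul_comm, zpow_mul, zpow_natCast, hx, one_zpow]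
  have h1 := hX.card_modEq_card_fixedPoints (fixedBy α k)
  have h2 : Nat.card (fixedPoints (Subgroup.zpowers x) (fixedBy α k)) = 1 := by
    rw [Nat.card_eq_one_iff_unique]
    constructor
    · constructor
      rintro ⟨⟨q, hq⟩, hqf⟩ ⟨⟨q', hq'⟩, hqf'⟩
      have e1 : q = q₀ := by
        apply hfix
        have := mem_fixedPoints.1 hqf ⟨x, Subgroup.mem_zpowers x⟩
        exact congrArg Subtype.val this
      have e2 : q' = q₀ := by
        apply hfix
        have := mem_fixedPoints.1 hqf' ⟨x, Subgroup.mem_zpowers x⟩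
        exact congrArg Subtype.val this
      apply Subtype.ext
      apply Subtype.ext
      show q = q'
      rw [e1, e2]
    · refine ⟨⟨⟨q₀, mem_fixedBy.2 hq₀k⟩, ?_⟩⟩
      rw [mem_fixedPoints]
      rintro ⟨g, hg⟩
      apply Subtype.ext
      show g • q₀ = q₀
      have hxs : x ∈ stabilizer G q₀ := mem_stabilizer_iff.2 hq₀x
      have : Subgroup.zpowers x ≤ stabilizer G q₀ := by
        rw [Subgroup.zpowers_le]; exact hxs
      exact mem_stabilizer_iff.1 (this hg)
  rw [h2] at h1
  exact h1

end Cfsg.Agent.Lib.Helper76.FixedByCommute
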