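import Mathlib
import Cfsg.Agent.Lib.Helper17.InvolutionParity
import Cfsg.Agent.Lib.Helper17.ConjCount

set_option autoImplicit false

/-!
# Involution centralizers in simple groups: `8 ∣ |G| - |C(z)|`

For an involution `z` of a non-commutative finite simple group `G`, the action of `z` on the
cosets of `⟨z⟩` is an even permutation with `|C(z)| / 2` fixed points, whence
`8 ∣ |G| - |C_G(z)|`.  In particular `8 ∣ |G|` forces `8 ∣ |C_G(z)|`.
-/

namespace Cfsg.Agent.Lib.Helper76.InvolCentParity

open Subgroup MulAction Cfsg.Agent.Lib.Helper17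

/-- For an element `z` of order two, `g⁻¹ z g ∈ ⟨z⟩` iff `g` centralizes `z`. -/
theorem conj_mem_zpowers_iff {G : Type*} [Group G] (z : G) (hz : orderOf z = 2) (g : G) :
    g⁻¹ * z * g ∈ zpowers z ↔ g ∈ centralizer ({z} : Set G) := by
  rw [Subgroup.mem_centralizer_singleton_iff]
  constructor
  · intro h
    obtain ⟨k, hk⟩ := Subgroup.mem_zpowers_iff.1 h
    rw [← zpow_mod_orderOf, hz] at hk
    have h2 : k % ((2 : ℕ) : ℤ) = 0 ∨ k % ((2 : ℕ) : ℤ) = 1 := by
      have : ((2 : ℕ) : ℤ) = 2 := rfl
      omega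
    rcases h2 with h2 | h2
    · rw [h2, zpow_zero] at hk
      exfalso
      have hz1 : z = 1 := by
        have : g⁻¹ * z * g = 1 := hk.symm
        have h3 : z = g * (g⁻¹ * z * g) * g⁻¹ := by group
        rw [h3, this]; group
      rw [hz1, orderOf_one] at hz
      omega
    · rw [h2, zpow_one] at hk
      calc g * z = g * (g⁻¹ * z * g) := by rw [← hk]
        _ = z * g := by group
  · intro h
    have : g⁻¹ * z * g = z := by
      calc g⁻¹ * z * g = g⁻¹ * (z * g) := by group
        _ = g⁻¹ * (g * z) := by rw [h]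
        _ = z := by group
    rw [this]
    exact Subgroup.mem_zpowers z

/-- **Parity of involution centralizers**: in a non-commutative finite simple group,
`8 ∣ |G| - |C_G(z)|` for every involution `z`. -/
theorem eight_dvd_card_sub_card_centralizer_of_simple {G : Type*} [Group G] [Finite G]
    [IsSimpleGroup G] (hG : ¬ IsMulCommutative G) (z : G) (hz : orderOf z = 2) :
    8 ∣ Nat.card G - Nat.card (centralizer ({z} : Set G)) := by
  have hz2 : z ^ 2 = 1 := by rw [← hz]; exact pow_orderOf_eq_one z
  have hpar := four_dvd_index_sub_card_fixedBy_of_simple hG (zpowers z) z hz2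
  have hfix := card_conj_mem_eq_fixedBy (zpowers z) z
  have hH : Nat.card (zpowers z) = 2 := by rw [Nat.card_zpowers, hz]
  have hcent : Nat.card {g : G // g⁻¹ * z * g ∈ zpowers z} =
      Nat.card (centralizer ({z} : Set G)) := by
    apply Nat.card_congr
    exact Equiv.subtypeEquivRight (fun g => conj_mem_zpowers_iff z hz g)
  rw [hcent, hH] at hfix
  have hidx := (zpowers z).index_mul_card
  rw [hH] at hidx
  rw [← hidx, hfix, ← Nat.sub_mul]
  obtain ⟨k, hk⟩ := hpar
  rw [hk]
  exact ⟨k, by ring⟩

/-- If moreover `8 ∣ |G|`, then `8 ∣ |C_G(z)|`. -/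
theorem eight_dvd_card_centralizer_of_simple {G : Type*} [Group G] [Finite G]
    [IsSimpleGroup G] (hG : ¬ IsMulCommutative G) (h8 : 8 ∣ Nat.card G) (z : G)
    (hz : orderOf z = 2) : 8 ∣ Nat.card (centralizer ({z} : Set G)) := by
  have h := eight_dvd_card_sub_card_centralizer_of_simple hG z hz
  have hle : Nat.card (centralizer ({z} : Set G)) ≤ Nat.card G :=
    Nat.le_of_dvd Nat.card_pos (Subgroup.card_subgroup_dvd_card _)
  have := (Nat.dvd_sub_iff_right hle h8).1 h
  exact this

end Cfsg.Agent.Lib.Helper76.InvolCentParity
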