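import Cfsg.Prelude.Def_Blocks
import Mathlib.LinearAlgebra.Eigenspace.Charpoly
import Mathlib.RingTheory.Polynomial.Cyclotomic.Roots
import Mathlib.RingTheory.Polynomial.Cyclotomic.Eval
import Mathlib.RingTheory.RootsOfUnity.Complex
import Mathlib.FieldTheory.IsAlgClosed.Basic
import Mathlib.Analysis.Complex.Polynomial.Basic

set_option autoImplicit false

namespace Cfsg.Agent.Lib.Helper76

open Cfsg Polynomial

section basic

variable {G : Type*} [Group G]

/-- the degree of the character of a representation on `Fin n → ℂ` is `n`. -/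
theorem charDegree_character (n : ℕ) (ρ : Representation ℂ G (Fin n → ℂ)) :
    charDegree ρ.character = n := by
  unfold charDegree
  rw [Representation.char_one]
  simp

theorem character_one (n : ℕ) (ρ : Representation ℂ G (Fin n → ℂ)) :
    ρ.character 1 = (n : ℂ) := by
  rw [Representation.char_one]
  simp

/-- the character value is the sum of the roots of the characteristic polynomial. -/
theorem character_eq_sum_roots {V : Type*} [AddCommGroup V] [Module ℂ V] [Module.Finite ℂ V]
    (ρ : Representation ℂ G V) (g : G) :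
    ρ.character g = (ρ g).charpoly.roots.sum := by
  unfold Representation.character
  exact Module.End.trace_eq_sum_roots_charpoly_of_splits (IsAlgClosed.splits _)

theorem card_roots_charpoly {V : Type*} [AddCommGroup V] [Module ℂ V] [Module.Finite ℂ V]
    (ρ : Representation ℂ G V) (g : G) :
    (ρ g).charpoly.roots.card = Module.finrank ℂ V := by
  rw [← LinearMap.charpoly_natDegree (ρ g)]
  exact (Polynomial.splits_iff_card_roots.mp (IsAlgClosed.splits _))

/-- the eigenvalues of `ρ g` are `m`-th roots of unity when `g ^ m = 1`. -/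
theorem roots_charpoly_pow_eq_one {V : Type*} [AddCommGroup V] [Module ℂ V] [Module.Finite ℂ V]
    (ρ : Representation ℂ G V) (g : G) (m : ℕ) (hg : g ^ m = 1) (μ : ℂ)
    (hμ : μ ∈ (ρ g).charpoly.roots) : μ ^ m = 1 := by
  have hroot : (ρ g).charpoly.IsRoot μ := (Polynomial.mem_roots'.mp hμ).2
  have hev : Module.End.HasEigenvalue (ρ g) μ :=
    (Module.End.hasEigenvalue_iff_isRoot_charpoly _ _).mpr hroot
  obtain ⟨v, hv⟩ := hev.exists_hasEigenvector
  have h1 : ((ρ g) ^ m) v = μ ^ m • v := hv.pow_apply m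
  have h2 : (ρ g) ^ m = 1 := by rw [← map_pow, hg, map_one]
  rw [h2] at h1
  have h3 : (1 - μ ^ m) • v = 0 := by
    rw [sub_smul, one_smul, ← h1]; simp
  rcases smul_eq_zero.mp h3 with h | h
  · exact (sub_eq_zero.mp h).symm
  · exact absurd h hv.2

end basic

section cyclo

/-- A multiset of `p ^ j`-th roots of unity with sum zero has size divisible by `p`. -/
theorem dvd_card_of_sum_roots_of_unity_eq_zero (p : ℕ) [hp : Fact p.Prime] (j : ℕ)
    (s : Multiset ℂ) (hs : ∀ μ ∈ s, μ ^ p ^ j = 1) (hsum : s.sum = 0) : p ∣ Multiset.card s := by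
  rcases Nat.eq_zero_or_pos j with rfl | hj
  · -- all elements are `1`
    have h1 : ∀ μ ∈ s, μ = 1 := fun μ hμ => by simpa using hs μ hμ
    have h2 : s = Multiset.replicate (Multiset.card s) 1 := Multiset.eq_replicate.mpr ⟨rfl, h1⟩
    rw [h2, Multiset.sum_replicate] at hsum
    have : (Multiset.card s : ℂ) = 0 := by simpa using hsum
    rw [Nat.cast_eq_zero] at this
    rw [this]; exact dvd_zero p
  · have hm : p ^ j ≠ 0 := pow_ne_zero _ hp.out.ne_zero
    set ζ : ℂ := Complex.exp (2 * Real.pi * Complex.I / (p ^ j : ℕ)) with hζdef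
    have hζ : IsPrimitiveRoot ζ (p ^ j) := Complex.isPrimitiveRoot_exp _ hm
    have key : ∀ t : Multiset ℂ, (∀ μ ∈ t, μ ^ p ^ j = 1) →
        ∃ F : ℤ[X], aeval ζ F = t.sum ∧ F.eval 1 = (Multiset.card t : ℤ) := by
      intro t
      induction t using Multiset.induction with
      | empty => intro _; exact ⟨0, by simp, by simp⟩
      | cons μ t ih =>
        intro ht
        obtain ⟨F, hF1, hF2⟩ := ih (fun ν hν => ht ν (Multiset.mem_cons_of_mem hν))
        obtain ⟨a, -, ha⟩ := hζ.eq_pow_of_pow_eq_one (ht μ (Multiset.mem_cons_self μ t))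
        refine ⟨X ^ a + F, ?_, ?_⟩
        · simp [hF1, ha]
        · simp [hF2]; ring
    obtain ⟨F, hF1, hF2⟩ := key s hs
    rw [hsum] at hF1
    have hint : IsIntegral ℤ ζ := hζ.isIntegral (Nat.pos_of_ne_zero hm)
    have hdvd : minpoly ℤ ζ ∣ F := minpoly.isIntegrallyClosed_dvd hint hF1
    rw [← cyclotomic_eq_minpoly hζ (Nat.pos_of_ne_zero hm)] at hdvd
    obtain ⟨Q, hQ⟩ := hdvd
    have h3 : F.eval 1 = (cyclotomic (p ^ j) ℤ).eval 1 * Q.eval 1 := by rw [hQ, eval_mul]
    obtain ⟨k, rfl⟩ : ∃ k, j = k + 1 := ⟨j - 1, by omega⟩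
    rw [eval_one_cyclotomic_prime_pow, hF2] at h3
    have : (p : ℤ) ∣ (Multiset.card s : ℤ) := ⟨_, h3⟩
    exact Int.natCast_dvd_natCast.mp this

end cyclo

/-- **S4558 core**: if a character vanishes at a `p`-element then `p` divides its degree. -/
theorem dvd_charDegree_of_character_eq_zero {G : Type*} [Group G] (p : ℕ) [Fact p.Prime]
    (n : ℕ) (ρ : Representation ℂ G (Fin n → ℂ)) (g : G) (j : ℕ) (hg : orderOf g = p ^ j)
    (h0 : ρ.character g = 0) : p ∣ n := by
  have hgpow : g ^ p ^ j = 1 := by rw [← hg]; exact pow_orderOf_eq_one g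
  have h1 := dvd_card_of_sum_roots_of_unity_eq_zero p j (ρ g).charpoly.roots
    (fun μ hμ => roots_charpoly_pow_eq_one ρ g _ hgpow μ hμ)
    (by rw [← character_eq_sum_roots]; exact h0)
  rw [card_roots_charpoly] at h1
  simpa using h1

end Cfsg.Agent.Lib.Helper76
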