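import Cfsg.Agent.Lib.Helper76.Galois
import Cfsg.Agent.Lib.Helper76.CharBasic

/-!
# Character values modulo `p`

* `character_pow_sub`: `χ(g)^(p^n) ≡ χ(g^(p^n))` modulo `p` in the ring of algebraic integers.
* `isIntegral_avg_character`: `(1/|D|) ∑_{d ∈ D} χ(v d)` is an algebraic integer when `v` centralizes `D`.
-/

set_option autoImplicit false

namespace Cfsg.Agent.Lib.Helper76

open Cfsg Polynomial Module

section trace

variable {V : Type*} [AddCommGroup V] [Module ℂ V] [Module.Finite ℂ V]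

/-- The trace of an endomorphism with `T^(m+1) = T` is an algebraic integer. -/
theorem isIntegral_trace_of_pow_succ_eq (T : Module.End ℂ V) (m : ℕ) (hm : 0 < m)
    (hT : T ^ (m + 1) = T) : IsIntegral ℤ (LinearMap.trace ℂ V T) := by
  rw [Module.End.trace_eq_sum_roots_charpoly_of_splits (IsAlgClosed.splits _)]
  have key : ∀ μ ∈ T.charpoly.roots, μ ∈ integralClosure ℤ ℂ := by
    intro μ hμ
    have hroot : T.charpoly.IsRoot μ := (Polynomial.mem_roots'.mp hμ).2
    have hev : Module.End.HasEigenvalue T μ :=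
      (Module.End.hasEigenvalue_iff_isRoot_charpoly _ _).mpr hroot
    obtain ⟨w, hw⟩ := hev.exists_hasEigenvector
    have h1 : (T ^ (m + 1)) w = μ ^ (m + 1) • w := hw.pow_apply (m + 1)
    rw [hT, hw.apply_eq_smul] at h1
    have h3 : (μ ^ (m + 1) - μ) • w = 0 := by rw [sub_smul, ← h1, sub_self]
    have h4 : μ ^ (m + 1) - μ = 0 := by
      rcases smul_eq_zero.mp h3 with h | h
      · exact h
      · exact absurd h hw.2
    refine ⟨X ^ (m + 1) - X, ?_, ?_⟩
    · apply monic_X_pow_sub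
      rw [degree_X]
      exact_mod_cast Nat.succ_lt_succ hm
    · simp [h4]
  exact Subalgebra.multiset_sum_mem _ key

end trace

section avg

variable {G : Type*} [Group G] {V : Type*} [AddCommGroup V] [Module ℂ V] [Module.Finite ℂ V]

/-- If `v` centralizes the finite subgroup `D` and `v ^ m = 1`, the average of `χ(v d)` over
`d ∈ D` is an algebraic integer. -/
theorem isIntegral_avg_character (ρ : Representation ℂ G V) (D : Subgroup G) [Fintype D]
    (v : G) (m : ℕ) (hm : 0 < m) (hv : v ^ m = 1) (hcomm : ∀ d ∈ D, v * d = d * v) :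
    IsIntegral ℤ ((Fintype.card D : ℂ)⁻¹ * ∑ d : D, ρ.character (v * d)) := by
  set S : Module.End ℂ V := ∑ d : D, ρ (d : G) with hS
  have hc : (Fintype.card D : ℂ) ≠ 0 := by
    exact_mod_cast Fintype.card_ne_zero
  set c : ℂ := (Fintype.card D : ℂ) with hcdef
  set E : Module.End ℂ V := c⁻¹ • S with hE
  have hSS : S * S = c • S := by
    rw [hS, Finset.sum_mul]
    have : ∀ d : D, ρ (d : G) * ∑ d' : D, ρ (d' : G) = ∑ d' : D, ρ (d' : G) := by
      intro d
      rw [Finset.mul_sum]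
      refine Fintype.sum_equiv (Equiv.mulLeft d) _ _ ?_
      intro d'
      rw [← map_mul]; rfl
    rw [Finset.sum_congr rfl fun d _ => this d, Finset.sum_const, Finset.card_univ, hcdef,
      Nat.cast_smul_eq_nsmul]
  have hEE : IsIdempotentElem E := by
    unfold IsIdempotentElem
    rw [hE, smul_mul_smul_comm, hSS, smul_smul, mul_assoc, inv_mul_cancel₀ hc, mul_one]
  have hvS : ρ v * S = S * ρ v := by
    rw [hS, Finset.mul_sum, Finset.sum_mul]
    refine Finset.sum_congr rfl fun d _ => ?_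
    rw [← map_mul, ← map_mul, hcomm d d.2]
  have hcE : Commute (ρ v) E := by
    unfold Commute SemiconjBy
    rw [hE, mul_smul_comm, smul_mul_assoc, hvS]
  set T : Module.End ℂ V := ρ v * E with hTdef
  have hT : T ^ (m + 1) = T := by
    rw [hTdef, hcE.mul_pow, hEE.pow_succ_eq, ← map_pow, pow_succ, hv, one_mul]
  have htr : LinearMap.trace ℂ V T = c⁻¹ * ∑ d : D, ρ.character (v * d) := by
    rw [hTdef, hE, mul_smul_comm, map_smul, smul_eq_mul, hS, Finset.mul_sum, map_sum]
    congr 1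
    refine Finset.sum_congr rfl fun d _ => ?_
    rw [← map_mul]; rfl
  rw [← htr]
  exact isIntegral_trace_of_pow_succ_eq T m hm hT

end avg

section frob

/-- Frobenius congruence for finite sums in a commutative ring. -/
theorem exists_sum_pow_prime_pow {R : Type*} [CommRing R] (p : ℕ) (hp : p.Prime) (n : ℕ)
    {ι : Type*} (s : Finset ι) (f : ι → R) :
    ∃ r : R, (∑ i ∈ s, f i) ^ p ^ n = ∑ i ∈ s, f i ^ p ^ n + p * r := by
  classical
  induction s using Finset.induction with
  | empty =>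
    refine ⟨0, ?_⟩
    have : p ^ n ≠ 0 := pow_ne_zero _ hp.ne_zero
    simp only [Finset.sum_empty, mul_zero, add_zero]
    exact zero_pow this
  | insert a s ha ih =>
    obtain ⟨r₀, hr₀⟩ := ih
    obtain ⟨r₁, hr₁⟩ := exists_add_pow_prime_pow_eq hp (f a) (∑ i ∈ s, f i) n
    refine ⟨r₀ + f a * (∑ i ∈ s, f i) * r₁, ?_⟩
    rw [Finset.sum_insert ha, Finset.sum_insert ha, hr₁, hr₀]
    ring

variable {G : Type*} [Group G] [Finite G] {V : Type*} [AddCommGroup V] [Module ℂ V]
  [Module.Finite ℂ V]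

/-- `χ(g)^(p^n) ≡ χ(g^(p^n))` modulo `p`. -/
theorem character_pow_sub (ρ : Representation ℂ G V) (p : ℕ) (hp : p.Prime) (n : ℕ) (g : G) :
    ∃ γ : Cfsg.AlgInt,
      ρ.character g ^ p ^ n - ρ.character (g ^ p ^ n) = (p : ℂ) * (γ : ℂ) := by
  have hN : 0 < orderOf g := orderOf_pos g
  obtain ⟨μ, hμ, hk⟩ := exists_character_pow_eq_sum ρ g (orderOf g) hN (pow_orderOf_eq_one g)
  have hint : ∀ i, IsIntegral ℤ (μ i) := fun i =>
    IsIntegral.of_pow hN (by rw [hμ i]; exact isIntegral_one)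
  let μ' : Fin (finrank ℂ V) → Cfsg.AlgInt := fun i => ⟨μ i, hint i⟩
  obtain ⟨r, hr⟩ := exists_sum_pow_prime_pow (R := Cfsg.AlgInt) p hp n Finset.univ μ'
  refine ⟨r, ?_⟩
  have h1 := hk 1
  simp only [pow_one] at h1
  have h2 := congrArg (fun z : Cfsg.AlgInt => (z : ℂ)) hr
  simp only [μ'] at h2
  push_cast at h2
  rw [h1, hk (p ^ n), h2]
  ring

end frob

section arith

/-- A natural number which is `p` times an algebraic integer is divisible by `p`. -/
theorem dvd_of_natCast_eq_mul_algInt (p c : ℕ) (hp : p ≠ 0) (γ : Cfsg.AlgInt)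
    (h : (c : ℂ) = (p : ℂ) * (γ : ℂ)) : p ∣ c := by
  have hp' : (p : ℂ) ≠ 0 := by exact_mod_cast hp
  have hγ : (γ : ℂ) = (((c : ℚ) / (p : ℚ) : ℚ) : ℂ) := by
    push_cast
    rw [h]; field_simp
  have h1 : IsIntegral ℤ (((c : ℚ) / (p : ℚ) : ℚ) : ℂ) := by rw [← hγ]; exact γ.2
  have h2 : IsIntegral ℤ ((c : ℚ) / (p : ℚ) : ℚ) := by
    have hinj : Function.Injective (algebraMap ℚ ℂ) := (algebraMap ℚ ℂ).injective
    rw [← isIntegral_algebraMap_iff hinj]
    simpa using h1
  obtain ⟨k, hk⟩ := IsIntegrallyClosed.algebraMap_eq_of_integral h2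
  have hk' : (k : ℚ) = (c : ℚ) / (p : ℚ) := by simpa using hk
  have hpq : (p : ℚ) ≠ 0 := by exact_mod_cast hp
  have h3 : (c : ℚ) = (p : ℚ) * (k : ℚ) := by rw [hk']; field_simp
  have h4 : (c : ℤ) = (p : ℤ) * k := by exact_mod_cast h3
  have : (p : ℤ) ∣ (c : ℤ) := ⟨k, h4⟩
  exact Int.natCast_dvd_natCast.mp this

end arith

end Cfsg.Agent.Lib.Helper76
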