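/-
helper76: project SPMD (helper94, S2333), module [S-KER] (hedge): a normal subgroup of `Sp_{2n}(F)` containing a
non-central element is everything (from S0270 simplicity of `PSp` and S0269 perfectness of `Sp`).
-/
import Mathlib
import Cfsg.Agent.Lib.Helper94.SPMD.Defs
import Cfsg.Agent.S0270
import Cfsg.Agent.S0269

set_option autoImplicit false

namespace Cfsg.Agent.Lib.Helper94.SPMD

open Matrix Module
open scoped commutatorElement

namespace SKer

/-- commutators do not see central factors -/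
theorem commutatorElement_mul_central {G : Type*} [Group G] (a b z z' : G)
    (hz : z ∈ Subgroup.center G) (hz' : z' ∈ Subgroup.center G) :
    ⁅a * z, b * z'⁆ = ⁅a, b⁆ := by
  have h1 : ∀ g : G, g * z = z * g := Subgroup.mem_center_iff.mp hz
  have h2 : ∀ g : G, g * z' = z' * g := Subgroup.mem_center_iff.mp hz'
  rw [commutatorElement_def, commutatorElement_def]
  calc a * z * (b * z') * (a * z)⁻¹ * (b * z')⁻¹
      = a * (z * (b * z')) * z⁻¹ * a⁻¹ * (z'⁻¹ * b⁻¹) := by group
    _ = a * ((b * z') * z) * z⁻¹ * a⁻¹ * (z'⁻¹ * b⁻¹) := by rw [h1 (b * z')]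
    _ = a * b * (z' * a⁻¹) * z'⁻¹ * b⁻¹ := by group
    _ = a * b * (a⁻¹ * z') * z'⁻¹ * b⁻¹ := by rw [h2 a⁻¹]
    _ = a * b * a⁻¹ * b⁻¹ := by group

variable {F : Type*} [Field F] [Fintype F] {n : ℕ}

/-- **[S-KER]** a normal subgroup of `Sp_{2n}(F)` containing a non-central element is everything
(fresh name, so that this file never clashes with another landing of [S-KER]; the exact sheet name is in
`SpmdSKerExact.lean`) -/
theorem normal_eq_top_h76 (hn : 2 ≤ n) (hex : n = 2 → 3 ≤ Fintype.card F)
    (N : Subgroup (Matrix.symplecticGroup (Fin n) F)) [N.Normal]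
    (x : Matrix.symplecticGroup (Fin n) F) (hx : x ∈ N) (hnc : ∃ g, g * x ≠ x * g) : N = ⊤ := by
  have hsimple : IsSimpleGroup (Cfsg.PSp n F) := Cfsg.Agent.S0270.result n hn hex
  have hperf : commutator (Matrix.symplecticGroup (Fin n) F) = ⊤ := by
    apply Cfsg.Agent.S0269.result n
    by_cases h2 : n = 2
    · exact Or.inr (Or.inl ⟨h2, hex h2⟩)
    · exact Or.inl (by omega)
  have hmapN : (N.map (QuotientGroup.mk' (Subgroup.center (Matrix.symplecticGroup (Fin n) F)))).Normal :=
    Subgroup.Normal.map inferInstance _ (QuotientGroup.mk'_surjective _)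
  have hne : N.map (QuotientGroup.mk' (Subgroup.center (Matrix.symplecticGroup (Fin n) F))) ≠ ⊥ := by
    intro hbot
    have hm : QuotientGroup.mk' (Subgroup.center (Matrix.symplecticGroup (Fin n) F)) x ∈
        N.map (QuotientGroup.mk' (Subgroup.center (Matrix.symplecticGroup (Fin n) F))) :=
      Subgroup.mem_map_of_mem _ hx
    rw [hbot, Subgroup.mem_bot, QuotientGroup.mk'_apply, QuotientGroup.eq_one_iff] at hm
    obtain ⟨g, hg⟩ := hnc
    exact hg (Subgroup.mem_center_iff.mp hm g)
  have htop : N.map (QuotientGroup.mk' (Subgroup.center (Matrix.symplecticGroup (Fin n) F))) = ⊤ :=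
    (hmapN.eq_bot_or_eq_top).resolve_left hne
  have hdec : ∀ g : Matrix.symplecticGroup (Fin n) F, ∃ a ∈ N,
      a⁻¹ * g ∈ Subgroup.center (Matrix.symplecticGroup (Fin n) F) := by
    intro g
    have hm : QuotientGroup.mk' (Subgroup.center (Matrix.symplecticGroup (Fin n) F)) g ∈
        N.map (QuotientGroup.mk' (Subgroup.center (Matrix.symplecticGroup (Fin n) F))) := by
      rw [htop]; trivial
    obtain ⟨a, ha, hag⟩ := Subgroup.mem_map.mp hm
    refine ⟨a, ha, ?_⟩
    rw [QuotientGroup.mk'_apply, QuotientGroup.mk'_apply] at hag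
    exact QuotientGroup.eq.mp hag
  rw [eq_top_iff, ← hperf, commutator_def, Subgroup.commutator_le]
  intro g _ h _
  obtain ⟨a, ha, haz⟩ := hdec g
  obtain ⟨b, hb, hbz⟩ := hdec h
  have hg : g = a * (a⁻¹ * g) := by group
  have hh : h = b * (b⁻¹ * h) := by group
  rw [hg, hh, commutatorElement_mul_central a b _ _ haz hbz, commutatorElement_def]
  exact N.mul_mem (N.mul_mem (N.mul_mem ha hb) (N.inv_mem ha)) (N.inv_mem hb)

end SKer

end Cfsg.Agent.Lib.Helper94.SPMD
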