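import Mathlib.RepresentationTheory.Character
import Mathlib.RepresentationTheory.Irreducible
import Mathlib.Analysis.Complex.Polynomial.Basic
import Cfsg.Prelude.Def_Characters

set_option autoImplicit false

namespace Cfsg.Agent.Lib.Helper76

open Representation Module

variable {G : Type*} [Group G] {V : Type*} [AddCommGroup V] [Module ℂ V]

theorem finrank_ne_zero_of_irr (ρ : Representation ℂ G V) [FiniteDimensional ℂ V]
    [ρ.IsIrreducible] : Module.finrank ℂ V ≠ 0 := by
  intro h
  have hsub : Subsingleton V := Module.finrank_zero_iff.mp h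
  have : Nontrivial (Subrepresentation ρ) := inferInstance
  obtain ⟨a, b, hab⟩ := this
  apply hab
  apply Subrepresentation.toSubmodule_injective
  exact Subsingleton.elim _ _

/-- Schur's lemma: an endomorphism commuting with an irreducible complex representation is the
scalar `trace / dim`. -/
theorem schur_eq_smul_id (ρ : Representation ℂ G V) [FiniteDimensional ℂ V]
    [ρ.IsIrreducible] (T : V →ₗ[ℂ] V) (hT : ∀ g, T ∘ₗ ρ g = ρ g ∘ₗ T) :
    T = ((LinearMap.trace ℂ V T) / (Module.finrank ℂ V : ℂ)) • LinearMap.id := by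
  let T' : IntertwiningMap ρ ρ := ⟨T, hT⟩
  obtain ⟨c, hc⟩ :=
    (IsIrreducible.algebraMap_intertwiningMap_bijective_of_isAlgClosed (ρ := ρ)).2 T'
  have hTc : T = c • LinearMap.id := by
    have := congrArg IntertwiningMap.toLinearMap hc
    rw [Algebra.algebraMap_eq_smul_one] at this
    exact this.symm
  have hn : (Module.finrank ℂ V : ℂ) ≠ 0 := by
    exact_mod_cast finrank_ne_zero_of_irr ρ
  have htr : LinearMap.trace ℂ V T = c * (Module.finrank ℂ V : ℂ) := by
    rw [hTc, map_smul, LinearMap.trace_id, smul_eq_mul]
  rw [htr, mul_div_assoc, div_self hn, mul_one]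
  exact hTc

/-- A central element acts as the scalar `χ(z)/χ(1)` in an irreducible representation. -/
theorem rho_central_eq_smul (ρ : Representation ℂ G V) [FiniteDimensional ℂ V]
    [ρ.IsIrreducible] (z : G) (hz : z ∈ Subgroup.center G) :
    ρ z = (ρ.character z / (Module.finrank ℂ V : ℂ)) • LinearMap.id := by
  apply schur_eq_smul_id ρ (ρ z)
  intro g
  rw [← Module.End.mul_eq_comp, ← Module.End.mul_eq_comp, ← map_mul, ← map_mul,
    (Subgroup.mem_center_iff.mp hz g)]

/-- `χ(z h) = (χ(z)/χ(1)) χ(h)` for central `z`. -/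
theorem character_central_mul (ρ : Representation ℂ G V) [FiniteDimensional ℂ V]
    [ρ.IsIrreducible] (z : G) (hz : z ∈ Subgroup.center G) (h : G) :
    ρ.character (z * h) = ρ.character z / (Module.finrank ℂ V : ℂ) * ρ.character h := by
  have h1 := rho_central_eq_smul ρ z hz
  set c := ρ.character z / (Module.finrank ℂ V : ℂ) with hc
  have h2 : ρ (z * h) = c • ρ h := by
    rw [map_mul, h1]
    ext v
    simp
  unfold Representation.character at hc ⊢
  rw [h2, map_smul, smul_eq_mul]

end Cfsg.Agent.Lib.Helper76
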