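import Cfsg.Agent.Lib.Helper76.ModP
import Cfsg.Agent.Lib.Helper76.PCore
import Cfsg.Agent.Lib.Helper3.ColOrth
import Cfsg.Agent.Lib.Helper16.LocalRing

/-!
# Character values on `p`-regular parts modulo a maximal ideal over `p` (helper76)

* `exists_avg_coeffs`: for a `p`-regular `v` there are algebraic integers `a χ` and a natural number
  `idx` prime to `p` with `∑ χ, χ g * conj (a χ) = 0` for `p`-regular `g` not conjugate to `v` and
  `= idx` for `g = v`.
* `memLocalIdeal_irr_sub_pPart`: `χ x ≡ χ (a⁻¹ x)` modulo `M` where `a` is the `p`-part of `x`.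
* `isConj_of_forall_memLocalIdeal`: `p`-regular elements with character values congruent modulo `M`
  are conjugate.
-/

set_option autoImplicit false

namespace Cfsg.Agent.Lib.Helper76

open Cfsg Cfsg.Agent.Lib.Helper3 Cfsg.Agent.Lib.Helper16
open scoped ComplexConjugate

section

variable {G : Type*} [Group G]

/-- if `w`, `v` are `p`-regular, `d` is a `p`-element commuting with `v` and `w ~ v d`,
then `d = 1`. -/
theorem eq_one_of_isConj_mul' (p : ℕ) (w v d : G)
    (hw : (orderOf w).Coprime p) (hv : (orderOf v).Coprime p) (hd : ∃ j : ℕ, orderOf d = p ^ j)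
    (hvd : v * d = d * v) (hconj : IsConj w (v * d)) : d = 1 := by
  obtain ⟨j, hj⟩ := hd
  obtain ⟨c, hc⟩ := isConj_iff.mp hconj
  set N := orderOf w * orderOf v with hN
  have h1 : (v * d) ^ N = 1 := by
    rw [← hc, conj_pow, hN, pow_mul, pow_orderOf_eq_one, one_pow, mul_one, mul_inv_cancel]
  have hcomm : Commute v d := hvd
  rw [hcomm.mul_pow] at h1
  have h2 : v ^ N = 1 := by rw [hN, mul_comm, pow_mul, pow_orderOf_eq_one, one_pow]
  rw [h2, one_mul] at h1
  have h3 : d ^ p ^ j = 1 := by rw [← hj]; exact pow_orderOf_eq_one d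
  exact eq_one_of_pow_eq_one_of_coprime p d N j (Nat.Coprime.mul_left hw hv) h1 h3

variable [Finite G]

/-- Averaging over a Sylow `p`-subgroup of `C_G(v)`: algebraic-integer coefficients `a χ` whose
pairing with the columns of the character table isolates the class of the `p`-regular element
`v` among `p`-regular classes, with value prime to `p`. -/
theorem exists_avg_coeffs (p : ℕ) [hp : Fact p.Prime] (v : G) (hv : (orderOf v).Coprime p)
    [Fintype (Cfsg.IrrCharacter G)] :
    ∃ (a : Cfsg.IrrCharacter G → ℂ) (idx : ℕ), (∀ χ, IsIntegral ℤ (a χ)) ∧ ¬ p ∣ idx ∧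
      (∀ g : G, (orderOf g).Coprime p → ¬ IsConj g v →
        ∑ χ : Cfsg.IrrCharacter G, (χ : G → ℂ) g * conj (a χ) = 0) ∧
      ∑ χ : Cfsg.IrrCharacter G, (χ : G → ℂ) v * conj (a χ) = (idx : ℂ) := by
  classical
  have : Fintype G := Fintype.ofFinite _
  set C := Subgroup.centralizer ({v} : Set G) with hC
  obtain ⟨D₀⟩ : Nonempty (Sylow p C) := inferInstance
  set D : Subgroup G := (D₀ : Subgroup C).map C.subtype with hD
  have : Fintype D := Fintype.ofFinite _
  have hDC : D ≤ C := Subgroup.map_subtype_le _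
  have hDcomm : ∀ d ∈ D, v * d = d * v := by
    intro d hd
    have := hDC hd
    rw [hC, Subgroup.mem_centralizer_iff] at this
    exact this v rfl
  have hDpg : IsPGroup p D := D₀.2.map _
  have hDp : ∀ d : D, ∃ j : ℕ, orderOf (d : G) = p ^ j := by
    intro d
    obtain ⟨j, hj⟩ := (IsPGroup.iff_orderOf.mp hDpg) d
    exact ⟨j, by rw [Subgroup.orderOf_coe]; exact hj⟩
  set c : ℂ := (Fintype.card D : ℂ) with hc
  have hc0 : c ≠ 0 := by rw [hc]; exact_mod_cast Fintype.card_ne_zero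
  have hcconj : conj c = c := by rw [hc]; exact Complex.conj_natCast _
  let a : Cfsg.IrrCharacter G → ℂ := fun χ => c⁻¹ * ∑ d : D, (χ : G → ℂ) (v * d)
  have ha : ∀ χ, IsIntegral ℤ (a χ) := by
    intro χ
    obtain ⟨n, ρ, _, hρ⟩ := χ.2
    simp only [a]
    rw [← hρ]
    exact isIntegral_avg_character ρ D v (orderOf v) (orderOf_pos v) (pow_orderOf_eq_one v) hDcomm
  -- the sum identity
  have hsum : ∀ g : G, (orderOf g).Coprime p →
      ∑ χ : Cfsg.IrrCharacter G, (χ : G → ℂ) g * conj (a χ) =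
        c⁻¹ * (if IsConj g v then (Nat.card (Subgroup.centralizer ({g} : Set G)) : ℂ) else 0) := by
    intro g hg
    have h1 : ∀ χ : Cfsg.IrrCharacter G, (χ : G → ℂ) g * conj (a χ) =
        c⁻¹ * ∑ d : D, (χ : G → ℂ) g * conj ((χ : G → ℂ) (v * d)) := by
      intro χ
      simp only [a]
      rw [map_mul, map_inv₀, hcconj, map_sum, Finset.mul_sum, Finset.mul_sum, Finset.mul_sum]
      refine Finset.sum_congr rfl fun d _ => ?_
      ring
    rw [Finset.sum_congr rfl fun χ _ => h1 χ, ← Finset.mul_sum, Finset.sum_comm]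
    congr 1
    have h2 : ∀ d : D, ∑ χ : Cfsg.IrrCharacter G, (χ : G → ℂ) g * conj ((χ : G → ℂ) (v * d)) =
        if d = 1 then
          (if IsConj g v then (Nat.card (Subgroup.centralizer ({g} : Set G)) : ℂ) else 0)
        else 0 := by
      intro d
      rw [column_orthogonality g (v * d)]
      by_cases hd1 : d = 1
      · rw [if_pos hd1, hd1, Subgroup.coe_one, mul_one]
      · rw [if_neg hd1, if_neg]
        intro hcj
        apply hd1
        have := eq_one_of_isConj_mul' p g v d hg hv (hDp d) (hDcomm d d.2) hcj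
        exact Subtype.ext this
    rw [Finset.sum_congr rfl fun d _ => h2 d, Finset.sum_ite_eq' Finset.univ (1 : D)]
    simp
  -- `|C| = |D| * idx`
  have hcardD : Nat.card D = Nat.card (D₀ : Subgroup C) :=
    Subgroup.card_map_of_injective (Subgroup.subtype_injective C)
  have hcardC : Nat.card C = Nat.card D * (D₀ : Subgroup C).index := by
    rw [hcardD]; exact ((D₀ : Subgroup C).card_mul_index).symm
  have hcD : c = (Nat.card D : ℂ) := by rw [hc, Nat.card_eq_fintype_card]
  refine ⟨a, (D₀ : Subgroup C).index, ha, D₀.not_dvd_index, ?_, ?_⟩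
  · intro g hg hne
    rw [hsum g hg, if_neg hne, mul_zero]
  · rw [hsum v hv, if_pos (IsConj.refl v), ← hC, hcardC, Nat.cast_mul, ← hcD]
    field_simp

end

section modular

variable {G : Type*} [Group G] [Finite G]

/-- `χ(g)^(p^n) ≡ χ(g^(p^n))` modulo `p` for irreducible `χ`. -/
theorem irr_pow_sub' (p : ℕ) (hp : p.Prime) (n : ℕ) (χ : Cfsg.IrrCharacter G) (g : G) :
    ∃ γ : Cfsg.AlgInt, (χ : G → ℂ) g ^ p ^ n - (χ : G → ℂ) (g ^ p ^ n) = (p : ℂ) * (γ : ℂ) := by
  obtain ⟨d, ρ, _, hρ⟩ := χ.2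
  rw [← hρ]
  exact character_pow_sub ρ p hp n g

theorem irr_isIntegral (χ : Cfsg.IrrCharacter G) (g : G) : IsIntegral ℤ ((χ : G → ℂ) g) := by
  obtain ⟨d, ρ, _, hρ⟩ := χ.2
  rw [← hρ]
  obtain ⟨μ, hμ, hk⟩ := exists_character_pow_eq_sum ρ g (orderOf g) (orderOf_pos g)
    (pow_orderOf_eq_one g)
  have h1 := hk 1
  rw [pow_one] at h1
  rw [h1]
  refine IsIntegral.sum _ fun i _ => ?_
  simp only [pow_one]
  exact IsIntegral.of_pow (orderOf_pos g) (by rw [hμ i]; exact isIntegral_one)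

/-- The value of an irreducible character at `x` is congruent modulo `M` to its value at the
`p`-regular part of `x`. -/
theorem memLocalIdeal_irr_sub_pPart (p : ℕ) (M : Ideal Cfsg.AlgInt) (hM : Cfsg.IsPModular p M)
    (χ : Cfsg.IrrCharacter G) (x a : G) (ha : Cfsg.IsPPart p x a) :
    Cfsg.MemLocalIdeal M ((χ : G → ℂ) x - (χ : G → ℂ) (a⁻¹ * x)) := by
  have hp : p.Prime := hM.1
  have hMp : M.IsPrime := isPModular_isPrime hM
  obtain ⟨y, hxy, hcomm, ⟨k, hk⟩, -⟩ := ha
  have hy : a⁻¹ * x = y := by rw [← hxy]; group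
  rw [hy]
  have hpow : x ^ p ^ k = y ^ p ^ k := by
    rw [← hxy, hcomm.mul_pow, ← hk, pow_orderOf_eq_one, one_mul]
  obtain ⟨γ₁, h1⟩ := irr_pow_sub' p hp k χ x
  obtain ⟨γ₂, h2⟩ := irr_pow_sub' p hp k χ y
  set X : Cfsg.AlgInt := ⟨(χ : G → ℂ) x, irr_isIntegral χ x⟩ with hX
  set Y : Cfsg.AlgInt := ⟨(χ : G → ℂ) y, irr_isIntegral χ y⟩ with hY
  obtain ⟨r, hr⟩ := exists_add_pow_prime_pow_eq hp (X - Y) Y k
  rw [sub_add_cancel] at hr
  -- `(X - Y)^q = p * (γ₁ - γ₂ - (X - Y) * Y * r)`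
  have hkey : (X - Y) ^ p ^ k = (p : Cfsg.AlgInt) * (γ₁ - γ₂ - (X - Y) * Y * r) := by
    apply Subtype.ext
    have hr' := congrArg (fun z : Cfsg.AlgInt => (z : ℂ)) hr
    simp only [hX, hY] at hr' ⊢
    push_cast at hr' ⊢
    rw [hpow] at h1
    linear_combination h1 - h2 - hr'
  have hmem : (X - Y) ^ p ^ k ∈ M := by
    rw [hkey]
    exact M.mul_mem_right _ hM.2.2
  have hmem' : X - Y ∈ M := hMp.mem_of_pow_mem _ hmem
  have := memLocalIdeal_of_mem hMp.ne_top hmem'
  simpa [hX, hY] using this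

/-- Two `p`-regular elements whose irreducible character values are all congruent modulo `M`
are conjugate. -/
theorem isConj_of_forall_memLocalIdeal (p : ℕ) (M : Ideal Cfsg.AlgInt)
    (hM : Cfsg.IsPModular p M) (u v : G)
    (hu : (orderOf u).Coprime p) (hv : (orderOf v).Coprime p)
    (hyp : ∀ χ : Cfsg.IrrCharacter G,
      Cfsg.MemLocalIdeal M ((χ : G → ℂ) u - (χ : G → ℂ) v)) : IsConj u v := by
  classical
  by_contra hne
  have hp : Fact p.Prime := ⟨hM.1⟩
  have hMp : M.IsPrime := isPModular_isPrime hM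
  have : Fintype G := Fintype.ofFinite _
  have : Fintype (Cfsg.IrrCharacter G) := Fintype.ofFinite _
  obtain ⟨a, idx, ha, hidx, h0, h1⟩ := exists_avg_coeffs p v hv
  have hU := h0 u hu hne
  have hdiff : ∑ χ : Cfsg.IrrCharacter G, ((χ : G → ℂ) u - (χ : G → ℂ) v) * conj (a χ) =
      - (idx : ℂ) := by
    simp only [sub_mul]
    rw [Finset.sum_sub_distrib, hU, h1, zero_sub]
  have hmem : Cfsg.MemLocalIdeal M (∑ χ : Cfsg.IrrCharacter G,
      ((χ : G → ℂ) u - (χ : G → ℂ) v) * conj (a χ)) := by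
    refine memLocalIdeal_sum _ _ fun χ _ => ?_
    exact memLocalIdeal_mul_right (hyp χ)
      (memLocalRing_of_isIntegral hMp.ne_top (map_isIntegral_int _ (ha χ)))
  rw [hdiff, memLocalIdeal_neg_iff, memLocalIdeal_natCast_iff hM] at hmem
  exact hidx hmem

end modular

end Cfsg.Agent.Lib.Helper76
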