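import Cfsg.Agent.Lib.Helper76.Galois
import Cfsg.Agent.Lib.Helper16.LocalRing
import Cfsg.Agent.Lib.Helper79.Schur

/-!
# Galois conjugates of central characters and maximal ideals over `p` (helper76)

* `exists_pow_irr`: an embedding `σ` of `ℚ(ζ_N)` acts on all irreducible character values as
  `χ(g) ↦ χ(g^u)` for one `u` coprime to `N`.
* `exists_conj_centralChar_sub`: every complex root of the minimal polynomial over `ℚ` of
  `ω_χ(g) - ω_ψ(g)` is `ω_χ(g^u) - ω_ψ(g^u)` for some `u` coprime to `|G|`.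
* `pow_natDegree_mem_of_roots_mem`: a monic integer polynomial all of whose roots lie in an ideal
  `I` is `X^d` modulo `I`.
* `mem_of_forall_conj_mem`: an algebraic integer all of whose conjugates lie in one maximal ideal
  over `p` lies in every maximal ideal over `p`.
-/

set_option autoImplicit false

namespace Cfsg.Agent.Lib.Helper76

open Module IntermediateField Polynomial

section galois

variable {G : Type*} [Group G]

/-- Every embedding `σ` of `ℚ(ζ_N)` into `ℂ` acts on all irreducible character values as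
`χ(g) ↦ χ(g ^ u)` for a fixed `u` coprime to `N` (the same `u` for all `χ`). -/
theorem exists_pow_irr (N : ℕ) (hN : 0 < N)
    (hG : ∀ g : G, g ^ N = 1) (ζ : ℂ) (hζ : IsPrimitiveRoot ζ N)
    (σ : adjoin ℚ ({ζ} : Set ℂ) →ₐ[ℚ] ℂ) :
    ∃ u : ℕ, u.Coprime N ∧ ∀ (χ : Cfsg.IrrCharacter G) (g : G)
      (h : (χ : G → ℂ) g ∈ adjoin ℚ ({ζ} : Set ℂ)),
      σ ⟨(χ : G → ℂ) g, h⟩ = (χ : G → ℂ) (g ^ u) := by
  have : NeZero N := ⟨hN.ne'⟩
  obtain ⟨ζK, hζK⟩ : ∃ z : adjoin ℚ ({ζ} : Set ℂ), (z : ℂ) = ζ :=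
    ⟨⟨ζ, mem_adjoin_simple_self ℚ ζ⟩, rfl⟩
  have hζKprim : IsPrimitiveRoot ζK N := by
    have : IsPrimitiveRoot ((algebraMap (adjoin ℚ ({ζ} : Set ℂ)) ℂ) ζK) N := by
      rw [IntermediateField.algebraMap_apply, hζK]; exact hζ
    exact IsPrimitiveRoot.of_map_of_injective (f := algebraMap (adjoin ℚ ({ζ} : Set ℂ)) ℂ) this
      (algebraMap (adjoin ℚ ({ζ} : Set ℂ)) ℂ).injective
  have hσprim : IsPrimitiveRoot (σ ζK) N := hζKprim.map_of_injective σ.injective
  obtain ⟨u, -, hu⟩ := hζ.eq_pow_of_pow_eq_one hσprim.pow_eq_one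
  have hucop : u.Coprime N := by
    rw [← hζ.pow_iff_coprime hN u, hu]; exact hσprim
  refine ⟨u, hucop, fun χ g h => ?_⟩
  obtain ⟨n, ρ, -, hρ⟩ := χ.2
  obtain ⟨μ, hμ, hk⟩ := exists_character_pow_eq_sum ρ g N hN (hG g)
  have h1 := hk 1
  rw [pow_one] at h1
  choose a ha using fun i => hζ.eq_pow_of_pow_eq_one (hμ i)
  have hsum : (⟨(χ : G → ℂ) g, h⟩ : adjoin ℚ ({ζ} : Set ℂ)) = ∑ i, ζK ^ a i := by
    apply Subtype.ext
    rw [AddSubmonoidClass.coe_finsetSum]
    change (χ : G → ℂ) g = _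
    rw [← hρ, h1]
    refine Finset.sum_congr rfl fun i _ => ?_
    simp [hζK, (ha i).2]
  rw [hsum, map_sum, ← hρ, hk u]
  refine Finset.sum_congr rfl fun i _ => ?_
  rw [map_pow, ← hu, ← (ha i).2, ← pow_mul, ← pow_mul, mul_comm]

/-- `C_G(g^k) = C_G(g)` for `k` coprime to the order of `g`. -/
theorem centralizer_pow_eq_of_coprime (g : G) (k : ℕ) (hk : k.Coprime (orderOf g)) :
    Subgroup.centralizer ({g ^ k} : Set G) = Subgroup.centralizer ({g} : Set G) := by
  obtain ⟨m, hm⟩ := exists_pow_eq_self_of_coprime hk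
  ext x
  simp only [Subgroup.mem_centralizer_iff, Set.mem_singleton_iff, forall_eq]
  constructor
  · intro h
    have h1 : Commute (g ^ k) x := h
    have h2 : Commute ((g ^ k) ^ m) x := h1.pow_left m
    rw [hm] at h2
    exact h2
  · intro h
    have h1 : Commute g x := h
    exact h1.pow_left k

theorem irr_apply_one_eq_natCast (χ : Cfsg.IrrCharacter G) : ∃ d : ℕ, (χ : G → ℂ) 1 = (d : ℂ) := by
  obtain ⟨n, ρ, -, hρ⟩ := χ.2
  exact ⟨Module.finrank ℂ (Fin n → ℂ), by rw [← hρ, Representation.char_one]⟩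

variable [Finite G]

/-- Every complex root of the minimal polynomial over `ℚ` of `ω_χ(g) - ω_ψ(g)` is of the form
`ω_χ(g^u) - ω_ψ(g^u)` with `u` coprime to `|G|`. -/
theorem exists_conj_centralChar_sub (χ ψ : Cfsg.IrrCharacter G) (g : G) (a : ℂ)
    (ha : a ∈ (minpoly ℚ (Cfsg.centralChar (χ : G → ℂ) g -
      Cfsg.centralChar (ψ : G → ℂ) g)).rootSet ℂ) :
    ∃ u : ℕ, u.Coprime (Nat.card G) ∧
      a = Cfsg.centralChar (χ : G → ℂ) (g ^ u) - Cfsg.centralChar (ψ : G → ℂ) (g ^ u) := by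
  set N := Nat.card G with hNdef
  have hN : 0 < N := Nat.card_pos
  have hG : ∀ x : G, x ^ N = 1 := fun x => pow_card_eq_one'
  set ζ : ℂ := Complex.exp (2 * Real.pi * Complex.I / N) with hζdef
  have hζ : IsPrimitiveRoot ζ N := Complex.isPrimitiveRoot_exp N hN.ne'
  have hζint : IsIntegral ℚ ζ := (hζ.isIntegral hN).tower_top
  have hfd : FiniteDimensional ℚ (adjoin ℚ ({ζ} : Set ℂ)) := adjoin.finiteDimensional hζint
  have hmem : ∀ (φ : Cfsg.IrrCharacter G) (x : G), (φ : G → ℂ) x ∈ adjoin ℚ ({ζ} : Set ℂ) := by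
    intro φ x
    obtain ⟨n, ρ, -, hρ⟩ := φ.2
    rw [← hρ]
    exact character_mem_adjoin ρ N hN ζ hζ x (hG x)
  obtain ⟨dχ, hdχ⟩ := irr_apply_one_eq_natCast χ
  obtain ⟨dψ, hdψ⟩ := irr_apply_one_eq_natCast ψ
  set idx := (Subgroup.centralizer ({g} : Set G)).index with hidx
  set zK : adjoin ℚ ({ζ} : Set ℂ) :=
    (idx : adjoin ℚ ({ζ} : Set ℂ)) * ⟨(χ : G → ℂ) g, hmem χ g⟩ / (dχ : adjoin ℚ ({ζ} : Set ℂ)) -
    (idx : adjoin ℚ ({ζ} : Set ℂ)) * ⟨(ψ : G → ℂ) g, hmem ψ g⟩ / (dψ : adjoin ℚ ({ζ} : Set ℂ))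
    with hzK
  have hzKcoe : (zK : ℂ) = Cfsg.centralChar (χ : G → ℂ) g - Cfsg.centralChar (ψ : G → ℂ) g := by
    rw [hzK]
    unfold Cfsg.centralChar
    push_cast
    rw [hdχ, hdψ]
  rw [← hzKcoe, ← IntermediateField.minpoly_eq] at ha
  have hrange := (Algebra.IsAlgebraic.of_finite ℚ (adjoin ℚ ({ζ} : Set ℂ))).range_eval_eq_rootSet_minpoly
    ℂ zK
  obtain ⟨σ, hσ⟩ : a ∈ Set.range (fun φ : adjoin ℚ ({ζ} : Set ℂ) →ₐ[ℚ] ℂ => φ zK) := by
    rw [hrange]; exact ha
  obtain ⟨u, hucop, hu⟩ := exists_pow_irr N hN hG ζ hζ σ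
  refine ⟨u, hucop, ?_⟩
  have hu' : u.Coprime (orderOf g) := Nat.Coprime.coprime_dvd_right (orderOf_dvd_natCard g) hucop
  rw [← hσ]
  simp only [hzK, map_sub, map_div₀, map_mul, map_natCast, hu]
  unfold Cfsg.centralChar
  rw [centralizer_pow_eq_of_coprime g u hu', hdχ, hdψ]

end galois

section poly

/-- A monic integer polynomial which splits over the domain `R` with all roots in the ideal `I`
is congruent to `X^d` modulo `I`; hence a root `z` of it satisfies `z^d ∈ I'` for every ideal `I'`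
containing the rational integers of `I`. -/
theorem pow_natDegree_mem_of_roots_mem {R : Type*} [CommRing R] [IsDomain R] (I I' : Ideal R)
    (f : ℤ[X]) (hf : f.Monic) (hs : (f.map (Int.castRingHom R)).Splits)
    (hroots : ∀ r ∈ (f.map (Int.castRingHom R)).roots, r ∈ I)
    (hI : ∀ n : ℤ, (n : R) ∈ I → (n : R) ∈ I') (z : R)
    (hz : (f.map (Int.castRingHom R)).eval z = 0) : z ^ f.natDegree ∈ I' := by
  set f' := f.map (Int.castRingHom R) with hf'
  have hmon : f'.Monic := hf.map _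
  have hdeg : f'.natDegree = f.natDegree := hf.natDegree_map _
  have hprod := hs.eq_prod_roots_of_monic hmon
  -- reduce modulo `I`
  have hmap : f'.map (Ideal.Quotient.mk I) = X ^ (Multiset.card f'.roots) := by
    conv_lhs => rw [hprod]
    rw [Polynomial.map_multiset_prod, Multiset.map_map]
    have : Multiset.map ((Polynomial.map (Ideal.Quotient.mk I)) ∘ fun a => X - C a) f'.roots =
        Multiset.map (fun _ => (X : (R ⧸ I)[X])) f'.roots := by
      refine Multiset.map_congr rfl fun r hr => ?_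
      have : Ideal.Quotient.mk I r = 0 := Ideal.Quotient.eq_zero_iff_mem.mpr (hroots r hr)
      simp [this]
    rw [this, Multiset.map_const', Multiset.prod_replicate]
  have hcard : Multiset.card f'.roots = f.natDegree := by
    rw [← hdeg]; exact hs.natDegree_eq_card_roots.symm
  rw [hcard] at hmap
  have hcoeff : ∀ j, j < f.natDegree → ((f.coeff j : ℤ) : R) ∈ I' := by
    intro j hj
    apply hI
    have h1 := congrArg (fun q => q.coeff j) hmap
    simp only [coeff_map, coeff_X_pow, if_neg hj.ne] at h1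
    have h2 : f'.coeff j = ((f.coeff j : ℤ) : R) := by rw [hf', coeff_map]; rfl
    rw [h2] at h1
    exact Ideal.Quotient.eq_zero_iff_mem.mp h1
  -- expand `f'(z) = 0`
  have hsum : f'.eval z = z ^ f.natDegree +
      ∑ j ∈ Finset.range f.natDegree, ((f.coeff j : ℤ) : R) * z ^ j := by
    conv_lhs => rw [hmon.as_sum]
    rw [hdeg]
    simp only [eval_add, eval_pow, eval_X, eval_finsetSum, eval_mul, eval_C]
    congr 1
    refine Finset.sum_congr rfl fun j _ => ?_
    rw [hf', coeff_map]; rfl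
  rw [hz] at hsum
  have hzd : z ^ f.natDegree =
      - ∑ j ∈ Finset.range f.natDegree, ((f.coeff j : ℤ) : R) * z ^ j := by
    linear_combination -hsum
  rw [hzd]
  refine I'.neg_mem (I'.sum_mem fun j hj => ?_)
  exact I'.mul_mem_right _ (hcoeff j (Finset.mem_range.mp hj))

end poly

section ideals

open Cfsg Cfsg.Agent.Lib.Helper16

/-- An algebraic integer `z` such that every complex root of its minimal polynomial over `ℚ` lies
in the maximal ideal `M` over `p` lies in every maximal ideal `M'` over `p`. -/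
theorem mem_of_forall_conj_mem (p : ℕ) (M M' : Ideal Cfsg.AlgInt) (hM : Cfsg.IsPModular p M)
    (hM' : Cfsg.IsPModular p M') (z : ℂ) (hz : IsIntegral ℤ z)
    (hconj : ∀ a ∈ (minpoly ℚ z).rootSet ℂ, ∃ r : Cfsg.AlgInt, r ∈ M ∧ (r : ℂ) = a) :
    ∃ r : Cfsg.AlgInt, r ∈ M' ∧ (r : ℂ) = z := by
  have hMp : M.IsPrime := isPModular_isPrime hM
  have hMp' : M'.IsPrime := isPModular_isPrime hM'
  set f := minpoly ℤ z with hfdef
  have hf : f.Monic := minpoly.monic hz
  have hfQ : minpoly ℚ z = f.map (algebraMap ℤ ℚ) :=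
    minpoly.isIntegrallyClosed_eq_field_fractions' ℚ hz
  have hcomp : (algebraMap Cfsg.AlgInt ℂ).comp (Int.castRingHom Cfsg.AlgInt) =
      algebraMap ℤ ℂ := RingHom.ext_int _ _
  have hcompQ : (algebraMap ℚ ℂ).comp (algebraMap ℤ ℚ) = algebraMap ℤ ℂ := RingHom.ext_int _ _
  have hmapC : (f.map (Int.castRingHom Cfsg.AlgInt)).map (algebraMap Cfsg.AlgInt ℂ) =
      f.map (algebraMap ℤ ℂ) := by rw [Polynomial.map_map, hcomp]
  have hne : f.map (algebraMap ℤ ℂ) ≠ 0 := (hf.map _).ne_zero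
  -- roots in `ℂ`
  have hrootsC : ∀ a ∈ (f.map (algebraMap ℤ ℂ)).roots, ∃ r : Cfsg.AlgInt, r ∈ M ∧ (r : ℂ) = a := by
    intro a ha
    apply hconj
    rw [hfQ, Polynomial.mem_rootSet]
    refine ⟨(hf.map _).ne_zero, ?_⟩
    rw [aeval_def, eval₂_map, hcompQ, ← eval_map]
    exact (mem_roots hne).mp ha
  have hinj : Function.Injective (algebraMap Cfsg.AlgInt ℂ) := Subtype.val_injective
  have hs : (f.map (Int.castRingHom Cfsg.AlgInt)).Splits := by
    apply Splits.of_splits_map_of_injective hinj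
    · rw [hmapC]; exact IsAlgClosed.splits _
    · intro a ha
      rw [hmapC] at ha
      obtain ⟨r, -, hr⟩ := hrootsC a ha
      exact ⟨r, hr⟩
  have hroots : ∀ r ∈ (f.map (Int.castRingHom Cfsg.AlgInt)).roots, r ∈ M := by
    intro r hr
    have h1 : (r : ℂ) ∈ (f.map (algebraMap ℤ ℂ)).roots := by
      rw [← hmapC, hs.roots_map_of_injective hinj]
      exact Multiset.mem_map_of_mem _ hr
    obtain ⟨r', hr'M, hr'⟩ := hrootsC _ h1
    have : r' = r := Subtype.ext hr'
    rwa [← this]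
  have hI : ∀ n : ℤ, (n : Cfsg.AlgInt) ∈ M → (n : Cfsg.AlgInt) ∈ M' := by
    intro n hn
    have h1 : MemLocalIdeal M ((n : Cfsg.AlgInt) : ℂ) := memLocalIdeal_of_mem hMp.ne_top hn
    have h2 : MemLocalIdeal M (n : ℂ) := by simpa using h1
    obtain ⟨k, rfl⟩ := (memLocalIdeal_intCast_iff hM n).mp h2
    push_cast
    exact M'.mul_mem_right _ hM'.2.2
  set zz : Cfsg.AlgInt := ⟨z, hz⟩ with hzz
  have hzero : (f.map (Int.castRingHom Cfsg.AlgInt)).eval zz = 0 := by
    apply hinj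
    rw [map_zero, ← Polynomial.eval_map_apply, hmapC, eval_map, ← aeval_def]
    exact minpoly.aeval ℤ z
  have hpow := pow_natDegree_mem_of_roots_mem M M' f hf hs hroots hI zz hzero
  exact ⟨zz, hMp'.mem_of_pow_mem _ hpow, rfl⟩

end ideals

end Cfsg.Agent.Lib.Helper76
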