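import Mathlib
import Cfsg.Agent.Lib.Helper78.StableCover
import Cfsg.Agent.Lib.Helper78.BlockCount
import Cfsg.Agent.Lib.Helper78.DefectOrder
import Cfsg.Agent.Lib.Helper16.DefectClass
import Cfsg.Agent.Lib.Helper16.Induced
import Cfsg.Agent.S0911

/-!
# Fong's theorem on blocks covering a stable block of a normal subgroup (helper76)

`b` a `G`-stable block of `N ⊴ G`.  The characters of `G` lying over `b` form a union of blocks
whose idempotent is that of `b`.
-/

set_option autoImplicit false
set_option linter.unusedSectionVars false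
set_option linter.style.haveILetI false

namespace Cfsg.Agent.Lib.Helper76

open Cfsg Cfsg.Agent.Lib.Helper16 Cfsg.Agent.Lib.Helper78 MonoidAlgebra
open scoped ComplexConjugate

universe u

section Decomp

variable {G : Type u} [Group G] [Fintype G] {M : Ideal AlgInt} [hMp : M.IsPrime]

open scoped Classical in
/-- A union of blocks whose idempotent coefficient at `g` is outside the ideal contains a block
with the same property. -/
theorem exists_block_subset_not_memLocalIdeal {V : Set (IrrCharacter G)}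
    (hV : ∀ θ θ' : IrrCharacter G, θ ∈ V → SameBlock M (θ : G → ℂ) (θ' : G → ℂ) → θ' ∈ V)
    {g : G} (hg : ¬ MemLocalIdeal M (blockCoeff V g)) :
    ∃ B' : Set (IrrCharacter G), IsPBlock M B' ∧ B' ⊆ V ∧ (∃ χ, χ ∈ B') ∧
      ¬ MemLocalIdeal M (blockCoeff B' g) := by
  set 𝔅 : Finset (Set (IrrCharacter G)) :=
    (Finset.univ.filter (fun θ : IrrCharacter G => θ ∈ V)).image
      (fun θ : IrrCharacter G => blockOf M (θ : G → ℂ)) with h𝔅
  have key : blockCoeff V g = ∑ b' ∈ 𝔅, blockCoeff b' g := by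
    simp only [blockCoeff_eq_sum]
    rw [← Finset.mul_sum]
    congr 1
    rw [← Finset.sum_fiberwise_of_maps_to (s := Finset.univ.filter (fun θ : IrrCharacter G => θ ∈ V))
      (t := 𝔅) (g := fun θ : IrrCharacter G => blockOf M (θ : G → ℂ))
      (fun θ hθ => Finset.mem_image_of_mem _ hθ)]
    refine Finset.sum_congr rfl fun b' hb' => ?_
    obtain ⟨θ₀, hθ₀, rfl⟩ := Finset.mem_image.mp hb'
    have hθ₀V : θ₀ ∈ V := (Finset.mem_filter.mp hθ₀).2
    refine Finset.sum_congr ?_ fun _ _ => rfl
    ext θ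
    simp only [Finset.mem_filter, Finset.mem_univ, true_and]
    constructor
    · rintro ⟨_, h2⟩
      rw [← h2]
      exact self_mem_blockOf hMp.ne_top θ
    · intro h2
      exact ⟨hV θ₀ θ hθ₀V h2, blockOf_eq_of_mem h2⟩
  by_contra hcon
  push Not at hcon
  apply hg
  rw [key]
  apply memLocalIdeal_sum
  intro b' hb'
  obtain ⟨θ₀, hθ₀, rfl⟩ := Finset.mem_image.mp hb'
  have hθ₀V : θ₀ ∈ V := (Finset.mem_filter.mp hθ₀).2
  refine hcon _ ⟨θ₀, rfl⟩ ?_ ⟨θ₀, self_mem_blockOf hMp.ne_top θ₀⟩
  intro θ hθ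
  exact hV θ₀ θ hθ₀V hθ

end Decomp

section Over

variable {G : Type u} [Group G] [Fintype G] (N : Subgroup G) [hN : N.Normal] [Fintype N]

/-- The irreducible characters of `G` lying over a member of `U`. -/
def overSet (U : Set (IrrCharacter N)) : Set (IrrCharacter G) :=
  {χ | ∃ θ ∈ U, classInner (fun n : N => (χ : G → ℂ) n) (θ : N → ℂ) ≠ 0}

open scoped Classical in
theorem mem_overSet_iff {U : Set (IrrCharacter N)} (hU : IsGStable N U) (χ : IrrCharacter G)
    (θ : IrrCharacter N) (hθ : classInner (fun n : N => (χ : G → ℂ) n) (θ : N → ℂ) ≠ 0) :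
    χ ∈ overSet N U ↔ θ ∈ U := by
  constructor
  · rintro ⟨θ', hθ'U, hθ'⟩
    have h1 := omega_stableElt N hU χ θ hθ
    have h2 := omega_stableElt N hU χ θ' hθ'
    rw [h1, if_pos hθ'U] at h2
    by_contra h
    rw [if_neg h] at h2
    exact zero_ne_one h2
  · intro h
    exact ⟨θ, h, hθ⟩

open scoped Classical in
/-- The idempotent of the characters lying over a stable set `U` is the idempotent of `U`. -/
theorem blockCoeff_overSet {U : Set (IrrCharacter N)} (hU : IsGStable N U) (g : G) :
    blockCoeff (overSet N U) g = (stableElt N U).coeff g := by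
  have hf : IsClassFunction G (fun g => (stableElt N U).coeff g - blockCoeff (overSet N U) g) := by
    intro g h
    show (stableElt N U).coeff (h * g * h⁻¹) - blockCoeff (overSet N U) (h * g * h⁻¹) = _
    rw [coeff_conj_of_mem_center (stableElt_mem_center N hU),
      isClassFunction_blockCoeff (overSet N U) g h]
  have h0 := eq_zero_of_forall_sum_mul_irr_eq_zero hf (by
    intro χ
    simp only [sub_mul, Finset.sum_sub_distrib]
    obtain ⟨θ, hθ⟩ := exists_constituent N χ
    rw [sum_coeff_mul_irr, omega_stableElt N hU χ θ hθ]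
    by_cases hχ : χ ∈ overSet N U
    · rw [sum_blockCoeff_mul_irr _ hχ, if_pos ((mem_overSet_iff N hU χ θ hθ).mp hχ), one_mul,
        sub_self]
    · rw [sum_blockCoeff_mul_irr_of_not_mem _ hχ,
        if_neg (fun h => hχ ((mem_overSet_iff N hU χ θ hθ).mpr h)), zero_mul, sub_self])
  have := congrFun h0 g
  simp only [Pi.zero_apply] at this
  exact (sub_eq_zero.mp this).symm

open scoped Classical in
/-- The characters lying over a stable set with locally integral idempotent form a union of
blocks. -/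
theorem overSet_closed {M : Ideal AlgInt} [hMp : M.IsPrime] {U : Set (IrrCharacter N)}
    (hU : IsGStable N U) (hR : ∀ n : N, MemLocalRing M (blockCoeff U n))
    (χ ψ : IrrCharacter G) (hχ : χ ∈ overSet N U)
    (h : SameBlock M (χ : G → ℂ) (ψ : G → ℂ)) : ψ ∈ overSet N U := by
  obtain ⟨θ, hθU, hθ⟩ := hχ
  obtain ⟨φ, hφ⟩ := exists_constituent N ψ
  exact ⟨φ, (constituent_mem_iff_of_sameBlock (M := M) N hU hR h hθ hφ).mp hθU, hφ⟩

end Over

section Key

variable {G : Type u} [Group G] [Fintype G] (N : Subgroup G) [hN : N.Normal] [Fintype N]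
  {M : Ideal AlgInt}

open scoped Classical in
/-- **The key class.**  If `χ₀` lies over the `G`-stable block `b` of `N`, there is `x ∈ N` at which
both the idempotent coefficient of `b` and the central character of `χ₀` are outside the ideal. -/
theorem exists_key_class [hMp : M.IsPrime] {b : Set (IrrCharacter N)} (hb : IsPBlock M b)
    (hst : IsGStable N b) (χ₀ : IrrCharacter G) (θ₀ : IrrCharacter N) (hθ₀b : θ₀ ∈ b)
    (hθ₀ : classInner (fun n : N => (χ₀ : G → ℂ) n) (θ₀ : N → ℂ) ≠ 0) :
    ∃ x : N, ¬ MemLocalIdeal M (blockCoeff b x) ∧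
      ¬ MemLocalIdeal M (centralChar (χ₀ : G → ℂ) (x : G)) := by
  have h1 := omega_stableElt N hst χ₀ θ₀ hθ₀
  rw [if_pos hθ₀b, omega_eq_sum_classes _ (irr_conj χ₀) (stableElt_mem_center N hst)] at h1
  by_contra hcon
  push Not at hcon
  apply one_not_memLocalIdeal (M := M)
  rw [← h1]
  apply memLocalIdeal_sum
  intro c _
  have hω : MemLocalRing M (centralChar (χ₀ : G → ℂ) (classRep c)) :=
    memLocalRing_of_isIntegral hMp.ne_top (Cfsg.Agent.Lib.Helper79.isIntegral_centralChar χ₀ _)
  by_cases hc : classRep c ∈ N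
  · have h2 : classRep c = ((⟨classRep c, hc⟩ : N) : G) := rfl
    rw [h2, coeff_stableElt_coe]
    by_cases h3 : MemLocalIdeal M (blockCoeff b (⟨classRep c, hc⟩ : N))
    · exact memLocalIdeal_mul_right h3 hω
    · exact memLocalIdeal_mul_left (blockCoeff_memLocalRing hb _) (hcon _ h3)
  · rw [coeff_stableElt_of_not_mem N b hc, zero_mul]
    exact memLocalIdeal_zero hMp.ne_top

end Key

section Facts

variable {G : Type u} [Group G] [Fintype G] (N : Subgroup G) [hN : N.Normal] [Fintype N]
  {M : Ideal AlgInt}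

open scoped Classical in
/-- A key class is a defect class of `b`, and the `p`-part of its centralizer in `G` has order
`p ^ (d(b) + ν_p |G : N|)`. -/
theorem key_class_facts {p : ℕ} [Fact p.Prime] (hM : IsPModular p M)
    {b : Set (IrrCharacter N)} (hb : IsPBlock M b)
    (hst : IsGStable N b) (χ₀ : IrrCharacter G) (θ₀ : IrrCharacter N) (hθ₀b : θ₀ ∈ b)
    (hθ₀ : classInner (fun n : N => (χ₀ : G → ℂ) n) (θ₀ : N → ℂ) ≠ 0) (n : N)
    (h1 : ¬ MemLocalIdeal M (blockCoeff b n))
    (h2 : ¬ MemLocalIdeal M (centralChar (χ₀ : G → ℂ) (n : G))) :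
    IsDefectClass M b n ∧
      (Nat.card (Subgroup.centralizer ({(n : G)} : Set G))).factorization p =
        blockDefect p b + N.index.factorization p := by
  haveI hMp := isPModular_isPrime hM
  have hp : p.Prime := Fact.out
  have hω : ¬ MemLocalIdeal M (inducedCentralChar N (θ₀ : N → ℂ) (n : G)) := by
    rw [← centralChar_eq_inducedCentralChar_of_constituent N χ₀ θ₀ hθ₀ n]
    exact h2
  obtain ⟨r, hr, hcong⟩ := exists_card_mul_centralChar_congr N hb hst hθ₀b n
  have hωS : MemLocalRing M (centralChar (θ₀ : N → ℂ) n) :=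
    memLocalRing_of_isIntegral hMp.ne_top (Cfsg.Agent.Lib.Helper79.isIntegral_centralChar θ₀ n)
  have hrω : ¬ MemLocalIdeal M ((r : ℂ) * centralChar (θ₀ : N → ℂ) n) := by
    intro hmem
    apply hω
    have := memLocalIdeal_add hcong hmem
    rwa [sub_add_cancel] at this
  have hω₀ : ¬ MemLocalIdeal M (centralChar (θ₀ : N → ℂ) n) := fun hmem =>
    hrω (memLocalIdeal_mul_left (memLocalRing_natCast hMp.ne_top r) hmem)
  have hpr : ¬ p ∣ r := fun hdiv =>
    hrω (memLocalIdeal_mul_right ((memLocalIdeal_natCast_iff hM r).mpr hdiv) hωS)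
  have hdc : IsDefectClass M b n := by
    refine ⟨blockCoeff_memLocalRing hb n, h1, ?_⟩
    intro θ hθ hmem
    apply hω₀
    have := memLocalIdeal_add (sameBlock_of_mem hb hθ₀b hθ n) hmem
    rwa [sub_add_cancel] at this
  refine ⟨hdc, ?_⟩
  have hdb := factorization_card_centralizer_eq_blockDefect hM hb hdc
  have e1 := (Subgroup.centralizer ({n} : Set N)).card_mul_index
  have e2 := (Subgroup.centralizer ({(n : G)} : Set G)).card_mul_index
  have e3 := N.card_mul_index
  have hcn0 : Nat.card (Subgroup.centralizer ({n} : Set N)) ≠ 0 := Nat.card_pos.ne'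
  have hin0 : (Subgroup.centralizer ({n} : Set N)).index ≠ 0 := Subgroup.index_ne_zero_of_finite
  have hcg0 : Nat.card (Subgroup.centralizer ({(n : G)} : Set G)) ≠ 0 := Nat.card_pos.ne'
  have hig0 : (Subgroup.centralizer ({(n : G)} : Set G)).index ≠ 0 :=
    Subgroup.index_ne_zero_of_finite
  have hN0 : Nat.card N ≠ 0 := Nat.card_pos.ne'
  have hNi0 : N.index ≠ 0 := Subgroup.index_ne_zero_of_finite
  have hr0 : r ≠ 0 := by
    rintro rfl
    exact hpr (dvd_zero p)
  have f1 := congrArg (fun m : ℕ => m.factorization p) e1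
  have f2 := congrArg (fun m : ℕ => m.factorization p) e2
  have f3 := congrArg (fun m : ℕ => m.factorization p) e3
  have f4 := congrArg (fun m : ℕ => m.factorization p) hr
  simp only [Nat.factorization_mul hcn0 hin0, Nat.factorization_mul hcg0 hig0,
    Nat.factorization_mul hN0 hNi0, Nat.factorization_mul hr0 hin0, Finsupp.coe_add,
    Pi.add_apply] at f1 f2 f3 f4
  have hr' : r.factorization p = 0 := Nat.factorization_eq_zero_of_not_dvd hpr
  omega

end Facts

section GroupTheory

variable {G : Type u} [Group G] [Finite G] (N : Subgroup G) [hN : N.Normal]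

/-- If `n ∈ N` and `P ≤ C_G(n)` is a `p`-group of order `p ^ (ν_p |C_N(n)| + ν_p |G : N|)`, then
`p ∤ |G : P N|` and `P ∩ N` is a Sylow `p`-subgroup of `C_N(n)`. -/
theorem not_dvd_index_sup_and_exists_sylow {p : ℕ} [Fact p.Prime] (n : N) (P : Subgroup G)
    (hPle : P ≤ Subgroup.centralizer ({(n : G)} : Set G))
    (hcard : Nat.card P = p ^ ((Nat.card (Subgroup.centralizer ({n} : Set N))).factorization p +
      N.index.factorization p)) :
    ¬ p ∣ (P ⊔ N).index ∧
      ∃ Q : Sylow p (Subgroup.centralizer ({n} : Set N)),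
        (P ⊓ N).subgroupOf N =
          (Q : Subgroup (Subgroup.centralizer ({n} : Set N))).map
            (Subgroup.centralizer ({n} : Set N)).subtype := by
  have hp : p.Prime := Fact.out
  obtain ⟨CN, hCN⟩ : ∃ CN : Subgroup N, CN = Subgroup.centralizer ({n} : Set N) := ⟨_, rfl⟩
  rw [← hCN] at hcard
  have hCN0 : Nat.card CN ≠ 0 := Nat.card_pos.ne'
  have hNi0 : N.index ≠ 0 := Subgroup.index_ne_zero_of_finite
  have hPp : IsPGroup p P := IsPGroup.of_card hcard
  set A : Subgroup G := P ⊓ N with hA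
  have hAN : A ≤ N := inf_le_right
  have hAP : A ≤ P := inf_le_left
  have hAle : A.subgroupOf N ≤ CN := by
    intro a ha
    rw [hCN, Subgroup.mem_centralizer_singleton_iff]
    have h1 : (a : G) ∈ Subgroup.centralizer ({(n : G)} : Set G) :=
      hPle (hAP (Subgroup.mem_subgroupOf.mp ha))
    rw [Subgroup.mem_centralizer_singleton_iff] at h1
    exact Subtype.ext (by simpa using h1)
  have hcardA1 : Nat.card (A.subgroupOf N) = Nat.card A :=
    Nat.card_congr (Subgroup.subgroupOfEquivOfLe hAN).toEquiv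
  have hAp : IsPGroup p A := hPp.to_le hAP
  obtain ⟨i, hi⟩ := IsPGroup.iff_card.mp hAp
  have hile : i ≤ (Nat.card CN).factorization p := by
    have h1 : Nat.card A ∣ Nat.card CN := by
      rw [← hcardA1]
      exact Subgroup.card_dvd_of_le hAle
    rw [hi] at h1
    exact (hp.pow_dvd_iff_le_factorization hCN0).mp h1
  have hF4 : Nat.card A * N.relIndex P = Nat.card P := by
    have h1 := (A.subgroupOf P).card_mul_index
    have h2 : Nat.card (A.subgroupOf P) = Nat.card A :=
      Nat.card_congr (Subgroup.subgroupOfEquivOfLe hAP).toEquiv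
    have h3 : (A.subgroupOf P).index = N.relIndex P := by
      show A.relIndex P = N.relIndex P
      rw [hA, Subgroup.inf_relIndex_left]
    rw [h2, h3] at h1
    exact h1
  have hrel : N.relIndex P ∣ N.index := Subgroup.relIndex_dvd_index_of_normal N P
  have hrelP : N.relIndex P ∣ p ^ ((Nat.card CN).factorization p + N.index.factorization p) := by
    rw [← hcard, ← hF4]
    exact dvd_mul_left _ _
  obtain ⟨i', _, hi'⟩ := (Nat.dvd_prime_pow hp).mp hrelP
  have hi'le : i' ≤ N.index.factorization p := by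
    rw [hi'] at hrel
    exact (hp.pow_dvd_iff_le_factorization hNi0).mp hrel
  have hF5 : i + i' = (Nat.card CN).factorization p + N.index.factorization p := by
    have := hF4
    rw [hi, hi', hcard, ← pow_add] at this
    exact Nat.pow_right_injective hp.two_le this
  have hi_eq : i = (Nat.card CN).factorization p := by omega
  have hi'_eq : i' = N.index.factorization p := by omega
  constructor
  · have h1 := Subgroup.relIndex_mul_index (le_sup_left : N ≤ N ⊔ P)
    rw [Subgroup.relIndex_sup_left, hi', hi'_eq] at h1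
    rw [sup_comm]
    intro hdiv
    have h2 : p ^ (N.index.factorization p + 1) ∣ N.index := by
      have h3 : p ^ (N.index.factorization p) * p ∣
          p ^ (N.index.factorization p) * (N ⊔ P).index := mul_dvd_mul_left _ hdiv
      rw [h1] at h3
      rwa [pow_succ]
    have := (hp.pow_dvd_iff_le_factorization hNi0).mp h2
    omega
  · have hcard' : Nat.card ((A.subgroupOf N).subgroupOf (Subgroup.centralizer ({n} : Set N))) =
        p ^ (Nat.card (Subgroup.centralizer ({n} : Set N))).factorization p := by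
      rw [← hCN, Nat.card_congr (Subgroup.subgroupOfEquivOfLe hAle).toEquiv, hcardA1, hi, hi_eq]
    refine ⟨Sylow.ofCard _ hcard', ?_⟩
    rw [Sylow.coe_ofCard, Subgroup.subgroupOf_map_subtype, ← hCN, inf_of_le_left hAle]

end GroupTheory

section Main

variable {G : Type u} [Group G] [Fintype G] (N : Subgroup G) [hN : N.Normal] [Fintype N]
  {M : Ideal AlgInt}

open scoped Classical in
/-- **Fong's theorem** for a block of maximal defect covering a `G`-stable block. -/
theorem fong_main {p : ℕ} [Fact p.Prime] (hM : IsPModular p M)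
    {b : Set (IrrCharacter N)} (hb : IsPBlock M b) (hst : IsGStable N b)
    {B : Set (IrrCharacter G)} (hB : IsPBlock M B)
    (χ₀ : IrrCharacter G) (hχ₀ : χ₀ ∈ B) (θ₀ : IrrCharacter N) (hθ₀b : θ₀ ∈ b)
    (hθ₀ : classInner (fun n : N => (χ₀ : G → ℂ) n) (θ₀ : N → ℂ) ≠ 0)
    (hmax : ∀ B' : Set (IrrCharacter G), IsPBlock M B' →
      (∃ χ ∈ B', ∃ θ ∈ b, classInner (fun n : N => (χ : G → ℂ) n) (θ : N → ℂ) ≠ 0) →
      blockDefect p B' ≤ blockDefect p B)
    (P : Subgroup G) (hP : IsDefectGroup p M B P) :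
    ¬ p ∣ (P ⊔ N).index ∧ IsDefectGroup p M b ((P ⊓ N).subgroupOf N) ∧
      blockDefect p B = blockDefect p b + N.index.factorization p := by
  haveI hMp := isPModular_isPrime hM
  have hp : p.Prime := Fact.out
  obtain ⟨x, hx1, hx2⟩ := exists_key_class N hb hst χ₀ θ₀ hθ₀b hθ₀
  -- the defect of `B` is the `p`-exponent of `|C_G(x)|`
  have hle1 : blockDefect p B ≤
      (Nat.card (Subgroup.centralizer ({(x : G)} : Set G))).factorization p :=
    blockDefect_le_factorization_card_centralizer hM hB hχ₀ hx2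
  have hR : ∀ n : N, MemLocalRing M (blockCoeff b n) := fun n => blockCoeff_memLocalRing hb n
  have hle2 : (Nat.card (Subgroup.centralizer ({(x : G)} : Set G))).factorization p ≤
      blockDefect p B := by
    have h1 : ¬ MemLocalIdeal M (blockCoeff (overSet N b) (x : G)) := by
      rw [blockCoeff_overSet N hst, coeff_stableElt_coe]
      exact hx1
    obtain ⟨B₀, hB₀, hsub, ⟨χ₁, hχ₁⟩, hB₀x⟩ :=
      exists_block_subset_not_memLocalIdeal (M := M)
        (fun χ ψ hχ h => overSet_closed (M := M) N hst hR χ ψ hχ h) h1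
    have h2 := factorization_card_centralizer_le_blockDefect hM hB₀ hB₀x
    obtain ⟨θ₁, hθ₁b, hθ₁⟩ := hsub hχ₁
    exact h2.trans (hmax B₀ hB₀ ⟨χ₁, hχ₁, θ₁, hθ₁b, hθ₁⟩)
  have hdx : (Nat.card (Subgroup.centralizer ({(x : G)} : Set G))).factorization p =
      blockDefect p B := le_antisymm hle2 hle1
  obtain ⟨-, hfx⟩ := key_class_facts N hM hb hst χ₀ θ₀ hθ₀b hθ₀ x hx1 hx2
  have hdB : blockDefect p B = blockDefect p b + N.index.factorization p := by
    rw [← hdx, hfx]
  -- conjugate `P` into a Sylow subgroup of `C_G(x)`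
  have hPcard : Nat.card P = p ^ blockDefect p B := card_defectGroup hM hB hP
  obtain ⟨g₀, hg₀, Q₀, hPQ₀⟩ := hP
  obtain ⟨t, Q, hQ⟩ := (Cfsg.Agent.S0911.result p M hM B hB g₀ hg₀ Q₀ (x : G)).2 ⟨χ₀, hχ₀, hx2⟩
  rw [← hPQ₀] at hQ
  -- `P ≤ C_G(t⁻¹ x t)`
  set y : N := ⟨t⁻¹ * (x : G) * t⁻¹⁻¹, hN.conj_mem x x.2 t⁻¹⟩ with hy
  have hPle : P ≤ Subgroup.centralizer ({(y : G)} : Set G) := by
    intro u hu
    have h1 : t * u * t⁻¹ ∈ (Q : Subgroup (Subgroup.centralizer ({(x : G)} : Set G))).map
        (Subgroup.centralizer ({(x : G)} : Set G)).subtype := by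
      apply hQ
      exact ⟨u, hu, by simp [MulAut.conj_apply]⟩
    obtain ⟨w, _, hw⟩ := h1
    have h2 : (w : G) ∈ Subgroup.centralizer ({(x : G)} : Set G) := w.2
    rw [Subgroup.mem_centralizer_singleton_iff] at h2 ⊢
    have hw' : (w : G) = t * u * t⁻¹ := hw
    rw [hw'] at h2
    show u * (t⁻¹ * (x : G) * t⁻¹⁻¹) = t⁻¹ * (x : G) * t⁻¹⁻¹ * u
    rw [inv_inv]
    have h3 : u = t⁻¹ * (t * u * t⁻¹) * t := by group
    calc u * (t⁻¹ * (x : G) * t) = t⁻¹ * ((t * u * t⁻¹) * (x : G)) * t := by group
      _ = t⁻¹ * ((x : G) * (t * u * t⁻¹)) * t := by rw [h2]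
      _ = t⁻¹ * (x : G) * t * u := by group
  -- `y` is again a key class
  have hy1 : ¬ MemLocalIdeal M (blockCoeff b y) := by
    rw [hy, blockCoeff_conjN N hst t⁻¹ x]
    exact hx1
  have hy2 : ¬ MemLocalIdeal M (centralChar (χ₀ : G → ℂ) (y : G)) := by
    show ¬ MemLocalIdeal M (centralChar (χ₀ : G → ℂ) (t⁻¹ * (x : G) * t⁻¹⁻¹))
    rw [centralChar_conj]
    exact hx2
  obtain ⟨hdc, hfy⟩ := key_class_facts N hM hb hst χ₀ θ₀ hθ₀b hθ₀ y hy1 hy2
  have hdb := factorization_card_centralizer_eq_blockDefect hM hb hdc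
  have hcard : Nat.card P = p ^ ((Nat.card (Subgroup.centralizer ({y} : Set N))).factorization p +
      N.index.factorization p) := by
    rw [hPcard, hdB, hdb]
  obtain ⟨h1, Q', hQ'⟩ := not_dvd_index_sup_and_exists_sylow N y P hPle hcard
  exact ⟨h1, ⟨y, hdc, Q', hQ'⟩, hdB⟩

end Main

end Cfsg.Agent.Lib.Helper76
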