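import Mathlib
import Cfsg.Prelude.Def_Characters
import Cfsg.Agent.Lib.Helper3.Integrality
import Cfsg.Agent.Lib.Helper3.IrrBasis
import Cfsg.Agent.Lib.Helper76.Galois

set_option autoImplicit false

namespace Cfsg.Agent.Lib.Helper76

open Cfsg Cfsg.Agent.Lib.Helper3
open scoped ComplexConjugate

section

variable {G : Type*} [Group G] [Fintype G]

/-- Parseval for class functions. -/
theorem classInner_self_eq_sum [Fintype (IrrCharacter G)] (f : G → ℂ) (hf : IsClassFunction G f) :
    classInner f f = ∑ ψ : IrrCharacter G, classInner f (ψ : G → ℂ) * conj (classInner f (ψ : G → ℂ)) := by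
  have h : classInner f f =
      classInner (∑ χ : IrrCharacter G, classInner f (χ : G → ℂ) • (χ : G → ℂ)) f :=
    congrArg (fun u => classInner u f) (classFunction_expansion f hf)
  rw [h, classInner_sum_left]
  refine Finset.sum_congr rfl fun ψ _ => ?_
  rw [classInner_smul_left, classInner_conj_symm f (ψ : G → ℂ)]

/-- For an irreducible character `χ` and a class function `c` with algebraic-integer values,
`(∑ g, c g * χ g) / χ 1` is an algebraic integer. -/
theorem isIntegral_sum_mul_div_degree (χ : IrrCharacter G) (c : G → ℂ) (hc : IsClassFunction G c)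
    (hint : ∀ g, IsIntegral ℤ (c g)) :
    IsIntegral ℤ ((∑ g : G, c g * (χ : G → ℂ) g) / (χ : G → ℂ) 1) := by
  obtain ⟨n, ρ, hirr, hρ⟩ := χ.2
  have := hirr
  have h1 := avgMap_eq_smul_of_isIrreducible ρ c hc
  have h2 := isIntegral_avgMap_of_isIntegral ρ c hint
  rw [h1] at h2
  have hV : Nontrivial (Fin n → ℂ) :=
    Module.finrank_pos_iff.mp (finrank_pos_of_isIrreducible ρ)
  have h3 := isIntegral_of_isIntegral_smul_id _ h2
  rw [← hρ, Representation.char_one]
  exact h3

end

/-- A field automorphism fixing `exp(2πi/n)` fixes every character value at an element `x` with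
`x ^ n = 1`. -/
theorem ringEquiv_apply_character_eq {G : Type*} [Group G] [Finite G] {d : ℕ}
    (ρ : Representation ℂ G (Fin d → ℂ)) (n : ℕ) (hn : 0 < n) (σ : ℂ ≃+* ℂ)
    (hσ : σ (Complex.exp (2 * Real.pi * Complex.I / (n : ℕ))) =
      Complex.exp (2 * Real.pi * Complex.I / (n : ℕ)))
    (x : G) (hx : x ^ n = 1) : σ (ρ.character x) = ρ.character x := by
  obtain ⟨μ, hμ, hk⟩ := exists_character_pow_eq_sum ρ x n hn hx
  have h1 := hk 1
  rw [pow_one] at h1
  rw [h1, map_sum]
  refine Finset.sum_congr rfl fun i _ => ?_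
  rw [pow_one]
  have hprim : IsPrimitiveRoot (Complex.exp (2 * Real.pi * Complex.I / (n : ℕ))) n :=
    Complex.isPrimitiveRoot_exp n hn.ne'
  have : NeZero n := ⟨hn.ne'⟩
  obtain ⟨j, _, hj⟩ := hprim.eq_pow_of_pow_eq_one (hμ i)
  rw [← hj, map_pow, hσ]

end Cfsg.Agent.Lib.Helper76
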