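import Mathlib
import Cfsg.Prelude.Def_Characters
import Cfsg.Prelude.Def_Blocks
import Cfsg.Agent.S4424
import Cfsg.Agent.Lib.Helper16.PIndex
import Cfsg.Agent.Lib.Helper16.ClassAlgebra
import Cfsg.Agent.Lib.Helper16.BlockBasic
import Cfsg.Agent.Lib.Helper78.CharMore
import Cfsg.Agent.Lib.Helper79.Integrality
import Cfsg.Agent.Lib.Helper80.CharBasic

/-!
# The `p`-part of `∑_{χ ∈ B} χ(1)²` (helper76)

For a `p`-block `B` with minimal degree valuation `m` and `p^a = |G|_p`, the exact power of `p`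
dividing `∑_{χ ∈ B} χ(1)²` is `p^(a+m)`.  Along the way: for `χ₀ ∈ B` of height zero the integer
`[χ̃₀, χ₀]` has valuation exactly `m`.
-/

set_option autoImplicit false

namespace Cfsg.Agent.Lib.Helper76

open Cfsg Cfsg.Agent.Lib.Helper16
open scoped ComplexConjugate

section val

variable {M : Ideal AlgInt} {p : ℕ}

/-- An integer `A` with `A / p^k` in the local ideal is divisible by `p^(k+1)`. -/
theorem pow_succ_dvd_of_memLocalIdeal_div_pow (hM : IsPModular p M) :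
    ∀ (k : ℕ) (A : ℤ), MemLocalIdeal M ((A : ℂ) / ((p : ℂ) ^ k)) → (p : ℤ) ^ (k + 1) ∣ A := by
  have hMp := isPModular_isPrime hM
  have hp := isPModular_prime hM
  have hpc : (p : ℂ) ≠ 0 := by exact_mod_cast hp.ne_zero
  intro k
  induction k with
  | zero =>
    intro A h
    rw [pow_zero, div_one] at h
    rw [zero_add, pow_one]
    exact (memLocalIdeal_intCast_iff hM A).mp h
  | succ k ih =>
    intro A h
    have h1 : MemLocalIdeal M ((A : ℂ)) := by
      have : (A : ℂ) = ((p : ℂ) ^ (k + 1)) * ((A : ℂ) / ((p : ℂ) ^ (k + 1))) := by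
        field_simp
      rw [this]
      exact memLocalIdeal_mul_left (memLocalRing_pow (memLocalRing_natCast hMp.ne_top p) _) h
    obtain ⟨A1, rfl⟩ := (memLocalIdeal_intCast_iff hM A).mp h1
    have h2 : MemLocalIdeal M ((A1 : ℂ) / ((p : ℂ) ^ k)) := by
      have : (A1 : ℂ) / ((p : ℂ) ^ k) = (((p : ℤ) * A1 : ℤ) : ℂ) / ((p : ℂ) ^ (k + 1)) := by
        push_cast
        rw [pow_succ]
        field_simp
      rw [this]
      exact h
    have h3 := ih A1 h2
    rw [pow_succ (p : ℤ) (k + 1), mul_comm]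
    exact mul_dvd_mul_left _ h3

/-- An integer `A` with `A / p^k` in the local ring is divisible by `p^k`. -/
theorem pow_dvd_of_memLocalRing_div_pow (hM : IsPModular p M) :
    ∀ (k : ℕ) (A : ℤ), MemLocalRing M ((A : ℂ) / ((p : ℂ) ^ k)) → (p : ℤ) ^ k ∣ A := by
  have hMp := isPModular_isPrime hM
  have hp := isPModular_prime hM
  have hpc : (p : ℂ) ≠ 0 := by exact_mod_cast hp.ne_zero
  intro k
  induction k with
  | zero =>
    intro A _
    rw [pow_zero]
    exact one_dvd _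
  | succ k ih =>
    intro A h
    have h1 : MemLocalIdeal M ((A : ℂ)) := by
      have : (A : ℂ) = (p : ℂ) * (((p : ℂ) ^ k) * ((A : ℂ) / ((p : ℂ) ^ (k + 1)))) := by
        rw [pow_succ]
        field_simp
      rw [this]
      exact memLocalIdeal_mul_right (memLocalIdeal_p hM)
        (memLocalRing_mul (memLocalRing_pow (memLocalRing_natCast hMp.ne_top p) _) h)
    obtain ⟨A1, rfl⟩ := (memLocalIdeal_intCast_iff hM A).mp h1
    have h2 : MemLocalRing M ((A1 : ℂ) / ((p : ℂ) ^ k)) := by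
      have : (A1 : ℂ) / ((p : ℂ) ^ k) = (((p : ℤ) * A1 : ℤ) : ℂ) / ((p : ℂ) ^ (k + 1)) := by
        push_cast
        rw [pow_succ]
        field_simp
      rw [this]
      exact h
    have h3 := ih A1 h2
    rw [pow_succ (p : ℤ) k, mul_comm]
    exact mul_dvd_mul_left _ h3

/-- If `A / D` lies in the local ideal (`A` an integer, `D ≠ 0` a natural number), then
`p^(v_p(D)+1)` divides `A`. -/
theorem pow_dvd_of_memLocalIdeal_div (hM : IsPModular p M) {A : ℤ} {D : ℕ} (hD : D ≠ 0)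
    (h : MemLocalIdeal M ((A : ℂ) / (D : ℂ))) : (p : ℤ) ^ (D.factorization p + 1) ∣ A := by
  have hMp := isPModular_isPrime hM
  have hp := isPModular_prime hM
  apply pow_succ_dvd_of_memLocalIdeal_div_pow hM
  have hDd := Nat.ordProj_mul_ordCompl_eq_self D p
  set k := D.factorization p
  set D' := D / p ^ k
  have hD'0 : D' ≠ 0 := by
    intro h0
    rw [h0, mul_zero] at hDd
    exact hD hDd.symm
  have hpc : (p : ℂ) ≠ 0 := by exact_mod_cast hp.ne_zero
  have hD'c : (D' : ℂ) ≠ 0 := by exact_mod_cast hD'0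
  have h1 : (D : ℂ) = (p : ℂ) ^ k * (D' : ℂ) := by
    rw [← hDd]; push_cast; rfl
  have : (A : ℂ) / ((p : ℂ) ^ k) = ((A : ℂ) / (D : ℂ)) * (D' : ℂ) := by
    rw [h1]; field_simp
  rw [this]
  exact memLocalIdeal_mul_right h (memLocalRing_natCast hMp.ne_top D')

/-- If `A / D` lies in the local ring (`A` an integer, `D ≠ 0` a natural number), then
`p^(v_p(D))` divides `A`. -/
theorem pow_dvd_of_memLocalRing_div (hM : IsPModular p M) {A : ℤ} {D : ℕ} (hD : D ≠ 0)
    (h : MemLocalRing M ((A : ℂ) / (D : ℂ))) : (p : ℤ) ^ (D.factorization p) ∣ A := by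
  have hMp := isPModular_isPrime hM
  have hp := isPModular_prime hM
  apply pow_dvd_of_memLocalRing_div_pow hM
  have hDd := Nat.ordProj_mul_ordCompl_eq_self D p
  set k := D.factorization p
  set D' := D / p ^ k
  have hD'0 : D' ≠ 0 := by
    intro h0
    rw [h0, mul_zero] at hDd
    exact hD hDd.symm
  have hpc : (p : ℂ) ≠ 0 := by exact_mod_cast hp.ne_zero
  have hD'c : (D' : ℂ) ≠ 0 := by exact_mod_cast hD'0
  have h1 : (D : ℂ) = (p : ℂ) ^ k * (D' : ℂ) := by
    rw [← hDd]; push_cast; rfl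
  have : (A : ℂ) / ((p : ℂ) ^ k) = ((A : ℂ) / (D : ℂ)) * (D' : ℂ) := by
    rw [h1]; field_simp
  rw [this]
  exact memLocalRing_mul h (memLocalRing_natCast hMp.ne_top D')

end val

section vanish

variable {G : Type*} [Group G] [Fintype G]

open Classical in
/-- An integer combination of irreducible characters vanishing on the `p`-singular elements has
degree divisible by `|G|_p`. -/
theorem int_comb_degree_dvd_of_vanish [Fintype (IrrCharacter G)] (p : ℕ) [Fact p.Prime]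
    (c : IrrCharacter G → ℤ)
    (hv : ∀ y : G, p ∣ orderOf y → ∑ ψ : IrrCharacter G, (c ψ : ℂ) * (ψ : G → ℂ) y = 0) :
    ∃ n : ℤ, ∑ ψ : IrrCharacter G, c ψ * (charDegree (ψ : G → ℂ) : ℤ) =
      n * (p : ℤ) ^ (Nat.card G).factorization p := by
  have hp : p.Prime := Fact.out
  let S : Sylow p G := default
  have : Fintype (S : Subgroup G) := Fintype.ofFinite _
  let one : IrrCharacter (S : Subgroup G) := ⟨fun _ => 1, Cfsg.Agent.Lib.Helper80.isIrrCharacter_one⟩
  have hnat : ∀ ψ : IrrCharacter G, ∃ n : ℕ,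
      ∑ s : (S : Subgroup G), (ψ : G → ℂ) (s : G) = (Nat.card (S : Subgroup G) : ℂ) * n := by
    intro ψ
    have hres := Cfsg.Agent.Lib.Helper80.isCharacter_restrict (S : Subgroup G)
      (Cfsg.Agent.Lib.Helper80.isCharacter_of_isIrr ψ.2)
    obtain ⟨n, hn⟩ := Cfsg.Agent.Lib.Helper78.IsCharacter.exists_nat_classInner hres one
    refine ⟨n, ?_⟩
    unfold classInner at hn
    have hc : (Nat.card (S : Subgroup G) : ℂ) ≠ 0 := by
      exact_mod_cast Nat.card_pos.ne'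
    have h2 : ∑ s : (S : Subgroup G), (ψ : G → ℂ) (s : G) =
        ∑ s : (S : Subgroup G), (fun s : (S : Subgroup G) => (ψ : G → ℂ) (s : G)) s *
          conj (one.1 s) := by
      apply Finset.sum_congr rfl
      intro s _
      simp [one]
    rw [h2, ← hn]
    field_simp
  choose nn hnn using hnat
  have hcard : Nat.card (S : Subgroup G) = p ^ (Nat.card G).factorization p :=
    Sylow.card_eq_multiplicity S
  refine ⟨∑ ψ : IrrCharacter G, c ψ * (nn ψ : ℤ), ?_⟩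
  have key : (∑ s : (S : Subgroup G), ∑ ψ : IrrCharacter G, (c ψ : ℂ) * (ψ : G → ℂ) (s : G)) =
      ∑ ψ : IrrCharacter G, (c ψ : ℂ) * (ψ : G → ℂ) 1 := by
    rw [Finset.sum_eq_single (1 : (S : Subgroup G))]
    · simp
    · intro s _ hs
      apply hv
      obtain ⟨k, hk⟩ := (IsPGroup.iff_orderOf.mp S.isPGroup') s
      rw [Subgroup.orderOf_coe, hk]
      rcases Nat.eq_zero_or_pos k with h0 | h0
      · exfalso
        rw [h0, pow_zero] at hk
        exact hs (orderOf_eq_one_iff.mp hk)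
      · exact dvd_pow_self p h0.ne'
    · intro h; exact absurd (Finset.mem_univ _) h
  rw [Finset.sum_comm] at key
  have key2 : (∑ ψ : IrrCharacter G, (c ψ : ℂ) * (charDegree (ψ : G → ℂ) : ℂ)) =
      ∑ ψ : IrrCharacter G, (c ψ : ℂ) * ((p : ℂ) ^ (Nat.card G).factorization p * (nn ψ : ℂ)) := by
    rw [← Finset.sum_congr rfl (fun ψ _ => by
      rw [← Cfsg.Agent.Lib.Helper79.irr_apply_one_eq_charDegree ψ]), ← key]
    apply Finset.sum_congr rfl
    intro ψ _
    rw [← Finset.mul_sum, hnn ψ, hcard]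
    push_cast
    rfl
  have key3 : ((∑ ψ : IrrCharacter G, c ψ * (charDegree (ψ : G → ℂ) : ℤ) : ℤ) : ℂ) =
      (((∑ ψ : IrrCharacter G, c ψ * (nn ψ : ℤ)) * (p : ℤ) ^ (Nat.card G).factorization p : ℤ) : ℂ) := by
    push_cast
    rw [key2, Finset.sum_mul]
    apply Finset.sum_congr rfl
    intro ψ _
    ring
  exact_mod_cast key3

end vanish

section main

variable {G : Type*} [Group G] [Fintype G]

/-- `p^a χ` on the `p`-regular elements and `0` elsewhere (`p^a = |G|_p`). -/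
noncomputable def pTilde (p : ℕ) (χ : G → ℂ) : G → ℂ :=
  fun x => if p ∣ orderOf x then (0 : ℂ) else ((p ^ (Nat.card G).factorization p : ℕ) : ℂ) * χ x

omit [Fintype G] in
theorem centralizer_singleton_inv (g : G) :
    Subgroup.centralizer ({g⁻¹} : Set G) = Subgroup.centralizer ({g} : Set G) := by
  ext x
  rw [Subgroup.mem_centralizer_singleton_iff, Subgroup.mem_centralizer_singleton_iff]
  constructor
  · intro h
    have h2 := congrArg (fun y => g * y * g) h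
    simp only [mul_assoc, inv_mul_cancel, mul_one, mul_inv_cancel_left] at h2
    exact h2.symm
  · intro h
    have h2 := congrArg (fun y => g⁻¹ * y * g⁻¹) h
    simp only [mul_assoc, mul_inv_cancel, mul_one, inv_mul_cancel_left] at h2
    exact h2.symm

open Classical in
/-- Class-sum formula for `[χ̃₀, ψ] / ψ(1)`. -/
theorem classInner_pTilde_div (p : ℕ) (χ₀ ψ : IrrCharacter G) :
    classInner (pTilde p (χ₀ : G → ℂ)) (ψ : G → ℂ) / (ψ : G → ℂ) 1 =
      (((p ^ (Nat.card G).factorization p : ℕ) : ℂ) / (Nat.card G : ℂ)) *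
        ∑ c : ConjClasses G,
          (if p ∣ orderOf (classRep c) then (0 : ℂ) else (χ₀ : G → ℂ) (classRep c)) *
            centralChar (ψ : G → ℂ) (classRep c)⁻¹ := by
  unfold classInner
  have hψ1 : (ψ : G → ℂ) 1 ≠ 0 := by
    rw [Cfsg.Agent.Lib.Helper79.irr_apply_one_eq_charDegree]
    exact_mod_cast (Cfsg.Agent.Lib.Helper79.irr_charDegree_pos ψ).ne'
  set F : G → ℂ := fun g => (if p ∣ orderOf g then (0 : ℂ) else (χ₀ : G → ℂ) g) *
    conj ((ψ : G → ℂ) g) / (ψ : G → ℂ) 1 with hF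
  have hFcl : ∀ g h : G, F (h * g * h⁻¹) = F g := by
    intro g h
    simp only [hF]
    have ho : orderOf (h * g * h⁻¹) = orderOf g := by
      have := orderOf_injective (MulAut.conj h).toMonoidHom (MulAut.conj h).injective g
      simpa using this
    rw [ho, irr_conj χ₀, irr_conj ψ]
  have hcardc : (Nat.card G : ℂ) ≠ 0 := by exact_mod_cast Nat.card_pos.ne'
  have h1 : ∀ g : G, pTilde p (χ₀ : G → ℂ) g * conj ((ψ : G → ℂ) g) =
      ((p ^ (Nat.card G).factorization p : ℕ) : ℂ) * (ψ : G → ℂ) 1 * F g := by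
    intro g
    simp only [pTilde, hF]
    split_ifs
    · simp
    · field_simp
  have h2 : ∀ c : ConjClasses G,
      ((Subgroup.centralizer ({classRep c} : Set G)).index : ℂ) * F (classRep c) =
        (if p ∣ orderOf (classRep c) then (0 : ℂ) else (χ₀ : G → ℂ) (classRep c)) *
            centralChar (ψ : G → ℂ) (classRep c)⁻¹ := by
    intro c
    simp only [hF]
    unfold centralChar
    rw [centralizer_singleton_inv, Cfsg.Agent.Lib.Helper78.IsCharacter.inv
      (Cfsg.Agent.Lib.Helper80.isCharacter_of_isIrr ψ.2)]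
    ring
  rw [Finset.sum_congr rfl (fun g _ => h1 g), ← Finset.mul_sum, sum_eq_sum_classes F hFcl,
    Finset.sum_congr rfl (fun c _ => h2 c)]
  field_simp

omit [Fintype G] in
theorem pPart_div_card_memLocalRing [Finite G] {p : ℕ} {M : Ideal AlgInt} (hM : IsPModular p M) :
    MemLocalRing M (((p ^ (Nat.card G).factorization p : ℕ) : ℂ) / (Nat.card G : ℂ)) := by
  have hp := isPModular_prime hM
  have hd := Nat.ordProj_mul_ordCompl_eq_self (Nat.card G) p
  have hn : ¬ p ∣ Nat.card G / p ^ (Nat.card G).factorization p :=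
    Nat.not_dvd_ordCompl hp Nat.card_pos.ne'
  have h1 := memLocalRing_inv_natCast hM hn
  have hpc : ((p ^ (Nat.card G).factorization p : ℕ) : ℂ) ≠ 0 := by
    exact_mod_cast (pow_pos hp.pos _).ne'
  have hcardc : (Nat.card G : ℂ) ≠ 0 := by exact_mod_cast Nat.card_pos.ne'
  have h2 : ((Nat.card G / p ^ (Nat.card G).factorization p : ℕ) : ℂ) ≠ 0 := by
    have : Nat.card G / p ^ (Nat.card G).factorization p ≠ 0 := by
      intro h0; exact hn (h0 ▸ dvd_zero p)
    exact_mod_cast this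
  have h3 : ((p ^ (Nat.card G).factorization p : ℕ) : ℂ) / (Nat.card G : ℂ) =
      ((Nat.card G / p ^ (Nat.card G).factorization p : ℕ) : ℂ)⁻¹ := by
    have h4 : (Nat.card G : ℂ) = ((p ^ (Nat.card G).factorization p : ℕ) : ℂ) *
        ((Nat.card G / p ^ (Nat.card G).factorization p : ℕ) : ℂ) := by
      exact_mod_cast hd.symm
    rw [h4]
    field_simp
  rw [h3]
  exact h1

open Classical in
theorem classInner_pTilde_div_memLocalRing {p : ℕ} {M : Ideal AlgInt} (hM : IsPModular p M)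
    (χ₀ ψ : IrrCharacter G) :
    MemLocalRing M (classInner (pTilde p (χ₀ : G → ℂ)) (ψ : G → ℂ) / (ψ : G → ℂ) 1) := by
  have hMp := isPModular_isPrime hM
  rw [classInner_pTilde_div]
  apply memLocalRing_mul (pPart_div_card_memLocalRing hM)
  apply memLocalRing_sum
  intro c _
  apply memLocalRing_mul
  · split_ifs
    · exact memLocalRing_zero hMp.ne_top
    · exact memLocalRing_of_isIntegral hMp.ne_top
        (Cfsg.Agent.Lib.Helper78.IsCharacter.isIntegral
          (Cfsg.Agent.Lib.Helper80.isCharacter_of_isIrr χ₀.2) _)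
  · exact memLocalRing_of_isIntegral hMp.ne_top
      (Cfsg.Agent.Lib.Helper79.isIntegral_centralChar ψ _)

open Classical in
theorem classInner_pTilde_div_sub_memLocalIdeal {p : ℕ} {M : Ideal AlgInt} (hM : IsPModular p M)
    (χ₀ ψ ψ' : IrrCharacter G) (hsame : SameBlock M (ψ : G → ℂ) (ψ' : G → ℂ)) :
    MemLocalIdeal M (classInner (pTilde p (χ₀ : G → ℂ)) (ψ : G → ℂ) / (ψ : G → ℂ) 1 -
      classInner (pTilde p (χ₀ : G → ℂ)) (ψ' : G → ℂ) / (ψ' : G → ℂ) 1) := by
  have hMp := isPModular_isPrime hM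
  rw [classInner_pTilde_div, classInner_pTilde_div, ← mul_sub, ← Finset.sum_sub_distrib]
  apply memLocalIdeal_mul_left (pPart_div_card_memLocalRing hM)
  apply memLocalIdeal_sum
  intro c _
  rw [← mul_sub]
  apply memLocalIdeal_mul_left
  · split_ifs
    · exact memLocalRing_zero hMp.ne_top
    · exact memLocalRing_of_isIntegral hMp.ne_top
        (Cfsg.Agent.Lib.Helper78.IsCharacter.isIntegral
          (Cfsg.Agent.Lib.Helper80.isCharacter_of_isIrr χ₀.2) _)
  · exact hsame _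

open Classical in
/-- Osima: `∑_{ψ ∈ B} ψ(1) ψ(y) = 0` for `p`-singular `y`. -/
theorem sum_block_degree_mul_eq_zero [Fintype (IrrCharacter G)] {p : ℕ} [Fact p.Prime]
    {M : Ideal AlgInt} (hM : IsPModular p M) {B : Set (IrrCharacter G)} (hB : IsPBlock M B)
    (y : G) (hy : p ∣ orderOf y) :
    ∑ ψ : IrrCharacter G, (if ψ ∈ B then (charDegree (ψ : G → ℂ) : ℂ) * (ψ : G → ℂ) y else 0) = 0 := by
  have hy' : p ∣ orderOf y⁻¹ := by rwa [orderOf_inv]
  have h1 := blockCoeff_eq_zero_of_singular hM hB y⁻¹ hy'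
  unfold blockCoeff at h1
  have hcardc : (Nat.card G : ℂ) ≠ 0 := by exact_mod_cast Nat.card_pos.ne'
  have h2 : ∑ᶠ χ ∈ B, (χ : G → ℂ) 1 * conj ((χ : G → ℂ) y⁻¹) = 0 := by
    rcases mul_eq_zero.mp h1 with h | h
    · exact absurd (inv_eq_zero.mp h) hcardc
    · exact h
  rw [finsum_mem_def, finsum_eq_sum_of_fintype] at h2
  refine Eq.trans ?_ h2
  apply Finset.sum_congr rfl
  intro ψ _
  rw [Set.indicator_apply]
  split_ifs
  · rw [Cfsg.Agent.Lib.Helper79.irr_apply_one_eq_charDegree,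
      Cfsg.Agent.Lib.Helper78.IsCharacter.inv (Cfsg.Agent.Lib.Helper80.isCharacter_of_isIrr ψ.2),
      Complex.conj_conj]
  · rfl

open Classical in
/-- Core of the block degree-square-sum theorem. `m` is a lower bound for the `p`-adic valuations of
the degrees in `B`, attained by `χ₀`. -/
theorem block_sq_core [Fintype (IrrCharacter G)] {p : ℕ} [Fact p.Prime] {M : Ideal AlgInt}
    (hM : IsPModular p M) {B : Set (IrrCharacter G)} (hB : IsPBlock M B)
    (m : ℕ) (hm : ∀ ψ ∈ B, m ≤ (charDegree (ψ : G → ℂ)).factorization p)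
    (χ₀ : IrrCharacter G) (hχ₀ : χ₀ ∈ B)
    (hχ₀m : (charDegree (χ₀ : G → ℂ)).factorization p = m) :
    (p : ℤ) ^ ((Nat.card G).factorization p + m) ∣
        (∑ ψ : IrrCharacter G, if ψ ∈ B then (charDegree (ψ : G → ℂ) : ℤ) ^ 2 else 0) ∧
      ∃ n0 : ℤ, classInner (pTilde p (χ₀ : G → ℂ)) (χ₀ : G → ℂ) = (n0 : ℂ) ∧ (p : ℤ) ^ m ∣ n0 ∧
        ∃ n : ℤ, (p : ℤ) ^ (Nat.card G).factorization p * (charDegree (χ₀ : G → ℂ) : ℤ) ^ 2 -
          n0 * (∑ ψ : IrrCharacter G, if ψ ∈ B then (charDegree (ψ : G → ℂ) : ℤ) ^ 2 else 0) =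
            n * (p : ℤ) ^ ((Nat.card G).factorization p + 2 * m + 1) := by
  have hp : p.Prime := Fact.out
  have hMp := isPModular_isPrime hM
  set a := (Nat.card G).factorization p with ha
  set S : ℤ := ∑ ψ : IrrCharacter G, if ψ ∈ B then (charDegree (ψ : G → ℂ) : ℤ) ^ 2 else 0 with hS
  have hdeg_dvd : ∀ ψ ∈ B, p ^ m ∣ charDegree (ψ : G → ℂ) := by
    intro ψ hψ
    exact (pow_dvd_pow p (hm ψ hψ)).trans (Nat.ordProj_dvd _ _)
  -- Part 1
  have part1 : (p : ℤ) ^ (a + m) ∣ S := by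
    set c1 : IrrCharacter G → ℤ := fun ψ =>
      if ψ ∈ B then ((charDegree (ψ : G → ℂ) / p ^ m : ℕ) : ℤ) else 0 with hc1
    have hv : ∀ y : G, p ∣ orderOf y →
        ∑ ψ : IrrCharacter G, (c1 ψ : ℂ) * (ψ : G → ℂ) y = 0 := by
      intro y hy
      have h0 := sum_block_degree_mul_eq_zero hM hB y hy
      have hpm : ((p : ℂ) ^ m) ≠ 0 := pow_ne_zero _ (by exact_mod_cast hp.ne_zero)
      have h1 : ((p : ℂ) ^ m) * ∑ ψ : IrrCharacter G, (c1 ψ : ℂ) * (ψ : G → ℂ) y = 0 := by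
        rw [← h0, Finset.mul_sum]
        apply Finset.sum_congr rfl
        intro ψ _
        simp only [hc1]
        split_ifs with hψ
        · obtain ⟨k, hk⟩ := hdeg_dvd ψ hψ
          rw [hk, Nat.mul_div_cancel_left _ (pow_pos hp.pos m)]
          push_cast
          ring
        · simp
      rcases mul_eq_zero.mp h1 with h | h
      · exact absurd h hpm
      · exact h
    obtain ⟨n, hn⟩ := int_comb_degree_dvd_of_vanish p c1 hv
    have hS1 : S = (p : ℤ) ^ m * ∑ ψ : IrrCharacter G, c1 ψ * (charDegree (ψ : G → ℂ) : ℤ) := by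
      rw [hS, Finset.mul_sum]
      apply Finset.sum_congr rfl
      intro ψ _
      simp only [hc1]
      split_ifs with hψ
      · obtain ⟨k, hk⟩ := hdeg_dvd ψ hψ
        rw [hk, Nat.mul_div_cancel_left _ (pow_pos hp.pos m)]
        push_cast
        ring
      · simp
    rw [hS1, hn, pow_add]
    exact ⟨n, by ring⟩
  refine ⟨part1, ?_⟩
  -- Part 2
  obtain ⟨aa, haa0, haa⟩ := Cfsg.Agent.S4424.result p M hM B hB χ₀ hχ₀
  have hexp : ∀ x : G, pTilde p (χ₀ : G → ℂ) x =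
      ∑ ψ : IrrCharacter G, (aa ψ : ℂ) * (ψ : G → ℂ) x := by
    intro x
    have := congrFun haa x
    rw [finsum_eq_sum_of_fintype] at this
    exact this
  have hexpf : pTilde p (χ₀ : G → ℂ) =
      ∑ ψ : IrrCharacter G, (aa ψ : ℂ) • (ψ : G → ℂ) := by
    funext x
    rw [hexp x, Finset.sum_apply]
    apply Finset.sum_congr rfl
    intro ψ _
    rw [Pi.smul_apply, smul_eq_mul]
  have hinner : ∀ ψ : IrrCharacter G,
      classInner (pTilde p (χ₀ : G → ℂ)) (ψ : G → ℂ) = (aa ψ : ℂ) := by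
    intro ψ
    rw [hexpf, Cfsg.Agent.Lib.Helper3.classInner_sum_left]
    simp only [Cfsg.Agent.Lib.Helper3.classInner_smul_left]
    rw [Finset.sum_eq_single ψ]
    · rw [Cfsg.Agent.Lib.Helper3.classInner_irrCharacter ψ.2 ψ.2, if_pos rfl, mul_one]
    · intro φ _ hφ
      rw [Cfsg.Agent.Lib.Helper3.classInner_irrCharacter φ.2 ψ.2, if_neg, mul_zero]
      intro h
      exact hφ (Subtype.ext h)
    · intro h; exact absurd (Finset.mem_univ _) h
  have hdeg1 : ∀ ψ : IrrCharacter G, (ψ : G → ℂ) 1 = (charDegree (ψ : G → ℂ) : ℂ) :=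
    Cfsg.Agent.Lib.Helper79.irr_apply_one_eq_charDegree
  have hdegpos : ∀ ψ : IrrCharacter G, charDegree (ψ : G → ℂ) ≠ 0 := fun ψ =>
    (Cfsg.Agent.Lib.Helper79.irr_charDegree_pos ψ).ne'
  -- K1
  have K1 : ∑ ψ : IrrCharacter G, aa ψ * (charDegree (ψ : G → ℂ) : ℤ) =
      (p : ℤ) ^ a * (charDegree (χ₀ : G → ℂ) : ℤ) := by
    have h1 := hexp 1
    unfold pTilde at h1
    rw [if_neg (by rw [orderOf_one]; exact hp.one_lt.ne' ∘ Nat.dvd_one.mp)] at h1
    have h2 : ((∑ ψ : IrrCharacter G, aa ψ * (charDegree (ψ : G → ℂ) : ℤ) : ℤ) : ℂ) =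
        (((p : ℤ) ^ a * (charDegree (χ₀ : G → ℂ) : ℤ) : ℤ) : ℂ) := by
      push_cast
      rw [← hdeg1 χ₀]
      have h3 : ((p : ℂ) ^ a) * (χ₀ : G → ℂ) 1 =
          ((p ^ (Nat.card G).factorization p : ℕ) : ℂ) * (χ₀ : G → ℂ) 1 := by
        push_cast; rfl
      rw [h3, h1]
      apply Finset.sum_congr rfl
      intro ψ _
      rw [hdeg1 ψ]
    exact_mod_cast h2
  -- K7
  have K7 : (p : ℤ) ^ m ∣ aa χ₀ := by
    have h1 := classInner_pTilde_div_memLocalRing hM χ₀ χ₀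
    rw [hinner χ₀, hdeg1 χ₀] at h1
    have h2 := pow_dvd_of_memLocalRing_div hM (hdegpos χ₀) h1
    rwa [hχ₀m] at h2
  -- K3
  have K3 : ∀ ψ ∈ B, (p : ℤ) ^ (2 * m + 1) ∣
      aa ψ * (charDegree (χ₀ : G → ℂ) : ℤ) - aa χ₀ * (charDegree (ψ : G → ℂ) : ℤ) := by
    intro ψ hψ
    have h1 := classInner_pTilde_div_sub_memLocalIdeal hM χ₀ ψ χ₀ (sameBlock_of_mem hB hψ hχ₀)
    rw [hinner ψ, hinner χ₀, hdeg1 ψ, hdeg1 χ₀] at h1
    have hD : charDegree (ψ : G → ℂ) * charDegree (χ₀ : G → ℂ) ≠ 0 :=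
      mul_ne_zero (hdegpos ψ) (hdegpos χ₀)
    have h2 : ((aa ψ * (charDegree (χ₀ : G → ℂ) : ℤ) - aa χ₀ * (charDegree (ψ : G → ℂ) : ℤ) : ℤ) : ℂ) /
        ((charDegree (ψ : G → ℂ) * charDegree (χ₀ : G → ℂ) : ℕ) : ℂ) =
        (aa ψ : ℂ) / (charDegree (ψ : G → ℂ) : ℂ) - (aa χ₀ : ℂ) / (charDegree (χ₀ : G → ℂ) : ℂ) := by
      have h3 : (charDegree (ψ : G → ℂ) : ℂ) ≠ 0 := by exact_mod_cast hdegpos ψ
      have h4 : (charDegree (χ₀ : G → ℂ) : ℂ) ≠ 0 := by exact_mod_cast hdegpos χ₀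
      push_cast
      field_simp
    rw [← h2] at h1
    have h5 := pow_dvd_of_memLocalIdeal_div hM hD h1
    refine (pow_dvd_pow (p : ℤ) ?_).trans h5
    rw [Nat.factorization_mul (hdegpos ψ) (hdegpos χ₀), Finsupp.add_apply, hχ₀m]
    have := hm ψ hψ
    omega
  -- K5
  set c2 : IrrCharacter G → ℤ := fun ψ =>
    if ψ ∈ B then (aa ψ * (charDegree (χ₀ : G → ℂ) : ℤ) - aa χ₀ * (charDegree (ψ : G → ℂ) : ℤ)) /
      (p : ℤ) ^ (2 * m + 1) else 0 with hc2
  have hc2mul : ∀ ψ : IrrCharacter G, (p : ℤ) ^ (2 * m + 1) * c2 ψ =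
      aa ψ * (charDegree (χ₀ : G → ℂ) : ℤ) -
        (if ψ ∈ B then aa χ₀ * (charDegree (ψ : G → ℂ) : ℤ) else 0) := by
    intro ψ
    simp only [hc2]
    split_ifs with hψ
    · exact Int.mul_ediv_cancel' (K3 ψ hψ)
    · rw [haa0 ψ hψ]; ring
  have hpc : ((p : ℂ) ^ (2 * m + 1)) ≠ 0 := pow_ne_zero _ (by exact_mod_cast hp.ne_zero)
  have hv2 : ∀ y : G, p ∣ orderOf y →
      ∑ ψ : IrrCharacter G, (c2 ψ : ℂ) * (ψ : G → ℂ) y = 0 := by
    intro y hy
    have h0 := sum_block_degree_mul_eq_zero hM hB y hy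
    have hy0 : pTilde p (χ₀ : G → ℂ) y = 0 := by
      unfold pTilde; rw [if_pos hy]
    have h1 : ((p : ℂ) ^ (2 * m + 1)) * ∑ ψ : IrrCharacter G, (c2 ψ : ℂ) * (ψ : G → ℂ) y = 0 := by
      rw [Finset.mul_sum]
      have h2 : ∀ ψ : IrrCharacter G, ((p : ℂ) ^ (2 * m + 1)) * ((c2 ψ : ℂ) * (ψ : G → ℂ) y) =
          (charDegree (χ₀ : G → ℂ) : ℂ) * ((aa ψ : ℂ) * (ψ : G → ℂ) y) -
            (aa χ₀ : ℂ) * (if ψ ∈ B then (charDegree (ψ : G → ℂ) : ℂ) * (ψ : G → ℂ) y else 0) := by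
        intro ψ
        have h3 := congrArg (Int.cast (R := ℂ)) (hc2mul ψ)
        push_cast at h3
        rw [← mul_assoc, h3]
        split_ifs <;> ring
      rw [Finset.sum_congr rfl (fun ψ _ => h2 ψ), Finset.sum_sub_distrib, ← Finset.mul_sum,
        ← Finset.mul_sum, ← hexp y, hy0, h0]
      ring
    rcases mul_eq_zero.mp h1 with h | h
    · exact absurd h hpc
    · exact h
  obtain ⟨n, hn⟩ := int_comb_degree_dvd_of_vanish p c2 hv2
  refine ⟨aa χ₀, hinner χ₀, K7, n, ?_⟩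
  have h6 : (p : ℤ) ^ (2 * m + 1) * ∑ ψ : IrrCharacter G, c2 ψ * (charDegree (ψ : G → ℂ) : ℤ) =
      (p : ℤ) ^ a * (charDegree (χ₀ : G → ℂ) : ℤ) ^ 2 - aa χ₀ * S := by
    rw [Finset.mul_sum]
    have h7 : ∀ ψ : IrrCharacter G,
        (p : ℤ) ^ (2 * m + 1) * (c2 ψ * (charDegree (ψ : G → ℂ) : ℤ)) =
          (charDegree (χ₀ : G → ℂ) : ℤ) * (aa ψ * (charDegree (ψ : G → ℂ) : ℤ)) -
            aa χ₀ * (if ψ ∈ B then (charDegree (ψ : G → ℂ) : ℤ) ^ 2 else 0) := by
      intro ψ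
      rw [← mul_assoc, hc2mul ψ]
      split_ifs <;> ring
    rw [Finset.sum_congr rfl (fun ψ _ => h7 ψ), Finset.sum_sub_distrib, ← Finset.mul_sum,
      ← Finset.mul_sum, K1]
    ring
  rw [← h6, hn]
  ring

open Classical in
/-- **Brauer**: the exact power of `p` dividing `∑_{χ ∈ B} χ(1)²` is `p^(a + m)`, where `m` is the
least `p`-adic valuation of a degree in `B`. -/
theorem block_sq_factorization [Fintype (IrrCharacter G)] {p : ℕ} [Fact p.Prime]
    {M : Ideal AlgInt} (hM : IsPModular p M) {B : Set (IrrCharacter G)} (hB : IsPBlock M B) :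
    (∑ᶠ χ ∈ B, charDegree (χ : G → ℂ) ^ 2).factorization p =
      (Nat.card G).factorization p +
        sInf ((fun χ : IrrCharacter G => (charDegree (χ : G → ℂ)).factorization p) '' B) := by
  have hp : p.Prime := Fact.out
  have hMp := isPModular_isPrime hM
  set T : Set ℕ := (fun χ : IrrCharacter G => (charDegree (χ : G → ℂ)).factorization p) '' B with hT
  have hTne : T.Nonempty := (IsPBlock_nonempty hMp.ne_top hB).image _
  set m := sInf T with hmdef
  obtain ⟨χ₀, hχ₀, hχ₀m'⟩ := Nat.sInf_mem hTne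
  have hχ₀m : (charDegree (χ₀ : G → ℂ)).factorization p = m := hχ₀m'
  have hm : ∀ ψ ∈ B, m ≤ (charDegree (ψ : G → ℂ)).factorization p := by
    intro ψ hψ
    exact Nat.sInf_le ⟨ψ, hψ, rfl⟩
  obtain ⟨part1, n0, _, hn0, n, hn⟩ := block_sq_core hM hB m hm χ₀ hχ₀ hχ₀m
  set a := (Nat.card G).factorization p with ha
  set SN : ℕ := ∑ᶠ χ ∈ B, charDegree (χ : G → ℂ) ^ 2 with hSN
  have hSNsum : SN = ∑ ψ : IrrCharacter G, if ψ ∈ B then charDegree (ψ : G → ℂ) ^ 2 else 0 := by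
    rw [hSN, finsum_mem_def, finsum_eq_sum_of_fintype]
    apply Finset.sum_congr rfl
    intro ψ _
    rw [Set.indicator_apply]
  have hcast : (SN : ℤ) =
      ∑ ψ : IrrCharacter G, if ψ ∈ B then (charDegree (ψ : G → ℂ) : ℤ) ^ 2 else 0 := by
    rw [hSNsum]
    push_cast
    apply Finset.sum_congr rfl
    intro ψ _
    split_ifs <;> simp
  rw [← hcast] at part1 hn
  have hdegpos : charDegree (χ₀ : G → ℂ) ≠ 0 :=
    (Cfsg.Agent.Lib.Helper79.irr_charDegree_pos χ₀).ne'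
  have hSN0 : SN ≠ 0 := by
    have h1 : charDegree (χ₀ : G → ℂ) ^ 2 ≤ SN := by
      rw [hSNsum]
      have := Finset.single_le_sum (f := fun ψ : IrrCharacter G =>
        if ψ ∈ B then charDegree (ψ : G → ℂ) ^ 2 else 0) (fun i _ => Nat.zero_le _)
        (Finset.mem_univ χ₀)
      simpa [hχ₀] using this
    have h2 : 0 < charDegree (χ₀ : G → ℂ) ^ 2 := pow_pos (Nat.pos_of_ne_zero hdegpos) 2
    omega
  have hdvd : p ^ (a + m) ∣ SN := by
    have := part1
    exact_mod_cast this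
  have hndvd : ¬ p ^ (a + m + 1) ∣ SN := by
    intro hcon
    have h1 : (p : ℤ) ^ (a + m + 1) ∣ (SN : ℤ) := by exact_mod_cast hcon
    have h2 : (p : ℤ) ^ (a + 2 * m + 1) ∣ n0 * (SN : ℤ) := by
      have : a + 2 * m + 1 = m + (a + m + 1) := by ring
      rw [this, pow_add]
      exact mul_dvd_mul hn0 h1
    have h3 : (p : ℤ) ^ (a + 2 * m + 1) ∣
        (p : ℤ) ^ a * (charDegree (χ₀ : G → ℂ) : ℤ) ^ 2 := by
      have h4 : (p : ℤ) ^ a * (charDegree (χ₀ : G → ℂ) : ℤ) ^ 2 =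
          n * (p : ℤ) ^ (a + 2 * m + 1) + n0 * (SN : ℤ) := by
        rw [← hn]; ring
      rw [h4]
      exact dvd_add (dvd_mul_left _ _) h2
    have h5 : (p : ℤ) ^ (2 * m + 1) ∣ (charDegree (χ₀ : G → ℂ) : ℤ) ^ 2 := by
      have h6 : a + 2 * m + 1 = a + (2 * m + 1) := by ring
      rw [h6, pow_add] at h3
      have hpa : (p : ℤ) ^ a ≠ 0 := pow_ne_zero _ (by exact_mod_cast hp.ne_zero)
      exact (mul_dvd_mul_iff_left hpa).mp h3
    have h7 : p ^ (2 * m + 1) ∣ charDegree (χ₀ : G → ℂ) ^ 2 := by exact_mod_cast h5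
    have h8 := (hp.pow_dvd_iff_le_factorization (pow_ne_zero 2 hdegpos)).mp h7
    rw [Nat.factorization_pow, Finsupp.smul_apply, hχ₀m, smul_eq_mul] at h8
    omega
  have h1 := (hp.pow_dvd_iff_le_factorization hSN0).mp hdvd
  have h2 : ¬ a + m + 1 ≤ SN.factorization p := fun h =>
    hndvd ((hp.pow_dvd_iff_le_factorization hSN0).mpr h)
  omega

open Classical in
/-- For `χ₀ ∈ B` of height zero (degree valuation `m` minimal in `B`), the integer `[χ̃₀, χ₀]` has
`p`-adic valuation exactly `m`. -/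
theorem pTilde_inner_self_exact [Fintype (IrrCharacter G)] {p : ℕ} [Fact p.Prime]
    {M : Ideal AlgInt} (hM : IsPModular p M) {B : Set (IrrCharacter G)} (hB : IsPBlock M B)
    (m : ℕ) (hm : ∀ ψ ∈ B, m ≤ (charDegree (ψ : G → ℂ)).factorization p)
    (χ₀ : IrrCharacter G) (hχ₀ : χ₀ ∈ B)
    (hχ₀m : (charDegree (χ₀ : G → ℂ)).factorization p = m) :
    ∃ n0 : ℤ, classInner (pTilde p (χ₀ : G → ℂ)) (χ₀ : G → ℂ) = (n0 : ℂ) ∧ (p : ℤ) ^ m ∣ n0 ∧
      ¬ (p : ℤ) ^ (m + 1) ∣ n0 := by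
  have hp : p.Prime := Fact.out
  obtain ⟨part1, n0, hn0eq, hn0, n, hn⟩ := block_sq_core hM hB m hm χ₀ hχ₀ hχ₀m
  refine ⟨n0, hn0eq, hn0, ?_⟩
  intro hcon
  set a := (Nat.card G).factorization p with ha
  set S : ℤ := ∑ ψ : IrrCharacter G, if ψ ∈ B then (charDegree (ψ : G → ℂ) : ℤ) ^ 2 else 0 with hS
  have hdegpos : charDegree (χ₀ : G → ℂ) ≠ 0 :=
    (Cfsg.Agent.Lib.Helper79.irr_charDegree_pos χ₀).ne'
  have h2 : (p : ℤ) ^ (a + 2 * m + 1) ∣ n0 * S := by
    have : a + 2 * m + 1 = (m + 1) + (a + m) := by ring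
    rw [this, pow_add]
    exact mul_dvd_mul hcon part1
  have h3 : (p : ℤ) ^ (a + 2 * m + 1) ∣
      (p : ℤ) ^ a * (charDegree (χ₀ : G → ℂ) : ℤ) ^ 2 := by
    have h4 : (p : ℤ) ^ a * (charDegree (χ₀ : G → ℂ) : ℤ) ^ 2 =
        n * (p : ℤ) ^ (a + 2 * m + 1) + n0 * S := by
      rw [← hn]; ring
    rw [h4]
    exact dvd_add (dvd_mul_left _ _) h2
  have h5 : (p : ℤ) ^ (2 * m + 1) ∣ (charDegree (χ₀ : G → ℂ) : ℤ) ^ 2 := by
    have h6 : a + 2 * m + 1 = a + (2 * m + 1) := by ring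
    rw [h6, pow_add] at h3
    have hpa : (p : ℤ) ^ a ≠ 0 := pow_ne_zero _ (by exact_mod_cast hp.ne_zero)
    exact (mul_dvd_mul_iff_left hpa).mp h3
  have h7 : p ^ (2 * m + 1) ∣ charDegree (χ₀ : G → ℂ) ^ 2 := by exact_mod_cast h5
  have h8 := (hp.pow_dvd_iff_le_factorization (pow_ne_zero 2 hdegpos)).mp h7
  rw [Nat.factorization_pow, Finsupp.smul_apply, hχ₀m, smul_eq_mul] at h8
  omega

end main

end Cfsg.Agent.Lib.Helper76
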