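import Mathlib
import Cfsg.Agent.Lib.Helper87.SL2Inv

set_option autoImplicit false

/-!
# S5289 module [DIAG0] (for helper70): a diagonal element from two transvection groups

`W` elementary abelian of order `p²`, `G ≤ Aut(W)`, `t ∈ G` a nontrivial `p`-element fixing
`y ≠ 1`, `α ∈ G` moving `⟨y⟩`.  Then some `τ ∈ G` normalises `⟨t⟩` and acts as
`w ↦ w² y^k` (it is `diag(1/2, 2)` in the basis `y, α y`).
-/

namespace Cfsg.Agent.Lib.Helper76.RkResDiag0

open Cfsg.Agent.Lib.Helper87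

variable {p : ℕ} [hp : Fact p.Prime] {W : Type*} [Group W]

omit hp in
/-- If `e ^ p = 1` and `p ∣ a - b` then `e ^ a = e ^ b`. -/
theorem zpow_eq_of_dvd {e : W} (he : e ^ p = 1) {a b : ℤ} (h : (p : ℤ) ∣ a - b) :
    e ^ a = e ^ b := by
  obtain ⟨k, hk⟩ := h
  have : a = b + p * k := by linarith
  rw [this, zpow_add, zpow_mul, zpow_natCast, he, one_zpow, mul_one]

/-- An automorphism fixing `e` has all its integer powers fixing `e`. -/
theorem zpow_apply_fixed (t : MulAut W) (e : W) (h : t e = e) (n : ℤ) : (t ^ n) e = e := by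
  have ht : t ∈ MulAction.stabilizer (MulAut W) e := by
    rw [MulAction.mem_stabilizer_iff, MulAut.smul_def, h]
  have := Subgroup.zpow_mem _ ht n
  rwa [MulAction.mem_stabilizer_iff, MulAut.smul_def] at this

/-- Powers of a transvection. -/
theorem zpow_apply_transv (t : MulAut W) (e f : W) (c : ℤ)
    (hte : t e = e) (htf : t f = f * e ^ c) (n : ℤ) : (t ^ n) f = f * e ^ (n * c) := by
  have hinv : t⁻¹ f = f * e ^ (-c) := by
    have h1 : t (f * e ^ (-c)) = f := by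
      rw [map_mul, map_zpow, hte, htf, mul_assoc, ← zpow_add, add_neg_cancel, zpow_zero, mul_one]
    have h2 := congrArg (fun x => t⁻¹ x) h1
    simp only [MulAut.inv_apply_self] at h2
    exact h2.symm
  induction n using Int.induction_on with
  | zero => simp
  | succ i ih =>
    rw [zpow_add_one, MulAut.mul_apply, htf, map_mul, ih, map_zpow,
      zpow_apply_fixed t e hte, mul_assoc, ← zpow_add]
    congr 2
    ring
  | pred i ih =>
    rw [zpow_sub_one, MulAut.mul_apply, hinv, map_mul, ih, map_zpow,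
      zpow_apply_fixed t e hte, mul_assoc, ← zpow_add]
    congr 2
    ring

section Gen

variable [Finite W]

/-- `W` of order `p²` is generated by `e1 ≠ 1` and `e2 ∉ ⟨e1⟩`. -/
theorem exists_zpow_mul_zpow (hWc : ∀ a b : W, a * b = b * a) (hWe : ∀ a : W, a ^ p = 1)
    (hcard : Nat.card W = p ^ 2) (e1 e2 : W) (h1 : e1 ≠ 1) (h2 : e2 ∉ Subgroup.zpowers e1) :
    ∀ w : W, ∃ i j : ℤ, w = e1 ^ i * e2 ^ j := by
  have hpp : p.Prime := hp.out
  let K : Subgroup W :=
    { carrier := {w | ∃ i j : ℤ, w = e1 ^ i * e2 ^ j}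
      mul_mem' := by
        rintro _ _ ⟨i, j, rfl⟩ ⟨k, l, rfl⟩
        refine ⟨i + k, j + l, ?_⟩
        rw [zpow_add, zpow_add, mul_assoc, mul_assoc, ← mul_assoc (e2 ^ j), hWc (e2 ^ j) (e1 ^ k),
          mul_assoc]
      one_mem' := ⟨0, 0, by simp⟩
      inv_mem' := by
        rintro _ ⟨i, j, rfl⟩
        refine ⟨-i, -j, ?_⟩
        rw [mul_inv_rev, zpow_neg, zpow_neg, hWc] }
  have hK : ∀ w, w ∈ K ↔ ∃ i j : ℤ, w = e1 ^ i * e2 ^ j := fun w => Iff.rfl
  have hle : Subgroup.zpowers e1 ≤ K := by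
    rw [Subgroup.zpowers_le]
    exact ⟨1, 0, by simp⟩
  have he2K : e2 ∈ K := ⟨0, 1, by simp⟩
  have hc1 : Nat.card (Subgroup.zpowers e1) = p := by
    rw [Nat.card_zpowers]
    exact orderOf_eq_prime (hWe e1) h1
  have hKtop : K = ⊤ := by
    have hdvd : Nat.card K ∣ p ^ 2 := hcard ▸ Subgroup.card_subgroup_dvd_card K
    obtain ⟨k, hk2, hk⟩ := (Nat.dvd_prime_pow hpp).1 hdvd
    have hdvd1 : p ∣ Nat.card K := hc1 ▸ Subgroup.card_dvd_of_le hle
    have hne : Nat.card K ≠ p := by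
      intro h
      have := Subgroup.eq_of_le_of_card_ge hle (by rw [h, hc1])
      exact h2 (this ▸ he2K)
    have hk' : k = 2 := by
      interval_cases k
      · rw [hk, pow_zero] at hdvd1
        exact absurd (Nat.le_of_dvd one_pos hdvd1) (not_le.2 hpp.one_lt)
      · rw [pow_one] at hk
        exact absurd hk hne
      · rfl
    apply Subgroup.eq_top_of_card_eq
    rw [hk, hk', hcard]
  intro w
  exact (hK w).1 (hKtop ▸ Subgroup.mem_top w)

/-- A nontrivial `p`-element of `Aut(W)` fixing `f ≠ 1` is a transvection: `s h = h f^c`, `p ∤ c`. -/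
theorem transvection_form (hWc : ∀ a b : W, a * b = b * a) (hWe : ∀ a : W, a ^ p = 1)
    (hcard : Nat.card W = p ^ 2) (s : MulAut W) (a : ℕ) (hs : s ^ p ^ a = 1) (hs1 : s ≠ 1)
    (f h : W) (hf1 : f ≠ 1) (hsf : s f = f) (hh : h ∉ Subgroup.zpowers f) :
    ∃ c : ℤ, ¬ (p : ℤ) ∣ c ∧ s h = h * f ^ c := by
  have hpp : p.Prime := hp.out
  set H : Subgroup W := Subgroup.zpowers f with hH
  have hHN : H.Normal := ⟨fun n hn g => by
    have : g * n * g⁻¹ = n := by rw [hWc g n, mul_assoc, mul_inv_cancel, mul_one]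
    rw [this]; exact hn⟩
  have hcH : Nat.card H = p := by
    rw [hH, Nat.card_zpowers]
    exact orderOf_eq_prime (hWe f) hf1
  have hidx : H.index = p := by
    have h1 := Subgroup.card_mul_index H
    rw [hcH, hcard, sq] at h1
    exact Nat.eq_of_mul_eq_mul_left hpp.pos h1
  have hcomap : H ≤ H.comap s.toMonoidHom := by
    intro z hz
    obtain ⟨i, rfl⟩ := Subgroup.mem_zpowers_iff.1 hz
    show s (f ^ i) ∈ H
    rw [map_zpow, hsf]
    exact Subgroup.zpow_mem_zpowers f i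
  let σ : W ⧸ H →* W ⧸ H := QuotientGroup.map H H s.toMonoidHom hcomap
  have hσ : ∀ (n : ℕ) (y : W), (σ^[n]) (QuotientGroup.mk y) = QuotientGroup.mk ((s ^ n) y) := by
    intro n
    induction n with
    | zero => intro y; simp
    | succ n ih =>
      intro y
      rw [Function.iterate_succ_apply', ih, pow_succ', MulAut.mul_apply]
      rfl
  have hcq : Nat.card (W ⧸ H) = p := by rw [← Subgroup.index_eq_card, hidx]
  have hfix := map_eq_self_of_card_prime hcq σ a (fun x => by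
    obtain ⟨y', rfl⟩ := QuotientGroup.mk_surjective x
    rw [hσ, hs]; rfl) (QuotientGroup.mk h)
  have h2 : (QuotientGroup.mk (s h) : W ⧸ H) = QuotientGroup.mk h := hfix
  rw [QuotientGroup.eq] at h2
  have h3 : h⁻¹ * s h ∈ H := by
    have : h⁻¹ * s h = ((s h)⁻¹ * h)⁻¹ := by group
    rw [this]
    exact H.inv_mem h2
  obtain ⟨c, hc⟩ := Subgroup.mem_zpowers_iff.1 h3
  refine ⟨c, ?_, ?_⟩
  · intro hdvd
    apply hs1
    have hfc : f ^ c = 1 := by
      have := zpow_eq_of_dvd (hWe f) (a := c) (b := 0) (by simpa using hdvd)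
      rwa [zpow_zero] at this
    have hsh : s h = h := by
      rw [hfc] at hc
      have : s h = h * (h⁻¹ * s h) := by group
      rw [this, ← hc, mul_one]
    ext w
    obtain ⟨i, j, rfl⟩ := exists_zpow_mul_zpow hWc hWe hcard f h hf1 hh w
    rw [map_mul, map_zpow, map_zpow, hsf, hsh]
    rfl
  · rw [hc]; group

end Gen

section Comm

theorem sq_mul_zpow_aux {V : Type*} [CommGroup V] (a b : V) (i j k : ℤ) :
    (a ^ i * b ^ j) ^ 2 * a ^ k = a ^ (2 * i + k) * b ^ (2 * j) := by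
  rw [mul_pow, ← zpow_natCast (a ^ i), ← zpow_natCast (b ^ j), ← zpow_mul, ← zpow_mul,
    mul_right_comm, ← zpow_add]
  congr 2 <;> push_cast <;> ring

variable {V : Type*} [CommGroup V] [Finite V]

/-- The main computation, for a `CommGroup`. -/
theorem exists_diag_bot_comm (hp2 : p ≠ 2) (hWe : ∀ a : V, a ^ p = 1)
    (hcard : Nat.card V = p ^ 2)
    (G : Subgroup (MulAut V)) (t : MulAut V) (ht : t ∈ G) (a : ℕ) (hta : t ^ p ^ a = 1)
    (ht1 : t ≠ 1) (y : V) (hy1 : y ≠ 1) (hty : t y = y)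
    (α : MulAut V) (hα : α ∈ G) (hαy : α y ∉ Subgroup.zpowers y) :
    ∃ τ ∈ G, τ * t * τ⁻¹ ∈ Subgroup.zpowers t ∧ ∀ w : V, ∃ k : ℤ, τ w = w ^ 2 * y ^ k := by
  classical
  have hpp : p.Prime := hp.out
  have hWc : ∀ a b : V, a * b = b * a := mul_comm
  have hgen := exists_zpow_mul_zpow hWc hWe hcard y (α y) hy1 hαy
  have he2ne : α y ≠ 1 := fun h => hαy (h ▸ Subgroup.one_mem _)
  have he1not : y ∉ Subgroup.zpowers (α y) := by
    intro hmem
    have hle : Subgroup.zpowers y ≤ Subgroup.zpowers (α y) := by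
      rw [Subgroup.zpowers_le]; exact hmem
    have hc1 : Nat.card (Subgroup.zpowers y) = p := by
      rw [Nat.card_zpowers]; exact orderOf_eq_prime (hWe y) hy1
    have hc2 : Nat.card (Subgroup.zpowers (α y)) = p := by
      rw [Nat.card_zpowers]; exact orderOf_eq_prime (hWe (α y)) he2ne
    have := Subgroup.eq_of_le_of_card_ge hle (by rw [hc1, hc2])
    exact hαy (this ▸ Subgroup.mem_zpowers (α y))
  -- the second transvection
  set t' : MulAut V := α * t * α⁻¹ with ht'def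
  have ht'G : t' ∈ G := G.mul_mem (G.mul_mem hα ht) (G.inv_mem hα)
  have ht'e2 : t' (α y) = α y := by
    rw [ht'def, MulAut.mul_apply, MulAut.mul_apply, MulAut.inv_apply_self, hty]
  have ht'a : t' ^ p ^ a = 1 := by rw [ht'def, conj_pow, hta, mul_one, mul_inv_cancel]
  have ht'1 : t' ≠ 1 := by
    intro h
    apply ht1
    have : t = α⁻¹ * t' * α := by rw [ht'def]; group
    rw [this, h]; group
  obtain ⟨a0, ha0, hta0⟩ := transvection_form hWc hWe hcard t a hta ht1 y (α y) hy1 hty hαy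
  obtain ⟨b0, hb0, htb0⟩ :=
    transvection_form hWc hWe hcard t' a ht'a ht'1 (α y) y he2ne ht'e2 he1not
  -- inverses mod `p`
  have hprime : Prime (p : ℤ) := Nat.prime_iff_prime_int.1 hpp
  obtain ⟨u, m, hm⟩ := (hprime.irreducible.coprime_iff_not_dvd).2 ha0
  obtain ⟨u', m', hm'⟩ := (hprime.irreducible.coprime_iff_not_dvd).2 hb0
  set A : MulAut V := t ^ m with hAdef
  set B : MulAut V := t' ^ m' with hBdef
  have hAG : A ∈ G := G.zpow_mem ht m
  have hBG : B ∈ G := G.zpow_mem ht'G m'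
  have hAe1 : A y = y := zpow_apply_fixed t y hty m
  have hBe2 : B (α y) = α y := zpow_apply_fixed t' (α y) ht'e2 m'
  have hAe2 : A (α y) = α y * y ^ (1 : ℤ) := by
    rw [hAdef, zpow_apply_transv t y (α y) a0 hty hta0 m]
    congr 1
    exact zpow_eq_of_dvd (hWe y) ⟨-u, by linarith⟩
  have hBe1 : B y = y * (α y) ^ (1 : ℤ) := by
    rw [hBdef, zpow_apply_transv t' (α y) y b0 ht'e2 htb0 m']
    congr 1
    exact zpow_eq_of_dvd (hWe (α y)) ⟨-u', by linarith⟩
  -- action on coordinates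
  have hA : ∀ n i j : ℤ, (A ^ n) (y ^ i * (α y) ^ j) = y ^ (i + n * j) * (α y) ^ j := by
    intro n i j
    rw [map_mul, map_zpow, map_zpow, zpow_apply_fixed A y hAe1 n,
      zpow_apply_transv A y (α y) 1 hAe1 hAe2 n, mul_one, mul_zpow, ← zpow_mul,
      mul_comm ((α y) ^ j), ← mul_assoc, ← zpow_add]
  have hB : ∀ n i j : ℤ, (B ^ n) (y ^ i * (α y) ^ j) = y ^ i * (α y) ^ (j + n * i) := by
    intro n i j
    rw [map_mul, map_zpow, map_zpow, zpow_apply_fixed B (α y) hBe2 n,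
      zpow_apply_transv B (α y) y 1 hBe2 hBe1 n, mul_one, mul_zpow, ← zpow_mul,
      mul_assoc, ← zpow_add, add_comm]
  have hT : ∀ n i j : ℤ, (t ^ n) (y ^ i * (α y) ^ j) = y ^ (i + n * a0 * j) * (α y) ^ j := by
    intro n i j
    rw [map_mul, map_zpow, map_zpow, zpow_apply_fixed t y hty n,
      zpow_apply_transv t y (α y) a0 hty hta0 n, mul_zpow, ← zpow_mul,
      mul_comm ((α y) ^ j), ← mul_assoc, ← zpow_add]
  -- `s = (p + 1) / 2`
  obtain ⟨s, hs⟩ : ∃ s : ℤ, (p : ℤ) = 2 * s - 1 := by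
    rcases Nat.Prime.eq_two_or_odd' hpp with h | h
    · exact absurd h hp2
    · obtain ⟨n, hn⟩ := h
      exact ⟨n + 1, by rw [hn]; push_cast; ring⟩
  obtain ⟨τ, hτdef⟩ : ∃ τ : MulAut V,
      τ = A ^ s * B ^ (-2 : ℤ) * A ^ s * A ^ (-1 : ℤ) * B ^ (1 : ℤ) * A ^ (-1 : ℤ) := ⟨_, rfl⟩
  have hτG : τ ∈ G := hτdef ▸
    G.mul_mem (G.mul_mem (G.mul_mem (G.mul_mem (G.mul_mem (G.zpow_mem hAG _) (G.zpow_mem hBG _))
      (G.zpow_mem hAG _)) (G.zpow_mem hAG _)) (G.zpow_mem hBG _)) (G.zpow_mem hAG _)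
  have hτ : ∀ i j : ℤ, τ (y ^ i * (α y) ^ j) =
      y ^ (-j + 2 * s * i + 2 * s * j - 2 * s ^ 2 * i) * (α y) ^ (i + 2 * j - 2 * s * i) := by
    intro i j
    rw [hτdef]
    simp only [MulAut.mul_apply]
    rw [hA, hB, hA, hA, hB, hA]
    congr 2 <;> ring
  -- congruence of coordinates
  have hcong : ∀ i j i' j' : ℤ, (p : ℤ) ∣ i - i' → (p : ℤ) ∣ j - j' →
      y ^ i * (α y) ^ j = y ^ i' * (α y) ^ j' := by
    intro i j i' j' h1 h2
    rw [zpow_eq_of_dvd (hWe y) h1, zpow_eq_of_dvd (hWe (α y)) h2]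
  refine ⟨τ, hτG, ?_, ?_⟩
  · -- `τ t τ⁻¹ = t ^ (s²)`
    have hcomm : τ * t = t ^ (s ^ 2) * τ := by
      ext w
      obtain ⟨i, j, rfl⟩ := hgen w
      rw [MulAut.mul_apply, MulAut.mul_apply, hτ]
      have ht1' : t (y ^ i * (α y) ^ j) = y ^ (i + 1 * a0 * j) * (α y) ^ j := by
        have := hT 1 i j
        rwa [zpow_one] at this
      rw [ht1', hτ, hT]
      apply hcong
      · rw [hs]
        exact ⟨-(2 * s * a0 * j - s ^ 2 * a0 * i), by ring⟩
      · rw [hs]
        exact ⟨-(a0 * j), by ring⟩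
    have : τ * t * τ⁻¹ = t ^ (s ^ 2) := by rw [hcomm]; group
    rw [this]
    exact Subgroup.zpow_mem_zpowers t _
  · intro w
    obtain ⟨i, j, rfl⟩ := hgen w
    refine ⟨(-j + 2 * s * i + 2 * s * j - 2 * s ^ 2 * i) - 2 * i, ?_⟩
    rw [hτ]
    have h2 : (α y) ^ (i + 2 * j - 2 * s * i) = (α y) ^ (2 * j) := by
      apply zpow_eq_of_dvd (hWe (α y))
      rw [hs]
      exact ⟨-i, by ring⟩
    rw [h2, sq_mul_zpow_aux]
    congr 2
    ring

end Comm

/-- **[DIAG0]** (exact statement of `Lib/Helper70/RkRes/Diag0.lean`). -/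
theorem exists_diag_bot [Finite W] (hp2 : p ≠ 2)
    (hWc : ∀ a b : W, a * b = b * a) (hWe : ∀ a : W, a ^ p = 1) (hcard : Nat.card W = p ^ 2)
    (G : Subgroup (MulAut W)) (t : MulAut W) (ht : t ∈ G) (a : ℕ) (hta : t ^ p ^ a = 1)
    (ht1 : t ≠ 1) (y : W) (hy1 : y ≠ 1) (hty : t y = y)
    (α : MulAut W) (hα : α ∈ G) (hαy : α y ∉ Subgroup.zpowers y) :
    ∃ τ ∈ G, τ * t * τ⁻¹ ∈ Subgroup.zpowers t ∧ ∀ w : W, ∃ k : ℤ, τ w = w ^ 2 * y ^ k := by
  letI : CommGroup W := { (inferInstance : Group W) with mul_comm := hWc }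
  exact exists_diag_bot_comm hp2 hWe hcard G t ht a hta ht1 y hy1 hty α hα hαy

end Cfsg.Agent.Lib.Helper76.RkResDiag0
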