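import Mathlib
import Cfsg.Agent.Lib.Helper76.RkResDiag0

set_option autoImplicit false

/-!
# S5289 module [DIAGQ] (for helper70): the diagonal element on a quotient `R / Z ≅ Z_p × Z_p`

Reduction to [DIAG0] on `W := R ⧸ Z`.
-/

namespace Cfsg.Agent.Lib.Helper76.RkResDiagQ

open Cfsg.Agent.Lib.Helper76.RkResDiag0

variable {p : ℕ} [hp : Fact p.Prime]

theorem exists_diag_quot {R : Type*} [Group R] [Finite R] (hp2 : p ≠ 2)
    (G : Subgroup (MulAut R)) (Z : Subgroup R)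
    (hZG : ∀ α ∈ G, ∀ w ∈ Z, α w ∈ Z)
    (hcomm : ∀ r s : R, r * s * r⁻¹ * s⁻¹ ∈ Z)
    (hexp : ∀ r : R, r ^ p ∈ Z)
    (hidx : Nat.card R = p ^ 2 * Nat.card Z)
    (t : MulAut R) (ht : t ∈ G) (a : ℕ) (hta : t ^ p ^ a = 1)
    (ht1 : ∃ r : R, r⁻¹ * t r ∉ Z)
    (y : R) (hyZ : y ∉ Z) (hty : y⁻¹ * t y ∈ Z)
    (α : MulAut R) (hα : α ∈ G) (hαy : ∀ k : ℤ, (y ^ k)⁻¹ * α y ∉ Z) :
    ∃ τ ∈ G, (∃ k : ℕ, ∀ r : R, ((t ^ k) r)⁻¹ * (τ * t * τ⁻¹) r ∈ Z) ∧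
      ∀ r : R, ∃ k : ℤ, (r ^ 2 * y ^ k)⁻¹ * τ r ∈ Z := by
  classical
  have hpp : p.Prime := hp.out
  -- `Z` is normal
  have hZN : Z.Normal := ⟨fun n hn g => by
    have : g * n * g⁻¹ = (g * n * g⁻¹ * n⁻¹) * n := by group
    rw [this]
    exact Z.mul_mem (hcomm g n) hn⟩
  -- the quotient
  have hWc : ∀ u v : R ⧸ Z, u * v = v * u := by
    intro u v
    obtain ⟨r, rfl⟩ := QuotientGroup.mk_surjective u
    obtain ⟨s, rfl⟩ := QuotientGroup.mk_surjective v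
    rw [← QuotientGroup.mk_mul, ← QuotientGroup.mk_mul, eq_comm, QuotientGroup.eq]
    have := hcomm r⁻¹ s⁻¹
    have e : (s * r)⁻¹ * (r * s) = r⁻¹ * s⁻¹ * r⁻¹⁻¹ * s⁻¹⁻¹ := by group
    rw [e]
    exact this
  have hWe : ∀ u : R ⧸ Z, u ^ p = 1 := by
    intro u
    obtain ⟨r, rfl⟩ := QuotientGroup.mk_surjective u
    rw [← QuotientGroup.mk_pow]
    exact (QuotientGroup.eq_one_iff _).2 (hexp r)
  have hWcard : Nat.card (R ⧸ Z) = p ^ 2 := by
    have h1 := Subgroup.card_eq_card_quotient_mul_card_subgroup Z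
    rw [hidx] at h1
    exact (Nat.eq_of_mul_eq_mul_right Nat.card_pos h1).symm
  -- the induced automorphisms
  have hmapZ : ∀ β ∈ G, Subgroup.map (β : R →* R) Z = Z := by
    intro β hβ
    apply le_antisymm
    · rintro _ ⟨w, hw, rfl⟩
      exact hZG β hβ w hw
    · intro w hw
      refine ⟨β⁻¹ w, hZG β⁻¹ (G.inv_mem hβ) w hw, ?_⟩
      show β (β⁻¹ w) = w
      exact MulAut.apply_inv_self R β w
  let Gbar : Subgroup (MulAut (R ⧸ Z)) :=
    { carrier := {σ | ∃ β ∈ G, ∀ r : R, σ (QuotientGroup.mk r) = QuotientGroup.mk (β r)}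
      mul_mem' := by
        rintro σ₁ σ₂ ⟨β₁, hβ₁, h₁⟩ ⟨β₂, hβ₂, h₂⟩
        refine ⟨β₁ * β₂, G.mul_mem hβ₁ hβ₂, fun r => ?_⟩
        rw [MulAut.mul_apply, h₂, h₁, MulAut.mul_apply]
      one_mem' := ⟨1, G.one_mem, fun r => rfl⟩
      inv_mem' := by
        rintro σ ⟨β, hβ, h⟩
        refine ⟨β⁻¹, G.inv_mem hβ, fun r => ?_⟩
        have h1 : σ (QuotientGroup.mk (β⁻¹ r)) = QuotientGroup.mk r := by
          rw [h, MulAut.apply_inv_self]
        have h2 := congrArg (fun x => σ⁻¹ x) h1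
        simp only [MulAut.inv_apply_self] at h2
        exact h2.symm }
  have hGbar : ∀ σ, σ ∈ Gbar ↔
      ∃ β ∈ G, ∀ r : R, σ (QuotientGroup.mk r) = QuotientGroup.mk (β r) := fun σ => Iff.rfl
  have hbar : ∀ β ∈ G, ∃ σ ∈ Gbar, ∀ r : R, σ (QuotientGroup.mk r) = QuotientGroup.mk (β r) := by
    intro β hβ
    refine ⟨QuotientGroup.congr Z Z β (hmapZ β hβ), ⟨β, hβ, fun r => ?_⟩, fun r => ?_⟩ <;>
    exact QuotientGroup.congr_mk Z Z β (hmapZ β hβ) r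
  obtain ⟨tb, htbG, htb⟩ := hbar t ht
  obtain ⟨αb, hαbG, hαb⟩ := hbar α hα
  -- powers of `tb`
  have htbpow : ∀ (n : ℕ) (r : R), (tb ^ n) (QuotientGroup.mk r) = QuotientGroup.mk ((t ^ n) r) := by
    intro n
    induction n with
    | zero => intro r; rfl
    | succ n ih =>
      intro r
      rw [pow_succ, MulAut.mul_apply, htb, ih, pow_succ, MulAut.mul_apply]
  have htba : tb ^ p ^ a = 1 := by
    ext u
    obtain ⟨r, rfl⟩ := QuotientGroup.mk_surjective u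
    rw [htbpow, hta]
    rfl
  have htb1 : tb ≠ 1 := by
    intro h
    obtain ⟨r, hr⟩ := ht1
    apply hr
    have h1 : tb (QuotientGroup.mk r) = QuotientGroup.mk r := by rw [h]; rfl
    rw [htb] at h1
    exact QuotientGroup.eq.1 h1.symm
  have hyb1 : (QuotientGroup.mk y : R ⧸ Z) ≠ 1 := by
    intro h
    exact hyZ ((QuotientGroup.eq_one_iff _).1 h)
  have htby : tb (QuotientGroup.mk y) = QuotientGroup.mk y := by
    rw [htb, eq_comm, QuotientGroup.eq]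
    exact hty
  have hαby : αb (QuotientGroup.mk y) ∉ Subgroup.zpowers (QuotientGroup.mk y : R ⧸ Z) := by
    intro hmem
    obtain ⟨k, hk⟩ := Subgroup.mem_zpowers_iff.1 hmem
    rw [hαb, ← QuotientGroup.mk_zpow, QuotientGroup.eq] at hk
    exact hαy k hk
  obtain ⟨τb, hτbG, hτbt, hτbw⟩ := exists_diag_bot hp2 hWc hWe hWcard Gbar tb htbG a htba htb1
    (QuotientGroup.mk y) hyb1 htby αb hαbG hαby
  obtain ⟨τ, hτG, hτ⟩ := (hGbar τb).1 hτbG
  have hτinv : ∀ r : R, τb⁻¹ (QuotientGroup.mk r) = QuotientGroup.mk (τ⁻¹ r) := by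
    intro r
    have h1 : τb (QuotientGroup.mk (τ⁻¹ r)) = QuotientGroup.mk r := by
      rw [hτ, MulAut.apply_inv_self]
    have h2 := congrArg (fun x => τb⁻¹ x) h1
    simp only [MulAut.inv_apply_self] at h2
    exact h2.symm
  refine ⟨τ, hτG, ?_, ?_⟩
  · obtain ⟨j, hj⟩ := Subgroup.mem_zpowers_iff.1 hτbt
    have hj' : tb ^ j = tb ^ (j % ((p ^ a : ℕ) : ℤ)) := zpow_eq_zpow_emod' j htba
    have hnn : 0 ≤ j % ((p ^ a : ℕ) : ℤ) :=
      Int.emod_nonneg _ (by exact_mod_cast (pow_pos hpp.pos a).ne')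
    refine ⟨(j % ((p ^ a : ℕ) : ℤ)).toNat, fun r => ?_⟩
    rw [← QuotientGroup.eq, ← htbpow, ← zpow_natCast, Int.toNat_of_nonneg hnn, ← hj', hj,
      MulAut.mul_apply, MulAut.mul_apply, MulAut.mul_apply, MulAut.mul_apply, hτinv, htb, hτ]
  · intro r
    obtain ⟨k, hk⟩ := hτbw (QuotientGroup.mk r)
    refine ⟨k, ?_⟩
    rw [← QuotientGroup.eq, QuotientGroup.mk_mul, QuotientGroup.mk_pow, QuotientGroup.mk_zpow,
      ← hk, hτ]

end Cfsg.Agent.Lib.Helper76.RkResDiagQ
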