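/-
helper76: PROJECT ASCH (helper99, S5630), module [BIN]: two commuting subgroups `Q`, `Q'` of `GL_n(F)` whose join is
absolutely irreducible are in tensor normal form `Q = W ⊗ 1`, `Q' = 1 ⊗ W'` simultaneously.

This file: the part that needs no other ASCH module (everything after the tensor normal form of `Q` is known).
-/
import Mathlib
import Cfsg.Prelude.Def_GeometricClasses
import Cfsg.Agent.Lib.Helper99.AschDefs

set_option autoImplicit false
set_option linter.unusedSectionVars false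

namespace Cfsg.Agent.Lib.Helper76.AschBin

open Cfsg Cfsg.Geo Cfsg.Agent.Lib.Helper99.Asch
open scoped MatrixGroups Matrix Kronecker

/-! ### subgroups attached to a matrix representation -/

section general

variable {G : Type*} [Group G] {κ : Type} [Fintype κ] [DecidableEq κ] {F : Type*} [Field F]

/-- the elements `g` with `M * T g = T g * M` -/
def commSub (T : G →* Matrix κ κ F) (M : Matrix κ κ F) : Subgroup G where
  carrier := {g | M * T g = T g * M}
  one_mem' := by simp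
  mul_mem' := by
    intro a b ha hb
    show M * T (a * b) = T (a * b) * M
    have ha' : M * T a = T a * M := ha
    have hb' : M * T b = T b * M := hb
    rw [map_mul, ← mul_assoc, ha', mul_assoc, hb', mul_assoc]
  inv_mem' := by
    intro a ha
    show M * T a⁻¹ = T a⁻¹ * M
    have ha' : M * T a = T a * M := ha
    have h1 : T a⁻¹ * T a = 1 := by rw [← map_mul, inv_mul_cancel, map_one]
    have h2 : T a * T a⁻¹ = 1 := by rw [← map_mul, mul_inv_cancel, map_one]
    calc M * T a⁻¹ = T a⁻¹ * T a * (M * T a⁻¹) := by rw [h1, one_mul]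
      _ = T a⁻¹ * (T a * M) * T a⁻¹ := by simp only [mul_assoc]
      _ = T a⁻¹ * (M * T a) * T a⁻¹ := by rw [ha']
      _ = T a⁻¹ * M * (T a * T a⁻¹) := by simp only [mul_assoc]
      _ = T a⁻¹ * M := by rw [h2, mul_one]

theorem mem_commSub {T : G →* Matrix κ κ F} {M : Matrix κ κ F} {g : G} :
    g ∈ commSub T M ↔ M * T g = T g * M := Iff.rfl

/-- the elements `g` with `T g W = W` -/
def stabSub (T : G →* Matrix κ κ F) (W : Submodule F (κ → F)) : Subgroup G where
  carrier := {g | W.map (Matrix.toLin' (T g)) = W}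
  one_mem' := by
    show W.map (Matrix.toLin' (T 1)) = W
    rw [map_one, Matrix.toLin'_one, Submodule.map_id]
  mul_mem' := by
    intro a b ha hb
    show W.map (Matrix.toLin' (T (a * b))) = W
    have ha' : W.map (Matrix.toLin' (T a)) = W := ha
    have hb' : W.map (Matrix.toLin' (T b)) = W := hb
    rw [map_mul, Matrix.toLin'_mul, Submodule.map_comp, hb', ha']
  inv_mem' := by
    intro a ha
    show W.map (Matrix.toLin' (T a⁻¹)) = W
    have ha' : W.map (Matrix.toLin' (T a)) = W := ha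
    conv_lhs => rw [← ha']
    rw [← Submodule.map_comp, ← Matrix.toLin'_mul, ← map_mul, inv_mul_cancel, map_one,
      Matrix.toLin'_one, Submodule.map_id]

theorem mem_stabSub {T : G →* Matrix κ κ F} {W : Submodule F (κ → F)} {g : G} :
    g ∈ stabSub T W ↔ W.map (Matrix.toLin' (T g)) = W := Iff.rfl

theorem mem_stabSub_of_le (T : G →* Matrix κ κ F) (W : Submodule F (κ → F)) (g : G)
    (h : W.map (Matrix.toLin' (T g)) ≤ W) : g ∈ stabSub T W := by
  rw [mem_stabSub]
  have hinj : Function.Injective (Matrix.toLin' (T g)) := by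
    have hcomp : (Matrix.toLin' (T g⁻¹)).comp (Matrix.toLin' (T g)) = LinearMap.id := by
      rw [← Matrix.toLin'_mul, ← map_mul, inv_mul_cancel, map_one, Matrix.toLin'_one]
    intro u v huv
    have := congrArg (Matrix.toLin' (T g⁻¹)) huv
    rw [← LinearMap.comp_apply, ← LinearMap.comp_apply, hcomp] at this
    exact this
  apply Submodule.eq_of_le_of_finrank_eq h
  exact (LinearEquiv.finrank_eq (Submodule.equivMapOfInjective _ hinj W)).symm

end general

/-! ### conjugation + reindexing as an algebra equivalence, and transport of absolute irreducibility -/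

section transport

variable {ι κ : Type} [Fintype ι] [DecidableEq ι] [Fintype κ] [DecidableEq κ] {F : Type*} [Field F]

/-- conjugation by an invertible matrix as an algebra automorphism -/
def conjAlg (B : GL ι F) : Matrix ι ι F ≃ₐ[F] Matrix ι ι F where
  toFun M := (B : Matrix ι ι F) * M * ((B⁻¹ : GL ι F) : Matrix ι ι F)
  invFun M := ((B⁻¹ : GL ι F) : Matrix ι ι F) * M * (B : Matrix ι ι F)
  left_inv M := by
    show ((B⁻¹ : GL ι F) : Matrix ι ι F) * ((B : Matrix ι ι F) * M * ((B⁻¹ : GL ι F) : Matrix ι ι F))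
      * (B : Matrix ι ι F) = M
    have h1 : ((B⁻¹ : GL ι F) : Matrix ι ι F) * (B : Matrix ι ι F) = 1 := Units.inv_mul B
    calc ((B⁻¹ : GL ι F) : Matrix ι ι F) * ((B : Matrix ι ι F) * M * ((B⁻¹ : GL ι F) : Matrix ι ι F))
          * (B : Matrix ι ι F)
        = (((B⁻¹ : GL ι F) : Matrix ι ι F) * (B : Matrix ι ι F)) * M *
          (((B⁻¹ : GL ι F) : Matrix ι ι F) * (B : Matrix ι ι F)) := by simp only [mul_assoc]
      _ = M := by rw [h1, one_mul, mul_one]
  right_inv M := by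
    show (B : Matrix ι ι F) * (((B⁻¹ : GL ι F) : Matrix ι ι F) * M * (B : Matrix ι ι F)) *
      ((B⁻¹ : GL ι F) : Matrix ι ι F) = M
    have h1 : (B : Matrix ι ι F) * ((B⁻¹ : GL ι F) : Matrix ι ι F) = 1 := Units.mul_inv B
    calc (B : Matrix ι ι F) * (((B⁻¹ : GL ι F) : Matrix ι ι F) * M * (B : Matrix ι ι F)) *
          ((B⁻¹ : GL ι F) : Matrix ι ι F)
        = ((B : Matrix ι ι F) * ((B⁻¹ : GL ι F) : Matrix ι ι F)) * M *
          ((B : Matrix ι ι F) * ((B⁻¹ : GL ι F) : Matrix ι ι F)) := by simp only [mul_assoc]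
      _ = M := by rw [h1, one_mul, mul_one]
  map_mul' M N := by
    show (B : Matrix ι ι F) * (M * N) * ((B⁻¹ : GL ι F) : Matrix ι ι F) =
      (B : Matrix ι ι F) * M * ((B⁻¹ : GL ι F) : Matrix ι ι F) *
        ((B : Matrix ι ι F) * N * ((B⁻¹ : GL ι F) : Matrix ι ι F))
    have h1 : ((B⁻¹ : GL ι F) : Matrix ι ι F) * (B : Matrix ι ι F) = 1 := Units.inv_mul B
    calc (B : Matrix ι ι F) * (M * N) * ((B⁻¹ : GL ι F) : Matrix ι ι F)
        = (B : Matrix ι ι F) * M * 1 * N * ((B⁻¹ : GL ι F) : Matrix ι ι F) := by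
          simp only [mul_assoc, one_mul]
      _ = (B : Matrix ι ι F) * M * (((B⁻¹ : GL ι F) : Matrix ι ι F) * (B : Matrix ι ι F)) * N *
          ((B⁻¹ : GL ι F) : Matrix ι ι F) := by rw [h1]
      _ = _ := by simp only [mul_assoc]
  map_add' M N := by
    show (B : Matrix ι ι F) * (M + N) * ((B⁻¹ : GL ι F) : Matrix ι ι F) = _
    rw [mul_add, add_mul]
  commutes' c := by
    show (B : Matrix ι ι F) * (algebraMap F (Matrix ι ι F) c) * ((B⁻¹ : GL ι F) : Matrix ι ι F) = _
    rw [← Algebra.commutes, mul_assoc, Units.mul_inv, mul_one]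

/-- `M ↦ reindex (B M B⁻¹)` as an algebra equivalence -/
def transAlg (B : GL ι F) (idx : ι ≃ κ) : Matrix ι ι F ≃ₐ[F] Matrix κ κ F :=
  (conjAlg B).trans (Matrix.reindexAlgEquiv F F idx)

theorem transAlg_apply (B : GL ι F) (idx : ι ≃ κ) (M : Matrix ι ι F) :
    transAlg B idx M =
      Matrix.reindex idx idx ((B : Matrix ι ι F) * M * ((B⁻¹ : GL ι F) : Matrix ι ι F)) := rfl

/-- the equation of `TensorNF` in terms of `transAlg` -/
theorem transAlg_eq_iff (B : GL ι F) (idx : ι ≃ κ) (g : GL ι F) (M' : Matrix κ κ F) :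
    ((B * g * B⁻¹ : GL ι F) : Matrix ι ι F) = Matrix.reindex idx.symm idx.symm M' ↔
      transAlg B idx (g : Matrix ι ι F) = M' := by
  rw [transAlg_apply, ← Matrix.reindex_symm, Equiv.eq_symm_apply]
  rfl

/-- the coordinate change on vectors belonging to `transAlg` -/
def transVec (B : GL ι F) (idx : ι ≃ κ) : (ι → F) →ₗ[F] (κ → F) :=
  (LinearMap.funLeft F F idx.symm).comp (Matrix.toLin' (B : Matrix ι ι F))

theorem transVec_apply (B : GL ι F) (idx : ι ≃ κ) (v : ι → F) (k : κ) :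
    transVec B idx v k = ((B : Matrix ι ι F) *ᵥ v) (idx.symm k) := rfl

theorem transVec_surjective (B : GL ι F) (idx : ι ≃ κ) : Function.Surjective (transVec B idx) := by
  intro w
  refine ⟨((B⁻¹ : GL ι F) : Matrix ι ι F) *ᵥ (w ∘ idx), ?_⟩
  ext k
  rw [transVec_apply, Matrix.mulVec_mulVec, Units.mul_inv, Matrix.one_mulVec]
  simp

theorem transVec_mulVec (B : GL ι F) (idx : ι ≃ κ) (s : Matrix ι ι F) (v : ι → F) :
    transVec B idx (s *ᵥ v) = (transAlg B idx s) *ᵥ (transVec B idx v) := by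
  have h1 : (transVec B idx v) ∘ idx = (B : Matrix ι ι F) *ᵥ v := by
    ext j
    simp [transVec_apply]
  rw [transAlg_apply, Matrix.reindex_apply, Matrix.submatrix_mulVec_equiv, Equiv.symm_symm, h1,
    Matrix.mulVec_mulVec, mul_assoc, Units.inv_mul, mul_one, ← Matrix.mulVec_mulVec]
  rfl

theorem absIrred_transport (S : Set (Matrix ι ι F)) (hS : ActsAbsolutelyIrreducibly S)
    (B : GL ι F) (idx : ι ≃ κ) : ActsAbsolutelyIrreducibly ((transAlg B idx) '' S) := by
  constructor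
  · intro W' hW'
    have hinv : ∀ s ∈ S, (W'.comap (transVec B idx)).map (Matrix.toLin' s) ≤
        W'.comap (transVec B idx) := by
      intro s hs
      rintro _ ⟨v, hv, rfl⟩
      rw [Submodule.mem_comap, Matrix.toLin'_apply, transVec_mulVec]
      apply hW' _ (Set.mem_image_of_mem _ hs)
      exact Submodule.mem_map.mpr ⟨transVec B idx v, hv, Matrix.toLin'_apply _ _⟩
    rcases hS.1 _ hinv with hbot | htop
    · left
      rw [eq_bot_iff]
      intro w hw
      obtain ⟨v, rfl⟩ := transVec_surjective B idx w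
      have hv : v ∈ W'.comap (transVec B idx) := hw
      rw [hbot, Submodule.mem_bot] at hv
      rw [hv, map_zero]
      exact Submodule.zero_mem _
    · right
      rw [eq_top_iff]
      intro w _
      obtain ⟨v, rfl⟩ := transVec_surjective B idx w
      have hv : v ∈ W'.comap (transVec B idx) := by rw [htop]; trivial
      exact hv
  · intro M' hM'
    have hcomm : ∀ s ∈ S, (transAlg B idx).symm M' * s = s * (transAlg B idx).symm M' := by
      intro s hs
      apply (transAlg B idx).injective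
      rw [map_mul, map_mul, AlgEquiv.apply_symm_apply]
      exact hM' _ (Set.mem_image_of_mem _ hs)
    obtain ⟨c, hc⟩ := hS.2 _ hcomm
    refine ⟨c, ?_⟩
    have := congrArg (transAlg B idx) hc
    rw [AlgEquiv.apply_symm_apply, map_smul, map_one] at this
    exact this

end transport

/-! ### Kronecker products: blocks, rows -/

section kron

variable {δ ε : Type} [Fintype δ] [DecidableEq δ] [Fintype ε] [DecidableEq ε] {F : Type*} [Field F]

/-- the `(k, l)` block of a matrix indexed by `δ × ε` -/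
def blk (Y : Matrix (δ × ε) (δ × ε) F) (k l : ε) : Matrix δ δ F := fun i j => Y (i, k) (j, l)

theorem mul_kron_one_apply (Y : Matrix (δ × ε) (δ × ε) F) (a : Matrix δ δ F) (i j : δ) (k l : ε) :
    (Y * (a ⊗ₖ (1 : Matrix ε ε F))) (i, k) (j, l) = (blk Y k l * a) i j := by
  rw [Matrix.mul_apply, Matrix.mul_apply, Fintype.sum_prod_type]
  refine Finset.sum_congr rfl fun i' _ => ?_
  simp [Matrix.kroneckerMap_apply, Matrix.one_apply, blk]

theorem kron_one_mul_apply (Y : Matrix (δ × ε) (δ × ε) F) (a : Matrix δ δ F) (i j : δ) (k l : ε) :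
    ((a ⊗ₖ (1 : Matrix ε ε F)) * Y) (i, k) (j, l) = (a * blk Y k l) i j := by
  rw [Matrix.mul_apply, Matrix.mul_apply, Fintype.sum_prod_type]
  refine Finset.sum_congr rfl fun i' _ => ?_
  simp [Matrix.kroneckerMap_apply, Matrix.one_apply, blk]

theorem blk_commute (Y : Matrix (δ × ε) (δ × ε) F) (a : Matrix δ δ F)
    (h : Y * (a ⊗ₖ (1 : Matrix ε ε F)) = (a ⊗ₖ (1 : Matrix ε ε F)) * Y) (k l : ε) :
    blk Y k l * a = a * blk Y k l := by
  ext i j
  rw [← mul_kron_one_apply, ← kron_one_mul_apply, h]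

theorem eq_one_kron_of_blk (Y : Matrix (δ × ε) (δ × ε) F) (c : Matrix ε ε F)
    (h : ∀ k l, blk Y k l = c k l • (1 : Matrix δ δ F)) : Y = (1 : Matrix δ δ F) ⊗ₖ c := by
  ext ⟨i, k⟩ ⟨j, l⟩
  have := congrFun (congrFun (h k l) i) j
  rw [Matrix.kroneckerMap_apply]
  simp only [blk, Matrix.smul_apply, smul_eq_mul] at this
  rw [this, mul_comm]

/-- if `Y` commutes with `a ⊗ 1` for all `a` in a set with scalar commutant, then `Y = 1 ⊗ c` -/
theorem exists_one_kron (A : Set (Matrix δ δ F))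
    (hA : ∀ M : Matrix δ δ F, (∀ s ∈ A, M * s = s * M) → ∃ c : F, M = c • (1 : Matrix δ δ F))
    (Y : Matrix (δ × ε) (δ × ε) F)
    (h : ∀ a ∈ A, Y * (a ⊗ₖ (1 : Matrix ε ε F)) = (a ⊗ₖ (1 : Matrix ε ε F)) * Y) :
    ∃ c : Matrix ε ε F, Y = (1 : Matrix δ δ F) ⊗ₖ c := by
  have hex : ∀ k l, ∃ c : F, blk Y k l = c • (1 : Matrix δ δ F) := fun k l =>
    hA (blk Y k l) fun s hs => blk_commute Y s (h s hs) k l
  choose c hc using hex
  exact ⟨Matrix.of c, eq_one_kron_of_blk Y (Matrix.of c) hc⟩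

theorem kron_one_mulVec (a : Matrix δ δ F) (v : δ × ε → F) (i : δ) (k : ε) :
    ((a ⊗ₖ (1 : Matrix ε ε F)) *ᵥ v) (i, k) = ∑ i', a i i' * v (i', k) := by
  rw [Matrix.mulVec, dotProduct, Fintype.sum_prod_type]
  refine Finset.sum_congr rfl fun i' _ => ?_
  simp [Matrix.kroneckerMap_apply, Matrix.one_apply]

theorem one_kron_mulVec (b : Matrix ε ε F) (v : δ × ε → F) (i : δ) (k : ε) :
    (((1 : Matrix δ δ F) ⊗ₖ b) *ᵥ v) (i, k) = (b *ᵥ fun k' => v (i, k')) k := by
  rw [Matrix.mulVec, dotProduct, Fintype.sum_prod_type]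
  simp [Matrix.kroneckerMap_apply, Matrix.one_apply, Matrix.mulVec, dotProduct]

/-- vectors all of whose rows lie in `U` -/
def rowSub (U : Submodule F (ε → F)) : Submodule F (δ × ε → F) :=
  ⨅ i : δ, U.comap (LinearMap.funLeft F F (fun k : ε => ((i, k) : δ × ε)))

theorem mem_rowSub {U : Submodule F (ε → F)} {v : δ × ε → F} :
    v ∈ rowSub (δ := δ) U ↔ ∀ i : δ, (fun k => v (i, k)) ∈ U := by
  rw [rowSub, Submodule.mem_iInf]
  rfl

theorem rowSub_kron_one (U : Submodule F (ε → F)) (a : Matrix δ δ F) :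
    (rowSub (δ := δ) U).map (Matrix.toLin' (a ⊗ₖ (1 : Matrix ε ε F))) ≤ rowSub U := by
  rintro _ ⟨v, hv, rfl⟩
  rw [mem_rowSub]
  intro i
  have hrow : (fun k => (Matrix.toLin' (a ⊗ₖ (1 : Matrix ε ε F)) v) (i, k)) =
      ∑ i', a i i' • (fun k => v (i', k)) := by
    ext k
    rw [Matrix.toLin'_apply, kron_one_mulVec, Finset.sum_apply]
    rfl
  rw [hrow]
  exact Submodule.sum_mem _ fun i' _ => Submodule.smul_mem _ _ (mem_rowSub.mp hv i')

theorem rowSub_one_kron (U : Submodule F (ε → F)) (b : Matrix ε ε F)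
    (hb : U.map (Matrix.toLin' b) ≤ U) :
    (rowSub (δ := δ) U).map (Matrix.toLin' ((1 : Matrix δ δ F) ⊗ₖ b)) ≤ rowSub U := by
  rintro _ ⟨v, hv, rfl⟩
  rw [mem_rowSub]
  intro i
  have hrow : (fun k => (Matrix.toLin' ((1 : Matrix δ δ F) ⊗ₖ b) v) (i, k)) =
      Matrix.toLin' b (fun k' => v (i, k')) := by
    ext k
    rw [Matrix.toLin'_apply, one_kron_mulVec, Matrix.toLin'_apply]
  rw [hrow]
  exact hb (Submodule.mem_map_of_mem (mem_rowSub.mp hv i))

theorem rowSub_eq_bot [Nonempty δ] (U : Submodule F (ε → F)) (h : rowSub (δ := δ) U = ⊥) :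
    U = ⊥ := by
  obtain ⟨i₀⟩ := ‹Nonempty δ›
  rw [eq_bot_iff]
  intro u hu
  have hv : (fun p : δ × ε => u p.2) ∈ rowSub (δ := δ) U := mem_rowSub.mpr fun _ => hu
  rw [h, Submodule.mem_bot] at hv
  rw [Submodule.mem_bot]
  ext k
  exact congrFun hv (i₀, k)

theorem rowSub_eq_top [Nonempty δ] (U : Submodule F (ε → F)) (h : rowSub (δ := δ) U = ⊤) :
    U = ⊤ := by
  obtain ⟨i₀⟩ := ‹Nonempty δ›
  rw [eq_top_iff]
  intro u _
  have hv : (fun p : δ × ε => u p.2) ∈ rowSub (δ := δ) U := by rw [h]; trivial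
  exact mem_rowSub.mp hv i₀

theorem one_kron_eq_smul_one [Nonempty δ] (m : Matrix ε ε F) (c : F)
    (h : (1 : Matrix δ δ F) ⊗ₖ m = c • (1 : Matrix (δ × ε) (δ × ε) F)) :
    m = c • (1 : Matrix ε ε F) := by
  obtain ⟨i₀⟩ := ‹Nonempty δ›
  ext k l
  have := congrFun (congrFun h (i₀, k)) (i₀, l)
  simp only [Matrix.kroneckerMap_apply, Matrix.one_apply_eq, one_mul, Matrix.smul_apply,
    smul_eq_mul] at this
  rw [this, Matrix.smul_apply, smul_eq_mul, Matrix.one_apply, Matrix.one_apply]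
  simp

theorem isUnit_of_one_kron [Nonempty δ] (c : Matrix ε ε F)
    (h : IsUnit ((1 : Matrix δ δ F) ⊗ₖ c)) : IsUnit c := by
  rw [Matrix.isUnit_iff_isUnit_det] at h ⊢
  rw [Matrix.det_kronecker, Matrix.det_one, one_pow, one_mul] at h
  exact (isUnit_pow_iff Fintype.card_ne_zero).mp h

end kron

/-! ### the core: from the tensor normal form of `Q` to that of `Q'` -/

section core

variable {ι : Type} [Fintype ι] [DecidableEq ι] {F : Type*} [Field F] {d e : ℕ}

/-- the representation `g ↦ reindex (B g B⁻¹)` -/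
def transHom (B : GL ι F) (idx : ι ≃ Fin d × Fin e) :
    GL ι F →* Matrix (Fin d × Fin e) (Fin d × Fin e) F :=
  ((transAlg B idx : Matrix ι ι F ≃ₐ[F] Matrix (Fin d × Fin e) (Fin d × Fin e) F) :
    Matrix ι ι F →* Matrix (Fin d × Fin e) (Fin d × Fin e) F).comp (Units.coeHom (Matrix ι ι F))

theorem transHom_apply (B : GL ι F) (idx : ι ≃ Fin d × Fin e) (g : GL ι F) :
    transHom B idx g = transAlg B idx (g : Matrix ι ι F) := rfl

theorem transHom_eq_iff (B : GL ι F) (idx : ι ≃ Fin d × Fin e) (g : GL ι F)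
    (M' : Matrix (Fin d × Fin e) (Fin d × Fin e) F) :
    ((B * g * B⁻¹ : GL ι F) : Matrix ι ι F) = Matrix.reindex idx.symm idx.symm M' ↔
      transHom B idx g = M' := transAlg_eq_iff B idx g M'

theorem core [Nonempty ι] (Q Q' : Subgroup (GL ι F))
    (hcomm : ∀ x ∈ Q, ∀ y ∈ Q', x * y = y * x)
    (habs : ActsAbsolutelyIrreducibly (matrixSet (Q ⊔ Q')))
    (idx : ι ≃ Fin d × Fin e) (B : GL ι F) (hNF : TensorNF Q d e idx B) :
    (∀ y ∈ Q', ∃ b : GL (Fin e) F, ((B * y * B⁻¹ : GL ι F) : Matrix ι ι F) =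
        Matrix.reindex idx.symm idx.symm
          ((1 : Matrix (Fin d) (Fin d) F) ⊗ₖ (b : Matrix (Fin e) (Fin e) F))) ∧
      ActsAbsolutelyIrreducibly {b : Matrix (Fin e) (Fin e) F | ∃ y ∈ Q',
        ((B * y * B⁻¹ : GL ι F) : Matrix ι ι F) =
          Matrix.reindex idx.symm idx.symm ((1 : Matrix (Fin d) (Fin d) F) ⊗ₖ b)} := by
  have hne : Nonempty (Fin d × Fin e) := (Equiv.nonempty_congr idx).mp inferInstance
  have hd : Nonempty (Fin d) := ⟨(Classical.choice hne).1⟩
  obtain ⟨hQ1, hA⟩ := hNF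
  simp only [transHom_eq_iff] at hQ1 hA ⊢
  set T := transHom (d := d) (e := e) B idx with hT
  -- the transported join is absolutely irreducible
  have hS' : ActsAbsolutelyIrreducibly ((transAlg B idx) '' matrixSet (Q ⊔ Q')) :=
    absIrred_transport _ habs B idx
  have hS'mem : ∀ g ∈ Q ⊔ Q', T g ∈ (transAlg B idx) '' matrixSet (Q ⊔ Q') := by
    intro g hg
    exact ⟨(g : Matrix ι ι F), ⟨g, hg, rfl⟩, rfl⟩
  have hS'of : ∀ s' ∈ (transAlg B idx) '' matrixSet (Q ⊔ Q'), ∃ g ∈ Q ⊔ Q', T g = s' := by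
    rintro _ ⟨_, ⟨g, hg, rfl⟩, rfl⟩
    exact ⟨g, hg, rfl⟩
  -- step 1: elements of `Q'` are of the form `1 ⊗ c`
  have hQ'1 : ∀ y ∈ Q', ∃ c : Matrix (Fin e) (Fin e) F,
      T y = (1 : Matrix (Fin d) (Fin d) F) ⊗ₖ c := by
    intro y hy
    apply exists_one_kron _ hA.2
    rintro a ⟨x, hx, hxa⟩
    rw [← hxa, ← map_mul, ← map_mul, hcomm x hx y hy]
  have hQ'2 : ∀ y ∈ Q', ∃ b : GL (Fin e) F,
      T y = (1 : Matrix (Fin d) (Fin d) F) ⊗ₖ (b : Matrix (Fin e) (Fin e) F) := by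
    intro y hy
    obtain ⟨c, hc⟩ := hQ'1 y hy
    have hu : IsUnit (T y) := (Group.isUnit y).map T
    rw [hc] at hu
    have hcu : IsUnit c := isUnit_of_one_kron c hu
    exact ⟨hcu.unit, by rw [hc]; rfl⟩
  refine ⟨hQ'2, ?_, ?_⟩
  · -- irreducibility
    intro U hU
    have hstab : Q ⊔ Q' ≤ stabSub T (rowSub (δ := Fin d) U) := by
      apply sup_le
      · intro x hx
        apply mem_stabSub_of_le
        obtain ⟨a, ha⟩ := hQ1 x hx
        rw [ha]
        exact rowSub_kron_one U _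
      · intro y hy
        apply mem_stabSub_of_le
        obtain ⟨c, hc⟩ := hQ'1 y hy
        rw [hc]
        exact rowSub_one_kron U c (hU c ⟨y, hy, hc⟩)
    have hinv : ∀ s' ∈ (transAlg B idx) '' matrixSet (Q ⊔ Q'),
        (rowSub (δ := Fin d) U).map (Matrix.toLin' s') ≤ rowSub U := by
      intro s' hs'
      obtain ⟨g, hg, rfl⟩ := hS'of s' hs'
      exact le_of_eq (mem_stabSub.mp (hstab hg))
    rcases hS'.1 _ hinv with hbot | htop
    · exact Or.inl (rowSub_eq_bot U hbot)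
    · exact Or.inr (rowSub_eq_top U htop)
  · -- the commutant is scalar
    intro m hm
    have hcs : Q ⊔ Q' ≤ commSub T ((1 : Matrix (Fin d) (Fin d) F) ⊗ₖ m) := by
      apply sup_le
      · intro x hx
        rw [mem_commSub]
        obtain ⟨a, ha⟩ := hQ1 x hx
        rw [ha, ← Matrix.mul_kronecker_mul, ← Matrix.mul_kronecker_mul, one_mul, mul_one, one_mul,
          mul_one]
      · intro y hy
        rw [mem_commSub]
        obtain ⟨c, hc⟩ := hQ'1 y hy
        rw [hc, ← Matrix.mul_kronecker_mul, ← Matrix.mul_kronecker_mul, hm c ⟨y, hy, hc⟩]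
    have hcm : ∀ s' ∈ (transAlg B idx) '' matrixSet (Q ⊔ Q'),
        ((1 : Matrix (Fin d) (Fin d) F) ⊗ₖ m) * s' = s' * ((1 : Matrix (Fin d) (Fin d) F) ⊗ₖ m) := by
      intro s' hs'
      obtain ⟨g, hg, rfl⟩ := hS'of s' hs'
      exact mem_commSub.mp (hcs hg)
    obtain ⟨c, hc⟩ := hS'.2 _ hcm
    exact ⟨c, one_kron_eq_smul_one m c hc⟩

end core

/-! ### reduction to the tensor normal form of `Q` -/

section partA

variable {n : ℕ} {F : Type*} [Field F]

theorem absIrred_of_isEmpty {κ : Type} [Fintype κ] [DecidableEq κ] [IsEmpty κ]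
    (S : Set (Matrix κ κ F)) : ActsAbsolutelyIrreducibly S := by
  refine ⟨fun W _ => Or.inl ?_, fun M _ => ⟨0, Subsingleton.elim _ _⟩⟩
  rw [eq_bot_iff]
  intro w _
  rw [Submodule.mem_bot]
  exact Subsingleton.elim _ _

/-- `Q ⊔ Q'` normalises `Q` when `Q'` centralises `Q` -/
theorem nrm_sup (Q Q' : Subgroup (GL (Fin n) F))
    (hcomm : ∀ x ∈ Q, ∀ y ∈ Q', x * y = y * x) : Nrm (Q ⊔ Q') Q := by
  intro h hh x hx
  have hle : Q ⊔ Q' ≤ Subgroup.normalizer (Q : Set (GL (Fin n) F)) := by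
    apply sup_le Subgroup.le_normalizer
    intro y hy
    rw [Subgroup.mem_normalizer_iff]
    intro m
    constructor
    · intro hm
      have : y * m * y⁻¹ = m := by rw [← hcomm m hm y hy, mul_inv_cancel_right]
      rw [this]; exact hm
    · intro hm
      have h1 : y * m * y⁻¹ = y⁻¹ * (y * m * y⁻¹) * y := by
        have h2 := hcomm _ hm y hy
        calc y * m * y⁻¹ = y⁻¹ * (y * (y * m * y⁻¹)) := by group
          _ = y⁻¹ * ((y * m * y⁻¹) * y) := by rw [h2]
          _ = y⁻¹ * (y * m * y⁻¹) * y := by group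
      have h3 : y⁻¹ * (y * m * y⁻¹) * y = m := by group
      rw [← h3, ← h1]; exact hm
  exact (Subgroup.mem_normalizer_iff.mp (hle hh) x).mp hx

/-- matrices commuting with `Q` and `Q'` commute with `Q ⊔ Q'` -/
theorem commute_sup (Q Q' : Subgroup (GL (Fin n) F)) (M : Matrix (Fin n) (Fin n) F)
    (h1 : ∀ x ∈ Q, M * (x : Matrix (Fin n) (Fin n) F) = (x : Matrix (Fin n) (Fin n) F) * M)
    (h2 : ∀ y ∈ Q', M * (y : Matrix (Fin n) (Fin n) F) = (y : Matrix (Fin n) (Fin n) F) * M) :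
    ∀ s ∈ matrixSet (Q ⊔ Q'), M * s = s * M := by
  have hle : Q ⊔ Q' ≤ commSub (Units.coeHom (Matrix (Fin n) (Fin n) F)) M :=
    sup_le (fun x hx => h1 x hx) (fun y hy => h2 y hy)
  rintro _ ⟨g, hg, rfl⟩
  exact hle hg

/-- the second alternative of [ISO] is impossible for `H = Q ⊔ Q'`, `N = Q` -/
theorem no_decomposition (Q Q' : Subgroup (GL (Fin n) F))
    (hcomm : ∀ x ∈ Q, ∀ y ∈ Q', x * y = y * x)
    (t : ℕ) (D : Fin t → Submodule F (Fin n → F)) (ht : 2 ≤ t) (hne : ∀ i, D i ≠ ⊥)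
    (hind : iSupIndep D)
    (htrans : ∀ i j, ∃ h ∈ Q ⊔ Q', (D i).map (Matrix.toLin' (h : Matrix (Fin n) (Fin n) F)) = D j)
    (hfix : ∀ g : GL (Fin n) F, (g ∈ Q ∨ ∀ x ∈ Q, g * x = x * g) → ∀ i,
        (D i).map (Matrix.toLin' (g : Matrix (Fin n) (Fin n) F)) = D i) : False := by
  have hle : ∀ i, Q ⊔ Q' ≤ stabSub (Units.coeHom (Matrix (Fin n) (Fin n) F)) (D i) := by
    intro i
    apply sup_le
    · intro x hx
      exact hfix x (Or.inl hx) i
    · intro y hy
      exact hfix y (Or.inr fun x hx => (hcomm x hx y hy).symm) i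
  obtain ⟨h, hh, hij⟩ := htrans ⟨0, by omega⟩ ⟨1, by omega⟩
  have h0 : (D ⟨0, by omega⟩).map (Matrix.toLin' (h : Matrix (Fin n) (Fin n) F)) = D ⟨0, by omega⟩ :=
    hle _ hh
  rw [h0] at hij
  have := hind.injective hne hij
  simp [Fin.ext_iff] at this

/-- ASCH-[BIN] from the instances of [SS], [ISO], [NF] it uses -/
theorem tensor_of_commuting_of [Fintype F] (Q Q' : Subgroup (GL (Fin n) F))
    (hcomm : ∀ x ∈ Q, ∀ y ∈ Q', x * y = y * x)
    (habs : ActsAbsolutelyIrreducibly (matrixSet (Q ⊔ Q')))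
    (hSS : IsSemisimpleModule (endAlg Q) (Fin n → F))
    (hISO : IsIsotypic (endAlg Q) (Fin n → F) ∨
      ∃ (t : ℕ) (D : Fin t → Submodule F (Fin n → F)), 2 ≤ t ∧ (∀ i, D i ≠ ⊥) ∧ iSupIndep D ∧
        iSup D = ⊤ ∧
        (∀ h ∈ Q ⊔ Q', ∃ σ : Equiv.Perm (Fin t), ∀ i,
          (D i).map (Matrix.toLin' (h : Matrix (Fin n) (Fin n) F)) = D (σ i)) ∧
        (∀ i j, ∃ h ∈ Q ⊔ Q', (D i).map (Matrix.toLin' (h : Matrix (Fin n) (Fin n) F)) = D j) ∧
        (∀ g : GL (Fin n) F, (g ∈ Q ∨ ∀ x ∈ Q, g * x = x * g) → ∀ i,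
          (D i).map (Matrix.toLin' (g : Matrix (Fin n) (Fin n) F)) = D i))
    (hNF : 0 < n → IsSemisimpleModule (endAlg Q) (Fin n → F) → IsIsotypic (endAlg Q) (Fin n → F) →
      (∀ x ∈ commutantCenter Q, ∃ c : F, x = c • (1 : Matrix (Fin n) (Fin n) F)) →
      ∃ (d e : ℕ) (idx : Fin n ≃ Fin d × Fin e) (B : GL (Fin n) F), TensorNF Q d e idx B) :
    ∃ (d e : ℕ) (idx : Fin n ≃ Fin d × Fin e) (B : GL (Fin n) F), TensorNF Q d e idx B ∧
      (∀ y ∈ Q', ∃ b : GL (Fin e) F, ((B * y * B⁻¹ : GL (Fin n) F) : Matrix (Fin n) (Fin n) F) =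
        Matrix.reindex idx.symm idx.symm
          ((1 : Matrix (Fin d) (Fin d) F) ⊗ₖ (b : Matrix (Fin e) (Fin e) F))) ∧
      ActsAbsolutelyIrreducibly {b : Matrix (Fin e) (Fin e) F | ∃ y ∈ Q',
        ((B * y * B⁻¹ : GL (Fin n) F) : Matrix (Fin n) (Fin n) F) =
          Matrix.reindex idx.symm idx.symm ((1 : Matrix (Fin d) (Fin d) F) ⊗ₖ b)} := by
  rcases Nat.eq_zero_or_pos n with rfl | hn
  · -- degenerate case `n = 0`
    refine ⟨0, 0, Equiv.equivOfIsEmpty _ _, 1, ⟨fun x _ => ⟨1, Subsingleton.elim _ _⟩,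
      absIrred_of_isEmpty _⟩, fun y _ => ⟨1, Subsingleton.elim _ _⟩, absIrred_of_isEmpty _⟩
  · have hiso : IsIsotypic (endAlg Q) (Fin n → F) := by
      rcases hISO with h | ⟨t, D, ht, hne, hind, -, -, htrans, hfix⟩
      · exact h
      · exact (no_decomposition Q Q' hcomm t D ht hne hind htrans hfix).elim
    have hsc : ∀ x ∈ commutantCenter Q, ∃ c : F, x = c • (1 : Matrix (Fin n) (Fin n) F) := by
      intro k hk
      have hk1 : k ∈ commutant Q := hk.1
      have hk2 : k ∈ Subalgebra.centralizer F (commutant Q : Set (Matrix (Fin n) (Fin n) F)) := hk.2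
      apply habs.2
      apply commute_sup
      · intro x hx
        exact ((Subalgebra.mem_centralizer_iff F).mp hk1 _ ⟨x, hx, rfl⟩).symm
      · intro y hy
        have hy' : (y : Matrix (Fin n) (Fin n) F) ∈ commutant Q := by
          rw [commutant, Subalgebra.mem_centralizer_iff]
          rintro _ ⟨x, hx, rfl⟩
          have := congrArg (fun g : GL (Fin n) F => (g : Matrix (Fin n) (Fin n) F)) (hcomm x hx y hy)
          simpa using this
        exact ((Subalgebra.mem_centralizer_iff F).mp hk2 _ hy').symm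
    obtain ⟨d, e, idx, B, hTNF⟩ := hNF hn hSS hiso hsc
    have hne : Nonempty (Fin n) := ⟨⟨0, hn⟩⟩
    exact ⟨d, e, idx, B, hTNF, core Q Q' hcomm habs idx B hTNF⟩

end partA

end Cfsg.Agent.Lib.Helper76.AschBin
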