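/-
helper76: ASCHO-[T33], part 1.  A signed frame over a prime field puts `H` into a class-2 member (lines).
-/
import Mathlib
import Cfsg.Prelude.Def_GeometricClasses
import Cfsg.Agent.Lib.Helper99.AschDefs
import Cfsg.Agent.Lib.Helper5.AschODefs
import Cfsg.Agent.Lib.Helper5.AschOBasic

set_option autoImplicit false
set_option linter.unusedSectionVars false
set_option linter.unusedVariables false

namespace Cfsg.Agent.Lib.Helper76.AschOT33

open Cfsg Cfsg.Geo Cfsg.Agent.Lib.Helper99.Asch Cfsg.Agent.Lib.Helper5.AschO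
open scoped MatrixGroups Matrix Kronecker

variable {n : ℕ} {F : Type*} [Field F] [Fintype F]

/-- the polar form of an isometry-invariant `Q` is invariant -/
theorem polar_map_of_mem {Q : (Fin n → F) → F} {g : GL (Fin n) F} (hg : g ∈ isometryGroup F Q)
    (x y : Fin n → F) :
    QuadraticMap.polar Q ((g : Matrix (Fin n) (Fin n) F) *ᵥ x) ((g : Matrix (Fin n) (Fin n) F) *ᵥ y) =
      QuadraticMap.polar Q x y := by
  have h := (mem_isometryGroup_iff g).1 hg
  have := polar_map_of_similarity (Q := Q) (g : Matrix (Fin n) (Fin n) F) 1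
    (fun v => by rw [h v, one_mul]) x y
  rw [this, one_mul]

/-- An orthogonal family of vectors with non-zero `Q`-value is linearly independent. -/
theorem linearIndependent_of_frame {Q : (Fin n → F) → F} (hQ : IsNondegenerateQuadraticForm Q)
    (h2 : (2 : F) ≠ 0) {m : ℕ} (u : Fin m → (Fin n → F)) (c : F) (hc : c ≠ 0)
    (hQu : ∀ i, Q (u i) = c)
    (horth : ∀ i j, i ≠ j → QuadraticMap.polar Q (u i) (u j) = 0) : LinearIndependent F u := by
  rw [Fintype.linearIndependent_iff]
  intro g hg j
  have h1 : QuadraticMap.polar Q (∑ i, g i • u i) (u j) = g j * (2 * c) := by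
    rw [polar_eq_dotProduct hQ, sum_dotProduct, Finset.sum_eq_single j]
    · rw [smul_dotProduct, ← polar_eq_dotProduct hQ, polar_self hQ, hQu, smul_eq_mul]
    · intro i _ hij
      rw [smul_dotProduct, ← polar_eq_dotProduct hQ, horth i j hij, smul_zero]
    · intro hj; exact absurd (Finset.mem_univ j) hj
  rw [hg] at h1
  have h0 : QuadraticMap.polar Q (0 : Fin n → F) (u j) = 0 := by
    rw [polar_eq_dotProduct hQ, zero_dotProduct]
  rw [h0] at h1
  rcases mul_eq_zero.1 h1.symm with h | h
  · exact h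
  · exact absurd h (mul_ne_zero h2 hc)

/-- A frame of `n` pairwise orthogonal vectors with the same non-zero `Q`-value, permuted up to sign by `H`,
over a prime field: `H` lies in the stabiliser of an orthogonal decomposition into isometric lines. -/
theorem geoO_of_signed_frame_prime {Q : (Fin n → F) → F} {H : Subgroup (GL (Fin n) F)}
    (hS : OSetup Q H) (hp : (Fintype.card F).Prime) (u : Fin n → (Fin n → F)) (c : F) (hc : c ≠ 0)
    (hQu : ∀ i, Q (u i) = c)
    (horth : ∀ i j, i ≠ j → QuadraticMap.polar Q (u i) (u j) = 0)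
    (hperm : ∀ h ∈ H, ∀ i, ∃ j, (h : Matrix (Fin n) (Fin n) F) *ᵥ u i = u j ∨
      (h : Matrix (Fin n) (Fin n) F) *ᵥ u i = - u j) : GeoO Q H := by
  classical
  have h2 : (2 : F) ≠ 0 := two_ne_zero_of_odd_card hS.odd_card
  have hQ := hS.nondeg
  have hbil := hQ.polar_bilinear
  have h2c : (2 : F) * c ≠ 0 := mul_ne_zero h2 hc
  have hli : LinearIndependent F u := linearIndependent_of_frame hQ h2 u c hc hQu horth
  have hne : ∀ i, u i ≠ 0 := fun i => hli.ne_zero i
  have hself : ∀ i, QuadraticMap.polar Q (u i) (u i) = 2 * c := fun i => by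
    rw [polar_self hQ, hQu]
  let D : Fin n → Submodule F (Fin n → F) := fun i => Submodule.span F {u i}
  have hmem : ∀ i (w : Fin n → F), w ∈ D i ↔ ∃ r : F, r • u i = w := fun i w =>
    Submodule.mem_span_singleton
  have hdec : IsMDecomposition 1 D := by
    refine ⟨by have := hS.three_le; omega, Nat.one_pos, fun i => finrank_span_singleton (hne i),
      hli.iSupIndep_span_singleton, ?_⟩
    show (⨆ i, Submodule.span F {u i}) = ⊤
    rw [← Submodule.span_range_eq_iSup]
    apply hli.span_eq_top_of_card_eq_finrank'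
    simp
  have hnd : IsNondegenerateMDecomposition (QuadraticMap.polar Q) 1 D := by
    refine ⟨hdec, ?_, ?_⟩
    · intro i w hw hw0
      obtain ⟨r, rfl⟩ := (hmem i w).1 hw
      have hr : r ≠ 0 := by
        rintro rfl
        exact hw0 (zero_smul _ _)
      refine ⟨⟨u i, Submodule.mem_span_singleton_self _, ?_⟩,
        ⟨u i, Submodule.mem_span_singleton_self _, ?_⟩⟩
      · rw [hbil.smul_right, hself]
        exact mul_ne_zero hr h2c
      · rw [hbil.smul_left, hself]
        exact mul_ne_zero hr h2c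
    · intro i j hij a ha b hb
      obtain ⟨r, rfl⟩ := (hmem i a).1 ha
      obtain ⟨s, rfl⟩ := (hmem j b).1 hb
      rw [hbil.smul_left, hbil.smul_right, horth i j hij, mul_zero, mul_zero]
  have hiso : ∀ i j, AreIsometricFor Q (D i) (D j) := by
    intro i j
    let ei := LinearEquiv.toSpanNonzeroSingleton F (Fin n → F) (u i) (hne i)
    let ej := LinearEquiv.toSpanNonzeroSingleton F (Fin n → F) (u j) (hne j)
    refine ⟨ei.symm.trans ej, fun w => ?_⟩
    have h1 : (w : Fin n → F) = ei.symm w • u i :=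
      (LinearEquiv.toSpanNonzeroSingleton_symm_apply_smul F (Fin n → F) (u i) (hne i) w).symm
    have h3 : (((ei.symm.trans ej) w : D j) : Fin n → F) = ei.symm w • u j := rfl
    rw [h3, h1, hQ.smul, hQ.smul, hQu, hQu]
  refine GeoO.of_2b hS.le D hp ⟨hnd, hiso⟩ ?_
  intro h hh
  choose s hs using hperm h hh
  have hinj : Function.Injective s := by
    intro i i' hii
    by_contra hne'
    have h0 := polar_map_of_mem (hS.le hh) (u i) (u i')
    rw [horth i i' hne'] at h0
    have hval : ∀ a b : F, (a = 1 ∨ a = -1) → (b = 1 ∨ b = -1) →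
        QuadraticMap.polar Q (a • u (s i)) (b • u (s i)) ≠ 0 := by
      intro a b ha hb
      rw [hbil.smul_left, hbil.smul_right, hself]
      rcases ha with rfl | rfl <;> rcases hb with rfl | rfl <;> simpa using h2c
    have e1 : ∃ a : F, (a = 1 ∨ a = -1) ∧ (h : Matrix (Fin n) (Fin n) F) *ᵥ u i = a • u (s i) := by
      rcases hs i with h1 | h1
      · exact ⟨1, Or.inl rfl, by rw [h1, one_smul]⟩
      · exact ⟨-1, Or.inr rfl, by rw [h1, neg_one_smul]⟩
    have e2 : ∃ b : F, (b = 1 ∨ b = -1) ∧ (h : Matrix (Fin n) (Fin n) F) *ᵥ u i' = b • u (s i) := by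
      rcases hs i' with h1 | h1
      · exact ⟨1, Or.inl rfl, by rw [h1, one_smul, hii]⟩
      · exact ⟨-1, Or.inr rfl, by rw [h1, neg_one_smul, hii]⟩
    obtain ⟨a, ha, hau⟩ := e1
    obtain ⟨b, hb, hbu⟩ := e2
    rw [hau, hbu] at h0
    exact hval a b ha hb h0
  refine ⟨Equiv.ofBijective s (Finite.injective_iff_bijective.1 hinj), fun i => ?_⟩
  show (Submodule.span F {u i}).map (Matrix.toLin' (h : Matrix (Fin n) (Fin n) F)) =
    Submodule.span F {u (s i)}
  rw [Submodule.map_span, Set.image_singleton, Matrix.toLin'_apply]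
  rcases hs i with h1 | h1
  · rw [h1]
  · rw [h1, ← neg_one_smul F (u (s i))]
    exact Submodule.span_singleton_smul_eq (isUnit_one.neg) _

end Cfsg.Agent.Lib.Helper76.AschOT33
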