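/-
helper76: ASCHO-[T33].  `|F| = 3`, `H` preserves a tensor decomposition `3 ⊗ 3` of the form: `H` is monomial in
the tensor frame (class 2, lines).
-/
import Mathlib
import Cfsg.Prelude.Def_GeometricClasses
import Cfsg.Agent.Lib.Helper99.AschDefs
import Cfsg.Agent.Lib.Helper5.AschODefs
import Cfsg.Agent.Lib.Helper5.AschOBasic
import Cfsg.Agent.Lib.Helper81.AschOFrame3
import Cfsg.Agent.Lib.Helper76.AschOT33Frame

set_option autoImplicit false
set_option linter.unusedSectionVars false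
set_option linter.unusedVariables false

namespace Cfsg.Agent.Lib.Helper76.AschOT33

open Cfsg Cfsg.Geo Cfsg.Agent.Lib.Helper99.Asch Cfsg.Agent.Lib.Helper5.AschO
open scoped MatrixGroups Matrix Kronecker

variable {n : ℕ} {F : Type*} [Field F]

/-- pure tensors in coordinates -/
def pt {d e : ℕ} (x : Fin d → F) (y : Fin e → F) : Fin d × Fin e → F := fun p => x p.1 * y p.2

theorem pt_neg_left {d e : ℕ} (x : Fin d → F) (y : Fin e → F) : pt (-x) y = - pt x y := by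
  ext p; simp [pt]

theorem pt_neg_right {d e : ℕ} (x : Fin d → F) (y : Fin e → F) : pt x (-y) = - pt x y := by
  ext p; simp [pt]

theorem kron_mulVec_pt {d e : ℕ} (a : Matrix (Fin d) (Fin d) F) (b : Matrix (Fin e) (Fin e) F)
    (x : Fin d → F) (y : Fin e → F) : (a ⊗ₖ b) *ᵥ pt x y = pt (a *ᵥ x) (b *ᵥ y) := by
  ext ⟨i, k⟩
  simp only [Matrix.mulVec, dotProduct, pt, Matrix.kroneckerMap_apply, Fintype.sum_prod_type]
  rw [Finset.sum_mul_sum]
  refine Finset.sum_congr rfl fun j _ => Finset.sum_congr rfl fun l _ => ?_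
  ring

theorem formOfGram_pt {d e : ℕ} {f₁ : (Fin d → F) → (Fin d → F) → F}
    {f₂ : (Fin e → F) → (Fin e → F) → F} (h₁ : IsBilinearForm f₁) (h₂ : IsBilinearForm f₂)
    (x1 y1 : Fin d → F) (x2 y2 : Fin e → F) :
    formOfGram id (gramMatrix f₁ ⊗ₖ gramMatrix f₂) (pt x1 x2) (pt y1 y2) = f₁ x1 y1 * f₂ x2 y2 := by
  rw [bilin_eq_dotProduct h₁, bilin_eq_dotProduct h₂]
  simp only [formOfGram, pt, Matrix.kroneckerMap_apply, Fintype.sum_prod_type, id, dotProduct,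
    Matrix.mulVec]
  rw [Finset.sum_mul_sum]
  refine Finset.sum_congr rfl fun a1 _ => Finset.sum_congr rfl fun a2 _ => ?_
  rw [mul_mul_mul_comm, Finset.sum_mul_sum, Finset.mul_sum]
  refine Finset.sum_congr rfl fun b1 _ => ?_
  rw [Finset.mul_sum]
  refine Finset.sum_congr rfl fun b2 _ => ?_
  ring

theorem reindex_mulVec_comp {m : ℕ} {κ : Type} [Fintype κ] [DecidableEq κ] (idx : Fin m ≃ κ)
    (M : Matrix κ κ F) (z : κ → F) :
    (Matrix.reindex idx.symm idx.symm M) *ᵥ (z ∘ idx) = (M *ᵥ z) ∘ idx := by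
  ext i
  simp only [Matrix.reindex_apply, Equiv.symm_symm, Matrix.mulVec, dotProduct,
    Matrix.submatrix_apply, Function.comp_apply]
  exact Fintype.sum_equiv idx _ _ fun j => rfl

variable [Fintype F]

/-- ASCHO-[T33], proof. -/
theorem geoO_of_kronecker_three_three_h76 {Q : (Fin n → F) → F} {H : Subgroup (GL (Fin n) F)}
    (hS : OSetup Q H)
    (hF : Fintype.card F = 3) (idx : Fin n ≃ Fin 3 × Fin 3) (B : GL (Fin n) F)
    (hHk : ∀ h ∈ H, ∃ (a : GL (Fin 3) F) (b : GL (Fin 3) F),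
      ((B * h * B⁻¹ : GL (Fin n) F) : Matrix (Fin n) (Fin n) F) =
      Matrix.reindex idx.symm idx.symm ((a : Matrix (Fin 3) (Fin 3) F) ⊗ₖ (b : Matrix (Fin 3) (Fin 3) F)))
    (f₁ : (Fin 3 → F) → (Fin 3 → F) → F) (f₂ : (Fin 3 → F) → (Fin 3 → F) → F)
    (h₁ : IsSymmetricForm f₁) (h₂ : IsSymmetricForm f₂)
    (hT : IsTensorFormStructure id (QuadraticMap.polar Q) f₁ f₂ idx B⁻¹) : GeoO Q H := by
  classical
  obtain ⟨c, hc, hform⟩ := hT
  have h2 : (2 : F) ≠ 0 := two_ne_zero_of_odd_card hS.odd_card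
  have hQ := hS.nondeg
  let T : (Fin 3 → F) → (Fin 3 → F) → (Fin n → F) := fun x y =>
    ((B⁻¹ : GL (Fin n) F) : Matrix (Fin n) (Fin n) F) *ᵥ (pt x y ∘ idx)
  have hpol : ∀ x1 x2 y1 y2, QuadraticMap.polar Q (T x1 x2) (T y1 y2) =
      c * (f₁ x1 y1 * f₂ x2 y2) := by
    intro x1 x2 y1 y2
    show QuadraticMap.polar Q (((B⁻¹ : GL (Fin n) F) : Matrix (Fin n) (Fin n) F) *ᵥ (pt x1 x2 ∘ idx))
      (((B⁻¹ : GL (Fin n) F) : Matrix (Fin n) (Fin n) F) *ᵥ (pt y1 y2 ∘ idx)) = _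
    rw [hform, formOfGram_pt h₁.bilinear h₂.bilinear]
  have hTnl : ∀ x y, T (-x) y = - T x y := by
    intro x y
    show ((B⁻¹ : GL (Fin n) F) : Matrix (Fin n) (Fin n) F) *ᵥ (pt (-x) y ∘ idx) =
      - (((B⁻¹ : GL (Fin n) F) : Matrix (Fin n) (Fin n) F) *ᵥ (pt x y ∘ idx))
    rw [pt_neg_left, ← Matrix.mulVec_neg]
    rfl
  have hTnr : ∀ x y, T x (-y) = - T x y := by
    intro x y
    show ((B⁻¹ : GL (Fin n) F) : Matrix (Fin n) (Fin n) F) *ᵥ (pt x (-y) ∘ idx) =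
      - (((B⁻¹ : GL (Fin n) F) : Matrix (Fin n) (Fin n) F) *ᵥ (pt x y ∘ idx))
    rw [pt_neg_right, ← Matrix.mulVec_neg]
    rfl
  have hact : ∀ (h : GL (Fin n) F) (a b : GL (Fin 3) F),
      ((B * h * B⁻¹ : GL (Fin n) F) : Matrix (Fin n) (Fin n) F) =
        Matrix.reindex idx.symm idx.symm
          ((a : Matrix (Fin 3) (Fin 3) F) ⊗ₖ (b : Matrix (Fin 3) (Fin 3) F)) →
      ∀ x y, (h : Matrix (Fin n) (Fin n) F) *ᵥ T x y =
        T ((a : Matrix (Fin 3) (Fin 3) F) *ᵥ x) ((b : Matrix (Fin 3) (Fin 3) F) *ᵥ y) := by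
    intro h a b hab x y
    show (h : Matrix (Fin n) (Fin n) F) *ᵥ
        (((B⁻¹ : GL (Fin n) F) : Matrix (Fin n) (Fin n) F) *ᵥ (pt x y ∘ idx)) =
      ((B⁻¹ : GL (Fin n) F) : Matrix (Fin n) (Fin n) F) *ᵥ (pt _ _ ∘ idx)
    have e1 : (h : Matrix (Fin n) (Fin n) F) * ((B⁻¹ : GL (Fin n) F) : Matrix (Fin n) (Fin n) F) =
        ((B⁻¹ : GL (Fin n) F) : Matrix (Fin n) (Fin n) F) *
          ((B * h * B⁻¹ : GL (Fin n) F) : Matrix (Fin n) (Fin n) F) := by
      rw [← Units.val_mul, ← Units.val_mul]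
      congr 1
      group
    rw [Matrix.mulVec_mulVec, e1, ← Matrix.mulVec_mulVec, hab, reindex_mulVec_comp, kron_mulVec_pt]
  -- non-vanishing values of the two forms
  have hex : ∀ (f : (Fin 3 → F) → (Fin 3 → F) → F), IsSymmetricForm f → ∃ x y, f x y ≠ 0 := by
    intro f hf
    have hne : (Pi.single (0 : Fin 3) (1 : F) : Fin 3 → F) ≠ 0 := by
      intro h0
      have := congrFun h0 0
      simp at this
    obtain ⟨x, hx⟩ := (hf.nondegenerate _ hne).1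
    exact ⟨x, _, hx⟩
  obtain ⟨x10, y10, hf10⟩ := hex f₁ h₁
  obtain ⟨x20, y20, hf20⟩ := hex f₂ h₂
  have hsim : ∀ h ∈ H, ∀ (a b : GL (Fin 3) F),
      ((B * h * B⁻¹ : GL (Fin n) F) : Matrix (Fin n) (Fin n) F) =
        Matrix.reindex idx.symm idx.symm
          ((a : Matrix (Fin 3) (Fin 3) F) ⊗ₖ (b : Matrix (Fin 3) (Fin 3) F)) →
      a ∈ similarityGroup f₁ ∧ b ∈ similarityGroup f₂ := by
    intro h hh a b hab
    have key : ∀ x1 x2 y1 y2,
        f₁ ((a : Matrix (Fin 3) (Fin 3) F) *ᵥ x1) ((a : Matrix (Fin 3) (Fin 3) F) *ᵥ y1) *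
          f₂ ((b : Matrix (Fin 3) (Fin 3) F) *ᵥ x2) ((b : Matrix (Fin 3) (Fin 3) F) *ᵥ y2) =
        f₁ x1 y1 * f₂ x2 y2 := by
      intro x1 x2 y1 y2
      have e := polar_map_of_mem (hS.le hh) (T x1 x2) (T y1 y2)
      rw [hact h a b hab, hact h a b hab, hpol, hpol] at e
      exact mul_left_cancel₀ hc e
    have k0 := key x10 x20 y10 y20
    have hpq : f₁ ((a : Matrix (Fin 3) (Fin 3) F) *ᵥ x10) ((a : Matrix (Fin 3) (Fin 3) F) *ᵥ y10) *
        f₂ ((b : Matrix (Fin 3) (Fin 3) F) *ᵥ x20) ((b : Matrix (Fin 3) (Fin 3) F) *ᵥ y20) ≠ 0 := by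
      rw [k0]; exact mul_ne_zero hf10 hf20
    have hp := left_ne_zero_of_mul hpq
    have hq := right_ne_zero_of_mul hpq
    constructor
    · refine ⟨Units.mk0 (f₂ x20 y20 / f₂ ((b : Matrix (Fin 3) (Fin 3) F) *ᵥ x20)
        ((b : Matrix (Fin 3) (Fin 3) F) *ᵥ y20)) (div_ne_zero hf20 hq), fun x y => ?_⟩
      have k1 := key x x20 y y20
      rw [Units.val_mk0]
      field_simp
      linear_combination k1
    · refine ⟨Units.mk0 (f₁ x10 y10 / f₁ ((a : Matrix (Fin 3) (Fin 3) F) *ᵥ x10)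
        ((a : Matrix (Fin 3) (Fin 3) F) *ᵥ y10)) (div_ne_zero hf10 hp), fun x y => ?_⟩
      have k1 := key x10 x y10 y
      rw [Units.val_mk0]
      field_simp
      linear_combination k1
  obtain ⟨v, c₁, hc₁, -, hvv, hvo, hvperm⟩ := exists_frame_three hF f₁ h₁
  obtain ⟨w, c₂, hc₂, -, hww, hwo, hwperm⟩ := exists_frame_three hF f₂ h₂
  let u : Fin n → (Fin n → F) := fun k => T (v (idx k).1) (w (idx k).2)
  have hself : ∀ k, QuadraticMap.polar Q (u k) (u k) = c * (c₁ * c₂) := by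
    intro k
    show QuadraticMap.polar Q (T _ _) (T _ _) = _
    rw [hpol, hvv, hww]
  have hc' : c * (c₁ * c₂) / 2 ≠ 0 := div_ne_zero (mul_ne_zero hc (mul_ne_zero hc₁ hc₂)) h2
  refine geoO_of_signed_frame_prime hS (hF ▸ Nat.prime_three) u (c * (c₁ * c₂) / 2) hc' ?_ ?_ ?_
  · intro k
    rw [Q_eq_half_polar hQ h2, hself]
  · intro k k' hkk
    show QuadraticMap.polar Q (T _ _) (T _ _) = _
    rw [hpol]
    by_cases h1 : (idx k).1 = (idx k').1
    · have h3 : (idx k).2 ≠ (idx k').2 := by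
        intro h3
        exact hkk (idx.injective (Prod.ext h1 h3))
      rw [hwo _ _ h3, mul_zero, mul_zero]
    · rw [hvo _ _ h1, zero_mul, mul_zero]
  · intro h hh k
    obtain ⟨a, b, hab⟩ := hHk h hh
    obtain ⟨ha, hb⟩ := hsim h hh a b hab
    obtain ⟨i', hi'⟩ := hvperm a ha (idx k).1
    obtain ⟨j', hj'⟩ := hwperm b hb (idx k).2
    refine ⟨idx.symm (i', j'), ?_⟩
    have hu : u (idx.symm (i', j')) = T (v i') (w j') := by
      show T (v (idx (idx.symm (i', j'))).1) (w (idx (idx.symm (i', j'))).2) = _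
      rw [Equiv.apply_symm_apply]
    rw [hu]
    show (h : Matrix (Fin n) (Fin n) F) *ᵥ T (v (idx k).1) (w (idx k).2) = T (v i') (w j') ∨
      (h : Matrix (Fin n) (Fin n) F) *ᵥ T (v (idx k).1) (w (idx k).2) = - T (v i') (w j')
    rw [hact h a b hab]
    rcases hi' with hi' | hi' <;> rcases hj' with hj' | hj' <;> rw [hi', hj']
    · exact Or.inl rfl
    · right; rw [hTnr]
    · right; rw [hTnl]
    · left; rw [hTnl, hTnr, neg_neg]

end Cfsg.Agent.Lib.Helper76.AschOT33
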