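/-
helper76: ASCHO-[T33], exact sheet statement (proof in Lib/Helper76/AschOT33.lean).
-/
import Mathlib
import Cfsg.Prelude.Def_GeometricClasses
import Cfsg.Agent.Lib.Helper99.AschDefs
import Cfsg.Agent.Lib.Helper5.AschODefs
import Cfsg.Agent.Lib.Helper76.AschOT33

set_option autoImplicit false

namespace Cfsg.Agent.Lib.Helper5.AschO

open Cfsg Cfsg.Geo Cfsg.Agent.Lib.Helper99.Asch
open scoped MatrixGroups Matrix Kronecker

variable {n : ℕ} {F : Type*} [Field F] [Fintype F]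

/-- ASCHO-[T33] -/
theorem geoO_of_kronecker_three_three {Q : (Fin n → F) → F} {H : Subgroup (GL (Fin n) F)} (hS : OSetup Q H)
    (hF : Fintype.card F = 3) (idx : Fin n ≃ Fin 3 × Fin 3) (B : GL (Fin n) F)
    (hHk : ∀ h ∈ H, ∃ (a : GL (Fin 3) F) (b : GL (Fin 3) F),
      ((B * h * B⁻¹ : GL (Fin n) F) : Matrix (Fin n) (Fin n) F) =
      Matrix.reindex idx.symm idx.symm ((a : Matrix (Fin 3) (Fin 3) F) ⊗ₖ (b : Matrix (Fin 3) (Fin 3) F)))
    (f₁ : (Fin 3 → F) → (Fin 3 → F) → F) (f₂ : (Fin 3 → F) → (Fin 3 → F) → F)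
    (h₁ : IsSymmetricForm f₁) (h₂ : IsSymmetricForm f₂)
    (hT : IsTensorFormStructure id (QuadraticMap.polar Q) f₁ f₂ idx B⁻¹) : GeoO Q H :=
  Cfsg.Agent.Lib.Helper76.AschOT33.geoO_of_kronecker_three_three_h76 hS hF idx B hHk f₁ f₂ h₁ h₂ hT

end Cfsg.Agent.Lib.Helper5.AschO
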