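import Mathlib
import Cfsg.Agent.Lib.Helper9.SS
import Cfsg.Agent.Lib.Helper9.SS3
import Cfsg.Agent.Lib.Helper2.Gaschutz
import Cfsg.Agent.Lib.Helper58.ConjModule
import Cfsg.Agent.Lib.Helper76.SylowNorm
import Cfsg.Agent.S0526
import Cfsg.Agent.S0580

set_option autoImplicit false

open scoped commutatorElement Pointwise

namespace Cfsg.Agent.Lib.Helper76

/-- The hypothesis of Huppert's theorem: every maximal subgroup has prime index. -/
def MaxPrimeIndex (G : Type*) [Group G] : Prop :=
  ∀ M : Subgroup G, IsCoatom M → M.index.Prime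

theorem MaxPrimeIndex.quotient {G : Type*} [Group G] (h : MaxPrimeIndex G) (N : Subgroup G)
    [N.Normal] : MaxPrimeIndex (G ⧸ N) := by
  intro M' hM'
  have hco := Cfsg.Agent.S0580.isCoatom_comap_mk N M' hM'
  have := h _ hco
  rwa [Subgroup.index_comap_of_surjective _ (QuotientGroup.mk'_surjective _)] at this

/-- A group embedding into the product of two supersolvable quotients is supersolvable. -/
theorem isSupersolvable_of_inf_eq_bot {G : Type*} [Group G] (N₁ N₂ : Subgroup G) [N₁.Normal]
    [N₂.Normal] (hinf : N₁ ⊓ N₂ = ⊥) (h₁ : Cfsg.IsSupersolvable (G ⧸ N₁))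
    (h₂ : Cfsg.IsSupersolvable (G ⧸ N₂)) : Cfsg.IsSupersolvable G := by
  let f : G →* (G ⧸ N₁) × (G ⧸ N₂) := (QuotientGroup.mk' N₁).prod (QuotientGroup.mk' N₂)
  have hinj : Function.Injective f := by
    rw [← MonoidHom.ker_eq_bot_iff, MonoidHom.ker_prod, QuotientGroup.ker_mk',
      QuotientGroup.ker_mk', hinf]
  have hprod := Cfsg.Agent.Lib.Helper9.isSupersolvable_prod h₁ h₂
  have hrange := Cfsg.Agent.Lib.Helper9.isSupersolvable_subgroup hprod f.range
  exact Cfsg.Agent.Lib.Helper9.isSupersolvable_of_mulEquiv hrange (MonoidHom.ofInjective hinj).symm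

/-- If `N` is normal and abelian, `M` a subgroup with `N ⊔ M = ⊤` then `N ⊓ M` is normal. -/
theorem inf_normal_of_abelian_sup_eq_top {G : Type*} [Group G] (N M : Subgroup G) [hN : N.Normal]
    (hab : ∀ a ∈ N, ∀ b ∈ N, a * b = b * a) (hsup : N ⊔ M = ⊤) : (N ⊓ M).Normal := by
  rw [← Subgroup.normalizer_eq_top_iff, eq_top_iff, ← hsup, sup_le_iff]
  constructor
  · intro a ha
    rw [Subgroup.mem_normalizer_iff]
    intro x
    constructor
    · intro hx
      have : a * x * a⁻¹ = x := by
        rw [hab a ha x hx.1, mul_inv_cancel_right]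
      rw [this]; exact hx
    · intro hx
      have hx1 : x ∈ N := by
        have := hN.conj_mem _ hx.1 a⁻¹
        simpa [mul_assoc] using this
      have : a * x * a⁻¹ = x := by
        rw [hab a ha x hx1, mul_inv_cancel_right]
      rw [this] at hx; exact hx
  · intro m hm
    rw [Subgroup.mem_normalizer_iff]
    intro x
    constructor
    · intro hx
      exact ⟨hN.conj_mem _ hx.1 m, M.mul_mem (M.mul_mem hm hx.2) (M.inv_mem hm)⟩
    · intro hx
      have h1 : x ∈ N := by
        have := hN.conj_mem _ hx.1 m⁻¹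
        simpa [mul_assoc] using this
      have h2 : x ∈ M := by
        have := M.mul_mem (M.mul_mem (M.inv_mem hm) hx.2) hm
        simpa [mul_assoc] using this
      exact ⟨h1, h2⟩

/-- If `N ⊓ M = ⊥` and `N ⊔ M = ⊤` with `N` normal then `|N| = [G : M]`. -/
theorem card_eq_index_of_complement {G : Type*} [Group G] [Finite G] (N M : Subgroup G)
    [hN : N.Normal] (hinf : N ⊓ M = ⊥) (hsup : N ⊔ M = ⊤) : Nat.card N = M.index := by
  have h1 : M.relIndex (M ⊔ N) = M.relIndex N := relIndex_sup_of_normal M N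
  rw [sup_comm, hsup, Subgroup.relIndex_top_right] at h1
  rw [h1, ← Subgroup.inf_relIndex_right, inf_comm, hinf, Subgroup.relIndex_bot_left]

/-- Under the "unique minimal normal subgroup `N`" hypothesis, with `p ∣ |N|`, every normal
nilpotent subgroup of `G` is a `p`-group. -/
theorem isPGroup_of_normal_nilpotent {G : Type*} [Group G] [Finite G] (N : Subgroup G)
    (hstar : ∀ K : Subgroup G, K.Normal → K ≠ ⊥ → N ≤ K) {p : ℕ} (hp : p.Prime)
    (hpN : p ∣ Nat.card N) (F : Subgroup G) [hF : F.Normal] [hnil : Group.IsNilpotent F] :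
    IsPGroup p F := by
  have key : ∀ q : ℕ, q.Prime → q ∣ Nat.card F → q = p := by
    intro q hq hqF
    have : Fact q.Prime := ⟨hq⟩
    obtain ⟨Q⟩ : Nonempty (Sylow q F) := inferInstance
    have : (Q : Subgroup F).Normal := inferInstance
    have : (Q : Subgroup F).Characteristic := Sylow.characteristic_of_normal Q inferInstance
    have hQn : ((Q : Subgroup F).map F.subtype).Normal := inferInstance
    have hQcard : Nat.card ((Q : Subgroup F).map F.subtype) = Nat.card (Q : Subgroup F) :=
      Subgroup.card_map_of_injective F.subtype_injective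
    have hQne : (Q : Subgroup F).map F.subtype ≠ ⊥ := by
      intro h
      have h1 : Nat.card ((Q : Subgroup F).map F.subtype) = 1 := by rw [h]; exact Subgroup.card_bot
      rw [hQcard] at h1
      have h2 : q ∣ Nat.card (Q : Subgroup F) := Sylow.dvd_card_of_dvd_card Q hqF
      rw [h1] at h2
      exact hq.one_lt.ne' (Nat.dvd_one.mp h2)
    have hle := hstar _ hQn hQne
    have h3 : Nat.card N ∣ Nat.card ((Q : Subgroup F).map F.subtype) :=
      Subgroup.card_dvd_of_le hle
    rw [hQcard] at h3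
    obtain ⟨k, hk⟩ := (IsPGroup.iff_card.mp Q.isPGroup')
    rw [hk] at h3
    have h4 : p ∣ q ^ k := hpN.trans h3
    exact ((Nat.prime_dvd_prime_iff_eq hp hq).mp (hp.dvd_of_dvd_pow h4)).symm
  have hcard := Nat.eq_prime_pow_of_unique_prime_dvd (n := Nat.card F) (p := p)
    Nat.card_pos.ne' (fun {d} hd hdF => key d hd hdF)
  have : Fact p.Prime := ⟨hp⟩
  exact IsPGroup.of_card hcard

/-- A minimal normal subgroup (in the strong "contained in every nontrivial normal subgroup"
sense) of a solvable group is abelian. -/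
theorem abelian_of_solvable_of_min {G : Type*} [Group G] [hs : Group.IsSolvable G]
    (N : Subgroup G) [hN : N.Normal]
    (hstar : ∀ K : Subgroup G, K.Normal → K ≠ ⊥ → N ≤ K) :
    ∀ a ∈ N, ∀ b ∈ N, a * b = b * a := by
  have hcomm : ⁅N, N⁆ = ⊥ := by
    by_contra hne
    have hnorm : (⁅N, N⁆ : Subgroup G).Normal := inferInstance
    have hle := hstar _ hnorm hne
    have hNne : N ≠ ⊥ := by
      intro h
      apply hne
      rw [h]
      exact Subgroup.commutator_bot_left ⊥
    have hlt := Group.IsSolvable.commutator_lt_of_ne_bot hNne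
    exact absurd hle (not_le_of_gt hlt)
  rw [Subgroup.commutator_eq_bot_iff_le_centralizer] at hcomm
  intro a ha b hb
  exact (Subgroup.mem_centralizer_iff.mp (hcomm ha) b hb).symm

/-- A minimal normal abelian `p`-subgroup has exponent `p`. -/
theorem pow_eq_one_of_min {G : Type*} [Group G] [Finite G] (N : Subgroup G) [hN : N.Normal]
    (hstar : ∀ K : Subgroup G, K.Normal → K ≠ ⊥ → N ≤ K)
    (hab : ∀ a ∈ N, ∀ b ∈ N, a * b = b * a) {p : ℕ} (hp : p.Prime) (hpN : p ∣ Nat.card N) :
    ∀ a ∈ N, a ^ p = 1 := by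
  have : Fact p.Prime := ⟨hp⟩
  let Ω : Subgroup G :=
    { carrier := {a | a ∈ N ∧ a ^ p = 1}
      mul_mem' := by
        rintro a b ⟨ha, ha'⟩ ⟨hb, hb'⟩
        refine ⟨N.mul_mem ha hb, ?_⟩
        have hc : Commute a b := hab a ha b hb
        rw [hc.mul_pow, ha', hb', one_mul]
      one_mem' := ⟨N.one_mem, one_pow p⟩
      inv_mem' := by
        rintro a ⟨ha, ha'⟩
        exact ⟨N.inv_mem ha, by rw [inv_pow, ha', inv_one]⟩ }
  have hΩn : Ω.Normal := by
    refine ⟨fun a ha g => ?_⟩
    obtain ⟨ha1, ha2⟩ := ha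
    refine ⟨hN.conj_mem a ha1 g, ?_⟩
    rw [conj_pow, ha2, mul_one, mul_inv_cancel]
  have hΩne : Ω ≠ ⊥ := by
    obtain ⟨x, hx⟩ := exists_prime_orderOf_dvd_card' (G := N) p hpN
    intro h
    have hmem : (x : G) ∈ Ω := by
      refine ⟨x.2, ?_⟩
      have : x ^ p = 1 := by rw [← hx]; exact pow_orderOf_eq_one x
      have := congrArg Subtype.val this
      simpa using this
    rw [h, Subgroup.mem_bot] at hmem
    have hx1 : x = 1 := Subtype.ext hmem
    rw [hx1, orderOf_one] at hx
    exact hp.one_lt.ne hx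
  intro a ha
  exact (hstar Ω hΩn hΩne ha).2

/-- Normality of `N ⊓ M` from `N ⊔ M = ⊤` when `N` is normal and normalizes `N ⊓ M`. -/
theorem inf_normal_of_sup_eq_top {G : Type*} [Group G] (N M : Subgroup G) [hN : N.Normal]
    (hnorm : ∀ a ∈ N, ∀ x ∈ N ⊓ M, a * x * a⁻¹ ∈ N ⊓ M) (hsup : N ⊔ M = ⊤) :
    (N ⊓ M).Normal := by
  have hM : ∀ m ∈ M, ∀ x ∈ N ⊓ M, m * x * m⁻¹ ∈ N ⊓ M := fun m hm x hx =>
    ⟨hN.conj_mem _ hx.1 m, M.mul_mem (M.mul_mem hm hx.2) (M.inv_mem hm)⟩
  have hmemnorm : ∀ g : G, (∀ x ∈ N ⊓ M, g * x * g⁻¹ ∈ N ⊓ M) →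
      (∀ x ∈ N ⊓ M, g⁻¹ * x * g⁻¹⁻¹ ∈ N ⊓ M) → g ∈ Subgroup.normalizer ((N ⊓ M : Subgroup G) : Set G) := by
    intro g h1 h2
    rw [Subgroup.mem_normalizer_iff]
    intro x
    refine ⟨h1 x, fun hx => ?_⟩
    have := h2 _ hx
    simpa [mul_assoc] using this
  have hle : N ⊔ M ≤ Subgroup.normalizer ((N ⊓ M : Subgroup G) : Set G) := by
    rw [sup_le_iff]
    exact ⟨fun a ha => hmemnorm a (hnorm a ha) (hnorm a⁻¹ (N.inv_mem ha)),
      fun m hm => hmemnorm m (hM m hm) (hM m⁻¹ (M.inv_mem hm))⟩
  have hclosed : ∀ g : G, ∀ x ∈ N ⊓ M, g * x * g⁻¹ ∈ N ⊓ M := by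
    intro g x hx
    have hg : g ∈ Subgroup.normalizer ((N ⊓ M : Subgroup G) : Set G) := hle (by rw [hsup]; trivial)
    exact (Subgroup.mem_normalizer_iff.mp hg x).mp hx
  exact ⟨fun x hx g => hclosed g x hx⟩

/-- **D-lemma.** `P` a normal `p`-subgroup, `M` a maximal subgroup of prime index not containing
`P`.  Then `(p-1)`-th powers act trivially on `P / (M ⊓ P)`: `⁅x, y^(p-1)⁆ ∈ M` for `x ∈ P`. -/
theorem commutator_pow_mem_of_coatom {G : Type*} [Group G] [Finite G] {p : ℕ} [hp : Fact p.Prime]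
    (P : Subgroup G) [hPn : P.Normal] (hP : IsPGroup p P) (M : Subgroup G) (hM : IsCoatom M)
    (hPM : ¬ P ≤ M) (hidx : M.index.Prime) (x : G) (hx : x ∈ P) (y : G) :
    ⁅x, y ^ (p - 1)⁆ ∈ M := by
  have hsup : P ⊔ M = ⊤ := by
    apply hM.2
    apply lt_of_le_of_ne le_sup_right
    intro h
    apply hPM
    rw [h]; exact le_sup_left
  have hrel : M.relIndex P = M.index := by
    have h1 : M.relIndex (M ⊔ P) = M.relIndex P := relIndex_sup_of_normal M P
    rw [sup_comm, hsup, Subgroup.relIndex_top_right] at h1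
    exact h1.symm
  have hrelQ : (P ⊓ M).relIndex P = M.index := by
    rw [inf_comm, Subgroup.inf_relIndex_right, hrel]
  obtain ⟨k, hk⟩ := IsPGroup.iff_card.mp hP
  have hidxp : M.index = p := by
    have h1 : M.index ∣ p ^ k := by
      rw [← hk, ← hrel]; exact Subgroup.relIndex_dvd_card M P
    exact (Nat.prime_dvd_prime_iff_eq hidx hp.out).mp (hidx.dvd_of_dvd_pow h1)
  have hk0 : k ≠ 0 := by
    rintro rfl
    rw [pow_zero] at hk
    have : P = ⊥ := Subgroup.card_eq_one.mp hk
    apply hPM
    rw [this]; exact bot_le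
  -- `P ⊓ M` is normal in `G`
  have hQP : ((P ⊓ M).subgroupOf P).Normal := by
    apply Subgroup.normal_of_index_eq_minFac_card
    have : ((P ⊓ M).subgroupOf P).index = (P ⊓ M).relIndex P := rfl
    rw [this, hrelQ, hidxp, hk, Nat.Prime.pow_minFac hp.out hk0]
  have hQn : (P ⊓ M).Normal := by
    apply inf_normal_of_sup_eq_top P M _ hsup
    intro a ha q hq
    have hq' : (⟨q, hq.1⟩ : P) ∈ (P ⊓ M).subgroupOf P := by
      rw [Subgroup.mem_subgroupOf]; exact hq
    have := hQP.conj_mem _ hq' ⟨a, ha⟩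
    rw [Subgroup.mem_subgroupOf] at this
    simpa using this
  -- the quotient
  let π := QuotientGroup.mk' (P ⊓ M)
  have hπker : π.ker = P ⊓ M := QuotientGroup.ker_mk' _
  have hPbarn : (P.map π).Normal := hPn.map π (QuotientGroup.mk'_surjective _)
  have hPbarcard : Nat.card (P.map π) = p := by
    rw [← Subgroup.relIndex_ker, hπker, hrelQ, hidxp]
  have : Fact (Nat.card (P.map π)).Prime := ⟨by rw [hPbarcard]; exact hp.out⟩
  have : IsCyclic (P.map π) := isCyclic_of_prime_card rfl
  have hautcard : Nat.card (MulAut (P.map π)) = p - 1 := by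
    rw [IsCyclic.card_mulAut, hPbarcard, Nat.totient_prime hp.out]
  have hθ : (MulAut.conjNormal (π y) : MulAut (P.map π)) ^ (p - 1) = 1 := by
    rw [← hautcard]; exact pow_card_eq_one'
  rw [← map_pow, ← map_pow] at hθ
  have hxbar : π x⁻¹ ∈ P.map π := Subgroup.mem_map_of_mem π (P.inv_mem hx)
  have hfix := congrArg (fun σ : MulAut (P.map π) => ((σ ⟨π x⁻¹, hxbar⟩ : P.map π) : G ⧸ (P ⊓ M))) hθ
  simp only [MulAut.conjNormal_apply, MulAut.one_apply] at hfix
  have hmem : ⁅x, y ^ (p - 1)⁆ ∈ π.ker := by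
    rw [MonoidHom.mem_ker, commutatorElement_def, map_mul, map_mul, map_mul, mul_assoc, mul_assoc,
      ← mul_assoc (π (y ^ (p - 1))), map_inv (f := π) (y ^ (p - 1)), hfix, ← map_mul,
      mul_inv_cancel, map_one]
  rw [hπker] at hmem
  exact hmem.2

section Eigen

open Polynomial

/-- An endomorphism `T` of a nontrivial `ZMod p`-module with `T ^ p = T` has an eigenvector. -/
theorem exists_eigenvector_of_pow_eq {p : ℕ} [hp : Fact p.Prime] {A : Type*} [AddCommGroup A]
    [Module (ZMod p) A] [Module.Finite (ZMod p) A] [Nontrivial A] (T : Module.End (ZMod p) A)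
    (hT : T ^ p = T) : ∃ (c : ZMod p) (v : A), v ≠ 0 ∧ T v = c • v := by
  have hsplit : Splits (X ^ p - X : (ZMod p)[X]) := by
    have := FiniteField.splits_X_pow_card_sub_X (p := p) (K := ZMod p)
    rwa [Algebra.algebraMap_self, Polynomial.map_id, ZMod.card] at this
  have hne : (X ^ p - X : (ZMod p)[X]) ≠ 0 := FiniteField.X_pow_card_sub_X_ne_zero _ hp.out.one_lt
  have hdvd : minpoly (ZMod p) T ∣ X ^ p - X := by
    apply minpoly.dvd
    simp [hT]
  have hsplit' : Splits (minpoly (ZMod p) T) := hsplit.of_dvd hne hdvd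
  have hint : IsIntegral (ZMod p) T := Algebra.IsIntegral.isIntegral T
  have hdeg : degree (minpoly (ZMod p) T) ≠ 0 := (minpoly.degree_pos hint).ne'
  obtain ⟨c, hc⟩ := hsplit'.exists_eval_eq_zero hdeg
  have hev : T.HasEigenvalue c := Module.End.hasEigenvalue_of_isRoot hc
  obtain ⟨v, hv⟩ := hev.exists_hasEigenvector
  exact ⟨c, v, hv.2, hv.apply_eq_smul⟩


/-- If `h ^ (p-1)` centralizes the normal elementary abelian `p`-subgroup `N ≠ ⊥`, then `h`
acts on some nontrivial element of `N` as a power map. -/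
theorem exists_conj_eq_pow {G : Type*} [Group G] [Finite G] (N : Subgroup G) [hN : N.Normal]
    {p : ℕ} [hp : Fact p.Prime] (hab : ∀ a b : N, a * b = b * a) (hexp : ∀ n ∈ N, n ^ p = 1)
    (hNne : N ≠ ⊥) (h : G) (hh : ∀ n ∈ N, h ^ (p - 1) * n * (h ^ (p - 1))⁻¹ = n) :
    ∃ (c : ℕ) (n : G), n ∈ N ∧ n ≠ 1 ∧ h * n * h⁻¹ = n ^ c := by
  obtain ⟨A, iA, iM, e, Φ, hadd, hzero, hΦ⟩ :=
    Cfsg.Agent.Lib.Helper58.exists_conj_module N p hab hexp
  have : Finite A := Finite.of_equiv N e
  have : Module.Finite (ZMod p) A := Module.Finite.of_finite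
  have : Nontrivial A := by
    obtain ⟨n, hn1⟩ := (Subgroup.ne_bot_iff_exists_ne_one).mp hNne
    refine ⟨⟨e n, 0, ?_⟩⟩
    rw [← hzero]
    intro h'
    exact hn1 (e.injective h')
  have hp1 : p - 1 + 1 = p := Nat.sub_add_cancel hp.out.one_le
  have hΦ1 : Φ (h ^ (p - 1)) = 1 := by
    apply LinearMap.ext
    intro a
    obtain ⟨n, rfl⟩ := e.surjective a
    rw [hΦ, Module.End.one_apply]
    congr 1
    exact Subtype.ext (hh n n.2)
  have hT : (Φ h) ^ p = Φ h := by
    have : (Φ h) ^ (p - 1 + 1) = Φ h := by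
      rw [pow_succ, ← map_pow, hΦ1, one_mul]
    rwa [hp1] at this
  obtain ⟨c, v, hv, hTv⟩ := exists_eigenvector_of_pow_eq (Φ h) hT
  obtain ⟨n, rfl⟩ := e.surjective v
  have hpow : ∀ k : ℕ, e (n ^ k) = k • e n := by
    intro k
    induction k with
    | zero => rw [pow_zero, hzero, zero_smul]
    | succ k ih => rw [pow_succ, hadd, ih, succ_nsmul]
  refine ⟨c.val, (n : G), n.2, ?_, ?_⟩
  · intro hn1
    apply hv
    have : n = 1 := Subtype.ext hn1
    rw [this, hzero]
  · have h1 : c • e n = e (n ^ c.val) := by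
      rw [hpow, ← Nat.cast_smul_eq_nsmul (ZMod p), ZMod.natCast_zmod_val]
    rw [hΦ, h1] at hTv
    have := congrArg Subtype.val (e.injective hTv)
    simpa using this


end Eigen

theorem isNilpotent_of_isMulCommutative {G : Type*} [Group G] [h : IsMulCommutative G] :
    Group.IsNilpotent G :=
  ⟨⟨1, Subgroup.upperCentralSeries_one_eq_top_iff.mpr h⟩⟩

theorem mem_frattini_iff {G : Type*} [Group G] (x : G) :
    x ∈ frattini G ↔ ∀ M : Subgroup G, IsCoatom M → x ∈ M := by
  simp [frattini, Order.radical, Subgroup.mem_iInf]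

/-- A subgroup containing the commutator subgroup is normal. -/
theorem normal_of_commutator_le {G : Type*} [Group G] (P : Subgroup G)
    (h : commutator G ≤ P) : P.Normal := by
  refine ⟨fun x hx g => ?_⟩
  have h1 : ⁅g, x⁆ ∈ P := h (Subgroup.commutator_mem_commutator (Subgroup.mem_top g)
    (Subgroup.mem_top x))
  have h2 : g * x * g⁻¹ = ⁅g, x⁆ * x := by
    rw [commutatorElement_def]; group
  rw [h2]
  exact P.mul_mem h1 hx

/-- **Exponent lemma.** In the situation of Huppert's theorem with unique minimal normal subgroup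
`N` (a `p`-group), normal Sylow `p`-subgroup `P ≥ G'` and abelian complement `H`, every element of
`H` has order dividing `p - 1`. -/
theorem pow_pred_eq_one_of_complement {G : Type*} [Group G] [Finite G] (hmax : MaxPrimeIndex G)
    (N : Subgroup G) (hstar : ∀ K : Subgroup G, K.Normal → K ≠ ⊥ → N ≤ K) {p : ℕ}
    [hp : Fact p.Prime] (hpN : p ∣ Nat.card N) (P : Sylow p G) [hPn : (P : Subgroup G).Normal]
    (hcomm : commutator G ≤ P) (H : Subgroup G) (hc : Subgroup.IsComplement' (P : Subgroup G) H)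
    (hHab : ∀ a ∈ H, ∀ b ∈ H, a * b = b * a) (h : G) (hh : h ∈ H) : h ^ (p - 1) = 1 := by
  set a := h ^ (p - 1) with ha
  have haH : a ∈ H := H.pow_mem hh _
  -- every `g` is `x * h'`
  have hdecomp : ∀ g : G, ∃ x ∈ (P : Subgroup G), ∃ h' ∈ H, g = x * h' := by
    intro g
    have hg : g ∈ (P : Subgroup G) ⊔ H := by rw [hc.sup_eq_top]; trivial
    have hset : (((P : Subgroup G) ⊔ H : Subgroup G) : Set G) = (P : Subgroup G) * H :=
      Subgroup.normal_mul (P : Subgroup G) H
    have hg' : g ∈ ((P : Subgroup G) : Set G) * (H : Set G) := by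
      rw [← hset]; exact hg
    obtain ⟨x, hx, h', hh', rfl⟩ := Set.mem_mul.mp hg'
    exact ⟨x, hx, h', hh', rfl⟩
  -- commutators with `a` lie in the Frattini subgroup
  have hfr : ∀ g : G, ⁅g, a⁆ ∈ frattini G := by
    intro g
    rw [mem_frattini_iff]
    intro M hM
    by_cases hPM : (P : Subgroup G) ≤ M
    · exact hPM (hcomm (Subgroup.commutator_mem_commutator (Subgroup.mem_top g)
        (Subgroup.mem_top a)))
    · obtain ⟨x, hx, h', hh', rfl⟩ := hdecomp g
      have h1 : ⁅h', a⁆ = 1 := by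
        rw [commutatorElement_eq_one_iff_mul_comm]
        exact hHab h' hh' a haH
      have h2 : ⁅x * h', a⁆ = x * ⁅h', a⁆ * x⁻¹ * ⁅x, a⁆ := by
        simp only [commutatorElement_def]; group
      rw [h2, h1, mul_one, mul_inv_cancel, one_mul]
      exact commutator_pow_mem_of_coatom (P : Subgroup G) P.isPGroup' M hM hPM (hmax M hM) x hx h
  -- the preimage of the centre of `G / Φ(G)`
  let π := QuotientGroup.mk' (frattini G)
  have hπs : Function.Surjective π := QuotientGroup.mk'_surjective _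
  let K₁ : Subgroup G := (Subgroup.center (G ⧸ frattini G)).comap π
  have hK₁n : K₁.Normal := inferInstance
  have hΦK : frattini G ≤ K₁ := by
    intro x hx
    change π x ∈ Subgroup.center (G ⧸ frattini G)
    have : π x = 1 := by
      rw [QuotientGroup.mk'_apply, QuotientGroup.eq_one_iff]; exact hx
    rw [this]; exact Subgroup.one_mem _
  have hmapK : K₁.map π = Subgroup.center (G ⧸ frattini G) :=
    Subgroup.map_comap_eq_self_of_surjective hπs _
  have hK₁nil : Group.IsNilpotent K₁ := by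
    apply Cfsg.Agent.Lib.Helper2.isNilpotent_of_map_mk_frattini K₁ hΦK
    change Group.IsNilpotent (K₁.map π)
    rw [hmapK]
    exact isNilpotent_of_isMulCommutative
  have hK₁p : IsPGroup p K₁ := isPGroup_of_normal_nilpotent N hstar hp.out hpN K₁
  have haK : a ∈ K₁ := by
    change π a ∈ Subgroup.center (G ⧸ frattini G)
    rw [Subgroup.mem_center_iff]
    intro y
    obtain ⟨g, rfl⟩ := hπs y
    have h1 : π ⁅g, a⁆ = 1 := by
      rw [QuotientGroup.mk'_apply, QuotientGroup.eq_one_iff]; exact hfr g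
    rw [commutatorElement_def, map_mul, map_mul, map_mul, map_inv, map_inv] at h1
    have h2 := mul_inv_eq_one.mp h1
    have h3 := mul_inv_eq_iff_eq_mul.mp h2
    exact h3
  -- `a` is both a `p`-element and a `p'`-element
  obtain ⟨k, hk⟩ := hK₁p ⟨a, haK⟩
  have hk' : a ^ p ^ k = 1 := by
    have := congrArg Subtype.val hk
    simpa using this
  have ho1 : orderOf a ∣ p ^ k := orderOf_dvd_of_pow_eq_one hk'
  have ho2 : orderOf a ∣ Nat.card H := by
    have : orderOf (⟨a, haH⟩ : H) ∣ Nat.card H := orderOf_dvd_natCard _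
    rwa [← Subgroup.orderOf_coe] at this
  have hHcard : Nat.card H = (P : Subgroup G).index := by
    have h1 := hc.card_mul_card
    have h2 := Subgroup.card_mul_index (P : Subgroup G)
    have hpos : 0 < Nat.card (P : Subgroup G) := Nat.card_pos
    exact Nat.eq_of_mul_eq_mul_left hpos (h1.trans h2.symm)
  have hcop : Nat.Coprime (p ^ k) (Nat.card H) := by
    rw [hHcard]
    apply Nat.Coprime.pow_left
    rw [Nat.Prime.coprime_iff_not_dvd hp.out]
    exact P.not_dvd_index
  have : orderOf a ∣ 1 := by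
    have := Nat.dvd_gcd ho1 ho2
    rwa [hcop] at this
  exact orderOf_eq_one_iff.mp (Nat.dvd_one.mp this)

/-- **Cyclic normal subgroup.**  If `G = P H` with `P` centralizing the minimal normal elementary
abelian `p`-subgroup `N`, and `H` abelian of exponent dividing `p - 1`, then `G` has a nontrivial
cyclic normal subgroup. -/
theorem exists_cyclic_normal {G : Type*} [Group G] [Finite G] (N : Subgroup G) [hN : N.Normal]
    (hstar : ∀ K : Subgroup G, K.Normal → K ≠ ⊥ → N ≤ K) (hNne : N ≠ ⊥) {p : ℕ}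
    [hp : Fact p.Prime] (hab : ∀ a ∈ N, ∀ b ∈ N, a * b = b * a) (hexp : ∀ n ∈ N, n ^ p = 1)
    (P H : Subgroup G) (hPN : ∀ x ∈ P, ∀ n ∈ N, x * n = n * x)
    (hdecomp : ∀ g : G, ∃ x ∈ P, ∃ h' ∈ H, g = x * h')
    (hHab : ∀ a ∈ H, ∀ b ∈ H, a * b = b * a) (hHexp : ∀ h ∈ H, h ^ (p - 1) = 1) :
    ∃ C : Subgroup G, C.Normal ∧ C ≠ ⊥ ∧ IsCyclic C := by
  -- conjugation by `g = x h'` on `N` is conjugation by `h'`
  have hconj : ∀ g : G, ∃ h' ∈ H, ∀ n ∈ N, g * n * g⁻¹ = h' * n * h'⁻¹ := by
    intro g
    obtain ⟨x, hx, h', hh', rfl⟩ := hdecomp g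
    refine ⟨h', hh', fun n hn => ?_⟩
    have hn' : h' * n * h'⁻¹ ∈ N := hN.conj_mem n hn h'
    have := hPN x hx _ hn'
    calc x * h' * n * (x * h')⁻¹ = x * (h' * n * h'⁻¹) * x⁻¹ := by group
      _ = (h' * n * h'⁻¹) * x * x⁻¹ := by rw [this]
      _ = h' * n * h'⁻¹ := by group
  -- every element of `H` acts on `N` as a power map
  have hpowmap : ∀ h ∈ H, ∃ c : ℕ, ∀ n ∈ N, h * n * h⁻¹ = n ^ c := by
    intro h hh
    obtain ⟨c, n₀, hn₀, hn₀1, hc⟩ := exists_conj_eq_pow N
      (fun a b => Subtype.ext (hab a a.2 b b.2)) hexp hNne h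
      (by intro n _; rw [hHexp h hh]; simp)
    let E : Subgroup G :=
      { carrier := {n | n ∈ N ∧ h * n * h⁻¹ = n ^ c}
        mul_mem' := by
          rintro a b ⟨ha, ha'⟩ ⟨hb, hb'⟩
          refine ⟨N.mul_mem ha hb, ?_⟩
          have hcm : Commute a b := hab a ha b hb
          rw [hcm.mul_pow, ← ha', ← hb']; group
        one_mem' := ⟨N.one_mem, by simp⟩
        inv_mem' := by
          rintro a ⟨ha, ha'⟩
          refine ⟨N.inv_mem ha, ?_⟩
          rw [inv_pow, ← ha']; group }
    have hEn : E.Normal := by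
      refine ⟨fun n hn g => ?_⟩
      obtain ⟨hn1, hn2⟩ := hn
      obtain ⟨h', hh', hg⟩ := hconj g
      rw [hg n hn1]
      refine ⟨hN.conj_mem n hn1 h', ?_⟩
      have hcm : h * h' = h' * h := hHab h hh h' hh'
      calc h * (h' * n * h'⁻¹) * h⁻¹ = (h * h') * n * (h * h')⁻¹ := by group
        _ = (h' * h) * n * (h' * h)⁻¹ := by rw [hcm]
        _ = h' * (h * n * h⁻¹) * h'⁻¹ := by group
        _ = h' * n ^ c * h'⁻¹ := by rw [hn2]
        _ = (h' * n * h'⁻¹) ^ c := by rw [conj_pow]
    have hEne : E ≠ ⊥ := by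
      intro hE
      have : n₀ ∈ E := ⟨hn₀, hc⟩
      rw [hE, Subgroup.mem_bot] at this
      exact hn₀1 this
    exact ⟨c, fun n hn => (hstar E hEn hEne hn).2⟩
  obtain ⟨n₁, hn₁, hn₁1⟩ := (Subgroup.ne_bot_iff_exists_ne_one).mp hNne |>.imp
    (fun n hn => hn) |> fun ⟨n, hn⟩ => (⟨(n : G), n.2, fun h => hn (Subtype.ext h)⟩ :
      ∃ n₁ : G, n₁ ∈ N ∧ n₁ ≠ 1)
  have hCN : Subgroup.zpowers n₁ ≤ N := (Subgroup.zpowers_le).mpr hn₁
  refine ⟨Subgroup.zpowers n₁, ⟨fun y hy g => ?_⟩, ?_, inferInstance⟩
  · obtain ⟨h', hh', hg⟩ := hconj g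
    obtain ⟨c, hc⟩ := hpowmap h' hh'
    rw [hg y (hCN hy), hc y (hCN hy)]
    exact Subgroup.pow_mem _ hy c
  · intro hC
    have : n₁ ∈ Subgroup.zpowers n₁ := Subgroup.mem_zpowers n₁
    rw [hC, Subgroup.mem_bot] at this
    exact hn₁1 this

universe u

/-- **Huppert's theorem**, by strong induction on the order. -/
theorem huppert_main (n : ℕ) : ∀ {G : Type u} [Group G] [Finite G], Nat.card G = n →
    MaxPrimeIndex G → Cfsg.IsSupersolvable G := by
  induction n using Nat.strong_induction_on with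
  | _ n ih =>
    intro G _ _ hn hmax
    by_cases htriv : Subsingleton G
    · exact Cfsg.Agent.Lib.Helper9.isSupersolvable_of_subsingleton
    have hnt : Nontrivial G := not_subsingleton_iff_nontrivial.mp htriv
    -- quotients by nontrivial normal subgroups are supersolvable
    have hquot : ∀ (K : Subgroup G) [K.Normal], K ≠ ⊥ → Cfsg.IsSupersolvable (G ⧸ K) := by
      intro K _ hK
      refine ih (Nat.card (G ⧸ K)) ?_ rfl (hmax.quotient K)
      rw [← hn, ← Subgroup.index_eq_card, ← Subgroup.card_mul_index K]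
      have h1 : 1 < Nat.card K := by
        rw [Subgroup.one_lt_card_iff_ne_bot]; exact hK
      have h2 : 0 < K.index := Nat.pos_of_ne_zero Subgroup.index_ne_zero_of_finite
      nlinarith
    -- a minimal normal subgroup
    let S : Set (Subgroup G) := {K | K.Normal ∧ K ≠ ⊥}
    have hSne : S.Nonempty := ⟨⊤, inferInstance, top_ne_bot⟩
    obtain ⟨N, ⟨hNn, hNne⟩, hNmin⟩ := wellFounded_lt.has_min S hSne
    by_cases hstar : ∀ K : Subgroup G, K.Normal → K ≠ ⊥ → N ≤ K
    swap
    · -- two independent normal subgroups: embed into a product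
      push Not at hstar
      obtain ⟨K, hKn, hKne, hNK⟩ := hstar
      have hinf : N ⊓ K = ⊥ := by
        by_contra hne
        have hmem : N ⊓ K ∈ S := ⟨inferInstance, hne⟩
        have hnlt := hNmin _ hmem
        have hle : N ⊓ K ≤ N := inf_le_left
        have heq : N ⊓ K = N := by
          by_contra hne'
          exact hnlt (lt_of_le_of_ne hle hne')
        exact hNK (heq ▸ inf_le_right)
      exact isSupersolvable_of_inf_eq_bot N K hinf (hquot N hNne) (hquot K hKne)
    -- unique minimal normal subgroup `N`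
    have hsolv : Group.IsSolvable G := Cfsg.Agent.S0580.result hmax
    have hab := abelian_of_solvable_of_min N hstar
    have hcard1 : Nat.card N ≠ 1 := by
      intro h; exact hNne (Subgroup.card_eq_one.mp h)
    obtain ⟨p, hp, hpN⟩ := Nat.exists_prime_and_dvd hcard1
    have hpf : Fact p.Prime := ⟨hp⟩
    have hexp := pow_eq_one_of_min N hstar hab hp hpN
    by_cases hΦ : ∃ M : Subgroup G, IsCoatom M ∧ ¬ N ≤ M
    · -- `N` is complemented by a maximal subgroup, so has prime order
      obtain ⟨M, hM, hNM⟩ := hΦ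
      have hsup : N ⊔ M = ⊤ := by
        apply hM.2
        apply lt_of_le_of_ne le_sup_right
        intro h
        apply hNM
        rw [h]; exact le_sup_left
      have hinfn : (N ⊓ M).Normal := inf_normal_of_abelian_sup_eq_top N M hab hsup
      have hinf : N ⊓ M = ⊥ := by
        by_contra hne
        exact hNM ((hstar _ hinfn hne).trans inf_le_right)
      have hcard : Nat.card N = M.index := card_eq_index_of_complement N M hinf hsup
      have hprime : (Nat.card N).Prime := hcard ▸ hmax M hM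
      have : Fact (Nat.card N).Prime := ⟨hprime⟩
      have : IsCyclic N := isCyclic_of_prime_card rfl
      exact Cfsg.Agent.Lib.Helper9.isSupersolvable_of_quotient_cyclic N (hquot N hNne)
    · -- `N ≤ Φ(G)`
      push Not at hΦ
      have hNΦ : N ≤ frattini G := fun x hx => (mem_frattini_iff x).mpr fun M hM => hΦ M hM hx
      have hΦne : frattini G ≠ ⊥ := fun h => hNne (le_bot_iff.mp (h ▸ hNΦ))
      have hGΦ := hquot (frattini G) hΦne
      have hnilc : Group.IsNilpotent (commutator (G ⧸ frattini G)) := Cfsg.Agent.S0526.result hGΦ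
      let π := QuotientGroup.mk' (frattini G)
      have hπs : Function.Surjective π := QuotientGroup.mk'_surjective _
      let F : Subgroup G := (commutator (G ⧸ frattini G)).comap π
      have hFn : F.Normal := inferInstance
      have hΦF : frattini G ≤ F := by
        intro x hx
        change π x ∈ commutator (G ⧸ frattini G)
        have : π x = 1 := by
          rw [QuotientGroup.mk'_apply, QuotientGroup.eq_one_iff]; exact hx
        rw [this]; exact Subgroup.one_mem _
      have hFnil : Group.IsNilpotent F := by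
        apply Cfsg.Agent.Lib.Helper2.isNilpotent_of_map_mk_frattini F hΦF
        change Group.IsNilpotent (F.map π)
        rw [Subgroup.map_comap_eq_self_of_surjective hπs]
        exact hnilc
      have hFp : IsPGroup p F := isPGroup_of_normal_nilpotent N hstar hp hpN F
      have hcommF : commutator G ≤ F := by
        intro x hx
        change π x ∈ commutator (G ⧸ frattini G)
        have h1 : π x ∈ (commutator G).map π := Subgroup.mem_map_of_mem π hx
        rw [commutator_def, Subgroup.map_commutator] at h1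
        rw [commutator_def]
        exact Subgroup.commutator_mono le_top le_top h1
      obtain ⟨P⟩ : Nonempty (Sylow p G) := inferInstance
      have hFP : F ≤ P := hFp.le_sylow_of_normal P
      have hcommP : commutator G ≤ P := hcommF.trans hFP
      have hPn : (P : Subgroup G).Normal := normal_of_commutator_le _ hcommP
      obtain ⟨H, hc⟩ := Subgroup.exists_right_complement'_of_coprime
        (N := (P : Subgroup G)) P.card_coprime_index
      -- `H` is abelian
      have hHab : ∀ a ∈ H, ∀ b ∈ H, a * b = b * a := by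
        intro a ha b hb
        have h1 : ⁅a, b⁆ ∈ (P : Subgroup G) := hcommP (Subgroup.commutator_mem_commutator
          (Subgroup.mem_top a) (Subgroup.mem_top b))
        have h2 : ⁅a, b⁆ ∈ H := by
          rw [commutatorElement_def]
          exact H.mul_mem (H.mul_mem (H.mul_mem ha hb) (H.inv_mem ha)) (H.inv_mem hb)
        have h3 : ⁅a, b⁆ ∈ (P : Subgroup G) ⊓ H := ⟨h1, h2⟩
        rw [hc.disjoint.eq_bot, Subgroup.mem_bot] at h3
        exact commutatorElement_eq_one_iff_mul_comm.mp h3
      have hHexp : ∀ h ∈ H, h ^ (p - 1) = 1 := fun h hh =>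
        pow_pred_eq_one_of_complement hmax N hstar hpN P hcommP H hc hHab h hh
      -- `N` is central in `P`
      have hPnt : Nontrivial (P : Subgroup G) := by
        have : N ≤ P := hNΦ.trans (hΦF.trans hFP)
        rw [Subgroup.nontrivial_iff_ne_bot]
        intro h
        exact hNne (le_bot_iff.mp (h ▸ this))
      have hZnt : Nontrivial (Subgroup.center (P : Subgroup G)) := P.isPGroup'.center_nontrivial
      have hZn : ((Subgroup.center (P : Subgroup G)).map (P : Subgroup G).subtype).Normal :=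
        inferInstance
      have hZne : (Subgroup.center (P : Subgroup G)).map (P : Subgroup G).subtype ≠ ⊥ := by
        intro h
        rw [(Subgroup.map_eq_bot_iff_of_injective _ (Subgroup.subtype_injective _))] at h
        exact (Subgroup.nontrivial_iff_ne_bot _).mp hZnt h
      have hNZ := hstar _ hZn hZne
      have hPN : ∀ x ∈ (P : Subgroup G), ∀ n ∈ N, x * n = n * x := by
        intro x hx n hn
        obtain ⟨z, hz, rfl⟩ := hNZ hn
        have := Subgroup.mem_center_iff.mp hz ⟨x, hx⟩
        have := congrArg Subtype.val this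
        simpa using this
      have hdecomp : ∀ g : G, ∃ x ∈ (P : Subgroup G), ∃ h' ∈ H, g = x * h' := by
        intro g
        have hg : g ∈ (P : Subgroup G) ⊔ H := by rw [hc.sup_eq_top]; trivial
        have hset : (((P : Subgroup G) ⊔ H : Subgroup G) : Set G) = (P : Subgroup G) * H :=
          Subgroup.normal_mul (P : Subgroup G) H
        have hg' : g ∈ ((P : Subgroup G) : Set G) * (H : Set G) := by
          rw [← hset]; exact hg
        obtain ⟨x, hx, h', hh', rfl⟩ := Set.mem_mul.mp hg'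
        exact ⟨x, hx, h', hh', rfl⟩
      obtain ⟨C, hCn, hCne, hCcyc⟩ := exists_cyclic_normal N hstar hNne hab hexp
        (P : Subgroup G) H hPN hdecomp hHab hHexp
      exact Cfsg.Agent.Lib.Helper9.isSupersolvable_of_quotient_cyclic C (hquot C hCne)

end Cfsg.Agent.Lib.Helper76
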