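import Mathlib
import Cfsg.Agent.Lib.Helper1.ThompsonFpf

/-!
# Module [CNIL] for helper22 (S1376/S1436): Thompson's theorem with central fixed points

If `y` (of order dividing a prime `q`) normalizes `C`, and its fixed points on `C` lie in a
central `q'`-subgroup `K` of `C` which `y` centralizes, then `C` is nilpotent.
-/

set_option autoImplicit false

namespace Cfsg.Agent.Lib.Helper76.BGCnil

open Cfsg.Agent.Lib.Helper1

variable {G : Type*} [Group G] [Finite G]

theorem isNilpotent_of_centralizer_le_center (q : ℕ) (hq : q.Prime) (C K : Subgroup G) (y : G)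
    (hyq : y ^ q = 1) (hyC : ∀ c ∈ C, y * c * y⁻¹ ∈ C) (hKC : K ≤ C)
    (hKZ : ∀ k ∈ K, ∀ c ∈ C, k * c = c * k) (hyK : ∀ k ∈ K, y * k = k * y)
    (hcop : (Nat.card K).Coprime q)
    (hfix : ∀ c ∈ C, y * c = c * y → c ∈ K) : Group.IsNilpotent C := by
  -- conjugation by `y⁻¹` also preserves `C`
  have hyC' : ∀ c ∈ C, y⁻¹ * c * y ∈ C := by
    have hinj : Function.Injective (fun c : C => (⟨y * c * y⁻¹, hyC c c.2⟩ : C)) := by
      intro c d h
      have h1 : y * (c : G) * y⁻¹ = y * (d : G) * y⁻¹ := congrArg Subtype.val h
      apply Subtype.ext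
      simpa using h1
    have hsurj := Finite.surjective_of_injective hinj
    intro c hc
    obtain ⟨z, hz⟩ := hsurj ⟨c, hc⟩
    have h1 : y * (z : G) * y⁻¹ = c := congrArg Subtype.val hz
    have : y⁻¹ * c * y = z := by rw [← h1]; group
    rw [this]; exact z.2
  let φ : MulAut C :=
    { toFun := fun c => ⟨y * c * y⁻¹, hyC c c.2⟩
      invFun := fun c => ⟨y⁻¹ * c * y, hyC' c c.2⟩
      left_inv := fun c => by apply Subtype.ext; simp [mul_assoc]
      right_inv := fun c => by apply Subtype.ext; simp [mul_assoc]
      map_mul' := fun c d => by apply Subtype.ext; simp [mul_assoc] }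
  have hφapp : ∀ c : C, ((φ c : C) : G) = y * c * y⁻¹ := fun c => rfl
  have hφpow : ∀ (n : ℕ) (c : C), (((φ ^ n) c : C) : G) = y ^ n * c * (y ^ n)⁻¹ := by
    intro n
    induction n with
    | zero => intro c; simp
    | succ n ih =>
      intro c
      rw [pow_succ', MulAut.mul_apply, hφapp, ih c, pow_succ']
      group
  have hpow : φ ^ q = 1 := by
    ext c
    rw [hφpow q c, hyq]
    simp
  -- `K` as a central subgroup of `C`
  let K' : Subgroup C := K.subgroupOf C
  have hK'center : K' ≤ Subgroup.center C := by
    intro k hk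
    rw [Subgroup.mem_center_iff]
    intro c
    apply Subtype.ext
    exact (hKZ k hk c c.2).symm
  have hK'n : K'.Normal := ⟨fun n hn g => by
    have := hK'center hn
    rw [Subgroup.mem_center_iff] at this
    rw [this g, mul_inv_cancel_right]
    exact hn⟩
  have hφK : ∀ k : C, k ∈ K' → φ k = k := by
    intro k hk
    apply Subtype.ext
    rw [hφapp, hyK k hk]
    group
  have hinv : AutInv φ K' := by
    apply le_antisymm
    · rintro _ ⟨k, hk, rfl⟩
      have : φ k = k := hφK k hk
      show φ k ∈ K'
      rw [this]; exact hk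
    · intro k hk
      exact ⟨k, hk, hφK k hk⟩
  -- the induced automorphism on `C ⧸ K'` is fixed-point-free
  have hfpf : ∀ x : C ⧸ K', quotAut φ K' hinv x = x → x = 1 := by
    intro x
    induction x using QuotientGroup.induction_on with
    | H c =>
      intro hx
      rw [quotAut_mk] at hx
      have h1 : c⁻¹ * φ c ∈ K' := QuotientGroup.eq.mp hx.symm
      set k : C := c⁻¹ * φ c with hk
      have hφc : φ c = c * k := by rw [hk]; group
      have hkfix : φ k = k := hφK k h1
      have hkcomm : ∀ d : C, k * d = d * k := by
        intro d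
        have := hK'center h1
        rw [Subgroup.mem_center_iff] at this
        exact (this d).symm
      have hiter : ∀ n : ℕ, (φ ^ n) c = c * k ^ n := by
        intro n
        induction n with
        | zero => simp
        | succ n ih =>
          rw [pow_succ', MulAut.mul_apply, ih, map_mul, map_pow, hφc, hkfix, pow_succ',
            mul_assoc]
      have hkq : k ^ q = 1 := by
        have := hiter q
        rw [hpow, MulAut.one_apply] at this
        exact (mul_eq_left.mp this.symm)
      have hkK : (k : G) ∈ K := h1
      have hkcard : (k : G) ^ Nat.card K = 1 := by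
        have := pow_card_eq_one' (G := K) (x := ⟨(k : G), hkK⟩)
        exact congrArg Subtype.val this
      have hkq' : (k : G) ^ q = 1 := by
        have := congrArg Subtype.val hkq
        simpa using this
      have hk1 : (k : G) = 1 := by
        have h := pow_gcd_eq_one.mpr ⟨hkcard, hkq'⟩
        rw [Nat.Coprime] at hcop
        rw [hcop, pow_one] at h
        exact h
      have hk1' : k = 1 := Subtype.ext hk1
      rw [hk1', mul_one] at hφc
      have h2 : y * (c : G) * y⁻¹ = c := congrArg Subtype.val hφc
      have h3 : y * (c : G) = c * y := by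
        calc y * (c : G) = y * c * y⁻¹ * y := by group
          _ = c * y := by rw [h2]
      have h4 : (c : G) ∈ K := hfix c c.2 h3
      exact (QuotientGroup.eq_one_iff c).mpr h4
  have hnilq : Group.IsNilpotent (C ⧸ K') :=
    fpf_nilpotent_aux q hq _ (C ⧸ K') rfl (quotAut φ K' hinv)
      (quotAut_pow_eq_one φ K' hinv q hpow) hfpf
  exact Subgroup.isNilpotent_of_ker_le_center (QuotientGroup.mk' K')
    (by rw [QuotientGroup.ker_mk']; exact hK'center)

end Cfsg.Agent.Lib.Helper76.BGCnil
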