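import Mathlib
import Cfsg.Agent.Lib.Helper22.BGFifteenNineA
import Cfsg.Agent.S1418
import Cfsg.Agent.S1419
import Cfsg.Agent.S1354
import Cfsg.Agent.Lib.Helper76.BGCnil

/-!
# B&G Corollary 15.9 (S1376): module [S1] for helper22

In the configuration `Ctx M N Nstar K U x p t`, for `s ∈ τ₂(M)`, `s ≠ t`, there is an elementary
abelian subgroup `B ≤ M ∩ N*` of order `s²` centralized by `K` and normalized by
`K* = N_σ ∩ C_G(K)`.
-/

set_option autoImplicit false
set_option linter.style.haveILetI false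
set_option linter.unusedVariables false
set_option linter.unusedSectionVars false

namespace Cfsg.Agent.Lib.Helper76.BGFifteenNineS1

open Cfsg
open Cfsg.Agent.Lib.Helper22.BGFifteenNine

universe u

variable {G : Type u} [Group G] [Finite G]

/-- an elementary abelian group of order `s²` is not cyclic -/
theorem not_isCyclic_of_elemAb_sq {s : ℕ} (hs : s.Prime) (B : Subgroup G)
    (hBe : IsElementaryAbelian s B) (hBc : Nat.card B = s ^ 2) : ¬ IsCyclic B := by
  intro hc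
  have h1 : Monoid.exponent B = Nat.card B := IsCyclic.exponent_eq_card
  have h2 : Monoid.exponent B ∣ s := Monoid.exponent_dvd_of_forall_pow_eq_one (fun b =>
    Subtype.ext (by simpa using hBe.2 b b.2))
  rw [h1, hBc] at h2
  have := Nat.le_of_dvd hs.pos h2
  nlinarith [hs.two_le]

/-- a subgroup of `E` of order prime to the index of the normal subgroup `U` of `E` lies in `U` -/
theorem le_of_coprime_relIndex' {U E Y : Subgroup G} (hUE : U ≤ E)
    (hEU : E ≤ Subgroup.normalizer (U : Set G)) (hYE : Y ≤ E)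
    (hcop : (Nat.card Y).Coprime (U.relIndex E)) : Y ≤ U := by
  have hn : (U.subgroupOf E).Normal := (Subgroup.normal_subgroupOf_iff_le_normalizer hUE).mpr hEU
  have hcop' : (Nat.card (Y.subgroupOf E)).Coprime (U.subgroupOf E).index := by
    rw [Nat.card_congr (Subgroup.subgroupOfEquivOfLe hYE).toEquiv]
    exact hcop
  have h1 := Cfsg.Agent.Lib.Helper54.le_of_normal_of_coprime_index (U.subgroupOf E) hcop'
  intro y hy
  have h2 : (⟨y, hYE hy⟩ : ↥E) ∈ Y.subgroupOf E := Subgroup.mem_subgroupOf.mpr hy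
  exact Subgroup.mem_subgroupOf.mp (h1 h2)

/-- commutativity passes to all Sylow subgroups -/
theorem sylow_comm_of_exists {s : ℕ} [Fact s.Prime] (S0 : Sylow s G)
    (hS0 : IsMulCommutative (S0 : Subgroup G)) (Q : Sylow s G) :
    ∀ a ∈ (Q : Subgroup G), ∀ b ∈ (Q : Subgroup G), a * b = b * a := by
  obtain ⟨g, hg⟩ := MulAction.exists_smul_eq G S0 Q
  subst hg
  let e := Sylow.equivSMul S0 g
  intro a ha b hb
  obtain ⟨a', ha'⟩ := e.surjective ⟨a, ha⟩
  obtain ⟨b', hb'⟩ := e.surjective ⟨b, hb⟩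
  have h1 : (⟨a, ha⟩ : ↥(g • S0 : Sylow s G)) * ⟨b, hb⟩ = ⟨b, hb⟩ * ⟨a, ha⟩ := by
    rw [← ha', ← hb', ← map_mul, ← map_mul, hS0.is_comm.comm a' b']
  exact congrArg Subtype.val h1

section CtxFacts

variable {M N Nstar K U : Subgroup G} {x : G} {p t : ℕ}

theorem K_le_sigmaCore_Nstar (h : Ctx M N Nstar K U x p t) : K ≤ sigmaCore Nstar := by
  intro k hk
  have h1 := h.hKst
  rw [h1] at hk
  exact hk.1

theorem K_comm (h : Ctx M N Nstar K U x p t) : ∀ a ∈ K, ∀ b ∈ K, a * b = b * a := by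
  intro a ha b hb
  haveI := h.hKU.cyclic
  have := (IsCyclic.isMulCommutative (α := ↥K)).is_comm.comm ⟨a, ha⟩ ⟨b, hb⟩
  exact congrArg Subtype.val this

/-- an element of `N*` centralizing `K` normalizes `C = N*_σ ∩ C_G(K)` -/
theorem conj_mem_C (h : Ctx M N Nstar K U x p t) {y : G} (hyNs : y ∈ Nstar)
    (hyK : ∀ k ∈ K, y * k = k * y) {c : G}
    (hc : c ∈ sigmaCore Nstar ⊓ Subgroup.centralizer (K : Set G)) :
    y * c * y⁻¹ ∈ sigmaCore Nstar ⊓ Subgroup.centralizer (K : Set G) := by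
  refine Subgroup.mem_inf.mpr ⟨Cfsg.Agent.Lib.Helper50.conj_mem_sigmaCore hyNs hc.1, ?_⟩
  rw [Subgroup.mem_centralizer_iff]
  intro k hk
  have h1 : k * c = c * k := (Subgroup.mem_centralizer_iff.mp hc.2) k hk
  have h2 : y * k = k * y := hyK k hk
  have h3 : k * y⁻¹ = y⁻¹ * k := by
    rw [eq_inv_mul_iff_mul_eq, ← mul_assoc, h2, mul_assoc, mul_inv_cancel, mul_one]
  calc k * (y * c * y⁻¹) = (k * y) * c * y⁻¹ := by group
    _ = y * (k * c) * y⁻¹ := by rw [← h2]; group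
    _ = y * (c * k) * y⁻¹ := by rw [h1]
    _ = y * c * (k * y⁻¹) := by group
    _ = y * c * (y⁻¹ * k) := by rw [h3]
    _ = y * c * y⁻¹ * k := by group

/-- `K* = N_σ ∩ C_G(K)` lies in `N*` and centralizes `K` -/
theorem Kstar_facts (h : Ctx M N Nstar K U x p t) {y : G}
    (hy : y ∈ sigmaCore N ⊓ Subgroup.centralizer (K : Set G)) :
    y ∈ Nstar ∧ ∀ k ∈ K, y * k = k * y :=
  ⟨h.hKstH.1 hy, fun k hk => ((Subgroup.mem_centralizer_iff.mp hy.2) k hk).symm⟩

/-- Step (4): `C = N*_σ ∩ C_G(K)` is nilpotent. -/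
theorem C_nilpotent (hG : IsMinSimpleOddOrder G) (h : Ctx M N Nstar K U x p t) :
    Group.IsNilpotent ↥(sigmaCore Nstar ⊓ Subgroup.centralizer (K : Set G)) := by
  have hKs1 : sigmaCore N ⊓ Subgroup.centralizer (K : Set G) ≠ ⊥ :=
    (Cfsg.Agent.S1354.result hG N h.hN K h.hKU.cyclic h.hKU.hall).1
  have hcard : Nat.card ↥(sigmaCore N ⊓ Subgroup.centralizer (K : Set G)) ≠ 1 :=
    fun hc => hKs1 (Subgroup.card_eq_one.mp hc)
  obtain ⟨q, hq, hqd⟩ := Nat.exists_prime_and_dvd hcard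
  haveI : Fact q.Prime := ⟨hq⟩
  obtain ⟨y, hy⟩ := exists_prime_orderOf_dvd_card'
    (G := ↥(sigmaCore N ⊓ Subgroup.centralizer (K : Set G))) q hqd
  have hyKs : (y : G) ∈ sigmaCore N ⊓ Subgroup.centralizer (K : Set G) := y.2
  have hyo : orderOf (y : G) = q := by rw [Subgroup.orderOf_coe, hy]
  have hy1 : (y : G) ≠ 1 := by
    intro h1
    rw [h1, orderOf_one] at hyo
    exact hq.one_lt.ne hyo
  have hyq : (y : G) ^ q = 1 := by rw [← hyo]; exact pow_orderOf_eq_one _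
  obtain ⟨hyNs, hyK⟩ := Kstar_facts h hyKs
  apply Cfsg.Agent.Lib.Helper76.BGCnil.isNilpotent_of_centralizer_le_center q hq _ K (y : G) hyq
  · intro c hc
    exact conj_mem_C h hyNs hyK hc
  · intro k hk
    refine Subgroup.mem_inf.mpr ⟨K_le_sigmaCore_Nstar h hk, ?_⟩
    rw [Subgroup.mem_centralizer_iff]
    intro k' hk'
    exact K_comm h k' hk' k hk
  · intro k hk c hc
    exact (Subgroup.mem_centralizer_iff.mp hc.2) k hk
  · exact hyK
  · rw [h.hKt, Nat.coprime_primes h.tp hq]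
    intro htq
    have htσ : t ∈ sigma Nstar := by
      apply Cfsg.Agent.Lib.Helper54.sigmaCore_isPi Nstar t h.tp
      have : Nat.card K ∣ Nat.card (sigmaCore Nstar) :=
        Subgroup.card_dvd_of_le (K_le_sigmaCore_Nstar h)
      rwa [h.hKt] at this
    have hqκ : q ∈ kappa Nstar := h.hKstH.2.1 q hq hqd
    rw [htq] at htσ
    exact hqκ.2.2.1 htσ
  · intro c hc hyc
    have h30 := (Cfsg.Agent.S1430.result hG Nstar h.hNs
      (sigmaCore N ⊓ Subgroup.centralizer (K : Set G)) h.hKstH hKs1).1 (y : G) hyKs hy1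
    have hc' : c ∈ sigmaCore Nstar ⊓ Subgroup.centralizer ({(y : G)} : Set G) :=
      ⟨hc.1, Subgroup.mem_centralizer_singleton_iff.mpr hyc.symm⟩
    rw [h30] at hc'
    have h1 := h.hKst
    rw [h1]
    exact hc'

/-- Step (3): `B ≤ N*_σ`. -/
theorem B_le_sigmaCore_Nstar (hG : IsMinSimpleOddOrder G) (h : Ctx M N Nstar K U x p t)
    {s : ℕ} [Fact s.Prime] (B : Subgroup G) (hBN : B ≤ Nstar) (hBe : IsElementaryAbelian s B)
    (hBc : Nat.card B = s ^ 2) (hKB : ∀ k ∈ K, ∀ b ∈ B, k * b = b * k) :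
    B ≤ sigmaCore Nstar := by
  have hsP : s.Prime := Fact.out
  have hBp : IsPGroup s B := by
    intro b
    exact ⟨1, by rw [pow_one]; exact Subtype.ext (by simpa using hBe.2 b b.2)⟩
  have hsN : s ∣ Nat.card Nstar := by
    have h1 : Nat.card B ∣ Nat.card Nstar := Subgroup.card_dvd_of_le hBN
    rw [hBc] at h1
    exact (dvd_pow_self s two_ne_zero).trans h1
  obtain ⟨S, hS⟩ := (hBp.comap_subtype (K := Nstar)).exists_le_sylow
  have hBS : B ≤ (S : Subgroup Nstar).map Nstar.subtype := by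
    intro b hb
    exact ⟨⟨b, hBN hb⟩, hS (Subgroup.mem_subgroupOf.mpr hb), rfl⟩
  have hsσ : s ∈ sigma Nstar := by
    by_contra hsσ
    have hsκ : s ∉ kappa Nstar := by
      intro hκ
      haveI hcyc : IsCyclic (S : Subgroup Nstar) := (hκ.2.2.2 S).1
      have hcyc2 : IsCyclic (B.subgroupOf Nstar) :=
        isCyclic_of_injective (Subgroup.inclusion hS) (Subgroup.inclusion_injective hS)
      have : IsCyclic B :=
        isCyclic_of_surjective (Subgroup.subgroupOfEquivOfLe hBN).toMonoidHom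
          (Subgroup.subgroupOfEquivOfLe hBN).surjective
      exact not_isCyclic_of_elemAb_sq hsP B hBe hBc this
    have hP1 : ¬ (∀ q : ℕ, q.Prime → q ∣ Nat.card Nstar → q ∉ sigma Nstar → q ∈ kappa Nstar) :=
      fun hall => hsκ (hall s hsP hsN hsσ)
    obtain ⟨hΩc, hΩ, -⟩ := Cfsg.Agent.S1429.result hG Nstar h.hNs hP1 s hsN
      (by rintro (h1 | h1); exact hsσ h1; exact hsκ h1) S
    have hBΩ : B ≤ Subgroup.closure
        {x : G | x ∈ (S : Subgroup Nstar).map Nstar.subtype ∧ x ^ s = 1} :=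
      fun b hb => Subgroup.subset_closure ⟨hBS hb, hBe.2 b hb⟩
    have hΩB : B = Subgroup.closure
        {x : G | x ∈ (S : Subgroup Nstar).map Nstar.subtype ∧ x ^ s = 1} :=
      Subgroup.eq_of_le_of_card_ge hBΩ (by rw [hBc]; exact hΩc)
    have hK : K ≤ sigmaCore Nstar ⊓ Subgroup.centralizer ((Subgroup.closure
        {x : G | x ∈ (S : Subgroup Nstar).map Nstar.subtype ∧ x ^ s = 1} : Subgroup G) : Set G) := by
      intro k hk
      refine Subgroup.mem_inf.mpr ⟨K_le_sigmaCore_Nstar h hk, ?_⟩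
      rw [← hΩB, Subgroup.mem_centralizer_iff]
      intro b hb
      exact (hKB k hk b hb).symm
    rw [hΩ] at hK
    exact h.K_ne_bot (eq_bot_iff.mpr hK)
  apply Cfsg.Agent.Lib.Helper54.le_sigmaCore_of_isPi hG (uniq hG) Nstar h.hNs hBN
  intro r hr hrB
  rw [hBc] at hrB
  have := (Nat.prime_dvd_prime_iff_eq hr hsP).mp (hr.dvd_of_dvd_pow hrB)
  rw [this]
  exact hsσ

/-- Step (5): the Sylow `s`-subgroups of `G` are abelian. -/
theorem exists_abelian_sylow (hG : IsMinSimpleOddOrder G) (h : Ctx M N Nstar K U x p t)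
    {s : ℕ} [Fact s.Prime] (hs : s ∈ tau2 M) (hst : s ≠ t) (B : Subgroup G)
    (hBE : B ≤ M ⊓ Nstar) (hBe : IsElementaryAbelian s B) (hBc : Nat.card B = s ^ 2) :
    ∃ S : Sylow s G, IsMulCommutative (S : Subgroup G) := by
  have hsP : s.Prime := Fact.out
  by_contra hno
  push Not at hno
  obtain ⟨-, ⟨hA0c, -⟩, -⟩ := Cfsg.Agent.S1419.result hG M h.hM (M ⊓ Nstar) h.hE s hs hno B
    ⟨hBE, hBe, hBc⟩
  have hA0NM : B ⊓ Subgroup.centralizer (sigmaCore M : Set G) ≤ N ⊓ M := by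
    intro a ha
    refine Subgroup.mem_inf.mpr ⟨h.hCxN ?_, (hBE ha.1).1⟩
    rw [Subgroup.mem_centralizer_singleton_iff]
    exact ((Subgroup.mem_centralizer_iff.mp ha.2) x h.hxσ).symm
  rw [h.hNM] at hA0NM
  have hUK : U ⊓ K = ⊥ := by
    have := h.hKU.compl.2.2.1
    rw [eq_bot_iff, ← this]
    exact inf_le_inf_left _ le_sup_left
  have hrel : U.relIndex (U ⊔ K) = t := by
    rw [sup_comm, Cfsg.Agent.Lib.Helper54.relIndex_sup_of_le_normalizer h.hKU.normal,
      ← Subgroup.inf_relIndex_right, hUK, Subgroup.relIndex_bot_left, h.hKt]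
  have hA0U : B ⊓ Subgroup.centralizer (sigmaCore M : Set G) ≤ U := by
    apply le_of_coprime_relIndex' le_sup_left (sup_le Subgroup.le_normalizer h.hKU.normal) hA0NM
    rw [hrel, hA0c]
    exact (Nat.coprime_primes hsP h.tp).mpr hst
  have h2 : B ⊓ Subgroup.centralizer (sigmaCore M : Set G) ≤ (M ⊓ Nstar) ⊓ sigmaCore M :=
    fun a ha => ⟨hBE ha.1, h.hUσ (hA0U ha)⟩
  rw [h.inf_sigmaCore] at h2
  have h1 : B ⊓ Subgroup.centralizer (sigmaCore M : Set G) = ⊥ := eq_bot_iff.mpr h2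
  rw [h1, Subgroup.card_bot] at hA0c
  exact hsP.one_lt.ne hA0c

/-- **Module [S1]**. -/
theorem exists_elemAb_normalized (hG : IsMinSimpleOddOrder G) {M N Nstar K U : Subgroup G} {x : G}
    {p t : ℕ} (h : Ctx M N Nstar K U x p t) {s : ℕ} (hs : s ∈ tau2 M) (hst : s ≠ t) :
    ∃ B : Subgroup G, B ≤ M ⊓ Nstar ∧ IsElementaryAbelian s B ∧ Nat.card B = s ^ 2 ∧
      (∀ k ∈ K, ∀ b ∈ B, k * b = b * k) ∧
      sigmaCore N ⊓ Subgroup.centralizer (K : Set G) ≤ Subgroup.normalizer (B : Set G) := by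
  have hsP : s.Prime := hs.1
  haveI : Fact s.Prime := ⟨hsP⟩
  have hr1 : ¬ PRankLE s 1 ↥(M ⊓ Nstar) :=
    Cfsg.Agent.Lib.Helper97.BGTwelve.not_pRankLE_complement h.hE
      (Cfsg.Agent.Lib.Helper54.sigmaCore_isPi M) hs.2.1 hs.2.2.2
  obtain ⟨B, hBE, hBe, hBc⟩ :=
    Cfsg.Agent.Lib.Helper97.BGTwelve.exists_elemAb_sq_of_not_pRankLE_one (M ⊓ Nstar) hr1
  obtain ⟨⟨hEN, hXB⟩, ⟨hCB, hMNB, -⟩, -⟩ :=
    Cfsg.Agent.S1418.result hG M h.hM (M ⊓ Nstar) h.hE s hs B ⟨hBE, hBe, hBc⟩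
  have hBcomm : ∀ a ∈ B, ∀ b ∈ B, a * b = b * a := fun a ha b hb =>
    congrArg Subtype.val (hBe.1.is_comm.comm ⟨a, ha⟩ ⟨b, hb⟩)
  -- (2) `K` centralizes `B`
  have hKB : ∀ k ∈ K, ∀ b ∈ B, k * b = b * k := by
    intro k hk b hb
    have hBnil : Group.IsNilpotent ↥B := by
      let _ : CommGroup ↥B :=
        { (inferInstance : Group ↥B) with
          mul_comm := fun a b => Subtype.ext (hBcomm a a.2 b b.2) }
      exact CommGroup.isNilpotent
    have hBF : B ≤ fittingOf (M ⊓ Nstar) := Cfsg.Agent.Lib.Helper34.le_fittingOf hBE hEN hBnil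
    apply Cfsg.Agent.Lib.Helper52.comm_of_coprime_of_mem_nilpotent (fittingOf (M ⊓ Nstar))
      (Cfsg.Agent.Lib.Helper34.fittingOf_isNilpotent _) (h.hKF hk) (hBF hb)
    have h1 : orderOf k ∣ t := by
      rw [← h.hKt]
      exact Subgroup.orderOf_dvd_natCard K hk
    have h2 : orderOf b ∣ s := orderOf_dvd_of_pow_eq_one (hBe.2 b hb)
    exact Nat.Coprime.coprime_dvd_left h1
      (Nat.Coprime.coprime_dvd_right h2 ((Nat.coprime_primes h.tp hsP).mpr hst.symm))
  -- (3)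
  have hBσ : B ≤ sigmaCore Nstar :=
    B_le_sigmaCore_Nstar hG h B (hBE.trans inf_le_right) hBe hBc hKB
  -- (4)
  have hCnil := C_nilpotent hG h
  -- (5)
  obtain ⟨S0, hS0⟩ := exists_abelian_sylow hG h hs hst B hBE hBe hBc
  -- (6)
  obtain ⟨S, hSC, hSp, hSmem⟩ := Cfsg.Agent.Lib.Helper52.exists_pSubgroup_of_nilpotent
    (sigmaCore Nstar ⊓ Subgroup.centralizer (K : Set G)) hCnil s
  have hBC : B ≤ sigmaCore Nstar ⊓ Subgroup.centralizer (K : Set G) := fun b hb =>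
    Subgroup.mem_inf.mpr ⟨hBσ hb, by
      rw [Subgroup.mem_centralizer_iff]
      intro k hk
      exact hKB k hk b hb⟩
  have hBS : B ≤ S := by
    intro b hb
    by_cases hb1 : b = 1
    · rw [hb1]; exact S.one_mem
    · exact hSmem b (hBC hb) 1 (by rw [pow_one]; exact orderOf_eq_prime (hBe.2 b hb) hb1)
  obtain ⟨Q, hQ⟩ := hSp.exists_le_sylow
  have hQcomm := sylow_comm_of_exists S0 hS0 Q
  refine ⟨B, hBE, hBe, hBc, hKB, ?_⟩
  apply Cfsg.Agent.Lib.Helper54.le_normalizer_of_conj_mem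
  intro k hk b hb
  by_cases hb1 : b = 1
  · rw [hb1, mul_one, mul_inv_cancel]
    exact B.one_mem
  obtain ⟨hkNs, hkK⟩ := Kstar_facts h hk
  have hkb : k * b * k⁻¹ ∈ sigmaCore Nstar ⊓ Subgroup.centralizer (K : Set G) :=
    conj_mem_C h hkNs hkK (hBC hb)
  have hord : orderOf (k * b * k⁻¹) = s := by
    have hsc : SemiconjBy k b (k * b * k⁻¹) := by
      unfold SemiconjBy
      group
    rw [← SemiconjBy.orderOf_eq k hsc]
    exact orderOf_eq_prime (hBe.2 b hb) hb1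
  have hkbS : k * b * k⁻¹ ∈ S := hSmem _ hkb 1 (by rw [pow_one, hord])
  have hkbE : k * b * k⁻¹ ∈ M ⊓ Nstar := by
    have h1 : k * b * k⁻¹ ∈ Subgroup.centralizer (B : Set G) := by
      rw [Subgroup.mem_centralizer_iff]
      intro b' hb'
      exact hQcomm b' (hQ (hBS hb')) _ (hQ hkbS)
    have h2 := hCB h1
    rw [hMNB] at h2
    exact h2
  have hX : Subgroup.zpowers (k * b * k⁻¹) ≤ B :=
    hXB _ (Subgroup.zpowers_le.mpr hkbE) (by rw [Nat.card_zpowers, hord])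
  exact hX (Subgroup.mem_zpowers _)

end CtxFacts

end Cfsg.Agent.Lib.Helper76.BGFifteenNineS1
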