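import Mathlib
import Cfsg.Prelude.Def_Characters
import Cfsg.Prelude.Def_OddOrderChar
import Cfsg.Agent.Lib.Helper74.PF127Defs
import Cfsg.Agent.S1500

/-!
# Module `PFTenT-[TS-SUPPCARD]` (helper76, for helper60, board #4180)

`|dadeSupp A R| * |L| = |G| * |A|` under the Dade hypothesis, from S1500 (Dade reciprocity) applied to
the indicator function of `A` and the trivial characters.
-/

set_option autoImplicit false

namespace Cfsg.Agent.Lib.Helper76.PFTenT

open Cfsg
open scoped ComplexConjugate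

theorem card_dadeSupp {G : Type*} [Group G] [Fintype G] (A : Set G) (L : Subgroup G) [Fintype L]
    (R : G → Subgroup G) (hD : DadeHypothesis A L R) :
    Nat.card (Cfsg.Agent.Lib.Helper74.PF127.dadeSupp A R) * Nat.card L =
      Nat.card G * Nat.card A := by
  classical
  -- the indicator of `A` on `L`
  set α : L → ℂ := fun l => if (l : G) ∈ A then 1 else 0 with hαdef
  have hα : IsClassFunction L α := by
    intro y x
    have h1 : ((x * y * x⁻¹ : L) : G) ∈ A ↔ (y : G) ∈ A := by
      constructor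
      · intro h
        have := hD.conj_mem (x⁻¹ : L) (x⁻¹ : L).2 _ h
        have e : ((x⁻¹ : L) : G) * ((x * y * x⁻¹ : L) : G) * ((x⁻¹ : L) : G)⁻¹ = (y : G) := by
          simp [mul_assoc]
        rwa [e] at this
      · intro h
        have := hD.conj_mem x x.2 _ h
        simpa using this
    simp only [hαdef, h1]
  have hαA : ∀ x : L, (x : G) ∉ A → α x = 0 := by
    intro x hx
    simp only [hαdef, if_neg hx]
  obtain ⟨_, h2⟩ := Cfsg.Agent.S1500.result A L R hD α hα hαA
  have hχ : IsClassFunction G (fun _ : G => (1 : ℂ)) := fun _ _ => rfl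
  have hψ : ∀ a : L, (a : G) ∈ A → (fun _ : L => (1 : ℂ)) a =
      (Nat.card (R a) : ℂ)⁻¹ * ∑ᶠ u ∈ (R a : Set G), (fun _ : G => (1 : ℂ)) (a * u) := by
    intro a _
    have hfin : ((R a : Subgroup G) : Set G).Finite := Set.toFinite _
    have h3 : ∑ᶠ u ∈ ((R a : Subgroup G) : Set G), (1 : ℂ) = (Nat.card (R a) : ℂ) := by
      rw [finsum_mem_eq_finite_toFinset_sum _ hfin, Finset.sum_const, nsmul_eq_mul, mul_one]
      congr 1
      rw [← Set.ncard_eq_toFinset_card _ hfin]
      rfl
    change (1 : ℂ) = _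
    rw [h3, inv_mul_cancel₀]
    exact_mod_cast (Nat.card_pos (α := R a)).ne'
  have h4 := h2 (fun _ => 1) (fun _ => 1) hχ hψ
  -- evaluate both sides
  unfold classInner at h4
  simp only [map_one, mul_one] at h4
  have hL : ∑ l : L, α l = (Nat.card A : ℂ) := by
    simp only [hαdef]
    rw [Finset.sum_boole]
    congr 1
    rw [Nat.card_eq_fintype_card, Fintype.card_subtype]
    -- bijection `{l : L | l ∈ A} ≃ A`
    apply Finset.card_bij (fun (l : L) _ => (l : G))
    · intro l hl
      simpa using hl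
    · intro l₁ _ l₂ _ he
      exact Subtype.ext he
    · intro g hg
      rw [Finset.mem_filter] at hg
      exact ⟨⟨g, hD.subset hg.2⟩, by simpa using hg.2, rfl⟩
  have hG : ∑ g : G, dadeIsometry A L R α g =
      (Nat.card (Cfsg.Agent.Lib.Helper74.PF127.dadeSupp A R) : ℂ) := by
    have h5 : ∀ g : G, dadeIsometry A L R α g =
        if g ∈ Cfsg.Agent.Lib.Helper74.PF127.dadeSupp A R then 1 else 0 := by
      intro g
      unfold dadeIsometry
      by_cases hc : ∃ a : ↥L, (a : G) ∈ A ∧ ∃ x : G, ∃ u ∈ R (a : G), x * g * x⁻¹ = (a : G) * u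
      · rw [dif_pos hc]
        have hmem : g ∈ Cfsg.Agent.Lib.Helper74.PF127.dadeSupp A R := by
          obtain ⟨a, haA, x, u, hu, hx⟩ := hc
          exact ⟨a, haA, u, hu, x, hx⟩
        rw [if_pos hmem]
        have := (Classical.choose_spec hc).1
        simp only [hαdef, if_pos this]
      · rw [dif_neg hc]
        have hmem : g ∉ Cfsg.Agent.Lib.Helper74.PF127.dadeSupp A R := by
          rintro ⟨a, haA, u, hu, y, hy⟩
          exact hc ⟨⟨a, hD.subset haA⟩, haA, y, u, hu, hy⟩
        rw [if_neg hmem]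
    simp only [h5]
    rw [Finset.sum_boole]
    congr 1
    rw [Nat.card_eq_fintype_card, Fintype.card_subtype]
  rw [hL, hG] at h4
  -- `|supp| / |G| = |A| / |L|`
  have hGpos : (Nat.card G : ℂ) ≠ 0 := by exact_mod_cast (Nat.card_pos (α := G)).ne'
  have hLpos : (Nat.card L : ℂ) ≠ 0 := by exact_mod_cast (Nat.card_pos (α := L)).ne'
  have h6 : (Nat.card (Cfsg.Agent.Lib.Helper74.PF127.dadeSupp A R) : ℂ) * (Nat.card L : ℂ) =
      (Nat.card G : ℂ) * (Nat.card A : ℂ) := by
    field_simp at h4
    linear_combination h4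
  exact_mod_cast h6

end Cfsg.Agent.Lib.Helper76.PFTenT
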