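import Mathlib

set_option autoImplicit false

/-!
# PFCyc-[NUM] (helper24, board #4310): two real inequalities

Pure arithmetic over `ℝ`; no context needed.
-/

namespace Cfsg.Agent.Lib.Helper24.PFCyc

/-- core polynomial inequality behind `num_main`. -/
theorem num_main_core (P Q K : ℝ) (hP : 0 ≤ P) (hQ : 0 ≤ Q)
    (hK : 1 + 2 * (Q + 3) + (P + 2) * (2 * Q + 5) ^ 2 ≤ K) :
    13 * (P + 3) * ((Q + 3) ^ 2 - 1) < K * (12 * (Q + 3) - 13) := by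
  have h1 : (0 : ℝ) < 12 * (Q + 3) - 13 := by linarith
  have h2 : (1 + 2 * (Q + 3) + (P + 2) * (2 * Q + 5) ^ 2) * (12 * (Q + 3) - 13)
      ≤ K * (12 * (Q + 3) - 13) := mul_le_mul_of_nonneg_right hK h1.le
  have hPQ : 0 ≤ P * Q := mul_nonneg hP hQ
  have hQ2 : 0 ≤ Q ^ 2 := sq_nonneg Q
  have hQ3 : 0 ≤ Q ^ 3 := pow_nonneg hQ 3
  have hPQ2 : 0 ≤ P * Q ^ 2 := mul_nonneg hP hQ2
  have hPQ3 : 0 ≤ P * Q ^ 3 := mul_nonneg hP hQ3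
  nlinarith [h2, hPQ, hQ2, hQ3, hPQ2, hPQ3]

/-- MODULE [NUM] (1) -/
theorem num_main (p q K : ℕ) (hp : 3 ≤ p) (hq : 3 ≤ q)
    (hK : 1 + 2 * q + (p - 1) * (2 * q - 1) ^ 2 ≤ K) :
    (((K : ℝ) - 1) + (q : ℝ) ^ 2) / ((q : ℝ) * K) <
      1 / (q : ℝ) + (1 / (p : ℝ)) * (1 - 1 / (q : ℝ) - 1 / 13) := by
  obtain ⟨P, rfl⟩ : ∃ P, p = P + 3 := ⟨p - 3, by omega⟩
  obtain ⟨Q, rfl⟩ : ∃ Q, q = Q + 3 := ⟨q - 3, by omega⟩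
  have e1 : P + 3 - 1 = P + 2 := by omega
  have e2 : 2 * (Q + 3) - 1 = 2 * Q + 5 := by omega
  rw [e1, e2] at hK
  have hK' : (1 + 2 * ((Q : ℝ) + 3) + ((P : ℝ) + 2) * (2 * (Q : ℝ) + 5) ^ 2) ≤ (K : ℝ) := by
    exact_mod_cast hK
  have hcore := num_main_core (P : ℝ) (Q : ℝ) (K : ℝ) (Nat.cast_nonneg P) (Nat.cast_nonneg Q) hK'
  have hKpos : (0 : ℝ) < (K : ℝ) := by
    have : (0 : ℝ) ≤ ((P : ℝ) + 2) * (2 * (Q : ℝ) + 5) ^ 2 := by positivity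
    have hQ0 : (0 : ℝ) ≤ (Q : ℝ) := Nat.cast_nonneg Q
    linarith
  have hp0 : (0 : ℝ) < ((P + 3 : ℕ) : ℝ) := by positivity
  have hq0 : (0 : ℝ) < ((Q + 3 : ℕ) : ℝ) := by positivity
  have hpc : ((P + 3 : ℕ) : ℝ) = (P : ℝ) + 3 := by push_cast; ring
  have hqc : ((Q + 3 : ℕ) : ℝ) = (Q : ℝ) + 3 := by push_cast; ring
  rw [hpc, hqc] at *
  have key : 1 / ((Q : ℝ) + 3) + (1 / ((P : ℝ) + 3)) * (1 - 1 / ((Q : ℝ) + 3) - 1 / 13)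
      - (((K : ℝ) - 1) + ((Q : ℝ) + 3) ^ 2) / (((Q : ℝ) + 3) * K)
      = ((K : ℝ) * (12 * ((Q : ℝ) + 3) - 13) - 13 * ((P : ℝ) + 3) * (((Q : ℝ) + 3) ^ 2 - 1))
        / (13 * ((P : ℝ) + 3) * ((Q : ℝ) + 3) * K) := by
    field_simp
    ring
  have hpos : 0 < ((K : ℝ) * (12 * ((Q : ℝ) + 3) - 13)
      - 13 * ((P : ℝ) + 3) * (((Q : ℝ) + 3) ^ 2 - 1))
        / (13 * ((P : ℝ) + 3) * ((Q : ℝ) + 3) * K) := by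
    apply div_pos
    · linarith
    · positivity
  linarith [key, hpos]

/-- core polynomial inequality behind `num_b0`. -/
theorem num_b0_core (P Q d : ℝ) (hP : 0 ≤ P) (hQ : 0 ≤ Q) (hd : 2 * Q + 5 ≤ d) :
    13 * (P + 3) * (Q + 3) ^ 2 ≤
      (12 * (Q + 3) - 13) * ((Q + 3) + 1 + (P + 2) * d ^ 2) := by
  have h1 : (0 : ℝ) < 12 * (Q + 3) - 13 := by linarith
  have hd0 : (0 : ℝ) ≤ 2 * Q + 5 := by linarith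
  have hd2 : (2 * Q + 5) ^ 2 ≤ d ^ 2 := pow_le_pow_left₀ hd0 hd 2
  have hP2 : (0 : ℝ) ≤ P + 2 := by linarith
  have h3 : (P + 2) * (2 * Q + 5) ^ 2 ≤ (P + 2) * d ^ 2 := mul_le_mul_of_nonneg_left hd2 hP2
  have h2 : (12 * (Q + 3) - 13) * ((Q + 3) + 1 + (P + 2) * (2 * Q + 5) ^ 2)
      ≤ (12 * (Q + 3) - 13) * ((Q + 3) + 1 + (P + 2) * d ^ 2) :=
    mul_le_mul_of_nonneg_left (by linarith) h1.le
  have hPQ : 0 ≤ P * Q := mul_nonneg hP hQ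
  have hQ2 : 0 ≤ Q ^ 2 := sq_nonneg Q
  have hQ3 : 0 ≤ Q ^ 3 := pow_nonneg hQ 3
  have hPQ2 : 0 ≤ P * Q ^ 2 := mul_nonneg hP hQ2
  have hPQ3 : 0 ≤ P * Q ^ 3 := mul_nonneg hP hQ3
  nlinarith [h2, hPQ, hQ2, hQ3, hPQ2, hPQ3]

/-- MODULE [NUM] (2) -/
theorem num_b0 (p q d K : ℕ) (hp : 3 ≤ p) (hq : 3 ≤ q) (hd : 2 * q - 1 ≤ d) (hK : 1 ≤ K) :
    (((K : ℝ) - 1) +
        (q : ℝ) / ((q : ℝ) + 1 + ((p : ℝ) - 1) * (d : ℝ) ^ 2) * ((q : ℝ) * K)) / ((q : ℝ) * K) <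
      1 / (q : ℝ) + (1 / (p : ℝ)) * (1 - 1 / (q : ℝ) - 1 / 13) := by
  obtain ⟨P, rfl⟩ : ∃ P, p = P + 3 := ⟨p - 3, by omega⟩
  obtain ⟨Q, rfl⟩ : ∃ Q, q = Q + 3 := ⟨q - 3, by omega⟩
  have e2 : 2 * (Q + 3) - 1 = 2 * Q + 5 := by omega
  rw [e2] at hd
  have hd' : (2 * (Q : ℝ) + 5) ≤ (d : ℝ) := by exact_mod_cast hd
  have hcore := num_b0_core (P : ℝ) (Q : ℝ) (d : ℝ) (Nat.cast_nonneg P) (Nat.cast_nonneg Q) hd'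
  have hKpos : (0 : ℝ) < (K : ℝ) := by exact_mod_cast hK
  have hpc : ((P + 3 : ℕ) : ℝ) = (P : ℝ) + 3 := by push_cast; ring
  have hqc : ((Q + 3 : ℕ) : ℝ) = (Q : ℝ) + 3 := by push_cast; ring
  rw [hpc, hqc]
  have hP0 : (0 : ℝ) ≤ (P : ℝ) := Nat.cast_nonneg P
  have hQ0 : (0 : ℝ) ≤ (Q : ℝ) := Nat.cast_nonneg Q
  have hp0 : (0 : ℝ) < (P : ℝ) + 3 := by linarith
  have hq0 : (0 : ℝ) < (Q : ℝ) + 3 := by linarith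
  have hD : (0 : ℝ) < (Q : ℝ) + 3 + 1 + ((P : ℝ) + 3 - 1) * (d : ℝ) ^ 2 := by
    have : (0 : ℝ) ≤ ((P : ℝ) + 3 - 1) * (d : ℝ) ^ 2 :=
      mul_nonneg (by linarith) (sq_nonneg _)
    linarith
  have hqK : (0 : ℝ) < ((Q : ℝ) + 3) * K := mul_pos hq0 hKpos
  -- split the left-hand side
  have split : (((K : ℝ) - 1) +
        ((Q : ℝ) + 3) / ((Q : ℝ) + 3 + 1 + ((P : ℝ) + 3 - 1) * (d : ℝ) ^ 2) *
          (((Q : ℝ) + 3) * K)) / (((Q : ℝ) + 3) * K)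
      = ((K : ℝ) - 1) / (((Q : ℝ) + 3) * K)
        + ((Q : ℝ) + 3) / ((Q : ℝ) + 3 + 1 + ((P : ℝ) + 3 - 1) * (d : ℝ) ^ 2) := by
    rw [add_div, mul_div_assoc, div_self hqK.ne', mul_one]
  rw [split]
  -- first summand
  have hfirst : ((K : ℝ) - 1) / (((Q : ℝ) + 3) * K) < 1 / ((Q : ℝ) + 3) := by
    rw [div_lt_div_iff₀ hqK hq0]
    nlinarith
  -- second summand
  have hsecond : ((Q : ℝ) + 3) / ((Q : ℝ) + 3 + 1 + ((P : ℝ) + 3 - 1) * (d : ℝ) ^ 2)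
      ≤ (1 / ((P : ℝ) + 3)) * (1 - 1 / ((Q : ℝ) + 3) - 1 / 13) := by
    have e : (1 / ((P : ℝ) + 3)) * (1 - 1 / ((Q : ℝ) + 3) - 1 / 13)
        = (12 * ((Q : ℝ) + 3) - 13) / (13 * ((P : ℝ) + 3) * ((Q : ℝ) + 3)) := by
      field_simp
      ring
    rw [e, div_le_div_iff₀ hD (by positivity)]
    have e3 : ((P : ℝ) + 3 - 1) = (P : ℝ) + 2 := by ring
    rw [e3]
    nlinarith [hcore]
  linarith [hfirst, hsecond]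

end Cfsg.Agent.Lib.Helper24.PFCyc
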