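import Mathlib
import Cfsg.Agent.Lib.Helper75.Clifford2

/-!
# The Clifford correspondence over a subgroup containing the inertia group (helper76)

`N ≤ T ≤ G`, `N` normal in `G`, `θ` an irreducible character of `N` whose inertia group is
contained in `T`.  Induction gives an injection from the irreducible characters of `T` over `θ`
onto those of `G` over `θ`, preserving the multiplicity of `θ`.  This generalizes helper75's
`Clifford2` (where `T` is exactly the inertia group); the proofs are adapted from there.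
-/

set_option autoImplicit false
set_option linter.style.haveILetI false

namespace Cfsg.Agent.Lib.Helper76

open Cfsg Cfsg.Agent.Lib.Helper75 Cfsg.Agent.Lib.Helper78
open scoped ComplexConjugate

universe u

section Norm

variable {X : Type u} [Group X] [Fintype X] (Y : Subgroup X) [hY : Y.Normal] [Fintype Y]

open scoped Classical in
/-- the norm of `ind_Y^X θ` is the order of the inertia group divided by `|Y|` -/
theorem classInner_indFun_self_card {θ : Y → ℂ} (hθ : IsIrrCharacter Y θ) :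
    classInner (indFun Y θ) (indFun Y θ) =
      ((Finset.univ.filter (fun x : X => conjFun Y x θ = θ)).card : ℂ) / (Nat.card Y : ℂ) := by
  rw [frobenius_reciprocity Y θ (isClassFunction_indFun _ _), ← classInner_conj_symm]
  have h1 : (fun n : Y => indFun Y θ n) = (Nat.card Y : ℂ)⁻¹ • ∑ x : X, conjFun Y x⁻¹ θ := by
    funext n
    rw [indFun_res_normal Y θ n, Pi.smul_apply, Finset.sum_apply, smul_eq_mul]
  rw [h1, classInner_smul_left, classInner_sum_left]
  have h2 : ∀ x : X, classInner (conjFun Y x⁻¹ θ) θ =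
      if conjFun Y x⁻¹ θ = θ then 1 else 0 := by
    intro x
    rw [classInner_irr (isIrrCharacter_conjFun Y hθ x⁻¹) hθ]
  simp only [h2]
  have h3 : ∑ x : X, (if conjFun Y x⁻¹ θ = θ then (1 : ℂ) else 0) =
      ((Finset.univ.filter (fun x : X => conjFun Y x θ = θ)).card : ℂ) := by
    rw [Fintype.sum_equiv (Equiv.inv X) (fun x => if conjFun Y x⁻¹ θ = θ then (1 : ℂ) else 0)
      (fun x => if conjFun Y x θ = θ then (1 : ℂ) else 0) (fun x => by simp)]
    rw [Finset.sum_boole]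
  rw [h3]
  simp only [map_mul, map_inv₀, Complex.conj_natCast]
  rw [div_eq_mul_inv, mul_comm]

end Norm

section Lift

variable {G : Type u} [Group G] (N T : Subgroup G) [hN : N.Normal]

/-- conjugation commutes with the transport to `N.subgroupOf T` -/
theorem conjFun_liftNT_eq (θ : N → ℂ) (t : T) :
    conjFun (N.subgroupOf T) t (liftNT N T θ) = liftNT N T (conjFun N (t : G) θ) := by
  funext m
  rfl

omit hN in
theorem liftNT_injective (hNT : N ≤ T) : Function.Injective (liftNT N T) := by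
  intro θ θ' h
  funext n
  have := congrFun h ⟨⟨(n : G), hNT n.2⟩, Subgroup.mem_subgroupOf.mpr n.2⟩
  exact this

theorem conjFun_liftNT_eq_iff (hNT : N ≤ T) (θ : N → ℂ) (t : T) :
    conjFun (N.subgroupOf T) t (liftNT N T θ) = liftNT N T θ ↔ conjFun N (t : G) θ = θ := by
  rw [conjFun_liftNT_eq]
  exact ⟨fun h => liftNT_injective N T hNT h, fun h => by rw [h]⟩

end Lift

section Main

variable {G : Type u} [Group G] [Fintype G] (N T : Subgroup G) [hN : N.Normal] [Fintype N]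
  [Fintype T]

open scoped Classical in
/-- the two inertia groups have the same order when `T` contains the inertia group of `θ` -/
theorem card_filter_conjFun_liftNT (hNT : N ≤ T) (θ : N → ℂ)
    (hT : ∀ g : G, conjFun N g θ = θ → g ∈ T) :
    (Finset.univ.filter (fun t : T =>
      conjFun (N.subgroupOf T) t (liftNT N T θ) = liftNT N T θ)).card =
    (Finset.univ.filter (fun x : G => conjFun N x θ = θ)).card := by
  apply Finset.card_bij (fun (t : T) _ => (t : G))
  · intro t ht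
    rw [Finset.mem_filter] at ht ⊢
    exact ⟨Finset.mem_univ _, (conjFun_liftNT_eq_iff N T hNT θ t).mp ht.2⟩
  · intro t₁ _ t₂ _ h
    exact Subtype.ext h
  · intro x hx
    rw [Finset.mem_filter] at hx
    refine ⟨⟨x, hT x hx.2⟩, ?_, rfl⟩
    rw [Finset.mem_filter]
    exact ⟨Finset.mem_univ _, (conjFun_liftNT_eq_iff N T hNT θ ⟨x, hT x hx.2⟩).mpr hx.2⟩

/-- The data of the Clifford correspondence over `T ⊇ G_θ`: multiplicities `f ψ = [ψ_N, θ]`,
`c ψ χ = [ind ψ, χ]`, with the orthogonality properties. -/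
theorem clifford_corr_aux' (hNT : N ≤ T) {θ : N → ℂ} (hθ : IsIrrCharacter N θ)
    (hT : ∀ g : G, conjFun N g θ = θ → g ∈ T) :
    ∃ (f : IrrCharacter T → ℕ) (c : IrrCharacter T → IrrCharacter G → ℕ),
      (∀ ψ : IrrCharacter T, classInner (resNT N T hNT (ψ : T → ℂ)) θ = (f ψ : ℂ)) ∧
      (∀ (ψ : IrrCharacter T) (χ : IrrCharacter G),
        classInner (indFun T (ψ : T → ℂ)) (χ : G → ℂ) = (c ψ χ : ℂ)) ∧
      (∀ χ : IrrCharacter G, classInner (fun n : N => (χ : G → ℂ) n) θ =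
        ((∑ ψ : IrrCharacter T, f ψ * c ψ χ : ℕ) : ℂ)) ∧
      (∀ ψ, f ψ ≠ 0 → ∃ χ₀, c ψ χ₀ = 1 ∧ ∀ χ, χ ≠ χ₀ → c ψ χ = 0) ∧
      (∀ ψ ψ', ψ ≠ ψ' → f ψ ≠ 0 → f ψ' ≠ 0 → ∀ χ, c ψ χ * c ψ' χ = 0) := by
  classical
  -- the multiplicities
  choose f hf using fun ψ : IrrCharacter T =>
    IsCharacter.exists_nat_classInner
      (isCharacter_resNT N T hNT (IsIrrCharacter.isCharacter ψ.2)) ⟨θ, hθ⟩
  choose c' hc' using fun (ψ : IrrCharacter T) (χ : IrrCharacter G) =>
    IsCharacter.exists_nat_classInner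
      (isCharacter_res T (IsIrrCharacter.isCharacter χ.2)) ψ
  have hc : ∀ (ψ : IrrCharacter T) (χ : IrrCharacter G),
      classInner (indFun T (ψ : T → ℂ)) (χ : G → ℂ) = (c' ψ χ : ℂ) := by
    intro ψ χ
    rw [frobenius_reciprocity T _ (isClassFunction_irr χ), ← classInner_conj_symm]
    have := hc' ψ χ
    rw [this]; simp
  -- Ψ = ind_N^T θ and its coefficients
  set Ψ : T → ℂ := indFun (N.subgroupOf T) (liftNT N T θ) with hΨ
  have hΨcl : IsClassFunction T Ψ := isClassFunction_indFun _ _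
  have hΨf : ∀ ψ : IrrCharacter T, classInner Ψ (ψ : T → ℂ) = (f ψ : ℂ) := by
    intro ψ
    rw [hΨ, classInner_indFun_liftNT N T hNT θ (isClassFunction_irr ψ)]
    have := hf ψ
    simp only at this
    rw [this]; simp
  -- d_χ
  have hd : ∀ χ : IrrCharacter G, classInner (indFun N θ) (χ : G → ℂ) =
      ((∑ ψ : IrrCharacter T, f ψ * c' ψ χ : ℕ) : ℂ) := by
    intro χ
    rw [classInner_indFun_eq N T hNT θ (isClassFunction_irr χ), ← hΨ,
      classInner_eq_sum_mul_conj _ hΨcl]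
    push_cast
    apply Finset.sum_congr rfl
    intro ψ _
    rw [hΨf ψ]
    have := hc' ψ χ
    rw [this]; simp
  -- the two norms
  haveI : Fintype (N.subgroupOf T) := Fintype.ofFinite _
  have hnN : (N.subgroupOf T).Normal := Subgroup.normal_subgroupOf
  have hnorm1 := classInner_indFun_self_card (N.subgroupOf T) (isIrrCharacter_liftNT N T hNT hθ)
  have hnorm2 := classInner_indFun_self_card N hθ
  have hcardN : Nat.card (N.subgroupOf T) = Nat.card N :=
    Nat.card_congr (Subgroup.subgroupOfEquivOfLe hNT).toEquiv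
  have hcnt := card_filter_conjFun_liftNT N T hNT θ hT
  have hnorm12 : classInner Ψ Ψ = classInner (indFun N θ) (indFun N θ) := by
    rw [hΨ, hnorm1, hnorm2, hcardN]
    congr 2
    rw [← hcnt]
    congr 1
    convert rfl
  rw [classInner_eq_sum_mul_conj _ hΨcl,
    classInner_eq_sum_mul_conj _ (isClassFunction_indFun N θ)] at hnorm12
  have hkey : ∑ χ : IrrCharacter G, (∑ ψ : IrrCharacter T, f ψ * c' ψ χ) ^ 2 =
      ∑ ψ : IrrCharacter T, f ψ ^ 2 := by
    have h1 : ((∑ χ : IrrCharacter G, (∑ ψ : IrrCharacter T, f ψ * c' ψ χ) ^ 2 : ℕ) : ℂ) =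
        ((∑ ψ : IrrCharacter T, f ψ ^ 2 : ℕ) : ℂ) := by
      have e1 : ((∑ χ : IrrCharacter G, (∑ ψ : IrrCharacter T, f ψ * c' ψ χ) ^ 2 : ℕ) : ℂ) =
          ∑ χ : IrrCharacter G, classInner (indFun N θ) (χ : G → ℂ) *
            conj (classInner (indFun N θ) (χ : G → ℂ)) := by
        push_cast
        apply Finset.sum_congr rfl
        intro χ _
        rw [hd χ]
        push_cast
        simp only [map_sum, map_mul, Complex.conj_natCast]
        ring
      have e2 : ((∑ ψ : IrrCharacter T, f ψ ^ 2 : ℕ) : ℂ) =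
          ∑ ψ : IrrCharacter T, classInner Ψ (ψ : T → ℂ) * conj (classInner Ψ (ψ : T → ℂ)) := by
        push_cast
        apply Finset.sum_congr rfl
        intro ψ _
        rw [hΨf ψ]
        simp only [Complex.conj_natCast]
        ring
      rw [e1, e2, hnorm12]
    exact_mod_cast h1
  have hcne : ∀ ψ : IrrCharacter T, ∃ χ : IrrCharacter G, c' ψ χ ≠ 0 := by
    intro ψ
    obtain ⟨χ, hχ⟩ := exists_classInner_indFun_ne_zero T ψ.2
    refine ⟨χ, ?_⟩
    intro h
    apply hχ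
    rw [hc ψ χ, h]; simp
  obtain ⟨hcomb1, hcomb2⟩ := clifford_comb f c' hcne hkey
  refine ⟨f, c', ?_, hc, ?_, hcomb1, hcomb2⟩
  · intro ψ
    have := hf ψ
    simp only at this
    exact this
  · intro χ
    rw [← classInner_conj_symm, ← frobenius_reciprocity N θ (isClassFunction_irr χ), hd χ]
    simp

end Main

section Theorems


variable {G : Type u} [Group G] [Fintype G] (N T : Subgroup G) [hN : N.Normal] [Fintype N]
  [Fintype T]

/-- **Clifford correspondence**: induction from the inertia group preserves irreducibility. -/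
theorem isIrrCharacter_indFun_of_over' (hNT : N ≤ T) {θ : N → ℂ} (hθ : IsIrrCharacter N θ)
    (hT : ∀ g : G, conjFun N g θ = θ → g ∈ T) {ψ : T → ℂ} (hψ : IsIrrCharacter T ψ)
    (hover : classInner (resNT N T hNT ψ) θ ≠ 0) : IsIrrCharacter G (indFun T ψ) := by
  classical
  obtain ⟨f, c, hf, hc, -, h1, -⟩ := clifford_corr_aux' N T hNT hθ hT
  have hfψ : f ⟨ψ, hψ⟩ ≠ 0 := by
    intro h
    apply hover
    rw [hf ⟨ψ, hψ⟩, h]; simp
  obtain ⟨χ₀, hχ₀, hother⟩ := h1 ⟨ψ, hψ⟩ hfψ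
  have hexp := classFunction_eq_sum_irr (isClassFunction_indFun T ψ)
  rw [Finset.sum_eq_single χ₀] at hexp
  · rw [hexp, hc ⟨ψ, hψ⟩ χ₀, hχ₀]
    simp only [Nat.cast_one, one_smul]
    exact χ₀.2
  · intro χ _ hne
    rw [hc ⟨ψ, hψ⟩ χ, hother χ hne]; simp
  · intro h; exact absurd (Finset.mem_univ _) h

/-- **Clifford correspondence**: induction from the inertia group is injective on the
irreducible characters over `θ`. -/
theorem indFun_injective_of_over' (hNT : N ≤ T) {θ : N → ℂ} (hθ : IsIrrCharacter N θ)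
    (hT : ∀ g : G, conjFun N g θ = θ → g ∈ T) {ψ ψ' : T → ℂ} (hψ : IsIrrCharacter T ψ)
    (hψ' : IsIrrCharacter T ψ')
    (hover : classInner (resNT N T hNT ψ) θ ≠ 0)
    (hover' : classInner (resNT N T hNT ψ') θ ≠ 0)
    (heq : indFun T ψ = indFun T ψ') : ψ = ψ' := by
  classical
  obtain ⟨f, c, hf, hc, -, h1, h2⟩ := clifford_corr_aux' N T hNT hθ hT
  have hfψ : f ⟨ψ, hψ⟩ ≠ 0 := by
    intro h
    apply hover
    rw [hf ⟨ψ, hψ⟩, h]; simp
  have hfψ' : f ⟨ψ', hψ'⟩ ≠ 0 := by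
    intro h
    apply hover'
    rw [hf ⟨ψ', hψ'⟩, h]; simp
  by_contra hne
  have hne' : (⟨ψ, hψ⟩ : IrrCharacter T) ≠ ⟨ψ', hψ'⟩ := fun h => hne (congrArg Subtype.val h)
  obtain ⟨χ₀, hχ₀, -⟩ := h1 ⟨ψ, hψ⟩ hfψ
  have h3 := h2 _ _ hne' hfψ hfψ' χ₀
  have h4 : (c ⟨ψ', hψ'⟩ χ₀ : ℂ) = (c ⟨ψ, hψ⟩ χ₀ : ℂ) := by
    rw [← hc, ← hc]
    change classInner (indFun T ψ') _ = classInner (indFun T ψ) _
    rw [heq]
  have h5 : c ⟨ψ', hψ'⟩ χ₀ = c ⟨ψ, hψ⟩ χ₀ := by exact_mod_cast h4
  rw [h5, hχ₀] at h3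
  exact one_ne_zero h3

/-- **Clifford correspondence**: every irreducible character of `G` over `θ` is induced from
an irreducible character of the inertia group over `θ`, with the same multiplicity. -/
theorem exists_indFun_eq_of_over' (hNT : N ≤ T) {θ : N → ℂ} (hθ : IsIrrCharacter N θ)
    (hT : ∀ g : G, conjFun N g θ = θ → g ∈ T) {χ : G → ℂ} (hχ : IsIrrCharacter G χ)
    (hover : classInner (fun n : N => χ n) θ ≠ 0) :
    ∃ ψ : T → ℂ, IsIrrCharacter T ψ ∧ indFun T ψ = χ ∧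
      classInner (resNT N T hNT ψ) θ = classInner (fun n : N => χ n) θ := by
  classical
  obtain ⟨f, c, hf, hc, hd, h1, h2⟩ := clifford_corr_aux' N T hNT hθ hT
  have hsum : ∑ ψ : IrrCharacter T, f ψ * c ψ ⟨χ, hχ⟩ ≠ 0 := by
    intro h
    apply hover
    have := hd ⟨χ, hχ⟩
    rw [h] at this
    simpa using this
  obtain ⟨ψ, -, hψ⟩ := Finset.exists_ne_zero_of_sum_ne_zero hsum
  have hfψ : f ψ ≠ 0 := fun h => hψ (by rw [h, zero_mul])
  have hcψ : c ψ ⟨χ, hχ⟩ ≠ 0 := fun h => hψ (by rw [h, mul_zero])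
  obtain ⟨χ₀, hχ₀, hother⟩ := h1 ψ hfψ
  have hχχ₀ : (⟨χ, hχ⟩ : IrrCharacter G) = χ₀ := by
    by_contra hne
    exact hcψ (hother _ hne)
  have hind : indFun T (ψ : T → ℂ) = χ := by
    have hexp := classFunction_eq_sum_irr (isClassFunction_indFun T (ψ : T → ℂ))
    rw [Finset.sum_eq_single χ₀] at hexp
    · rw [hexp, hc ψ χ₀, hχ₀, ← hχχ₀]
      simp
    · intro χ' _ hne
      rw [hc ψ χ', hother χ' hne]; simp
    · intro h; exact absurd (Finset.mem_univ _) h
  refine ⟨ψ, ψ.2, hind, ?_⟩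
  have hd' := hd ⟨χ, hχ⟩
  simp only at hd'
  rw [hd', hf ψ]
  congr 1
  rw [Finset.sum_eq_single ψ]
  · rw [hχχ₀, hχ₀, mul_one]
  · intro ψ' _ hne
    by_cases hfψ' : f ψ' = 0
    · rw [hfψ', zero_mul]
    · have h3 := h2 ψ ψ' (Ne.symm hne) hfψ hfψ' ⟨χ, hχ⟩
      rcases Nat.mul_eq_zero.mp h3 with h4 | h4
      · exact absurd h4 hcψ
      · rw [h4, mul_zero]
  · intro h; exact absurd (Finset.mem_univ _) h

/-- **Clifford correspondence**: the multiplicity of `θ` is preserved by induction from the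
inertia group. -/
theorem classInner_res_indFun_of_over' (hNT : N ≤ T) {θ : N → ℂ} (hθ : IsIrrCharacter N θ)
    (hT : ∀ g : G, conjFun N g θ = θ → g ∈ T) {ψ : T → ℂ} (hψ : IsIrrCharacter T ψ)
    (hover : classInner (resNT N T hNT ψ) θ ≠ 0) :
    classInner (fun n : N => indFun T ψ n) θ = classInner (resNT N T hNT ψ) θ := by
  classical
  have hirr := isIrrCharacter_indFun_of_over' N T hNT hθ hT hψ hover
  obtain ⟨f, c, hf, hc, hd, h1, h2⟩ := clifford_corr_aux' N T hNT hθ hT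
  have hfψ : f ⟨ψ, hψ⟩ ≠ 0 := by
    intro h
    apply hover
    rw [hf ⟨ψ, hψ⟩, h]; simp
  obtain ⟨χ₀, hχ₀, hother⟩ := h1 ⟨ψ, hψ⟩ hfψ
  -- ind ψ = χ₀
  have hcc : c ⟨ψ, hψ⟩ ⟨indFun T ψ, hirr⟩ ≠ 0 := by
    intro h
    have h3 := hc ⟨ψ, hψ⟩ ⟨indFun T ψ, hirr⟩
    rw [h] at h3
    simp only [Nat.cast_zero] at h3
    rw [classInner_irr_self hirr] at h3
    exact one_ne_zero h3
  have hover2 : classInner (fun n : N => indFun T ψ n) θ ≠ 0 := by
    have hd' := hd ⟨indFun T ψ, hirr⟩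
    simp only at hd'
    rw [hd']
    have : f ⟨ψ, hψ⟩ * c ⟨ψ, hψ⟩ ⟨indFun T ψ, hirr⟩ ≤
        ∑ ψ' : IrrCharacter T, f ψ' * c ψ' ⟨indFun T ψ, hirr⟩ :=
      Finset.single_le_sum (f := fun ψ' => f ψ' * c ψ' ⟨indFun T ψ, hirr⟩)
        (fun _ _ => Nat.zero_le _) (Finset.mem_univ _)
    have hpos : 0 < f ⟨ψ, hψ⟩ * c ⟨ψ, hψ⟩ ⟨indFun T ψ, hirr⟩ :=
      Nat.mul_pos (Nat.pos_of_ne_zero hfψ) (Nat.pos_of_ne_zero hcc)
    have : (∑ ψ' : IrrCharacter T, f ψ' * c ψ' ⟨indFun T ψ, hirr⟩) ≠ 0 := by omega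
    exact_mod_cast this
  obtain ⟨ψ', hψ', hind', hmult⟩ := exists_indFun_eq_of_over' N T hNT hθ hT hirr hover2
  have hover' : classInner (resNT N T hNT ψ') θ ≠ 0 := by rw [hmult]; exact hover2
  have := indFun_injective_of_over' N T hNT hθ hT hψ' hψ hover' hover hind'
  rw [← hmult, this]


end Theorems

end Cfsg.Agent.Lib.Helper76
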