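import Mathlib
import Cfsg.Agent.Lib.Helper76.CliffordGen
import Cfsg.Agent.Lib.Helper16.Covering
import Cfsg.Agent.Lib.Helper16.BlockTransport
import Cfsg.Agent.Lib.Helper16.OrbitCount
import Cfsg.Agent.Lib.Helper16.BrauerCC
import Cfsg.Agent.Lib.Helper78.BlockSums

/-!
# The Fong–Reynolds correspondence (helper76)

`N ⊴ G`, `b` a block of `N`, `T` the stabilizer of `b` in `G`.  Induction gives a bijection from
the blocks of `T` covering `b` onto the blocks of `G` covering `b`.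
-/

set_option autoImplicit false
set_option linter.unusedSectionVars false
set_option linter.style.haveILetI false

namespace Cfsg.Agent.Lib.Helper76

open Cfsg Cfsg.Agent.Lib.Helper16 Cfsg.Agent.Lib.Helper75 Cfsg.Agent.Lib.Helper78 MonoidAlgebra
open scoped ComplexConjugate

universe u

/-! ### Induction and central characters -/

section Induction

variable {G : Type u} [Group G] [Fintype G] (H : Subgroup G) [Fintype H]

/-- Frobenius reciprocity as a bilinear sum. -/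
theorem sum_mul_indFun {F : G → ℂ} (hF : IsClassFunction G F) (ζ : H → ℂ) :
    ∑ g : G, F g * indFun H ζ g =
      ((Nat.card G : ℂ) / (Nat.card H : ℂ)) * ∑ h : H, F h * ζ h := by
  have hcf : IsClassFunction G (fun g => conj (F g)) := by
    intro g h
    show conj (F (h * g * h⁻¹)) = conj (F g)
    rw [hF g h]
  have h1 := frobenius_reciprocity H ζ hcf
  unfold classInner at h1
  simp only [Complex.conj_conj] at h1
  have hG : (Nat.card G : ℂ) ≠ 0 := by exact_mod_cast Nat.card_pos.ne'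
  have hH : (Nat.card H : ℂ) ≠ 0 := by exact_mod_cast Nat.card_pos.ne'
  have h2 : ∑ g : G, indFun H ζ g * F g =
      (Nat.card G : ℂ) * ((Nat.card H : ℂ)⁻¹ * ∑ h : H, ζ h * F h) := by
    rw [← h1, ← mul_assoc, mul_inv_cancel₀ hG, one_mul]
  calc ∑ g : G, F g * indFun H ζ g = ∑ g : G, indFun H ζ g * F g :=
        Finset.sum_congr rfl fun g _ => mul_comm _ _
    _ = (Nat.card G : ℂ) * ((Nat.card H : ℂ)⁻¹ * ∑ h : H, ζ h * F h) := h2
    _ = ((Nat.card G : ℂ) / (Nat.card H : ℂ)) * ∑ h : H, F h * ζ h := by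
        rw [div_eq_mul_inv, mul_assoc]
        congr 2
        exact Finset.sum_congr rfl fun h _ => mul_comm _ _

theorem card_div_card_eq_index :
    (Nat.card G : ℂ) / (Nat.card H : ℂ) = (H.index : ℂ) := by
  have hH : (Nat.card H : ℂ) ≠ 0 := by exact_mod_cast Nat.card_pos.ne'
  rw [div_eq_iff hH, ← Nat.cast_mul, mul_comm, H.card_mul_index]

/-- The central character of an induced function is the induced central character. -/
theorem omega_indFun (ψ : H → ℂ) {z : MonoidAlgebra ℂ G}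
    (hz : z ∈ Subalgebra.center ℂ (MonoidAlgebra ℂ G)) :
    omega (indFun H ψ) z = omega ψ (resAlg H z) := by
  unfold omega
  have hF : IsClassFunction G (fun g => z.coeff g) := fun g h => coeff_conj_of_mem_center hz g h
  rw [sum_mul_indFun H hF ψ, indFun_one, card_div_card_eq_index]
  simp only [coeff_resAlg]
  have hidx : (H.index : ℂ) ≠ 0 := by
    have : H.index ≠ 0 := Subgroup.index_ne_zero_of_finite
    exact_mod_cast this
  rw [mul_div_mul_left _ _ hidx]

/-- The central character of an irreducible induced character. -/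
theorem centralChar_eq_inducedCentralChar_of_indFun (χ : IrrCharacter G) (ψ : H → ℂ)
    (h : (χ : G → ℂ) = indFun H ψ) (g : G) :
    centralChar (χ : G → ℂ) g = inducedCentralChar H ψ g := by
  rw [← omega_classSum_irr χ g, h, omega_indFun H ψ (classSum_mem_center g),
    omega_resAlg_classSum]

end Induction

/-! ### The trace of a central element of a subgroup -/

section Trace

variable {G : Type u} [Group G] [Fintype G] (H : Subgroup G) [Fintype H] {M : Ideal AlgInt}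

/-- The element of `ℂG` whose coefficient function is induced from the function `y` on `H`;
for a class function `y` this is the relative trace of `∑ y(h) h`. -/
noncomputable def trElt (y : H → ℂ) : MonoidAlgebra ℂ G := ofFun (indFun H y)

theorem coeff_trElt (y : H → ℂ) (g : G) : (trElt H y).coeff g = indFun H y g :=
  coeff_ofFun _ _

theorem trElt_mem_center (y : H → ℂ) :
    trElt H y ∈ Subalgebra.center ℂ (MonoidAlgebra ℂ G) := by
  apply mem_center_of_coeff_conj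
  intro g h
  rw [coeff_trElt, coeff_trElt]
  exact isClassFunction_indFun H y g h

omit [Fintype G] [Fintype H] in
theorem extendByZero_conj_of_mem {y : H → ℂ} (hy : IsClassFunction H y) (a : G) {t : G}
    (ht : t ∈ H) : extendByZero H y (t⁻¹ * a * t) = extendByZero H y a := by
  by_cases ha : a ∈ H
  · have h1 : t⁻¹ * a * t ∈ H := H.mul_mem (H.mul_mem (H.inv_mem ht) ha) ht
    rw [extendByZero_of_mem H y h1, extendByZero_of_mem H y ha]
    have := hy ⟨a, ha⟩ ⟨t⁻¹, H.inv_mem ht⟩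
    rw [← this]
    congr 1
    apply Subtype.ext
    simp
  · have h1 : t⁻¹ * a * t ∉ H := by
      intro h
      apply ha
      have := H.mul_mem (H.mul_mem ht h) (H.inv_mem ht)
      have e : t * (t⁻¹ * a * t) * t⁻¹ = a := by group
      rwa [e] at this
    rw [extendByZero_of_not_mem H y h1, extendByZero_of_not_mem H y ha]

open scoped Classical in
/-- The induced function of a class function with values in the local ring has values in the local
ring. -/
theorem indFun_memLocalRing [hMp : M.IsPrime] {y : H → ℂ} (hy : IsClassFunction H y)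
    (hR : ∀ h : H, MemLocalRing M (y h)) (g : G) : MemLocalRing M (indFun H y g) := by
  unfold indFun
  have hF : ∀ x : G, ∀ t ∈ H, extendByZero H y ((x * t)⁻¹ * g * (x * t)) =
      extendByZero H y (x⁻¹ * g * x) := by
    intro x t ht
    have e : (x * t)⁻¹ * g * (x * t) = t⁻¹ * (x⁻¹ * g * x) * t := by group
    rw [e, extendByZero_conj_of_mem H hy _ ht]
  rw [sum_eq_card_mul_sum_quotient H (fun x => extendByZero H y (x⁻¹ * g * x)) hF, ← mul_assoc,
    inv_mul_cancel₀ (by exact_mod_cast Nat.card_pos.ne'), one_mul]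
  apply memLocalRing_sum
  intro q _
  obtain ⟨x, rfl⟩ := QuotientGroup.mk_surjective q
  show MemLocalRing M (extendByZero H y (x⁻¹ * g * x))
  by_cases hx : x⁻¹ * g * x ∈ H
  · rw [extendByZero_of_mem H y hx]
    exact hR _
  · rw [extendByZero_of_not_mem H y hx]
    exact memLocalRing_zero hMp.ne_top

theorem trElt_mem_centerOrder [hMp : M.IsPrime] {y : H → ℂ} (hy : IsClassFunction H y)
    (hR : ∀ h : H, MemLocalRing M (y h)) :
    (⟨trElt H y, trElt_mem_center H y⟩ : Subalgebra.center ℂ (MonoidAlgebra ℂ G)) ∈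
      centerOrder G M := by
  intro g
  show MemLocalRing M ((trElt H y).coeff g)
  rw [coeff_trElt]
  exact indFun_memLocalRing H hy hR g

/-- The central character of a class function on the trace element. -/
theorem omega_trElt {χ : G → ℂ} (hχ : IsClassFunction G χ) (y : H → ℂ) :
    omega χ (trElt H y) = ((H.index : ℂ) * ∑ h : H, χ h * y h) / χ 1 := by
  unfold trElt
  rw [omega_ofFun]
  have : ∑ g : G, indFun H y g * χ g = ∑ g : G, χ g * indFun H y g :=
    Finset.sum_congr rfl fun g _ => mul_comm _ _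
  rw [this, sum_mul_indFun H hχ y, card_div_card_eq_index]

end Trace

/-! ### The Clifford correspondence for the stabilizer of a block -/

section Stab

variable {G : Type u} [Group G] [Fintype G] (N T : Subgroup G) [hN : N.Normal] [Fintype N]
  [Fintype T] {M : Ideal AlgInt}

/-- `T` is the stabilizer of the set `b` of irreducible characters of `N`. -/
def IsBlockStab (b : Set (IrrCharacter N)) : Prop :=
  ∀ g : G, g ∈ T ↔ ∀ θ ∈ b, conjIrrN N g θ ∈ b

variable {N T}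

omit [Fintype G] [Fintype N] [Fintype T] in
theorem IsBlockStab.mem_of_conj_mem [hMp : M.IsPrime] {b : Set (IrrCharacter N)}
    (hstab : IsBlockStab N T b) (hb : IsPBlock M b) {θ : IrrCharacter N} (hθ : θ ∈ b) {g : G}
    (h : conjIrrN N g θ ∈ b) : g ∈ T := by
  rw [hstab g]
  intro θ₁ hθ₁
  have h1 := sameBlock_conjIrrN N g (sameBlock_of_mem hb hθ hθ₁)
  rw [IsPBlock_eq_blockOf hb h]
  exact h1

omit [Fintype G] [Fintype N] [Fintype T] in
theorem IsBlockStab.mem_of_conjFun_eq [hMp : M.IsPrime] {b : Set (IrrCharacter N)}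
    (hstab : IsBlockStab N T b) (hb : IsPBlock M b) {θ θ' : IrrCharacter N} (hθ : θ ∈ b)
    (hθ' : θ' ∈ b) {g : G} (h : Helper75.conjFun N g (θ : N → ℂ) = (θ' : N → ℂ)) : g ∈ T := by
  apply hstab.mem_of_conj_mem hb hθ
  have : conjIrrN N g θ = θ' := Subtype.ext h
  rw [this]
  exact hθ'

omit [Fintype G] in
/-- the restriction to `N` of a class function of `T` pairs equally with `T`-conjugates -/
theorem classInner_resNT_conjFun (hNT : N ≤ T) {ψ : T → ℂ} (hψ : IsClassFunction T ψ) {t : G}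
    (ht : t ∈ T) (θ : N → ℂ) :
    classInner (resNT N T hNT ψ) (Helper75.conjFun N t θ) = classInner (resNT N T hNT ψ) θ := by
  rw [← classInner_conjFun_conjFun N t (resNT N T hNT ψ) θ]
  congr 1
  funext n
  rw [Helper75.conjFun_apply]
  unfold resNT
  have := hψ ⟨(n : G), hNT n.2⟩ ⟨t, ht⟩
  rw [← this]
  rfl

/-- induction from the stabilizer of a block preserves irreducibility over the block -/
theorem isIrrCharacter_indFun_of_over_block [hMp : M.IsPrime] (hNT : N ≤ T)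
    {b : Set (IrrCharacter N)} (hstab : IsBlockStab N T b) (hb : IsPBlock M b)
    (ψ : IrrCharacter T) (θ : IrrCharacter N) (hθb : θ ∈ b)
    (hover : classInner (resNT N T hNT (ψ : T → ℂ)) (θ : N → ℂ) ≠ 0) :
    IsIrrCharacter G (indFun T (ψ : T → ℂ)) :=
  isIrrCharacter_indFun_of_over' N T hNT θ.2
    (fun g hg => hstab.mem_of_conjFun_eq hb hθb hθb hg) ψ.2 hover

/-- every irreducible character of `G` over the block is induced from the stabilizer -/
theorem exists_indFun_eq_of_over_block [hMp : M.IsPrime] (hNT : N ≤ T)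
    {b : Set (IrrCharacter N)} (hstab : IsBlockStab N T b) (hb : IsPBlock M b)
    (χ : IrrCharacter G) (θ : IrrCharacter N) (hθb : θ ∈ b)
    (hover : classInner (fun n : N => (χ : G → ℂ) n) (θ : N → ℂ) ≠ 0) :
    ∃ ψ : IrrCharacter T, classInner (resNT N T hNT (ψ : T → ℂ)) (θ : N → ℂ) ≠ 0 ∧
      indFun T (ψ : T → ℂ) = (χ : G → ℂ) := by
  obtain ⟨ψ, hψ, hind, hmult⟩ := exists_indFun_eq_of_over' N T hNT θ.2
    (fun g hg => hstab.mem_of_conjFun_eq hb hθb hθb hg) χ.2 hover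
  exact ⟨⟨ψ, hψ⟩, by rw [hmult]; exact hover, hind⟩

/-- an induced character lies over what the original lies over -/
theorem classInner_res_indFun_ne_zero_of_over_block [hMp : M.IsPrime] (hNT : N ≤ T)
    {b : Set (IrrCharacter N)} (hstab : IsBlockStab N T b) (hb : IsPBlock M b)
    (ψ : IrrCharacter T) (θ : IrrCharacter N) (hθb : θ ∈ b)
    (hover : classInner (resNT N T hNT (ψ : T → ℂ)) (θ : N → ℂ) ≠ 0) :
    classInner (fun n : N => indFun T (ψ : T → ℂ) n) (θ : N → ℂ) ≠ 0 := by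
  rw [classInner_res_indFun_of_over' N T hNT θ.2
    (fun g hg => hstab.mem_of_conjFun_eq hb hθb hθb hg) ψ.2 hover]
  exact hover

/-- induction from the stabilizer of a block is injective over the block -/
theorem indFun_injective_of_over_block [hMp : M.IsPrime] (hNT : N ≤ T)
    {b : Set (IrrCharacter N)} (hstab : IsBlockStab N T b) (hb : IsPBlock M b)
    (ψ ψ' : IrrCharacter T) (θ θ' : IrrCharacter N) (hθb : θ ∈ b) (hθ'b : θ' ∈ b)
    (hover : classInner (resNT N T hNT (ψ : T → ℂ)) (θ : N → ℂ) ≠ 0)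
    (hover' : classInner (resNT N T hNT (ψ' : T → ℂ)) (θ' : N → ℂ) ≠ 0)
    (heq : indFun T (ψ : T → ℂ) = indFun T (ψ' : T → ℂ)) : ψ = ψ' := by
  have hirr := isIrrCharacter_indFun_of_over_block hNT hstab hb ψ θ hθb hover
  have h1 := classInner_res_indFun_ne_zero_of_over_block hNT hstab hb ψ θ hθb hover
  have h2 := classInner_res_indFun_ne_zero_of_over_block hNT hstab hb ψ' θ' hθ'b hover'
  rw [← heq] at h2
  obtain ⟨g, hg⟩ := clifford_conj N hirr θ.2 θ'.2 h1 h2
  have hgT : g ∈ T := hstab.mem_of_conjFun_eq hb hθb hθ'b hg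
  have hover'' : classInner (resNT N T hNT (ψ' : T → ℂ)) (θ : N → ℂ) ≠ 0 := by
    rw [← classInner_resNT_conjFun hNT (isClassFunction_irr ψ') hgT, hg]
    exact hover'
  apply Subtype.ext
  exact indFun_injective_of_over' N T hNT θ.2
    (fun g hg => hstab.mem_of_conjFun_eq hb hθb hθb hg) ψ.2 ψ'.2 hover hover'' heq

end Stab

/-! ### Covering at the level of the stabilizer -/

section TLevel

variable {G : Type u} [Group G] [Fintype G] {N T : Subgroup G} [hN : N.Normal] [Fintype N]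
  [Fintype T] {M : Ideal AlgInt}

omit [Fintype G] in
/-- restriction to `N.subgroupOf T` versus `resNT`, in inner-product form -/
theorem classInner_res_subgroupOf_irrPull (hNT : N ≤ T) (ψ : T → ℂ) (θ : IrrCharacter N)
    [Fintype (N.subgroupOf T)] :
    classInner (fun m : N.subgroupOf T => ψ m)
      (irrPull (Subgroup.subgroupOfEquivOfLe hNT) θ : N.subgroupOf T → ℂ) =
      classInner (resNT N T hNT ψ) (θ : N → ℂ) := by
  have h1 : (fun m : N.subgroupOf T => ψ m) =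
      resNT N T hNT ψ ∘ (Subgroup.subgroupOfEquivOfLe hNT).toEquiv := res_eq_comp N T hNT ψ
  have h2 : (irrPull (Subgroup.subgroupOfEquivOfLe hNT) θ : N.subgroupOf T → ℂ) =
      (θ : N → ℂ) ∘ (Subgroup.subgroupOfEquivOfLe hNT).toEquiv := rfl
  rw [h1, h2]
  convert classInner_comp_equiv (Subgroup.subgroupOfEquivOfLe hNT).toEquiv
    (resNT N T hNT ψ) (θ : N → ℂ)

/-- If one member of the block `B'` of `T` lies over `b`, all do. -/
theorem exists_over_block_of_mem [hMp : M.IsPrime] (hNT : N ≤ T)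
    {b : Set (IrrCharacter N)} (hstab : IsBlockStab N T b) (hb : IsPBlock M b)
    {B' : Set (IrrCharacter T)} (hB' : IsPBlock M B') {ψ₀ : IrrCharacter T} (hψ₀ : ψ₀ ∈ B')
    {θ₀ : IrrCharacter N} (hθ₀b : θ₀ ∈ b)
    (hover₀ : classInner (resNT N T hNT (ψ₀ : T → ℂ)) (θ₀ : N → ℂ) ≠ 0)
    {ψ : IrrCharacter T} (hψ : ψ ∈ B') :
    ∃ θ ∈ b, classInner (resNT N T hNT (ψ : T → ℂ)) (θ : N → ℂ) ≠ 0 := by
  classical
  haveI : (N.subgroupOf T).Normal := Subgroup.normal_subgroupOf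
  haveI : Fintype (N.subgroupOf T) := Fintype.ofFinite _
  set φ := Subgroup.subgroupOfEquivOfLe hNT with hφ
  set b' : Set (IrrCharacter (N.subgroupOf T)) := pullBlock φ b with hb'def
  have hb' : IsPBlock M b' := isPBlock_pullBlock φ hb
  have hconj : ∀ (t : T) (θ : IrrCharacter N),
      conjIrrN (N.subgroupOf T) t (irrPull φ θ) = irrPull φ (conjIrrN N (t : G) θ) := by
    intro t θ
    apply Subtype.ext
    funext m
    rfl
  have hst' : IsGStable (N.subgroupOf T) b' := by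
    rintro _ ⟨θ, hθ, rfl⟩ t
    rw [hconj]
    exact irrPull_mem_pullBlock φ ((hstab (t : G)).mp t.2 θ hθ)
  have hθ₀' : classInner (fun m : N.subgroupOf T => (ψ₀ : T → ℂ) m)
      (irrPull φ θ₀ : N.subgroupOf T → ℂ) ≠ 0 := by
    rw [classInner_res_subgroupOf_irrPull hNT]
    exact hover₀
  obtain ⟨φ', hφ'⟩ := exists_constituent (N.subgroupOf T) ψ
  have h1 := mem_conjClosure_of_sameBlock (N.subgroupOf T) hb' (sameBlock_of_mem hB' hψ₀ hψ)
    (irrPull_mem_pullBlock φ hθ₀b) hθ₀' φ' hφ'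
  obtain ⟨t, ht⟩ := h1
  have h2 : φ' ∈ b' := (hst'.mem_iff t φ').mp ht
  obtain ⟨θ₁, hθ₁, rfl⟩ := h2
  refine ⟨θ₁, hθ₁, ?_⟩
  rw [← classInner_res_subgroupOf_irrPull hNT]
  exact hφ'

end TLevel

/-! ### The idempotent of a block of the stabilizer, traced up to `G` -/

section Idem

variable {G : Type u} [Group G] [Fintype G] {N T : Subgroup G} [hN : N.Normal] [Fintype N]
  [Fintype T] {M : Ideal AlgInt}

open scoped Classical in
/-- **Key computation.** For `ψ ∈ Irr(T)` over `b`, the central character of `ψ^G` on the trace of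
the idempotent of a block `B'` of `T` (all of whose members lie over `b`) is `1` or `0` according
as `ψ ∈ B'` or not. -/
theorem omega_indFun_trElt_blockCoeff [hMp : M.IsPrime] (hNT : N ≤ T)
    {b : Set (IrrCharacter N)} (hstab : IsBlockStab N T b) (hb : IsPBlock M b)
    {B' : Set (IrrCharacter T)}
    (hall : ∀ δ ∈ B', ∃ θ ∈ b, classInner (resNT N T hNT (δ : T → ℂ)) (θ : N → ℂ) ≠ 0)
    (ψ : IrrCharacter T) (θ : IrrCharacter N) (hθb : θ ∈ b)
    (hover : classInner (resNT N T hNT (ψ : T → ℂ)) (θ : N → ℂ) ≠ 0) :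
    omega (indFun T (ψ : T → ℂ)) (trElt T (blockCoeff B')) = if ψ ∈ B' then 1 else 0 := by
  have hirr := isIrrCharacter_indFun_of_over_block hNT hstab hb ψ θ hθb hover
  have hcl : IsClassFunction G (indFun T (ψ : T → ℂ)) := isClassFunction_indFun T _
  rw [omega_trElt T hcl, indFun_one]
  have h1 : ∑ t : T, indFun T (ψ : T → ℂ) t * blockCoeff B' t =
      ∑ t : T, blockCoeff B' t * (fun t : T => indFun T (ψ : T → ℂ) t) t :=
    Finset.sum_congr rfl fun t _ => mul_comm _ _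
  rw [h1, Helper78.sum_blockCoeff_mul]
  have h2 : ∀ δ ∈ Finset.univ.filter (fun δ : IrrCharacter T => δ ∈ B'),
      (δ : T → ℂ) 1 * classInner (fun t : T => indFun T (ψ : T → ℂ) t) (δ : T → ℂ) =
        if δ = ψ then (ψ : T → ℂ) 1 else 0 := by
    intro δ hδ
    have hδB : δ ∈ B' := (Finset.mem_filter.mp hδ).2
    obtain ⟨θ', hθ'b, hover'⟩ := hall δ hδB
    have hirr' := isIrrCharacter_indFun_of_over_block hNT hstab hb δ θ' hθ'b hover'
    rw [← classInner_conj_symm, ← frobenius_reciprocity T _ hcl, classInner_irr hirr' hirr]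
    by_cases hδψ : δ = ψ
    · rw [if_pos hδψ, if_pos (by rw [hδψ]), map_one, mul_one, hδψ]
    · rw [if_neg hδψ, if_neg, map_zero, mul_zero]
      intro heq
      exact hδψ (indFun_injective_of_over_block hNT hstab hb δ ψ θ' θ hθ'b hθb hover' hover heq)
  rw [Finset.sum_congr rfl h2, Finset.sum_ite_eq' ]
  have hidx : (T.index : ℂ) ≠ 0 := by
    have : T.index ≠ 0 := Subgroup.index_ne_zero_of_finite
    exact_mod_cast this
  have hψ1 : (ψ : T → ℂ) 1 ≠ 0 := Cfsg.Agent.Lib.Helper79.irr_apply_one_ne_zero ψ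
  by_cases hψB : ψ ∈ B'
  · rw [if_pos hψB, if_pos (Finset.mem_filter.mpr ⟨Finset.mem_univ _, hψB⟩)]
    exact div_self (mul_ne_zero hidx hψ1)
  · rw [if_neg hψB, if_neg (fun h => hψB (Finset.mem_filter.mp h).2), mul_zero, zero_div]

open scoped Classical in
/-- If `ψ₁ ∈ B'` and `ψ₂` (over `b`) induce to characters of `G` in the same block, then
`ψ₂ ∈ B'`. -/
theorem mem_of_sameBlock_indFun [hMp : M.IsPrime] (hNT : N ≤ T)
    {b : Set (IrrCharacter N)} (hstab : IsBlockStab N T b) (hb : IsPBlock M b)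
    {B' : Set (IrrCharacter T)} (hB' : IsPBlock M B')
    (hall : ∀ δ ∈ B', ∃ θ ∈ b, classInner (resNT N T hNT (δ : T → ℂ)) (θ : N → ℂ) ≠ 0)
    (ψ₁ ψ₂ : IrrCharacter T) (hψ₁ : ψ₁ ∈ B') (θ₂ : IrrCharacter N) (hθ₂b : θ₂ ∈ b)
    (hover₂ : classInner (resNT N T hNT (ψ₂ : T → ℂ)) (θ₂ : N → ℂ) ≠ 0)
    (χ₁ χ₂ : IrrCharacter G) (h₁ : (χ₁ : G → ℂ) = indFun T (ψ₁ : T → ℂ))
    (h₂ : (χ₂ : G → ℂ) = indFun T (ψ₂ : T → ℂ))
    (hsb : SameBlock M (χ₁ : G → ℂ) (χ₂ : G → ℂ)) : ψ₂ ∈ B' := by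
  obtain ⟨θ₁, hθ₁b, hover₁⟩ := hall ψ₁ hψ₁
  have hz := trElt_mem_centerOrder (M := M) T (isClassFunction_blockCoeff B')
    (fun t => blockCoeff_memLocalRing hB' t)
  have h3 := sameBlock_omegaHom_congr hsb hz
  rw [omegaHom_apply, omegaHom_apply] at h3
  change MemLocalIdeal M (omega (χ₁ : G → ℂ) (trElt T (blockCoeff B')) -
    omega (χ₂ : G → ℂ) (trElt T (blockCoeff B'))) at h3
  rw [h₁, h₂, omega_indFun_trElt_blockCoeff hNT hstab hb hall ψ₁ θ₁ hθ₁b hover₁,
    omega_indFun_trElt_blockCoeff hNT hstab hb hall ψ₂ θ₂ hθ₂b hover₂, if_pos hψ₁] at h3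
  by_contra hcon
  rw [if_neg hcon, sub_zero] at h3
  exact one_not_memLocalIdeal h3

end Idem

/-! ### The Fong–Reynolds theorem -/

section MainFR

variable {G : Type u} [Group G] [Fintype G] {N T : Subgroup G} [hN : N.Normal] [Fintype N]
  [Fintype T] {M : Ideal AlgInt}

open scoped Classical in
/-- **Fong–Reynolds (i).** A block `B'` of the stabilizer `T` covering `b` induces a block `B` of
`G` covering `b`; induction maps `B'` bijectively onto `B`. -/
theorem fongReynolds_induced [hMp : M.IsPrime] (hNT : N ≤ T)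
    {b : Set (IrrCharacter N)} (hstab : IsBlockStab N T b) (hb : IsPBlock M b)
    {B' : Set (IrrCharacter T)} (hB' : IsPBlock M B')
    (hcov : ∃ ψ ∈ B', ∃ θ ∈ b, classInner (resNT N T hNT (ψ : T → ℂ)) (θ : N → ℂ) ≠ 0) :
    ∃ B : Set (IrrCharacter G), IsInducedBlock M T B' B ∧
      (∃ χ ∈ B, ∃ θ ∈ b, classInner (fun n : N => (χ : G → ℂ) n) (θ : N → ℂ) ≠ 0) ∧
      (∀ ψ ∈ B', IsIrrCharacter G (indFun T (ψ : T → ℂ))) ∧
      ∀ χ : IrrCharacter G, χ ∈ B ↔ ∃ ψ ∈ B', (χ : G → ℂ) = indFun T (ψ : T → ℂ) := by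
  obtain ⟨ψ₀, hψ₀, θ₀, hθ₀b, hover₀⟩ := hcov
  have hall : ∀ δ ∈ B', ∃ θ ∈ b, classInner (resNT N T hNT (δ : T → ℂ)) (θ : N → ℂ) ≠ 0 :=
    fun δ hδ => exists_over_block_of_mem hNT hstab hb hB' hψ₀ hθ₀b hover₀ hδ
  have hirr : ∀ ψ ∈ B', IsIrrCharacter G (indFun T (ψ : T → ℂ)) := by
    intro ψ hψ
    obtain ⟨θ, hθb, hov⟩ := hall ψ hψ
    exact isIrrCharacter_indFun_of_over_block hNT hstab hb ψ θ hθb hov
  set χ₀ : IrrCharacter G := ⟨indFun T (ψ₀ : T → ℂ), hirr ψ₀ hψ₀⟩ with hχ₀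
  set B : Set (IrrCharacter G) := blockOf M (χ₀ : G → ℂ) with hB
  have hBblock : IsPBlock M B := ⟨χ₀, rfl⟩
  have hχ₀B : χ₀ ∈ B := self_mem_blockOf hMp.ne_top χ₀
  have hmemB : ∀ (ψ : IrrCharacter T) (hψ : ψ ∈ B'),
      (⟨indFun T (ψ : T → ℂ), hirr ψ hψ⟩ : IrrCharacter G) ∈ B := by
    intro ψ hψ g
    rw [centralChar_eq_inducedCentralChar_of_indFun T χ₀ (ψ₀ : T → ℂ) rfl,
      centralChar_eq_inducedCentralChar_of_indFun T ⟨indFun T (ψ : T → ℂ), hirr ψ hψ⟩
        (ψ : T → ℂ) rfl]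
    exact inducedCentralChar_congr T (sameBlock_of_mem hB' hψ₀ hψ) g
  refine ⟨B, ⟨hB', hBblock, ?_⟩, ⟨χ₀, hχ₀B, θ₀, hθ₀b, ?_⟩, hirr, ?_⟩
  · intro ξ hξ χ hχ g
    rw [← centralChar_eq_inducedCentralChar_of_indFun T ⟨indFun T (ξ : T → ℂ), hirr ξ hξ⟩
        (ξ : T → ℂ) rfl]
    exact sameBlock_of_mem hBblock (hmemB ξ hξ) hχ g
  · exact classInner_res_indFun_ne_zero_of_over_block hNT hstab hb ψ₀ θ₀ hθ₀b hover₀
  · intro χ
    constructor
    · intro hχ
      have hsb : SameBlock M (χ₀ : G → ℂ) (χ : G → ℂ) := hχ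
      have hθ₀ : classInner (fun n : N => (χ₀ : G → ℂ) n) (θ₀ : N → ℂ) ≠ 0 :=
        classInner_res_indFun_ne_zero_of_over_block hNT hstab hb ψ₀ θ₀ hθ₀b hover₀
      obtain ⟨φ, hφ⟩ := exists_constituent N χ
      obtain ⟨g, hg⟩ := mem_conjClosure_of_sameBlock N hb hsb hθ₀b hθ₀ φ hφ
      have hover : classInner (fun n : N => (χ : G → ℂ) n) (conjIrrN N g φ : N → ℂ) ≠ 0 := by
        rw [classInner_res_conjIrrN]
        exact hφ
      obtain ⟨ψ, hψover, hind⟩ :=
        exists_indFun_eq_of_over_block hNT hstab hb χ (conjIrrN N g φ) hg hover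
      refine ⟨ψ, ?_, hind.symm⟩
      exact mem_of_sameBlock_indFun hNT hstab hb hB' hall ψ₀ ψ hψ₀ (conjIrrN N g φ) hg hψover
        χ₀ χ rfl hind.symm hsb
    · rintro ⟨ψ, hψ, h⟩
      have : χ = ⟨indFun T (ψ : T → ℂ), hirr ψ hψ⟩ := Subtype.ext h
      rw [this]
      exact hmemB ψ hψ

/-- **Fong–Reynolds (ii).** Distinct blocks of `T` covering `b` induce distinct blocks. -/
theorem fongReynolds_injective [hMp : M.IsPrime] (hNT : N ≤ T)
    {b : Set (IrrCharacter N)} (hstab : IsBlockStab N T b) (hb : IsPBlock M b)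
    {B'₁ B'₂ : Set (IrrCharacter T)} (hB'₁ : IsPBlock M B'₁) (hB'₂ : IsPBlock M B'₂)
    (hcov₁ : ∃ ψ ∈ B'₁, ∃ θ ∈ b, classInner (resNT N T hNT (ψ : T → ℂ)) (θ : N → ℂ) ≠ 0)
    (hcov₂ : ∃ ψ ∈ B'₂, ∃ θ ∈ b, classInner (resNT N T hNT (ψ : T → ℂ)) (θ : N → ℂ) ≠ 0)
    {B : Set (IrrCharacter G)} (hind₁ : IsInducedBlock M T B'₁ B)
    (hind₂ : IsInducedBlock M T B'₂ B) : B'₁ = B'₂ := by
  obtain ⟨ψ₁, hψ₁, θ₁, hθ₁b, hover₁⟩ := hcov₁
  obtain ⟨ψ₂, hψ₂, θ₂, hθ₂b, hover₂⟩ := hcov₂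
  have hall : ∀ δ ∈ B'₁, ∃ θ ∈ b, classInner (resNT N T hNT (δ : T → ℂ)) (θ : N → ℂ) ≠ 0 :=
    fun δ hδ => exists_over_block_of_mem hNT hstab hb hB'₁ hψ₁ hθ₁b hover₁ hδ
  have hirr₁ := isIrrCharacter_indFun_of_over_block hNT hstab hb ψ₁ θ₁ hθ₁b hover₁
  have hirr₂ := isIrrCharacter_indFun_of_over_block hNT hstab hb ψ₂ θ₂ hθ₂b hover₂
  obtain ⟨χ, hχ⟩ := IsPBlock_nonempty hMp.ne_top hind₁.2.1
  have hsb : SameBlock M ((⟨_, hirr₁⟩ : IrrCharacter G) : G → ℂ)
      ((⟨_, hirr₂⟩ : IrrCharacter G) : G → ℂ) := by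
    intro g
    rw [centralChar_eq_inducedCentralChar_of_indFun T ⟨_, hirr₁⟩ (ψ₁ : T → ℂ) rfl,
      centralChar_eq_inducedCentralChar_of_indFun T ⟨_, hirr₂⟩ (ψ₂ : T → ℂ) rfl]
    have h1 := hind₁.2.2 ψ₁ hψ₁ χ hχ g
    have h2 := hind₂.2.2 ψ₂ hψ₂ χ hχ g
    have := memLocalIdeal_sub h1 h2
    rwa [sub_sub_sub_cancel_right] at this
  have hmem : ψ₂ ∈ B'₁ := mem_of_sameBlock_indFun hNT hstab hb hB'₁ hall ψ₁ ψ₂ hψ₁ θ₂ hθ₂b hover₂
    ⟨_, hirr₁⟩ ⟨_, hirr₂⟩ rfl rfl hsb
  exact IsPBlock_eq_of_mem hB'₁ hB'₂ hmem hψ₂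

/-- **Fong–Reynolds (iii).** Every block of `G` covering `b` is induced from a block of `T`
covering `b`. -/
theorem fongReynolds_surjective [hMp : M.IsPrime] (hNT : N ≤ T)
    {b : Set (IrrCharacter N)} (hstab : IsBlockStab N T b) (hb : IsPBlock M b)
    {B : Set (IrrCharacter G)} (hB : IsPBlock M B)
    (hcov : ∃ χ ∈ B, ∃ θ ∈ b, classInner (fun n : N => (χ : G → ℂ) n) (θ : N → ℂ) ≠ 0) :
    ∃ B' : Set (IrrCharacter T), IsPBlock M B' ∧
      (∃ ψ ∈ B', ∃ θ ∈ b, classInner (resNT N T hNT (ψ : T → ℂ)) (θ : N → ℂ) ≠ 0) ∧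
      IsInducedBlock M T B' B := by
  obtain ⟨χ, hχ, θ, hθb, hover⟩ := hcov
  obtain ⟨ψ, hψover, hind⟩ := exists_indFun_eq_of_over_block hNT hstab hb χ θ hθb hover
  have hB' : IsPBlock M (blockOf M (ψ : T → ℂ)) := ⟨ψ, rfl⟩
  have hψmem : ψ ∈ blockOf M (ψ : T → ℂ) := self_mem_blockOf hMp.ne_top ψ
  have hcov' : ∃ ψ' ∈ blockOf M (ψ : T → ℂ), ∃ θ ∈ b,
      classInner (resNT N T hNT (ψ' : T → ℂ)) (θ : N → ℂ) ≠ 0 := ⟨ψ, hψmem, θ, hθb, hψover⟩
  refine ⟨blockOf M (ψ : T → ℂ), hB', hcov', ?_⟩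
  obtain ⟨B₁, hind₁, -, -, hmem⟩ := fongReynolds_induced hNT hstab hb hB' hcov'
  have hχB₁ : χ ∈ B₁ := (hmem χ).mpr ⟨ψ, hψmem, hind.symm⟩
  have : B₁ = B := IsPBlock_eq_of_mem hind₁.2.1 hB hχB₁ hχ
  rw [← this]
  exact hind₁

end MainFR

end Cfsg.Agent.Lib.Helper76
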