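import Mathlib
import Cfsg.Agent.S0907
import Cfsg.Agent.Lib.Helper78.DefectOneData
import Cfsg.Agent.Lib.Helper78.CharMore
import Cfsg.Agent.Lib.Helper79.Schur
import Cfsg.Agent.Lib.Helper79.Integrality
import Cfsg.Agent.Lib.Helper17.CosetAction

set_option autoImplicit false
open Cfsg
open scoped ComplexConjugate

/-!
# Brauer's `n`-theorem, module [DIVIS] (for helper79, S0999 / S4701)

For the normalized principal block `X ⊔ Y` of a group with a Sylow subgroup `P` of prime order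
(`DefectOneData`):

* `defectOne_sum_Y_apply`: `∑_{θ ∈ Y} θ(x) = -ε` for `1 ≠ x ∈ P` (weak block orthogonality for
  `(1, x)` and the relation `ε θ(1) = ∑_X a_χ χ(1)`);
* `defectOne_degree_dvd`: the degree of every character of the principal block divides
  `|G : C_G(P)|` (integrality of the central characters at `x`).
-/

namespace Cfsg.Agent.Lib.Helper76.BrauerNDivis

open Cfsg.Agent.Lib.Helper78 (DefectOneData)
open Cfsg.Agent.Lib.Helper79

variable {G : Type*} [Group G] [Finite G] {p : ℕ} [Fact p.Prime] {M : Ideal Cfsg.AlgInt}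
  {P : Sylow p G} {e : ℕ} {ε : ℤ} {a : IrrCharacter G → ℤ} {X Y : Finset (IrrCharacter G)}

omit [Finite G] in
/-- A non-identity element of a group of prime order `p` has order `p`. -/
theorem orderOf_eq_of_mem_of_card_prime (hP : Nat.card (P : Subgroup G) = p) {x : G}
    (hx : x ∈ (P : Subgroup G)) (hx1 : x ≠ 1) : orderOf x = p := by
  have hp : p.Prime := Fact.out
  have h1 : orderOf x ∣ p := by
    have := Subgroup.orderOf_dvd_natCard (P : Subgroup G) hx
    rwa [hP] at this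
  rcases (Nat.dvd_prime hp).1 h1 with h | h
  · exact (hx1 (orderOf_eq_one_iff.1 h)).elim
  · exact h

/-- All characters of `Y` have the same degree. -/
theorem apply_one_eq_of_mem_Y (D : DefectOneData p M P e ε a X Y) {θ θ' : IrrCharacter G}
    (hθ : θ ∈ Y) (hθ' : θ' ∈ Y) : (θ : G → ℂ) 1 = (θ' : G → ℂ) 1 := by
  have hp : p.Prime := Fact.out
  have h1 : ¬ p ∣ orderOf (1 : G) := by
    rw [orderOf_one]
    exact hp.one_lt.ne' ∘ Nat.dvd_one.1
  exact D.hregY 1 h1 θ hθ θ' hθ'

/-- **[DIVIS] (a)**: `∑_{θ ∈ Y} θ(x) = -ε` for `1 ≠ x ∈ P`. -/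
theorem defectOne_sum_Y_apply (hM : Cfsg.IsPModular p M) (D : DefectOneData p M P e ε a X Y)
    (hP : Nat.card (P : Subgroup G) = p) (hY : Y.Nonempty) {x : G} (hx : x ∈ (P : Subgroup G))
    (hx1 : x ≠ 1) : ∑ θ ∈ Y, (θ : G → ℂ) x = -(ε : ℂ) := by
  classical
  have hp : p.Prime := Fact.out
  have h1 : ¬ p ∣ orderOf (1 : G) := by
    rw [orderOf_one]
    exact hp.one_lt.ne' ∘ Nat.dvd_one.1
  have hxp : p ∣ orderOf x := by rw [orderOf_eq_of_mem_of_card_prime hP hx hx1]
  have hB : IsPBlock M (principalBlock M G) :=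
    ⟨⟨fun _ => 1, Cfsg.Agent.Lib.Helper78.isIrrCharacter_one⟩, rfl⟩
  have hwbo := Cfsg.Agent.S0907.result p M hM (principalBlock M G) hB 1 x h1 hxp
  have hset : principalBlock M G = ((X ∪ Y : Finset (IrrCharacter G)) : Set (IrrCharacter G)) := by
    ext χ
    rw [D.hmem χ, Finset.mem_coe, Finset.mem_union]
  rw [hset, finsum_mem_coe_finset, Finset.sum_union D.hdisj] at hwbo
  obtain ⟨θ₀, hθ₀⟩ := hY
  have hd : (θ₀ : G → ℂ) 1 ≠ 0 := irr_apply_one_ne_zero θ₀
  have hXsum : ∑ χ ∈ X, (χ : G → ℂ) 1 * conj ((χ : G → ℂ) x) = (ε : ℂ) * (θ₀ : G → ℂ) 1 := by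
    rw [D.hrel 1 h1 θ₀ hθ₀]
    apply Finset.sum_congr rfl
    intro χ hχ
    rw [D.hX χ hχ x hx hx1, map_intCast, mul_comm]
  have hYsum : ∑ θ ∈ Y, (θ : G → ℂ) 1 * conj ((θ : G → ℂ) x) =
      (θ₀ : G → ℂ) 1 * conj (∑ θ ∈ Y, (θ : G → ℂ) x) := by
    rw [map_sum, Finset.mul_sum]
    apply Finset.sum_congr rfl
    intro θ hθ
    rw [apply_one_eq_of_mem_Y D hθ hθ₀]
  rw [hXsum, hYsum] at hwbo
  have h2 : (θ₀ : G → ℂ) 1 * ((ε : ℂ) + conj (∑ θ ∈ Y, (θ : G → ℂ) x)) = 0 := by
    rw [← hwbo]; ring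
  have h3 : (ε : ℂ) + conj (∑ θ ∈ Y, (θ : G → ℂ) x) = 0 := by
    rcases mul_eq_zero.1 h2 with h | h
    · exact absurd h hd
    · exact h
  have h4 : conj (∑ θ ∈ Y, (θ : G → ℂ) x) = -(ε : ℂ) := by linear_combination h3
  have h5 := congrArg conj h4
  rw [Complex.conj_conj, map_neg, map_intCast] at h5
  exact h5

/-- **[DIVIS] (b)**: the degrees of the characters of the principal block divide `|G : C_G(P)|`. -/
theorem defectOne_degree_dvd (hM : Cfsg.IsPModular p M) (D : DefectOneData p M P e ε a X Y)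
    (hP : Nat.card (P : Subgroup G) = p) {χ : IrrCharacter G} (hχ : χ ∈ X ∨ χ ∈ Y) :
    charDegree (χ : G → ℂ) ∣ (Subgroup.centralizer ((P : Subgroup G) : Set G)).index := by
  classical
  have hp : p.Prime := Fact.out
  -- a non-identity element of `P`
  obtain ⟨x, hx, hx1⟩ : ∃ x : G, x ∈ (P : Subgroup G) ∧ x ≠ 1 := by
    have hnt : (P : Subgroup G) ≠ ⊥ := by
      intro hbot
      rw [hbot, Subgroup.card_bot] at hP
      exact hp.one_lt.ne hP
    obtain ⟨⟨x, hx⟩, hx1⟩ := Subgroup.ne_bot_iff_exists_ne_one.1 hnt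
    exact ⟨x, hx, fun h => hx1 (Subtype.ext h)⟩
  have hcent : Subgroup.centralizer ({x} : Set G) =
      Subgroup.centralizer ((P : Subgroup G) : Set G) := by
    apply le_antisymm
    · intro g hg
      rw [Subgroup.mem_centralizer_singleton_iff] at hg
      exact Cfsg.Agent.Lib.Helper17.mem_centralizer_of_commute_of_card_prime
        (P : Subgroup G) hp hP hx hx1 hg
    · exact Subgroup.centralizer_le (Set.singleton_subset_iff.2 hx)
  rw [← hcent]
  have hdeg : (χ : G → ℂ) 1 = (charDegree (χ : G → ℂ) : ℂ) := irr_apply_one_eq_charDegree χ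
  have hdpos : charDegree (χ : G → ℂ) ≠ 0 := (irr_charDegree_pos χ).ne'
  apply dvd_of_isIntegral_div hdpos
  rw [← hdeg]
  rcases hχ with hχ | hχ
  · -- `χ ∈ X`: `χ x = ± 1`
    have hint := isIntegral_centralChar χ x
    unfold Cfsg.centralChar at hint
    rw [D.hX χ hχ x hx hx1] at hint
    rcases D.haX χ hχ with ha | ha
    · rw [ha] at hint
      simpa using hint
    · rw [ha] at hint
      have := hint.neg
      have e1 : -(((Subgroup.centralizer ({x} : Set G)).index : ℂ) * ((-1 : ℤ) : ℂ) /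
          (χ : G → ℂ) 1) = ((Subgroup.centralizer ({x} : Set G)).index : ℂ) / (χ : G → ℂ) 1 := by
        push_cast; ring
      rwa [e1] at this
  · -- `χ ∈ Y`: sum the central characters over `Y`
    have hsum : IsIntegral ℤ (∑ θ ∈ Y, Cfsg.centralChar (θ : G → ℂ) x) :=
      IsIntegral.sum _ (fun θ _ => isIntegral_centralChar θ x)
    have hYne : Y.Nonempty := ⟨χ, hχ⟩
    have hS := defectOne_sum_Y_apply hM D hP hYne hx hx1
    have e1 : ∑ θ ∈ Y, Cfsg.centralChar (θ : G → ℂ) x =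
        ((Subgroup.centralizer ({x} : Set G)).index : ℂ) * (-(ε : ℂ)) / (χ : G → ℂ) 1 := by
      unfold Cfsg.centralChar
      rw [← hS, Finset.mul_sum, Finset.sum_div]
      apply Finset.sum_congr rfl
      intro θ hθ
      rw [apply_one_eq_of_mem_Y D hθ hχ]
    rw [e1] at hsum
    rcases D.hε with hε | hε
    · rw [hε] at hsum
      have := hsum.neg
      have e2 : -(((Subgroup.centralizer ({x} : Set G)).index : ℂ) * (-((1 : ℤ) : ℂ)) /
          (χ : G → ℂ) 1) = ((Subgroup.centralizer ({x} : Set G)).index : ℂ) / (χ : G → ℂ) 1 := by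
        push_cast; ring
      rwa [e2] at this
    · rw [hε] at hsum
      have e2 : ((Subgroup.centralizer ({x} : Set G)).index : ℂ) * (-((-1 : ℤ) : ℂ)) /
          (χ : G → ℂ) 1 = ((Subgroup.centralizer ({x} : Set G)).index : ℂ) / (χ : G → ℂ) 1 := by
        push_cast; ring
      rwa [e2] at hsum

end Cfsg.Agent.Lib.Helper76.BrauerNDivis
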