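import Mathlib
import Cfsg.Prelude.Def_Perm

set_option autoImplicit false

/-!
# Two auxiliary facts for the `PSL₂(p)` endgame (helper76)

* `pgl2_not_perfect`: `PGL₂(F)` is not perfect for a finite field `F` of odd characteristic.
* `semiaffine_isSolvable`: the semi-affine group of a field with commutative automorphism
  group is solvable.
-/

namespace Cfsg.Agent.Lib.Helper76.BrauerEndPSL

open Matrix

/-- the quadratic character of the determinant, as a homomorphism `GL₂(F) →* ℤˣ`. -/
noncomputable def detChar (F : Type*) [Field F] [Fintype F] [DecidableEq F] :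
    GL (Fin 2) F →* ℤˣ :=
  (quadraticChar F).toUnitHom.comp Matrix.GeneralLinearGroup.det

theorem center_le_ker_detChar (F : Type*) [Field F] [Fintype F] [DecidableEq F] :
    Subgroup.center (GL (Fin 2) F) ≤ (detChar F).ker := by
  intro g hg
  rw [Matrix.GeneralLinearGroup.center_eq_range_scalar] at hg
  obtain ⟨u, rfl⟩ := hg
  rw [MonoidHom.mem_ker, detChar, MonoidHom.comp_apply, Matrix.GeneralLinearGroup.det_scalar,
    map_pow]
  simp

theorem pgl2_not_perfect (F : Type*) [Field F] [Fintype F] (hF : ringChar F ≠ 2) :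
    commutator (Matrix.ProjGenLinGroup (Fin 2) F) ≠ ⊤ := by
  classical
  intro htop
  let f : Matrix.ProjGenLinGroup (Fin 2) F →* ℤˣ :=
    QuotientGroup.lift (Subgroup.center (GL (Fin 2) F)) (detChar F) (center_le_ker_detChar F)
  have hker : f.ker = ⊤ := top_le_iff.mp (htop ▸ Abelianization.commutator_subset_ker f)
  obtain ⟨a, ha⟩ := FiniteField.exists_nonsquare hF
  have ha0 : a ≠ 0 := by
    rintro rfl
    exact ha ⟨0, by simp⟩
  let u : Fˣ := Units.mk0 a ha0
  -- the matrix diag(a, 1)
  let D : Matrix (Fin 2) (Fin 2) F := !![a, 0; 0, 1]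
  have hdet : D.det = a := by simp [D, Matrix.det_fin_two]
  have hDu : IsUnit D.det := by rw [hdet]; exact isUnit_iff_ne_zero.mpr ha0
  let g : GL (Fin 2) F := Matrix.GeneralLinearGroup.mk'' D hDu
  have hg : f (Matrix.ProjGenLinGroup.mk g) = 1 := by
    have : Matrix.ProjGenLinGroup.mk g ∈ f.ker := by rw [hker]; trivial
    exact this
  have hg2 : f (Matrix.ProjGenLinGroup.mk g) = detChar F g := rfl
  rw [hg2, detChar, MonoidHom.comp_apply] at hg
  have h3 : ((quadraticChar F).toUnitHom (Matrix.GeneralLinearGroup.det g) : ℤ) = quadraticChar F a := by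
    rw [MulChar.coe_toUnitHom]
    congr 1
  rw [hg] at h3
  have h4 := quadraticChar_neg_one_iff_not_isSquare.mpr ha
  rw [← h3] at h4
  simp at h4

section Semiaffine

variable {R : Type*} [CommRing R]

theorem semiaffine_uniq {a a' : Rˣ} {b b' : R} {φ φ' : R ≃+* R}
    (h : ∀ x, (a : R) * φ x + b = (a' : R) * φ' x + b') : a = a' ∧ b = b' ∧ φ = φ' := by
  have hb : b = b' := by simpa using h 0
  have ha : (a : R) = a' := by
    have := h 1
    rw [hb] at this
    simpa using this
  have ha' : a = a' := Units.ext ha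
  refine ⟨ha', hb, ?_⟩
  ext x
  have := h x
  rw [hb, ha'] at this
  have h2 : (a' : R) * φ x = (a' : R) * φ' x := add_right_cancel this
  exact (Units.mul_right_inj a').mp h2

theorem exists_phi (σ : Cfsg.semiaffineGroup R) : ∃ φ : R ≃+* R, ∃ a : Rˣ, ∃ b : R,
    ∀ x, (σ : Equiv.Perm R) x = (a : R) * φ x + b := by
  obtain ⟨a, b, φ, h⟩ := σ.2
  exact ⟨φ, a, b, h⟩

/-- the field-automorphism part of a semi-affine map -/
noncomputable def phiHom (R : Type*) [CommRing R] : Cfsg.semiaffineGroup R →* RingAut R where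
  toFun σ := (exists_phi σ).choose
  map_one' := by
    obtain ⟨a, b, h⟩ := (exists_phi (1 : Cfsg.semiaffineGroup R)).choose_spec
    have := semiaffine_uniq (a := a) (a' := 1) (b := b) (b' := 0)
      (φ := (exists_phi (1 : Cfsg.semiaffineGroup R)).choose) (φ' := RingEquiv.refl R)
      (fun x => by rw [← h x]; simp)
    exact this.2.2
  map_mul' σ τ := by
    obtain ⟨a, b, h⟩ := (exists_phi σ).choose_spec
    obtain ⟨c, d, h'⟩ := (exists_phi τ).choose_spec
    obtain ⟨e, f, h''⟩ := (exists_phi (σ * τ)).choose_spec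
    set φ := (exists_phi σ).choose
    set ψ := (exists_phi τ).choose
    have := semiaffine_uniq (a := e) (a' := a * Units.map (φ : R →* R) c) (b := f)
      (b' := (a : R) * φ d + b)
      (φ := (exists_phi (σ * τ)).choose) (φ' := φ * ψ)
      (fun x => by
        rw [← h'' x]
        show (σ : Equiv.Perm R) ((τ : Equiv.Perm R) x) = _
        rw [h' x, h]
        simp only [map_add, map_mul, Units.val_mul, Units.coe_map, MonoidHom.coe_coe,
          RingAut.mul_apply]
        ring)
    exact this.2.2

theorem phiHom_spec (σ : Cfsg.semiaffineGroup R) : ∃ a : Rˣ, ∃ b : R,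
    ∀ x, (σ : Equiv.Perm R) x = (a : R) * phiHom R σ x + b :=
  (exists_phi σ).choose_spec

theorem exists_a (σ : (phiHom R).ker) : ∃ a : Rˣ, ∃ b : R,
    ∀ x, ((σ : Cfsg.semiaffineGroup R) : Equiv.Perm R) x = (a : R) * x + b := by
  obtain ⟨a, b, h⟩ := phiHom_spec (σ : Cfsg.semiaffineGroup R)
  have h1 : phiHom R (σ : Cfsg.semiaffineGroup R) = 1 := σ.2
  rw [h1] at h
  exact ⟨a, b, fun x => by rw [h x]; rfl⟩

/-- the multiplier of an affine map -/
noncomputable def aHom (R : Type*) [CommRing R] : (phiHom R).ker →* Rˣ where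
  toFun σ := (exists_a σ).choose
  map_one' := by
    obtain ⟨b, h⟩ := (exists_a (1 : (phiHom R).ker)).choose_spec
    have := semiaffine_uniq (a := (exists_a (1 : (phiHom R).ker)).choose) (a' := 1) (b := b)
      (b' := 0) (φ := RingEquiv.refl R) (φ' := RingEquiv.refl R)
      (fun x => by
        have := h x
        simp only [RingEquiv.refl_apply]
        rw [← this]; simp)
    exact this.1
  map_mul' σ τ := by
    obtain ⟨b, h⟩ := (exists_a σ).choose_spec
    obtain ⟨d, h'⟩ := (exists_a τ).choose_spec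
    obtain ⟨f, h''⟩ := (exists_a (σ * τ)).choose_spec
    set a := (exists_a σ).choose
    set c := (exists_a τ).choose
    have := semiaffine_uniq (a := (exists_a (σ * τ)).choose) (a' := a * c) (b := f)
      (b' := (a : R) * d + b) (φ := RingEquiv.refl R) (φ' := RingEquiv.refl R)
      (fun x => by
        simp only [RingEquiv.refl_apply]
        rw [← h'' x]
        show ((σ : Cfsg.semiaffineGroup R) : Equiv.Perm R)
          (((τ : Cfsg.semiaffineGroup R) : Equiv.Perm R) x) = _
        rw [h' x, h]
        simp only [Units.val_mul]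
        ring)
    exact this.1

theorem aHom_spec (σ : (phiHom R).ker) : ∃ b : R,
    ∀ x, ((σ : Cfsg.semiaffineGroup R) : Equiv.Perm R) x = (aHom R σ : R) * x + b :=
  (exists_a σ).choose_spec

theorem aHom_ker_comm (σ τ : (aHom R).ker) : σ * τ = τ * σ := by
  obtain ⟨b, h⟩ := aHom_spec (σ : (phiHom R).ker)
  obtain ⟨d, h'⟩ := aHom_spec (τ : (phiHom R).ker)
  have h1 : aHom R (σ : (phiHom R).ker) = 1 := σ.2
  have h2 : aHom R (τ : (phiHom R).ker) = 1 := τ.2
  rw [h1] at h
  rw [h2] at h'
  apply Subtype.ext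
  apply Subtype.ext
  apply Subtype.ext
  apply Equiv.ext
  intro x
  show (((σ : (phiHom R).ker) : Cfsg.semiaffineGroup R) : Equiv.Perm R)
    ((((τ : (phiHom R).ker) : Cfsg.semiaffineGroup R) : Equiv.Perm R) x) =
    (((τ : (phiHom R).ker) : Cfsg.semiaffineGroup R) : Equiv.Perm R)
    ((((σ : (phiHom R).ker) : Cfsg.semiaffineGroup R) : Equiv.Perm R) x)
  rw [h' x, h, h x, h']
  simp only [Units.val_one, one_mul]
  ring

theorem semiaffine_isSolvable (hcomm : ∀ φ ψ : RingAut R, φ * ψ = ψ * φ) :
    Group.IsSolvable (Cfsg.semiaffineGroup R) := by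
  have h1 : Group.IsSolvable (aHom R).ker := Group.isSolvable_of_comm aHom_ker_comm
  have h2 : Group.IsSolvable (phiHom R).ker :=
    Group.isSolvable_of_ker_le_range (aHom R).ker.subtype (aHom R) (by
      intro x hx
      exact ⟨⟨x, hx⟩, rfl⟩)
  have h3 : Group.IsSolvable (RingAut R) := Group.isSolvable_of_comm hcomm
  exact Group.isSolvable_of_ker_le_range (phiHom R).ker.subtype (phiHom R) (by
      intro x hx
      exact ⟨⟨x, hx⟩, rfl⟩)

end Semiaffine

end Cfsg.Agent.Lib.Helper76.BrauerEndPSL
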