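import Mathlib

set_option autoImplicit false

/-!
# Group-theoretic reduction for the `PSL₂(p)` endgame (helper76)

A finite group `G` with a Sylow `p`-subgroup `P` of order `p`, exactly `p + 1` Sylow
`p`-subgroups and no nontrivial normal `p'`-subgroup acts faithfully on its `p + 1` Sylow
`p`-subgroups, and has order `(p + 1) p d` with `d ∣ p - 1`.
-/

namespace Cfsg.Agent.Lib.Helper76.BrauerEndPSL

open MulAction Subgroup

variable {G : Type*} [Group G] [Finite G] {p : ℕ} [Fact p.Prime]

/-- a `p`-element fixing a Sylow `p`-subgroup under conjugation lies in it -/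
theorem mem_sylow_of_smul_eq (Q : Sylow p G) {x : G} (hx : IsPGroup p (zpowers x))
    (hxQ : x • Q = Q) : x ∈ (Q : Subgroup G) := by
  have hle : zpowers x ≤ stabilizer G Q := zpowers_le.mpr (mem_stabilizer_iff.mpr hxQ)
  have hfix : Q ∈ fixedPoints (zpowers x) (Sylow p G) := by
    intro y
    exact mem_stabilizer_iff.mp (hle y.2)
  exact (hx.sylow_mem_fixedPoints_iff.mp hfix) (mem_zpowers x)

/-- a nontrivial element of a subgroup of prime order generates it -/
theorem zpowers_eq_of_card_prime (P : Subgroup G) (hP : Nat.card P = p) {y : G} (hy : y ∈ P)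
    (hy1 : y ≠ 1) : zpowers y = P := by
  have hle : zpowers y ≤ P := zpowers_le.mpr hy
  apply eq_of_le_of_card_ge hle
  have hdvd : Nat.card (zpowers y) ∣ p := hP ▸ card_dvd_of_le hle
  rcases (Nat.dvd_prime (Fact.out : p.Prime)).mp hdvd with h1 | h1
  · exfalso
    have := (zpowers y).eq_bot_of_card_eq h1
    exact hy1 (zpowers_eq_bot.mp this)
  · rw [hP, h1]

variable (P : Sylow p G) (hP : Nat.card P = p)

include hP in
/-- `P` acts semiregularly on the other Sylow `p`-subgroups -/
theorem eq_one_of_smul_eq {Q : Sylow p G} (hQ : Q ≠ P) {y : G} (hy : y ∈ (P : Subgroup G))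
    (hyQ : y • Q = Q) : y = 1 := by
  by_contra hy1
  have hyp : IsPGroup p (zpowers y) := P.isPGroup'.to_le (zpowers_le.mpr hy)
  have hmem := mem_sylow_of_smul_eq Q hyp hyQ
  have hz := zpowers_eq_of_card_prime (P : Subgroup G) hP hy hy1
  have hle : (P : Subgroup G) ≤ Q := by
    rw [← hz]; exact zpowers_le.mpr hmem
  exact hQ (Sylow.ext (P.is_maximal' Q.isPGroup' hle))

theorem smul_eq_self_of_mem {y : G} (hy : y ∈ (P : Subgroup G)) : y • P = P :=
  Sylow.smul_eq_iff_mem_normalizer.mpr (le_normalizer hy)

include hP in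
/-- `P` is transitive on the other Sylow `p`-subgroups -/
theorem exists_smul_eq (hn : Nat.card (Sylow p G) = p + 1) {Q R : Sylow p G} (hQ : Q ≠ P)
    (hR : R ≠ P) : ∃ y ∈ (P : Subgroup G), y • Q = R := by
  let f : ↥(P : Subgroup G) → Sylow p G := fun y => (y : G) • Q
  have hf : Function.Injective f := by
    intro y z hyz
    have h1 : ((z : G)⁻¹ * (y : G)) • Q = Q := by
      rw [mul_smul]
      exact inv_smul_eq_iff.mpr hyz
    have h2 := eq_one_of_smul_eq P hP hQ (mul_mem (inv_mem z.2) y.2) h1
    exact Subtype.ext (inv_mul_eq_one.mp h2).symm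
  have hsub : Set.range f ⊆ ({P} : Set (Sylow p G))ᶜ := by
    rintro _ ⟨y, rfl⟩
    intro h
    have h1 : (y : G) • Q = P := h
    have h2 : Q = P := by
      have := congrArg (fun S => (y : G)⁻¹ • S) h1
      simp only [inv_smul_smul] at this
      rw [this]
      exact smul_eq_self_of_mem P (inv_mem y.2)
    exact hQ h2
  have : Finite (Sylow p G) := Nat.finite_of_card_ne_zero (by omega)
  have hcard1 : (Set.range f).ncard = p := by
    rw [← Set.image_univ, Set.ncard_image_of_injective _ hf, Set.ncard_univ, hP]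
  have hcard2 : (({P} : Set (Sylow p G))ᶜ).ncard = p := by
    have := Set.ncard_add_ncard_compl ({P} : Set (Sylow p G))
    rw [Set.ncard_singleton, hn] at this
    omega
  have heq : Set.range f = ({P} : Set (Sylow p G))ᶜ :=
    Set.eq_of_subset_of_ncard_le hsub (by rw [hcard1, hcard2])
  have hRmem : R ∈ Set.range f := by
    rw [heq]; exact hR
  obtain ⟨y, hy⟩ := hRmem
  exact ⟨y, y.2, hy⟩

include hP in
theorem exists_sylow_ne (hn : Nat.card (Sylow p G) = p + 1) : ∃ Q : Sylow p G, Q ≠ P := by
  have : Finite (Sylow p G) := Nat.finite_of_card_ne_zero (by omega)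
  have h2 : 1 < Nat.card (Sylow p G) := by
    rw [hn]; have := (Fact.out : p.Prime).pos; omega
  have : Nontrivial (Sylow p G) := Finite.one_lt_card_iff_nontrivial.mp h2
  exact _root_.exists_ne P

include hP in
theorem mul_comm_of_mem {y z : G} (hy : y ∈ (P : Subgroup G)) (hz : z ∈ (P : Subgroup G)) :
    y * z = z * y := by
  have : IsCyclic (P : Subgroup G) := isCyclic_of_prime_card hP
  have := (IsCyclic.isMulCommutative (α := ↥(P : Subgroup G))).is_comm.comm ⟨y, hy⟩ ⟨z, hz⟩
  exact congrArg Subtype.val this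

include hP in
/-- an element centralizing `P` and fixing one further Sylow subgroup fixes all of them -/
theorem smul_eq_of_centralizer (hn : Nat.card (Sylow p G) = p + 1) {Q : Sylow p G} (hQ : Q ≠ P)
    {c : G} (hc : c ∈ centralizer ((P : Subgroup G) : Set G)) (hcQ : c • Q = Q)
    (R : Sylow p G) : c • R = R := by
  by_cases hR : R = P
  · rw [hR]
    exact Sylow.smul_eq_iff_mem_normalizer.mpr (centralizer_le_normalizer _ hc)
  · obtain ⟨y, hy, rfl⟩ := exists_smul_eq P hP hn hQ hR
    have hcomm : c * y = y * c := (hc y hy).symm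
    rw [← mul_smul, hcomm, mul_smul, hcQ]

include hP in
/-- the kernel of the action on the Sylow `p`-subgroups is a `p'`-group -/
theorem coprime_card_ker (hn : Nat.card (Sylow p G) = p + 1) :
    (Nat.card (MulAction.toPermHom G (Sylow p G)).ker).Coprime p := by
  have hp : p.Prime := Fact.out
  rw [Nat.coprime_comm, hp.coprime_iff_not_dvd]
  intro hdvd
  obtain ⟨x, hx⟩ := exists_prime_orderOf_dvd_card' p hdvd
  have hxfix : ∀ R : Sylow p G, (x : G) • R = R := by
    intro R
    have := x.2
    rw [MonoidHom.mem_ker] at this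
    have h2 := congrArg (fun σ : Equiv.Perm (Sylow p G) => σ R) this
    exact h2
  have hxo : orderOf (x : G) = p := by rw [Subgroup.orderOf_coe, hx]
  have hxp : IsPGroup p (zpowers (x : G)) := by
    apply IsPGroup.of_card (n := 1)
    rw [Nat.card_zpowers, hxo, pow_one]
  have hxP := mem_sylow_of_smul_eq P hxp (hxfix P)
  obtain ⟨Q, hQ⟩ := exists_sylow_ne P hP hn
  have h1 := eq_one_of_smul_eq P hP hQ hxP (hxfix Q)
  rw [h1, orderOf_one] at hxo
  exact hp.one_lt.ne hxo

include hP in
theorem toPermHom_injective (hn : Nat.card (Sylow p G) = p + 1)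
    (hK : ∀ K : Subgroup G, K.Normal → (Nat.card K).Coprime p → K = ⊥) :
    Function.Injective (MulAction.toPermHom G (Sylow p G)) := by
  rw [← MonoidHom.ker_eq_bot_iff]
  exact hK _ inferInstance (coprime_card_ker P hP hn)

include hP in
theorem eq_one_of_forall_smul_eq (hn : Nat.card (Sylow p G) = p + 1)
    (hK : ∀ K : Subgroup G, K.Normal → (Nat.card K).Coprime p → K = ⊥) {g : G}
    (hg : ∀ R : Sylow p G, g • R = R) : g = 1 := by
  apply toPermHom_injective P hP hn hK
  rw [map_one]
  apply Equiv.ext
  intro R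
  exact hg R

include hP in
/-- `C_G(P) = P` -/
theorem centralizer_eq (hn : Nat.card (Sylow p G) = p + 1)
    (hK : ∀ K : Subgroup G, K.Normal → (Nat.card K).Coprime p → K = ⊥) :
    centralizer ((P : Subgroup G) : Set G) = P := by
  apply le_antisymm
  · intro c hc
    obtain ⟨Q, hQ⟩ := exists_sylow_ne P hP hn
    have hcQ : c • Q ≠ P := by
      intro h
      have h1 : Q = c⁻¹ • P := by rw [← h, inv_smul_smul]
      have h2 : c⁻¹ • P = P :=
        Sylow.smul_eq_iff_mem_normalizer.mpr (centralizer_le_normalizer _ (inv_mem hc))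
      exact hQ (h1.trans h2)
    obtain ⟨y, hy, hyQ⟩ := exists_smul_eq P hP hn hQ hcQ
    have hyc : y ∈ centralizer ((P : Subgroup G) : Set G) := by
      intro z hz
      exact mul_comm_of_mem P hP hz hy
    have h3 : (y⁻¹ * c) • Q = Q := by
      rw [mul_smul, ← hyQ, inv_smul_smul]
    have h4 := smul_eq_of_centralizer P hP hn hQ (mul_mem (inv_mem hyc) hc) h3
    have h5 := eq_one_of_forall_smul_eq P hP hn hK h4
    have : c = y := by
      have := inv_mul_eq_one.mp h5
      exact this.symm
    rw [this]; exact hy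
  · intro y hy z hz
    exact mul_comm_of_mem P hP hz hy

include hP in
/-- the order of `G` is `(p + 1) p d` with `d ∣ p - 1` -/
theorem card_eq (hn : Nat.card (Sylow p G) = p + 1)
    (hK : ∀ K : Subgroup G, K.Normal → (Nat.card K).Coprime p → K = ⊥) :
    ∃ d : ℕ, d ∣ p - 1 ∧ Nat.card G = (p + 1) * p * d := by
  have hp : p.Prime := Fact.out
  have : Finite (Sylow p G) := Nat.finite_of_card_ne_zero (by omega)
  have key := card_dvd_of_injective _
    (QuotientGroup.kerLift_injective (P : Subgroup G).normalizerMonoidHom)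
  rw [normalizerMonoidHom_ker, ← index, ← relIndex] at key
  have : IsCyclic (P : Subgroup G) := isCyclic_of_prime_card hP
  rw [IsCyclic.card_mulAut, hP, Nat.totient_prime hp, centralizer_eq P hP hn hK] at key
  refine ⟨(P : Subgroup G).relIndex (normalizer ((P : Subgroup G) : Set G)), key, ?_⟩
  have h1 : p + 1 = (normalizer ((P : Subgroup G) : Set G)).index := by
    rw [← hn]; exact P.card_eq_index_normalizer
  have h2 := (P : Subgroup G).index_mul_card
  have h3 := relIndex_mul_index (H := (P : Subgroup G))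
    (K := normalizer ((P : Subgroup G) : Set G)) le_normalizer
  rw [← h2, ← h3, ← h1, hP]
  ring

end Cfsg.Agent.Lib.Helper76.BrauerEndPSL
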