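import Cfsg.Agent.S0732
import Cfsg.Agent.Lib.Helper76.BrauerEndPSLa
import Cfsg.Agent.Lib.Helper76.BrauerEndPSLb

set_option autoImplicit false

/-!
# The `PSL₂(p)` endgame of Brauer's `n`-theorem (helper76, module END-PSL for helper79)

A perfect finite group with a Sylow `p`-subgroup of order `p`, exactly `p + 1` Sylow
`p`-subgroups and no nontrivial normal `p'`-subgroup is `PSL₂(p)` (`p > 3`).
-/

namespace Cfsg.Agent.Lib.Helper76.BrauerEndPSL

theorem commutator_eq_top_of_surjective {G H : Type*} [Group G] [Group H] (f : G →* H)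
    (hf : Function.Surjective f) (hG : commutator G = ⊤) : commutator H = ⊤ := by
  have h1 : Subgroup.map f (commutator G) = commutator H := by
    rw [commutator_def, commutator_def, Subgroup.map_commutator,
      Subgroup.map_top_of_surjective f hf]
  rw [← h1, hG, Subgroup.map_top_of_surjective f hf]

theorem psl_of_card_sylow_eq {G : Type*} [Group G] [Finite G] (hperf : commutator G = ⊤) (p : ℕ)
    [Fact p.Prime] (hp3 : 3 < p) (P : Sylow p G) (hP : Nat.card P = p)
    (hn : Nat.card (Sylow p G) = p + 1)
    (hK : ∀ K : Subgroup G, K.Normal → (Nat.card K).Coprime p → K = ⊥) :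
    Nonempty (G ≃* Matrix.ProjectiveSpecialLinearGroup (Fin 2) (ZMod p)) := by
  classical
  have hp : p.Prime := Fact.out
  have : Finite (Sylow p G) := Nat.finite_of_card_ne_zero (by omega)
  let _ : Fintype (Sylow p G) := Fintype.ofFinite _
  have hinj := toPermHom_injective P hP hn hK
  obtain ⟨d, hd, hcard⟩ := card_eq P hP hn hK
  let G' : Subgroup (Equiv.Perm (Sylow p G)) := (MulAction.toPermHom G (Sylow p G)).range
  let e : G ≃* G' := MonoidHom.ofInjective hinj
  have hα : Fintype.card (Sylow p G) = p + 1 := by rw [← Nat.card_eq_fintype_card, hn]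
  have : MulAction.IsPretransitive G' (Sylow p G) := ⟨fun a b => by
    obtain ⟨g, hg⟩ := MulAction.exists_smul_eq G a b
    exact ⟨⟨MulAction.toPermHom G (Sylow p G) g, g, rfl⟩, hg⟩⟩
  have hG' : Nat.card G' = (p + 1) * p * d := by rw [← Nat.card_congr e.toEquiv, hcard]
  have hd0 : 0 < d := Nat.pos_of_dvd_of_pos hd (by omega)
  have hdp : d < p := by
    have := Nat.le_of_dvd (by omega) hd
    omega
  have hnt : Nontrivial G := by
    apply Finite.one_lt_card_iff_nontrivial.mp
    rw [hcard]
    have : 1 * 1 * 1 < (p + 1) * p * d :=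
      Nat.mul_lt_mul_of_lt_of_le (Nat.mul_lt_mul_of_lt_of_le (by omega) (by omega) (by omega))
        hd0 (by omega)
    omega
  rcases Cfsg.Agent.S0732.result hp hα G' hG' hdp with ⟨_, ⟨f⟩⟩ | ⟨_, ⟨f⟩⟩ |
    ⟨q, hq, hpq, hdq, ε, hε⟩
  · -- `PGL₂(p)` is not perfect
    exfalso
    have hchar : ringChar (ZMod p) ≠ 2 := by
      rw [ZMod.ringChar_zmod_n]; omega
    apply pgl2_not_perfect (ZMod p) hchar
    exact commutator_eq_top_of_surjective (e.trans f).toMonoidHom (e.trans f).surjective hperf
  · exact ⟨e.trans f⟩
  · -- the semi-affine group is solvable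
    exfalso
    have : Fact q.Prime := ⟨hq⟩
    have hcardaut := Cfsg.Agent.Lib.Helper65.AffineP1.card_ringAut_galoisField q hq.ne_zero
    have hcomm : ∀ φ ψ : RingAut (GaloisField 2 q), φ * ψ = ψ * φ := by
      have : IsCyclic (RingAut (GaloisField 2 q)) := isCyclic_of_prime_card hcardaut
      exact (IsCyclic.isMulCommutative (α := RingAut (GaloisField 2 q))).is_comm.comm
    have hsol : Group.IsSolvable (Cfsg.semiaffineGroup (GaloisField 2 q)) :=
      semiaffine_isSolvable hcomm
    let ψ : G' →* Cfsg.semiaffineGroup (GaloisField 2 q) :=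
      MonoidHom.codRestrict (ε.permCongrHom.toMonoidHom.comp G'.subtype) _ (fun g => hε g)
    have hψ : Function.Injective ψ := by
      intro g h hgh
      have h1 := congrArg Subtype.val hgh
      have h2 : ε.permCongrHom (g : Equiv.Perm (Sylow p G)) =
          ε.permCongrHom (h : Equiv.Perm (Sylow p G)) := h1
      exact Subtype.ext (ε.permCongrHom.injective h2)
    have : Group.IsSolvable G' := Group.isSolvable_of_isSolvable_injective hψ
    have : Group.IsSolvable G := Group.isSolvable_of_isSolvable_injective e.injective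
    exact (Group.IsSolvable.commutator_lt_top_of_nontrivial G).ne hperf

end Cfsg.Agent.Lib.Helper76.BrauerEndPSL
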