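import Mathlib
import Cfsg.Agent.Lib.Helper76.PCore

/-!
# Coprime centralizers and Thompson's `A × B` lemma (helper76)

* `exists_mem_centralizer_mul` : if `K ⊴ G` is a `p'`-group, `R` a `p`-subgroup and `a` centralizes
  `R` modulo `K`, then `a ∈ K C_G(R)`.
* `thompson_AxB` : a `p'`-element `a` commuting with the `p`-group `B`, both normalizing the
  `p`-group `P`, with `a` centralizing `C_P(B)`, centralizes `P`.
-/

set_option autoImplicit false

namespace Cfsg.Agent.Lib.Helper76

open scoped commutatorElement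

section CoprimeCentralizer

variable {G : Type*} [Group G]

/-- If `a` centralizes the `p`-subgroup `R` modulo the normal `p'`-subgroup `K`, then
`a ∈ K C_G(R)`. -/
theorem exists_mem_centralizer_mul {p : ℕ} [Fact p.Prime] (K : Subgroup G) [hKn : K.Normal]
    [Finite K] (hK : ¬ p ∣ Nat.card K) (R : Subgroup G) (hR : IsPGroup p R) (a : G)
    (ha : ∀ r ∈ R, a * r * a⁻¹ * r⁻¹ ∈ K) :
    ∃ k ∈ K, ∃ c ∈ Subgroup.centralizer (R : Set G), a = k * c := by
  -- `R` acts by conjugation on the coset `K a`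
  have hconj : ∀ r ∈ R, r * a * r⁻¹ * a⁻¹ ∈ K := by
    intro r hr
    have h1 := ha r⁻¹ (R.inv_mem hr)
    have h2 := hKn.conj_mem _ h1 r
    have e : r * (a * r⁻¹ * a⁻¹ * r⁻¹⁻¹) * r⁻¹ = r * a * r⁻¹ * a⁻¹ := by group
    rwa [e] at h2
  have hstab : ∀ (r : R) (x : {x : G // x * a⁻¹ ∈ K}),
      (r : G) * (x : G) * (r : G)⁻¹ * a⁻¹ ∈ K := by
    intro r x
    have h1 := hKn.conj_mem _ x.2 (r : G)
    have h2 := hconj r r.2
    have e : (r : G) * (x : G) * (r : G)⁻¹ * a⁻¹ =
        ((r : G) * ((x : G) * a⁻¹) * (r : G)⁻¹) * ((r : G) * a * (r : G)⁻¹ * a⁻¹) := by group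
    rw [e]
    exact K.mul_mem h1 h2
  let act : MulAction R {x : G // x * a⁻¹ ∈ K} :=
    { smul := fun r x => ⟨(r : G) * (x : G) * (r : G)⁻¹, hstab r x⟩
      one_smul := by
        intro x
        apply Subtype.ext
        show ((1 : R) : G) * (x : G) * ((1 : R) : G)⁻¹ = x
        simp
      mul_smul := by
        intro r s x
        apply Subtype.ext
        show ((r * s : R) : G) * (x : G) * ((r * s : R) : G)⁻¹ =
          (r : G) * ((s : G) * (x : G) * (s : G)⁻¹) * (r : G)⁻¹
        rw [Subgroup.coe_mul]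
        group }
  have hcard : Nat.card {x : G // x * a⁻¹ ∈ K} = Nat.card K := by
    apply Nat.card_congr
    exact
      { toFun := fun x => ⟨(x : G) * a⁻¹, x.2⟩
        invFun := fun k => ⟨(k : G) * a, by simp⟩
        left_inv := by
          intro x
          apply Subtype.ext
          simp
        right_inv := by
          intro k
          apply Subtype.ext
          simp }
  have hnd : ¬ p ∣ Nat.card {x : G // x * a⁻¹ ∈ K} := by
    rw [hcard]
    exact hK
  obtain ⟨x, hx⟩ := hR.nonempty_fixed_point_of_prime_not_dvd_card {x : G // x * a⁻¹ ∈ K} hnd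
  refine ⟨((x : G) * a⁻¹)⁻¹, K.inv_mem x.2, (x : G), ?_, by group⟩
  rw [Subgroup.mem_centralizer_iff]
  intro r hr
  have h1 : (⟨r, hr⟩ : R) • x = x := hx ⟨r, hr⟩
  have h2 : r * (x : G) * r⁻¹ = (x : G) := congrArg Subtype.val h1
  calc r * (x : G) = (r * (x : G) * r⁻¹) * r := by group
    _ = (x : G) * r := by rw [h2]

end CoprimeCentralizer

section Thompson

variable {W : Type*} [Group W]

/-- The iterated commutator `[P, B, …, B]`. -/
def commIter (B : Subgroup W) : ℕ → Subgroup W → Subgroup W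
  | 0, P => P
  | n + 1, P => commIter B n ⁅P, B⁆

theorem commIter_le_lowerCentralSeries (B H : Subgroup W) (hB : B ≤ H) :
    ∀ (n m : ℕ) (P : Subgroup W), P ≤ H.lowerCentralSeries m →
      commIter B n P ≤ H.lowerCentralSeries (m + n) := by
  intro n
  induction n with
  | zero =>
    intro m P hP
    exact hP
  | succ n ih =>
    intro m P hP
    have h1 : ⁅P, B⁆ ≤ H.lowerCentralSeries (m + 1) := by
      rw [Subgroup.lowerCentralSeries_succ]
      exact Subgroup.commutator_mono hP hB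
    have h2 := ih (m + 1) ⁅P, B⁆ h1
    have e : m + 1 + n = m + (n + 1) := by ring
    rw [e] at h2
    exact h2

/-- A coprime automorphism acting trivially on `[x, a]` fixes `x`. -/
theorem eq_one_of_commute_commutator {p : ℕ} (a x : W) (hcop : (orderOf a).Coprime p)
    (hc : a * (a * x * a⁻¹ * x⁻¹) = (a * x * a⁻¹ * x⁻¹) * a) (j : ℕ)
    (hp : (a * x * a⁻¹ * x⁻¹) ^ p ^ j = 1) : a * x * a⁻¹ * x⁻¹ = 1 := by
  set c := a * x * a⁻¹ * x⁻¹ with hcdef
  have hcomm : Commute a c := hc
  have key : ∀ n : ℕ, a ^ n * x * (a ^ n)⁻¹ = c ^ n * x := by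
    intro n
    induction n with
    | zero => simp
    | succ n ih =>
      have h1 : a ^ (n + 1) * x * (a ^ (n + 1))⁻¹ = a * (a ^ n * x * (a ^ n)⁻¹) * a⁻¹ := by
        rw [pow_succ']
        group
      rw [h1, ih]
      have h2 : a * (c ^ n * x) * a⁻¹ = (a * c ^ n) * (x * a⁻¹) := by group
      rw [h2, (hcomm.pow_right n).eq]
      have h3 : c ^ n * a * (x * a⁻¹) = c ^ n * (a * x * a⁻¹ * x⁻¹) * x := by group
      rw [h3, ← hcdef, ← pow_succ]
  have h1 := key (orderOf a)
  rw [pow_orderOf_eq_one, one_mul, inv_one, mul_one] at h1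
  have h2 : c ^ orderOf a = 1 := by
    have := congrArg (fun t => t * x⁻¹) h1
    simp only [mul_inv_cancel, mul_inv_cancel_right] at this
    exact this.symm
  exact eq_one_of_pow_eq_one_of_coprime p c (orderOf a) j hcop h2 hp

theorem centralizes_of_commIter_eq_bot {p : ℕ} (a : W) (hcop : (orderOf a).Coprime p)
    (B P : Subgroup W) (hP : IsPGroup p P)
    (haB : ∀ b ∈ B, a * b = b * a)
    (hC : ∀ x ∈ P, (∀ b ∈ B, b * x = x * b) → a * x = x * a) :
    ∀ (k : ℕ) (P' : Subgroup W), P' ≤ P → (∀ x ∈ P', a * x * a⁻¹ ∈ P') →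
      (∀ b ∈ B, ∀ x ∈ P', b * x * b⁻¹ ∈ P') → commIter B k P' = ⊥ →
      ∀ x ∈ P', a * x = x * a := by
  intro k
  induction k with
  | zero =>
    intro P' _ _ _ hbot x hx
    have h1 : P' = ⊥ := hbot
    rw [h1, Subgroup.mem_bot] at hx
    rw [hx, mul_one, one_mul]
  | succ k ih =>
    intro P' hP'P haP' hBP' hbot x hx
    -- `P'' = [P', B]`
    have hP''le : ⁅P', B⁆ ≤ P' := by
      rw [Subgroup.commutator_le]
      intro g₁ h₁ g₂ h₂
      have h3 := hBP' g₂ h₂ g₁⁻¹ (P'.inv_mem h₁)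
      have e : ⁅g₁, g₂⁆ = g₁ * (g₂ * g₁⁻¹ * g₂⁻¹) := by
        rw [commutatorElement_def]
        group
      rw [e]
      exact P'.mul_mem h₁ h3
    have haP'' : ∀ y ∈ ⁅P', B⁆, a * y * a⁻¹ ∈ ⁅P', B⁆ := by
      have h1 : ⁅P', B⁆ ≤ (⁅P', B⁆).comap (MulAut.conj a).toMonoidHom := by
        rw [Subgroup.commutator_le]
        intro g₁ h₁ g₂ h₂
        rw [Subgroup.mem_comap]
        show (MulAut.conj a) ⁅g₁, g₂⁆ ∈ ⁅P', B⁆
        rw [map_commutatorElement]
        apply Subgroup.commutator_mem_commutator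
        · rw [MulAut.conj_apply]
          exact haP' g₁ h₁
        · rw [MulAut.conj_apply, haB g₂ h₂, mul_inv_cancel_right]
          exact h₂
      intro y hy
      have := h1 hy
      rw [Subgroup.mem_comap] at this
      simpa [MulAut.conj_apply] using this
    have hBP'' : ∀ b ∈ B, ∀ y ∈ ⁅P', B⁆, b * y * b⁻¹ ∈ ⁅P', B⁆ := by
      intro b hb
      have h1 : ⁅P', B⁆ ≤ (⁅P', B⁆).comap (MulAut.conj b).toMonoidHom := by
        rw [Subgroup.commutator_le]
        intro g₁ h₁ g₂ h₂
        rw [Subgroup.mem_comap]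
        show (MulAut.conj b) ⁅g₁, g₂⁆ ∈ ⁅P', B⁆
        rw [map_commutatorElement]
        apply Subgroup.commutator_mem_commutator
        · rw [MulAut.conj_apply]
          exact hBP' b hb g₁ h₁
        · rw [MulAut.conj_apply]
          exact B.mul_mem (B.mul_mem hb h₂) (B.inv_mem hb)
      intro y hy
      have := h1 hy
      rw [Subgroup.mem_comap] at this
      simpa [MulAut.conj_apply] using this
    have hcent'' : ∀ y ∈ ⁅P', B⁆, a * y = y * a :=
      ih ⁅P', B⁆ (le_trans hP''le hP'P) haP'' hBP'' hbot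
    -- three subgroups lemma
    have h1 : ⁅⁅P', B⁆, Subgroup.zpowers a⁆ = ⊥ := by
      rw [Subgroup.commutator_eq_bot_iff_le_centralizer]
      intro y hy
      rw [Subgroup.mem_centralizer_iff]
      rintro z ⟨i, rfl⟩
      have hcomm : Commute a y := hcent'' y hy
      exact (hcomm.zpow_left i).eq
    have h2 : ⁅⁅B, Subgroup.zpowers a⁆, P'⁆ = ⊥ := by
      have h3 : ⁅B, Subgroup.zpowers a⁆ = ⊥ := by
        rw [Subgroup.commutator_eq_bot_iff_le_centralizer]
        intro b hb
        rw [Subgroup.mem_centralizer_iff]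
        rintro z ⟨i, rfl⟩
        have hcomm : Commute a b := haB b hb
        exact (hcomm.zpow_left i).eq
      rw [h3, Subgroup.commutator_bot_left]
    have h3 := Subgroup.commutator_commutator_eq_bot_of_rotate h1 h2
    rw [Subgroup.commutator_eq_bot_iff_le_centralizer] at h3
    have hcmem : ⁅a, x⁆ ∈ ⁅Subgroup.zpowers a, P'⁆ :=
      Subgroup.commutator_mem_commutator (Subgroup.mem_zpowers a) hx
    have hcB := h3 hcmem
    rw [Subgroup.mem_centralizer_iff] at hcB
    have hcP' : ⁅a, x⁆ ∈ P' := by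
      rw [commutatorElement_def]
      exact P'.mul_mem (haP' x hx) (P'.inv_mem hx)
    have hca : a * ⁅a, x⁆ = ⁅a, x⁆ * a := hC _ (hP'P hcP') hcB
    rw [commutatorElement_def] at hca hcP'
    obtain ⟨j, hj⟩ := hP ⟨_, hP'P hcP'⟩
    have hj' : (a * x * a⁻¹ * x⁻¹) ^ p ^ j = 1 := by
      have := congrArg Subtype.val hj
      rwa [Subgroup.coe_pow, Subgroup.coe_one] at this
    have h4 := eq_one_of_commute_commutator a x hcop hca j hj'
    have := congrArg (fun t => t * x * a) h4
    simpa [mul_assoc] using this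

/-- **Thompson's `A × B` lemma** (for a cyclic `p'`-group `A = ⟨a⟩`). -/
theorem thompson_AxB [Finite W] {p : ℕ} [Fact p.Prime] (a : W) (hcop : (orderOf a).Coprime p)
    (B P : Subgroup W) (hB : IsPGroup p B) (hP : IsPGroup p P)
    (haB : ∀ b ∈ B, a * b = b * a) (haP : ∀ x ∈ P, a * x * a⁻¹ ∈ P)
    (hBP : ∀ b ∈ B, ∀ x ∈ P, b * x * b⁻¹ ∈ P)
    (hC : ∀ x ∈ P, (∀ b ∈ B, b * x = x * b) → a * x = x * a) :
    ∀ x ∈ P, a * x = x * a := by
  have hBN : B ≤ Subgroup.normalizer (P : Set W) := by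
    intro b hb
    rw [Subgroup.mem_normalizer_iff]
    intro x
    constructor
    · intro hx
      exact hBP b hb x hx
    · intro hx
      have := hBP b⁻¹ (B.inv_mem hb) _ hx
      have e : b⁻¹ * (b * x * b⁻¹) * b⁻¹⁻¹ = x := by group
      rwa [e] at this
  have hH : IsPGroup p (B ⊔ P : Subgroup W) := IsPGroup.to_sup_of_normal_right' hB hP hBN
  have hnil : Group.IsNilpotent (B ⊔ P : Subgroup W) := hH.isNilpotent
  obtain ⟨n, hn⟩ := (Subgroup.isNilpotent_iff_lowerCentralSeries (B ⊔ P)).mp hnil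
  have h1 := commIter_le_lowerCentralSeries B (B ⊔ P) le_sup_left n 0 P le_sup_right
  rw [zero_add, hn, le_bot_iff] at h1
  exact centralizes_of_commIter_eq_bot a hcop B P hP haB hC n P le_rfl
    haP hBP h1

end Thompson

end Cfsg.Agent.Lib.Helper76
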