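import Mathlib
import Cfsg.Agent.S0058

set_option autoImplicit false

namespace Cfsg.Agent.Lib.Helper76.ReeW

open Subgroup

/-- **[W-FOUR]** -/
theorem eq_top_of_four_sylow {D : Type*} [Group D] [Finite D] (E : Sylow 2 D)
    (hE4 : Nat.card ↥(E : Subgroup D) = 4) (hEexp : ∀ x ∈ (E : Subgroup D), x * x = 1)
    (h3 : ∀ x : D, x ^ 3 = 1 → x = 1)
    (Y : Subgroup D) (hY : ∀ t ∈ (E : Subgroup D), t ≠ 1 → Subgroup.centralizer {t} = Y) : Y = ⊤ := by
  classical
  -- `E` is commutative
  have hEcomm : ∀ x ∈ (E : Subgroup D), ∀ y ∈ (E : Subgroup D), x * y = y * x := by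
    intro x hx y hy
    have h1 := hEexp x hx
    have h2 := hEexp y hy
    have h3' := hEexp (x * y) ((E : Subgroup D).mul_mem hx hy)
    -- x y x y = 1 → x y = y⁻¹ x⁻¹ = y x
    have hxi : x⁻¹ = x := inv_eq_of_mul_eq_one_left h1
    have hyi : y⁻¹ = y := inv_eq_of_mul_eq_one_left h2
    have : x * y = (x * y)⁻¹ := (inv_eq_of_mul_eq_one_left h3').symm
    rw [this, mul_inv_rev, hxi, hyi]
  have hEmc : IsMulCommutative ↥(E : Subgroup D) :=
    ⟨⟨fun a b => Subtype.ext (hEcomm a.1 a.2 b.1 b.2)⟩⟩
  -- `E` is not cyclic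
  have hEnc : ¬ IsCyclic ↥(E : Subgroup D) := by
    intro hc
    obtain ⟨g, hg⟩ := hc.exists_generator
    have h1 : orderOf g = 4 := by
      rw [orderOf_eq_card_of_forall_mem_zpowers hg, hE4]
    have h2 : g ^ 2 = 1 := by
      apply Subtype.ext
      have := hEexp g.1 g.2
      simpa [pow_two] using this
    have h3' := orderOf_dvd_of_pow_eq_one h2
    rw [h1] at h3'
    omega
  -- `3 ∤ |D|`
  have h3D : ¬ 3 ∣ Nat.card D := by
    intro h
    have : Fact (Nat.Prime 3) := ⟨Nat.prime_three⟩
    obtain ⟨x, hx⟩ := exists_prime_orderOf_dvd_card' (G := D) 3 h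
    have hx1 : x = 1 := h3 x (by rw [← hx]; exact pow_orderOf_eq_one x)
    rw [hx1, orderOf_one] at hx
    omega
  have : Fact (Nat.Prime 2) := ⟨Nat.prime_two⟩
  -- `N_D(E) ≤ C_D(E)`
  have hNC : normalizer ((E : Subgroup D) : Set D) ≤ centralizer ((E : Subgroup D) : Set D) := by
    have key := card_dvd_of_injective _
      (QuotientGroup.kerLift_injective (E : Subgroup D).normalizerMonoidHom)
    rw [normalizerMonoidHom_ker, ← index, ← relIndex] at key
    -- |MulAut E| divides 24
    have h24 : Nat.card (MulAut ↥(E : Subgroup D)) ∣ 24 := by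
      have hinj : Function.Injective
          (fun f : MulAut ↥(E : Subgroup D) => (f.toEquiv : Equiv.Perm ↥(E : Subgroup D))) := by
        intro f g hfg
        apply MulEquiv.ext
        intro x
        exact congrArg (fun e : Equiv.Perm ↥(E : Subgroup D) => e x) hfg
      have hsub := Subgroup.card_dvd_of_injective (MulAut.toPerm ↥(E : Subgroup D)) hinj
      have hperm : Nat.card (Equiv.Perm ↥(E : Subgroup D)) = 24 := by
        let _ : Fintype ↥(E : Subgroup D) := Fintype.ofFinite _
        rw [Nat.card_eq_fintype_card, Fintype.card_perm, ← Nat.card_eq_fintype_card, hE4]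
        rfl
      rwa [hperm] at hsub
    have hrel := dvd_trans key h24
    refine relIndex_eq_one.mp ?_
    -- relIndex is odd and prime to 3
    have hodd : Nat.Coprime ((centralizer ((E : Subgroup D) : Set D)).relIndex
        (normalizer ((E : Subgroup D) : Set D))) 2 := by
      apply Nat.Coprime.coprime_dvd_left (relIndex_dvd_of_le_left _ (E : Subgroup D).le_centralizer)
      apply Nat.Coprime.coprime_dvd_left (relIndex_dvd_index_of_le (E : Subgroup D).le_normalizer)
      rw [Nat.coprime_comm, Nat.Prime.coprime_iff_not_dvd Nat.prime_two]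
      exact E.not_dvd_index
    have h3c : Nat.Coprime ((centralizer ((E : Subgroup D) : Set D)).relIndex
        (normalizer ((E : Subgroup D) : Set D))) 3 := by
      apply Nat.Coprime.coprime_dvd_left (relIndex_dvd_card ..)
      apply Nat.Coprime.coprime_dvd_left (card_subgroup_dvd_card _)
      rw [Nat.coprime_comm, Nat.Prime.coprime_iff_not_dvd Nat.prime_three]
      exact h3D
    have h24c : Nat.Coprime ((centralizer ((E : Subgroup D) : Set D)).relIndex
        (normalizer ((E : Subgroup D) : Set D))) 24 := by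
      have : (24 : ℕ) = 2 ^ 3 * 3 := by norm_num
      rw [this]
      exact (Nat.Coprime.pow_right 3 hodd).mul_right h3c
    exact Nat.eq_one_of_dvd_coprimes h24c dvd_rfl hrel
  -- Burnside's transfer theorem
  have hcompl := MonoidHom.ker_transferSylow_isComplement' E hNC
  set M : Subgroup D := (MonoidHom.transferSylow E hNC).ker with hM
  have hMn : M.Normal := by rw [hM]; infer_instance
  have hcop : (Nat.card ↥(E : Subgroup D)).Coprime (Nat.card ↥M) := by
    have h1 : Nat.card ↥M = (E : Subgroup D).index := hcompl.index_eq_card.symm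
    rw [h1, hE4]
    have : (4 : ℕ) = 2 ^ 2 := by norm_num
    rw [this]
    apply Nat.Coprime.pow_left
    rw [Nat.Prime.coprime_iff_not_dvd Nat.prime_two]
    exact E.not_dvd_index
  have hEM : (E : Subgroup D) ≤ normalizer (M : Set D) := by
    rw [normalizer_eq_top]; exact le_top
  have hgen := Cfsg.Agent.S0058.result (E : Subgroup D) M hEnc hEM hcop
  have hMY : M ≤ Y := by
    rw [← hgen]
    refine iSup₂_le ?_
    rintro a ⟨haE, ha1⟩
    rw [hY a haE ha1]
    exact inf_le_right
  -- `E ≤ Y`
  have hEY : (E : Subgroup D) ≤ Y := by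
    have hnt : ∃ t ∈ (E : Subgroup D), t ≠ 1 := by
      by_contra hcon
      push Not at hcon
      have : Nat.card ↥(E : Subgroup D) = 1 := by
        rw [Subgroup.card_eq_one]
        exact (Subgroup.eq_bot_iff_forall _).mpr hcon
      omega
    obtain ⟨t, htE, ht1⟩ := hnt
    rw [← hY t htE ht1]
    intro x hx
    rw [mem_centralizer_singleton_iff]
    exact hEcomm x hx t htE
  have htop : M ⊔ (E : Subgroup D) = ⊤ := hcompl.sup_eq_top
  rw [eq_top_iff, ← htop]
  exact sup_le hMY hEY

end Cfsg.Agent.Lib.Helper76.ReeW
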