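import Mathlib
import Cfsg.Agent.Lib.Helper32.HHQAut
import Cfsg.Agent.Lib.Helper1.Fitting
import Cfsg.Agent.S0044

/-!
# Module `S3818-[QUADR]` (helper76, for helper2's Flavell project, board #3884)

`quadr`: `G` finite solvable, `p ≥ 5`, `x ^ p = 1`, `L/Z` a chief factor of `G` which is an
elementary abelian `p`-group on which `x` acts nontrivially, `C/Z = C_{L/Z}(x)`.
Then `|L : C| ≥ p²`, in the form `p ^ 2 * |C : Z| ≤ |L : Z|`.

Proof: otherwise `x` acts quadratically on `V = L/Z`; `Ḡ = G/C_G(V)` is solvable with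
`O_p(Ḡ) = 1`, so `F(Ḡ)` is a `p'`-group, centralized by `x̄` (Hall–Higman, quadratic case,
`Helper32.quad_mulAut_commute_of_five_le`); `C(F) ≤ F` gives `x̄ = 1`.
-/

set_option autoImplicit false
open scoped commutatorElement

namespace Cfsg.Agent.Lib.Helper76.Flavell

/-! ## An automorphism of `p`-power order fixes an invariant subgroup of order `p` pointwise -/

theorem mulAut_fix_of_card_prime {V : Type*} [Group V] {p : ℕ} [Fact p.Prime] (α : MulAut V)
    (hαp : α ^ p = 1) (W : Subgroup V) (hW : Nat.card W = p) (hinv : ∀ w ∈ W, α w ∈ W) :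
    ∀ w ∈ W, α w = w := by
  intro w hw
  by_cases hw1 : w = 1
  · rw [hw1, map_one]
  have hp : p.Prime := Fact.out
  have hne : (⟨w, hw⟩ : W) ≠ 1 := by
    intro h
    exact hw1 (congrArg Subtype.val h)
  have htop : Subgroup.zpowers (⟨w, hw⟩ : W) = ⊤ := zpowers_eq_top_of_prime_card hW hne
  have hmem : (⟨α w, hinv w hw⟩ : W) ∈ Subgroup.zpowers (⟨w, hw⟩ : W) := by
    rw [htop]; exact Subgroup.mem_top _
  obtain ⟨k, hk⟩ := Subgroup.mem_zpowers_iff.mp hmem
  have hk' : w ^ k = α w := by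
    have := congrArg Subtype.val hk
    simpa using this
  have hpow : ∀ n : ℕ, (α ^ n) w = w ^ (k ^ n) := by
    intro n
    induction n with
    | zero => simp
    | succ n ih =>
      rw [pow_succ', MulAut.mul_apply, ih, map_zpow, ← hk', ← zpow_mul, pow_succ']
  have h1 : w ^ (k ^ p) = w := by
    rw [← hpow p, hαp, MulAut.one_apply]
  have hwp : w ^ p = 1 := by
    have : (⟨w, hw⟩ : W) ^ p = 1 := by
      rw [← hW]; exact pow_card_eq_one'
    have := congrArg Subtype.val this
    simpa using this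
  have hord : orderOf w = p := orderOf_eq_prime hwp hw1
  have h2 : w ^ (k ^ p - 1) = 1 := by
    rw [zpow_sub, zpow_one, h1, mul_inv_cancel]
  have h3 : (p : ℤ) ∣ k ^ p - 1 := by
    have h3' : (orderOf w : ℤ) ∣ k ^ p - 1 := orderOf_dvd_iff_zpow_eq_one.mpr h2
    rwa [hord] at h3'
  have h4 : ((k : ZMod p)) ^ p = 1 := by
    have := (ZMod.intCast_zmod_eq_zero_iff_dvd (k ^ p - 1) p).mpr h3
    push_cast at this
    exact sub_eq_zero.mp this
  rw [ZMod.pow_card] at h4
  have h5 : (p : ℤ) ∣ k - 1 := by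
    apply (ZMod.intCast_zmod_eq_zero_iff_dvd (k - 1) p).mp
    push_cast
    rw [h4, sub_self]
  obtain ⟨m, hm⟩ := h5
  have hk2 : k = 1 + p * m := by omega
  rw [← hk', hk2, zpow_add, zpow_one, zpow_mul, zpow_natCast, hwp, one_zpow, mul_one]

/-! ## The abstract core -/

section Core

variable {V : Type*} [CommGroup V]

/-- `v ↦ α v * v⁻¹` as an endomorphism of the commutative group `V`. -/
def commEnd (α : MulAut V) : V →* V :=
  MonoidHom.mk' (fun v => α v * v⁻¹) (by
    intro a b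
    rw [map_mul, mul_inv_rev, mul_comm b⁻¹ a⁻¹, mul_mul_mul_comm])

theorem commEnd_apply (α : MulAut V) (v : V) : commEnd α v = α v * v⁻¹ := rfl

theorem quad_of_card_range {p : ℕ} [Fact p.Prime] (α : MulAut V) (hαp : α ^ p = 1)
    (hr : Nat.card (commEnd α).range = p) : ∀ v : V, α (α v) * v = α v * α v := by
  have hinv : ∀ w ∈ (commEnd α).range, α w ∈ (commEnd α).range := by
    rintro w ⟨v, rfl⟩
    refine ⟨α v, ?_⟩
    rw [commEnd_apply, commEnd_apply, map_mul, map_inv]
  have hfix := mulAut_fix_of_card_prime α hαp (commEnd α).range hr hinv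
  intro v
  have h := hfix (commEnd α v) ⟨v, rfl⟩
  rw [commEnd_apply, map_mul, map_inv] at h
  -- α (α v) * (α v)⁻¹ = α v * v⁻¹
  calc α (α v) * v = (α (α v) * (α v)⁻¹) * (α v * v) := by
        rw [mul_assoc, inv_mul_cancel_left]
    _ = (α v * v⁻¹) * (α v * v) := by rw [h]
    _ = α v * α v := by
        rw [mul_mul_mul_comm, inv_mul_cancel, mul_one]

/-- **Core**: a solvable group `Gb` of automorphisms of an elementary abelian `p`-group `V`,
irreducible on `V`, `p ≥ 5`; a nontrivial `α ∈ Gb` with `α ^ p = 1` has `|[V, α]| ≠ p`. -/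
theorem card_range_ne_prime [Finite V] {p : ℕ} [Fact p.Prime] (h5 : 5 ≤ p) (hV : ∀ v : V, v ^ p = 1)
    (Gb : Subgroup (MulAut V)) (hsol : Group.IsSolvable Gb)
    (hirr : ∀ W : Subgroup V, (∀ a ∈ Gb, ∀ w ∈ W, a w ∈ W) → W = ⊥ ∨ W = ⊤)
    (α : MulAut V) (hα : α ∈ Gb) (hαp : α ^ p = 1) (hα1 : α ≠ 1) :
    Nat.card (commEnd α).range ≠ p := by
  intro hr
  have hp : p.Prime := Fact.out
  have hquad := quad_of_card_range α hαp hr
  -- `V` is nontrivial of order divisible by `p`
  have hVp : IsPGroup p V := fun v => ⟨1, by rw [pow_one]; exact hV v⟩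
  obtain ⟨v₀, hv₀⟩ : ∃ v : V, α v ≠ v := by
    by_contra hcon
    push Not at hcon
    exact hα1 (MulEquiv.ext hcon)
  have hv₀1 : v₀ ≠ 1 := by
    intro h; apply hv₀; rw [h, map_one]
  have hpV : p ∣ Nat.card V := by
    have h1 : orderOf v₀ = p := orderOf_eq_prime (hV v₀) hv₀1
    rw [← h1]; exact orderOf_dvd_natCard v₀
  -- `O_p(Gb) = 1`
  have hOp : Cfsg.pCore p Gb = ⊥ := by
    set P := Cfsg.pCore p Gb with hPdef
    have hPn : P.Normal := Cfsg.Agent.Lib.Helper1.pCore_normal p
    have hPp : IsPGroup p P := Cfsg.Agent.Lib.Helper1.pCore_isPGroup p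
    let _ : MulAction P V := MulAction.compHom V (Gb.subtype.comp P.subtype)
    have hsmul : ∀ (a : P) (v : V), a • v = ((a : Gb) : MulAut V) v := fun a v => rfl
    have hone : (1 : V) ∈ MulAction.fixedPoints P V := by
      intro a
      rw [hsmul, map_one]
    obtain ⟨b, hb, hb1⟩ :=
      hPp.exists_fixed_point_of_prime_dvd_card_of_fixed_point V hpV hone
    -- fixed-point subgroup
    let W : Subgroup V :=
      { carrier := {v | ∀ a : Gb, a ∈ P → (a : MulAut V) v = v}
        mul_mem' := by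
          intro u v hu hv a ha
          rw [map_mul, hu a ha, hv a ha]
        one_mem' := by
          intro a _
          rw [map_one]
        inv_mem' := by
          intro u hu a ha
          rw [map_inv, hu a ha] }
    have hWmem : ∀ v : V, v ∈ W ↔ ∀ a : Gb, a ∈ P → (a : MulAut V) v = v := fun v => Iff.rfl
    have hbW : b ∈ W := by
      rw [hWmem]
      intro a ha
      have := hb ⟨a, ha⟩
      rwa [hsmul] at this
    have hWinv : ∀ g ∈ Gb, ∀ w ∈ W, g w ∈ W := by
      intro g hg w hw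
      rw [hWmem] at hw ⊢
      intro a ha
      have hconj : (⟨g, hg⟩ : Gb)⁻¹ * a * ⟨g, hg⟩ ∈ P := by
        have := hPn.conj_mem a ha (⟨g, hg⟩ : Gb)⁻¹
        rwa [inv_inv] at this
      have h1 := hw _ hconj
      have h2 : (((⟨g, hg⟩ : Gb)⁻¹ * a * ⟨g, hg⟩ : Gb) : MulAut V) = g⁻¹ * (a : MulAut V) * g := by
        simp
      rw [h2, MulAut.mul_apply, MulAut.mul_apply] at h1
      -- g⁻¹ (a (g w)) = w
      have h3 := congrArg g h1
      rwa [MulAut.apply_inv_self] at h3
    rcases hirr W hWinv with hbot | htop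
    · exfalso
      rw [hbot, Subgroup.mem_bot] at hbW
      exact hb1 hbW.symm
    · rw [eq_bot_iff]
      intro a ha
      rw [Subgroup.mem_bot]
      apply Subtype.ext
      apply MulEquiv.ext
      intro v
      have hv : v ∈ W := by rw [htop]; exact Subgroup.mem_top v
      exact hv a ha
  -- `F(Gb)` has order prime to `p`
  set F := Cfsg.fittingSubgroup Gb with hFdef
  have hFn : F.Normal := Cfsg.Agent.Lib.Helper1.fittingSubgroup_normal
  have hFcop : (Nat.card F).Coprime p := by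
    let S : Set (Subgroup Gb) := {N | ∃ q : Nat.Primes, (q : ℕ) ≠ p ∧ N = Cfsg.pCore (q : ℕ) Gb}
    have hS : ∀ N ∈ S, N.Normal ∧ (Nat.card N).Coprime p := by
      rintro N ⟨q, hq, rfl⟩
      refine ⟨Cfsg.Agent.Lib.Helper1.pCore_normal _, ?_⟩
      have : Fact (q : ℕ).Prime := ⟨q.2⟩
      obtain ⟨n, hn⟩ := IsPGroup.iff_card.mp
        (Cfsg.Agent.Lib.Helper1.pCore_isPGroup (q : ℕ) (G := Gb))
      rw [hn]
      apply Nat.Coprime.pow_left
      exact (Nat.coprime_primes q.2 hp).mpr hq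
    obtain ⟨_, hKc⟩ := Cfsg.Agent.Lib.Helper1.normal_and_coprime_card_sSup p S hS
    have hle : F ≤ sSup S := by
      rw [hFdef, Cfsg.Agent.Lib.Helper1.fittingSubgroup_eq_iSup_pCore]
      refine iSup_le fun q => ?_
      by_cases hq : (q : ℕ) = p
      · rw [hq, hOp]; exact bot_le
      · exact le_sSup ⟨q, hq, rfl⟩
    exact Nat.Coprime.coprime_dvd_left (Subgroup.card_dvd_of_le hle) hKc
  -- `R = F` as a subgroup of `MulAut V`
  set R : Subgroup (MulAut V) := F.map Gb.subtype with hRdef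
  have hRcard : Nat.card R = Nat.card F :=
    Nat.card_congr (F.equivMapOfInjective Gb.subtype Gb.subtype_injective).symm.toEquiv
  have hRα : ∀ r ∈ R, α * r * α⁻¹ ∈ R := by
    rintro r ⟨f, hf, rfl⟩
    refine ⟨⟨α, hα⟩ * f * (⟨α, hα⟩ : Gb)⁻¹, hFn.conj_mem f hf _, ?_⟩
    simp
  have hcomm := Cfsg.Agent.Lib.Helper32.quad_mulAut_commute_of_five_le p h5 hV α hquad R
    (by rw [hRcard]; exact hFcop) hRα
  -- `α ∈ C(F) ≤ F`
  have hαC : (⟨α, hα⟩ : Gb) ∈ Subgroup.centralizer (F : Set Gb) := by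
    rw [Subgroup.mem_centralizer_iff]
    intro f hf
    apply Subtype.ext
    have := hcomm (f : MulAut V) ⟨f, hf, rfl⟩
    simpa using this.symm
  have hαF : (⟨α, hα⟩ : Gb) ∈ F := by
    have := hsol
    exact Cfsg.Agent.S0044.result hαC
  -- order of `α` divides `gcd(|F|, p) = 1`
  have ho1 : orderOf (⟨⟨α, hα⟩, hαF⟩ : F) ∣ Nat.card F := orderOf_dvd_natCard _
  have ho2 : orderOf (⟨⟨α, hα⟩, hαF⟩ : F) ∣ p := by
    apply orderOf_dvd_of_pow_eq_one
    apply Subtype.ext
    apply Subtype.ext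
    simpa using hαp
  have ho3 : orderOf (⟨⟨α, hα⟩, hαF⟩ : F) = 1 :=
    Nat.eq_one_of_dvd_coprimes hFcop ho1 ho2
  rw [orderOf_eq_one_iff] at ho3
  apply hα1
  have := congrArg (fun t : F => ((t : Gb) : MulAut V)) ho3
  simpa using this

end Core

/-! ## The conjugation action of `G` on a normal section `L/Z` -/

section Action

variable {G : Type*} [Group G] (Z L : Subgroup G) [Z.Normal] [L.Normal]

theorem map_conjNormal_subgroupOf (g : G) :
    (Z.subgroupOf L).map ((MulAut.conjNormal g : MulAut L) : L →* L) = Z.subgroupOf L := by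
  ext l
  constructor
  · rintro ⟨m, hm, rfl⟩
    have hm' : (m : G) ∈ Z := hm
    change ((MulAut.conjNormal g m : L) : G) ∈ Z
    rw [MulAut.conjNormal_apply]
    exact ‹Z.Normal›.conj_mem _ hm' g
  · intro hl
    have hl' : (l : G) ∈ Z := hl
    refine ⟨MulAut.conjNormal g⁻¹ l, ?_, ?_⟩
    · change ((MulAut.conjNormal g⁻¹ l : L) : G) ∈ Z
      rw [MulAut.conjNormal_apply]
      exact ‹Z.Normal›.conj_mem _ hl' g⁻¹
    · change (MulAut.conjNormal g : MulAut L) (MulAut.conjNormal g⁻¹ l) = l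
      rw [← MulAut.mul_apply, ← map_mul, mul_inv_cancel, map_one, MulAut.one_apply]

/-- conjugation by `g` on `L/Z` -/
noncomputable def secAut (g : G) : MulAut (↥L ⧸ Z.subgroupOf L) :=
  QuotientGroup.congr (Z.subgroupOf L) (Z.subgroupOf L) (MulAut.conjNormal g)
    (map_conjNormal_subgroupOf Z L g)

theorem secAut_mk (g : G) (l : L) :
    secAut Z L g (QuotientGroup.mk l) = QuotientGroup.mk (MulAut.conjNormal g l) :=
  QuotientGroup.congr_mk _ _ _ _ l

/-- the conjugation action as a homomorphism -/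
noncomputable def secHom : G →* MulAut (↥L ⧸ Z.subgroupOf L) :=
  MonoidHom.mk' (secAut Z L) (by
    intro g h
    apply MulEquiv.ext
    intro v
    induction v using QuotientGroup.induction_on with
    | H l =>
      rw [MulAut.mul_apply, secAut_mk, secAut_mk, secAut_mk, map_mul, MulAut.mul_apply])

theorem secHom_mk (g : G) (l : L) :
    secHom Z L g (QuotientGroup.mk l) = QuotientGroup.mk (MulAut.conjNormal g l) :=
  secAut_mk Z L g l

end Action

/-! ## The module -/

theorem quadr {G : Type*} [Group G] [Finite G] [Group.IsSolvable G] {p : ℕ} [Fact p.Prime]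
    (hp : 3 < p) (x : G) (hx : x ^ p = 1) (Z L C : Subgroup G) [Z.Normal] [L.Normal]
    (hZL : Z ≤ L)
    (hchief : ∀ N : Subgroup G, N.Normal → Z ≤ N → N ≤ L → N = Z ∨ N = L)
    (hexp : ∀ l ∈ L, l ^ p ∈ Z) (hab : ∀ l ∈ L, ∀ l' ∈ L, ⁅l, l'⁆ ∈ Z)
    (hC : ∀ l, l ∈ C ↔ l ∈ L ∧ ⁅l, x⁆ ∈ Z) (hxL : ¬ L ≤ C) :
    p ^ 2 * Z.relIndex C ≤ Z.relIndex L := by
  have hpp : p.Prime := Fact.out
  have h5 : 5 ≤ p := by
    rcases Nat.lt_or_ge 4 p with h | h
    · exact h
    · have : p = 4 := by omega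
      rw [this] at hpp
      exact absurd hpp (by decide)
  have hZC : Z ≤ C := by
    intro z hz
    rw [hC]
    refine ⟨hZL hz, ?_⟩
    rw [commutatorElement_def]
    have h1 : x * z⁻¹ * x⁻¹ ∈ Z := ‹Z.Normal›.conj_mem _ (Z.inv_mem hz) x
    have := Z.mul_mem hz h1
    simpa [mul_assoc] using this
  have hCL : C ≤ L := fun c hc => ((hC c).mp hc).1
  -- the section
  have hVcomm : ∀ a b : ↥L ⧸ Z.subgroupOf L, a * b = b * a := by
    intro a b
    induction a using QuotientGroup.induction_on with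
    | H l =>
    induction b using QuotientGroup.induction_on with
    | H m =>
      rw [← QuotientGroup.mk_mul, ← QuotientGroup.mk_mul, QuotientGroup.eq]
      have h := hab (m : G)⁻¹ (L.inv_mem m.2) (l : G)⁻¹ (L.inv_mem l.2)
      change (((l * m)⁻¹ * (m * l) : L) : G) ∈ Z
      have e : (((l * m)⁻¹ * (m * l) : L) : G) = ⁅(m : G)⁻¹, (l : G)⁻¹⁆ := by
        simp [commutatorElement_def, mul_assoc]
      rw [e]; exact h
  have hVexp : ∀ v : ↥L ⧸ Z.subgroupOf L, v ^ p = 1 := by
    intro v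
    induction v using QuotientGroup.induction_on with
    | H l =>
      rw [← QuotientGroup.mk_pow, QuotientGroup.eq_one_iff]
      change ((l ^ p : L) : G) ∈ Z
      simpa using hexp l l.2
  -- the action
  obtain ⟨φ, hφdef⟩ : ∃ φ : G →* MulAut (↥L ⧸ Z.subgroupOf L), φ = secHom Z L := ⟨_, rfl⟩
  have hφmk : ∀ (g : G) (l : L),
      φ g (QuotientGroup.mk l) = QuotientGroup.mk (MulAut.conjNormal g l) := by
    intro g l; rw [hφdef]; exact secHom_mk Z L g l
  have hαp : (φ x) ^ p = 1 := by rw [← map_pow, hx, map_one]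
  have hfixC : ∀ l : L, φ x (QuotientGroup.mk l) = QuotientGroup.mk l ↔ (l : G) ∈ C := by
    intro l
    rw [hφmk, QuotientGroup.eq, hC]
    have e : (((MulAut.conjNormal x l)⁻¹ * l : L) : G) = (x * (l : G)⁻¹ * x⁻¹) * (l : G) := by
      simp [MulAut.conjNormal_apply, mul_assoc]
    constructor
    · intro h
      have h' : (((MulAut.conjNormal x l)⁻¹ * l : L) : G) ∈ Z := h
      rw [e, ‹Z.Normal›.mem_comm_iff] at h'
      refine ⟨l.2, ?_⟩
      rw [commutatorElement_def]
      simpa [mul_assoc] using h'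
    · rintro ⟨_, h⟩
      change (((MulAut.conjNormal x l)⁻¹ * l : L) : G) ∈ Z
      rw [e, ‹Z.Normal›.mem_comm_iff]
      rw [commutatorElement_def] at h
      simpa [mul_assoc] using h
  have hα1 : φ x ≠ 1 := by
    intro h1
    apply hxL
    intro l hl
    have := (hfixC ⟨l, hl⟩).mp (by rw [h1, MulAut.one_apply])
    exact this
  have hsol : Group.IsSolvable φ.range :=
    Group.isSolvable_of_surjective φ.rangeRestrict_surjective
  have hirr : ∀ W : Subgroup (↥L ⧸ Z.subgroupOf L),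
      (∀ a ∈ φ.range, ∀ w ∈ W, a w ∈ W) → W = ⊥ ∨ W = ⊤ := by
    intro W hW
    set N : Subgroup G := (W.comap (QuotientGroup.mk' (Z.subgroupOf L))).map L.subtype with hN
    have hNmem : ∀ n : G, n ∈ N ↔ ∃ l : L, (QuotientGroup.mk l : ↥L ⧸ Z.subgroupOf L) ∈ W ∧
        (l : G) = n := by
      intro n
      rw [hN, Subgroup.mem_map]
      constructor
      · rintro ⟨l, hl, rfl⟩
        exact ⟨l, hl, rfl⟩
      · rintro ⟨l, hl, rfl⟩
        exact ⟨l, hl, rfl⟩
    have hNn : N.Normal := by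
      refine ⟨fun n hn g => ?_⟩
      obtain ⟨l, hl, rfl⟩ := (hNmem n).mp hn
      rw [hNmem]
      refine ⟨MulAut.conjNormal g l, ?_, MulAut.conjNormal_apply g l⟩
      rw [← hφmk]
      exact hW (φ g) ⟨g, rfl⟩ _ hl
    have hZN : Z ≤ N := by
      intro z hz
      rw [hNmem]
      refine ⟨⟨z, hZL hz⟩, ?_, rfl⟩
      have : (QuotientGroup.mk (⟨z, hZL hz⟩ : L) : ↥L ⧸ Z.subgroupOf L) = 1 := by
        rw [QuotientGroup.eq_one_iff]
        exact hz
      rw [this]; exact W.one_mem
    have hNL : N ≤ L := by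
      intro n hn
      obtain ⟨l, _, rfl⟩ := (hNmem n).mp hn
      exact l.2
    rcases hchief N hNn hZN hNL with h | h
    · left
      rw [eq_bot_iff]
      intro w hw
      induction w using QuotientGroup.induction_on with
      | H l =>
        rw [Subgroup.mem_bot, QuotientGroup.eq_one_iff]
        change (l : G) ∈ Z
        rw [← h, hNmem]
        exact ⟨l, hw, rfl⟩
    · right
      rw [eq_top_iff]
      intro v _
      induction v using QuotientGroup.induction_on with
      | H l =>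
        have hl : (l : G) ∈ N := by rw [h]; exact l.2
        obtain ⟨l', hl', e⟩ := (hNmem _).mp hl
        have : l' = l := Subtype.ext e
        rw [← this]; exact hl'
  -- now make `V` commutative
  let _ : CommGroup (↥L ⧸ Z.subgroupOf L) :=
    { (inferInstance : Group (↥L ⧸ Z.subgroupOf L)) with mul_comm := hVcomm }
  have hker : (commEnd (φ x)).ker.comap (QuotientGroup.mk' (Z.subgroupOf L)) = C.subgroupOf L := by
    ext l
    rw [Subgroup.mem_comap, MonoidHom.mem_ker, Subgroup.mem_subgroupOf, ← hfixC l]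
    change φ x (QuotientGroup.mk l) * (QuotientGroup.mk l)⁻¹ = 1 ↔ _
    rw [mul_inv_eq_one]
  have hidx : C.relIndex L = Nat.card (commEnd (φ x)).range := by
    rw [Subgroup.relIndex, ← hker,
      Subgroup.index_comap_of_surjective _ (QuotientGroup.mk'_surjective _), Subgroup.index_ker]
  have hVp : IsPGroup p (↥L ⧸ Z.subgroupOf L) := fun v => ⟨1, by rw [pow_one]; exact hVexp v⟩
  obtain ⟨n, hn⟩ := IsPGroup.iff_card.mp hVp
  have hdvd : Nat.card (commEnd (φ x)).range ∣ p ^ n := by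
    rw [← hn]; exact Subgroup.card_subgroup_dvd_card _
  obtain ⟨k, _, hk⟩ := (Nat.dvd_prime_pow hpp).mp hdvd
  have hk2 : 2 ≤ k := by
    by_contra hlt
    have hk01 : k = 0 ∨ k = 1 := by omega
    rcases hk01 with h0 | h1
    · rw [h0, pow_zero] at hk
      have hbot : (commEnd (φ x)).range = ⊥ := Subgroup.card_eq_one.mp hk
      apply hα1
      apply MulEquiv.ext
      intro v
      have hv : commEnd (φ x) v ∈ (commEnd (φ x)).range := ⟨v, rfl⟩
      rw [hbot, Subgroup.mem_bot, commEnd_apply, mul_inv_eq_one] at hv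
      rw [hv, MulAut.one_apply]
    · rw [h1, pow_one] at hk
      exact card_range_ne_prime h5 hVexp φ.range hsol hirr (φ x) ⟨x, rfl⟩ hαp hα1 hk
  have hmul := Subgroup.relIndex_mul_relIndex Z C L hZC hCL
  rw [← hmul, hidx, hk]
  calc p ^ 2 * Z.relIndex C ≤ p ^ k * Z.relIndex C :=
        Nat.mul_le_mul_right _ (Nat.pow_le_pow_right hpp.pos hk2)
    _ = Z.relIndex C * p ^ k := mul_comm _ _

end Cfsg.Agent.Lib.Helper76.Flavell
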