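import Mathlib
import Cfsg.Agent.Lib.Helper76.FlavellQuadr

/-!
# Module `S3818-[ORB]` (helper76, for helper2's Flavell project, board #3884)

`orb`: `G` finite solvable, `p ≥ 5`, `x ^ p = 1`, `G = ⟨x^G⟩`, every normal abelian subgroup of
`G` is central, `L/Z(G)` a chief factor, `C/Z = C_{L/Z}(x)`. Then
`4 (p - 1) |C : Z| ≤ (p - 4) |L : Z|`.
-/

set_option autoImplicit false
open scoped commutatorElement

namespace Cfsg.Agent.Lib.Helper76.Flavell

/-! ## Commutators with central elements -/

section Central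

variable {G : Type*} [Group G]

theorem comm_central_mul_left {z a b : G} (hz : z ∈ Subgroup.center G) : ⁅z * a, b⁆ = ⁅a, b⁆ := by
  rw [Subgroup.mem_center_iff] at hz
  have h1 : z * a = a * z := (hz a).symm
  have h2 : z * b * z⁻¹ = b := by rw [← hz b, mul_inv_cancel_right]
  rw [commutatorElement_def, commutatorElement_def, h1, mul_inv_rev]
  calc a * z * b * (z⁻¹ * a⁻¹) * b⁻¹ = a * (z * b * z⁻¹) * a⁻¹ * b⁻¹ := by group
    _ = a * b * a⁻¹ * b⁻¹ := by rw [h2]

theorem comm_central_mul_right {z a b : G} (hz : z ∈ Subgroup.center G) : ⁅a, z * b⁆ = ⁅a, b⁆ := by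
  have h := comm_central_mul_left (a := b) (b := a) hz
  have h' := congrArg (fun t => t⁻¹) h
  simpa [commutatorElement_inv] using h'

/-- if `⁅c, l⁆` and `⁅c, x⁆` are central then `c` commutes with `⁅l, x⁆`. -/
theorem commute_comm_of_central {c l x : G} (h1 : ⁅c, l⁆ ∈ Subgroup.center G)
    (h2 : ⁅c, x⁆ ∈ Subgroup.center G) : c * ⁅l, x⁆ = ⁅l, x⁆ * c := by
  have e1 : c * l * c⁻¹ = ⁅c, l⁆ * l := by rw [commutatorElement_def]; group
  have e2 : c * x * c⁻¹ = ⁅c, x⁆ * x := by rw [commutatorElement_def]; group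
  have e3 : c * ⁅l, x⁆ * c⁻¹ = ⁅c * l * c⁻¹, c * x * c⁻¹⁆ := by
    rw [commutatorElement_def, commutatorElement_def]; group
  rw [e1, e2, comm_central_mul_left h1, comm_central_mul_right h2] at e3
  calc c * ⁅l, x⁆ = c * ⁅l, x⁆ * c⁻¹ * c := by group
    _ = ⁅l, x⁆ * c := by rw [e3]

end Central

/-! ## The section `L/Z` as a `G`-group -/

section Sec

variable {G : Type*} [Group G] (Z L : Subgroup G) [Z.Normal] [L.Normal]

theorem sec_irr (hZL : Z ≤ L)
    (hchief : ∀ N : Subgroup G, N.Normal → Z ≤ N → N ≤ L → N = Z ∨ N = L)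
    (W : Subgroup (↥L ⧸ Z.subgroupOf L)) (hW : ∀ g : G, ∀ w ∈ W, secHom Z L g w ∈ W) :
    W = ⊥ ∨ W = ⊤ := by
  set N : Subgroup G := (W.comap (QuotientGroup.mk' (Z.subgroupOf L))).map L.subtype with hN
  have hNmem : ∀ n : G, n ∈ N ↔ ∃ l : L, (QuotientGroup.mk l : ↥L ⧸ Z.subgroupOf L) ∈ W ∧
      (l : G) = n := by
    intro n
    rw [hN, Subgroup.mem_map]
    constructor
    · rintro ⟨l, hl, rfl⟩
      exact ⟨l, hl, rfl⟩
    · rintro ⟨l, hl, rfl⟩
      exact ⟨l, hl, rfl⟩
  have hNn : N.Normal := by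
    refine ⟨fun n hn g => ?_⟩
    obtain ⟨l, hl, rfl⟩ := (hNmem n).mp hn
    rw [hNmem]
    refine ⟨MulAut.conjNormal g l, ?_, MulAut.conjNormal_apply g l⟩
    rw [← secHom_mk]
    exact hW g _ hl
  have hZN : Z ≤ N := by
    intro z hz
    rw [hNmem]
    refine ⟨⟨z, hZL hz⟩, ?_, rfl⟩
    have : (QuotientGroup.mk (⟨z, hZL hz⟩ : L) : ↥L ⧸ Z.subgroupOf L) = 1 := by
      rw [QuotientGroup.eq_one_iff]
      exact hz
    rw [this]; exact W.one_mem
  have hNL : N ≤ L := by
    intro n hn
    obtain ⟨l, _, rfl⟩ := (hNmem n).mp hn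
    exact l.2
  rcases hchief N hNn hZN hNL with h | h
  · left
    rw [eq_bot_iff]
    intro w hw
    induction w using QuotientGroup.induction_on with
    | H l =>
      rw [Subgroup.mem_bot, QuotientGroup.eq_one_iff]
      change (l : G) ∈ Z
      rw [← h, hNmem]
      exact ⟨l, hw, rfl⟩
  · right
    rw [eq_top_iff]
    intro v _
    induction v using QuotientGroup.induction_on with
    | H l =>
      have hl : (l : G) ∈ N := by rw [h]; exact l.2
      obtain ⟨l', hl', e⟩ := (hNmem _).mp hl
      have : l' = l := Subtype.ext e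
      rw [← this]; exact hl'

theorem secHom_fix_iff (x : G) (l : L) :
    secHom Z L x (QuotientGroup.mk l) = QuotientGroup.mk l ↔ ⁅(l : G), x⁆ ∈ Z := by
  rw [secHom_mk, QuotientGroup.eq]
  have e : (((MulAut.conjNormal x l)⁻¹ * l : L) : G) = (x * (l : G)⁻¹ * x⁻¹) * (l : G) := by
    simp [MulAut.conjNormal_apply, mul_assoc]
  constructor
  · intro h
    have h' : (((MulAut.conjNormal x l)⁻¹ * l : L) : G) ∈ Z := h
    rw [e, ‹Z.Normal›.mem_comm_iff] at h'
    rw [commutatorElement_def]
    simpa [mul_assoc] using h'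
  · intro h
    change (((MulAut.conjNormal x l)⁻¹ * l : L) : G) ∈ Z
    rw [e, ‹Z.Normal›.mem_comm_iff]
    rw [commutatorElement_def] at h
    simpa [mul_assoc] using h

end Sec

/-! ## Abstract facts about `commEnd` -/

section Core2

variable {V : Type*} [CommGroup V]

theorem quad_of_fix (α : MulAut V) (hfix : ∀ v : V, α (commEnd α v) = commEnd α v) :
    ∀ v : V, α (α v) * v = α v * α v := by
  intro v
  have h := hfix v
  rw [commEnd_apply, map_mul, map_inv] at h
  calc α (α v) * v = (α (α v) * (α v)⁻¹) * (α v * v) := by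
        rw [mul_assoc, inv_mul_cancel_left]
    _ = (α v * v⁻¹) * (α v * v) := by rw [h]
    _ = α v * α v := by
        rw [mul_mul_mul_comm, inv_mul_cancel, mul_one]

/-- coprime action of an element of order `p` on an elementary abelian `r`-group:
`|[V, α]| ≡ 1 mod p`. -/
theorem card_range_modEq_one [Finite V] {p r : ℕ} [Fact p.Prime] (hr : r.Prime) (hrp : r ≠ p)
    (hV : ∀ v : V, v ^ r = 1) (α : MulAut V) (hαp : α ^ p = 1) :
    Nat.card (commEnd α).range ≡ 1 [MOD p] := by
  have hp : p.Prime := Fact.out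
  have hA : IsPGroup p (Subgroup.zpowers α) := by
    rintro ⟨a, ha⟩
    obtain ⟨n, rfl⟩ := Subgroup.mem_zpowers_iff.mp ha
    refine ⟨1, ?_⟩
    apply Subtype.ext
    rw [pow_one, Subgroup.coe_pow, Subgroup.coe_one]
    change (α ^ n) ^ p = 1
    rw [← zpow_natCast, ← zpow_mul, mul_comm, zpow_mul, zpow_natCast, hαp, one_zpow]
  have hmod := hA.card_modEq_card_fixedPoints V
  have hfix : Nat.card (MulAction.fixedPoints (Subgroup.zpowers α) V) =
      Nat.card (commEnd α).ker := by
    apply Nat.card_congr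
    apply Equiv.subtypeEquivRight
    intro v
    rw [MulAction.mem_fixedPoints, MonoidHom.mem_ker, commEnd_apply, mul_inv_eq_one]
    constructor
    · intro h
      exact h ⟨α, Subgroup.mem_zpowers α⟩
    · intro h a
      have hle : Subgroup.zpowers α ≤ MulAction.stabilizer (MulAut V) v := by
        rw [Subgroup.zpowers_le, MulAction.mem_stabilizer_iff]
        exact h
      have := hle a.2
      rw [MulAction.mem_stabilizer_iff] at this
      exact this
  have hcard : Nat.card (commEnd α).range * Nat.card (commEnd α).ker = Nat.card V := by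
    rw [← Subgroup.index_ker]; exact Subgroup.index_mul_card _
  have hVp : IsPGroup r V := fun v => ⟨1, by rw [pow_one]; exact hV v⟩
  have : Fact r.Prime := ⟨hr⟩
  obtain ⟨n, hn⟩ := IsPGroup.iff_card.mp hVp
  have hkd : Nat.card (commEnd α).ker ∣ r ^ n := by
    rw [← hn]; exact Subgroup.card_subgroup_dvd_card _
  obtain ⟨i, _, hi⟩ := (Nat.dvd_prime_pow hr).mp hkd
  have hcop : Nat.gcd p (Nat.card (commEnd α).ker) = 1 := by
    rw [hi]
    exact Nat.Coprime.pow_right _ ((Nat.coprime_primes hp hr).mpr (Ne.symm hrp))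
  rw [hfix, ← hcard] at hmod
  apply Nat.ModEq.cancel_left_of_coprime hcop
  rw [mul_one, mul_comm]
  exact hmod

end Core2

/-! ## The module -/

theorem orb {G : Type*} [Group G] [Finite G] [Group.IsSolvable G] {p : ℕ} [Fact p.Prime]
    (hp : 3 < p) (x : G) (hx : x ^ p = 1)
    (hgen : Subgroup.normalClosure ({x} : Set G) = ⊤)
    (hcen : ∀ A : Subgroup G, A.Normal → (∀ a ∈ A, ∀ b ∈ A, a * b = b * a) →
      A ≤ Subgroup.center G)
    (L C : Subgroup G) [L.Normal] (hZL : Subgroup.center G < L)
    (hmin : ∀ N : Subgroup G, N.Normal → Subgroup.center G ≤ N → N ≤ L →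
      N = Subgroup.center G ∨ N = L)
    (hC : ∀ l, l ∈ C ↔ l ∈ L ∧ ⁅l, x⁆ ∈ Subgroup.center G) :
    4 * (p - 1) * (Subgroup.center G).relIndex C ≤ (p - 4) * (Subgroup.center G).relIndex L := by
  have hpp : p.Prime := Fact.out
  have hZc : ∀ z ∈ Subgroup.center G, ∀ g : G, g * z = z * g := fun z hz =>
    Subgroup.mem_center_iff.mp hz
  have hZC : Subgroup.center G ≤ C := by
    intro z hz
    rw [hC]
    refine ⟨hZL.le hz, ?_⟩
    have : ⁅z, x⁆ = 1 := by
      rw [commutatorElement_def, ← hZc z hz x, mul_inv_cancel_right, mul_inv_cancel]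
    rw [this]; exact Subgroup.one_mem _
  have hCL : C ≤ L := fun c hc => ((hC c).mp hc).1
  -- an element of `L` outside the centre
  obtain ⟨l₀, hl₀L, hl₀Z⟩ := SetLike.exists_of_lt hZL
  have hv₀ : (QuotientGroup.mk (⟨l₀, hl₀L⟩ : L) : ↥L ⧸ (Subgroup.center G).subgroupOf L) ≠ 1 := by
    intro h
    rw [QuotientGroup.eq_one_iff] at h
    exact hl₀Z h
  have : Nontrivial (↥L ⧸ (Subgroup.center G).subgroupOf L) := ⟨⟨_, _, hv₀⟩⟩
  have hirr := sec_irr (Subgroup.center G) L hZL.le hmin
  -- `L/Z` is commutative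
  have hVcomm : ∀ a b : ↥L ⧸ (Subgroup.center G).subgroupOf L, a * b = b * a := by
    have h1 : commutator (↥L ⧸ (Subgroup.center G).subgroupOf L) = ⊥ ∨
        commutator (↥L ⧸ (Subgroup.center G).subgroupOf L) = ⊤ := by
      apply hirr
      intro g w hw
      have hchar : (commutator (↥L ⧸ (Subgroup.center G).subgroupOf L)).Characteristic :=
        inferInstance
      have := Subgroup.characteristic_iff_map_le.mp hchar (secHom (Subgroup.center G) L g)
      exact this (Subgroup.mem_map_of_mem _ hw)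
    have h2 : commutator (↥L ⧸ (Subgroup.center G).subgroupOf L) ≠ ⊤ :=
      (Group.IsSolvable.commutator_lt_top_of_nontrivial _).ne
    have h3 : commutator (↥L ⧸ (Subgroup.center G).subgroupOf L) = ⊥ := h1.resolve_right h2
    intro a b
    have : ⁅a, b⁆ ∈ commutator (↥L ⧸ (Subgroup.center G).subgroupOf L) := by
      rw [commutator_def]
      exact Subgroup.commutator_mem_commutator (Subgroup.mem_top a) (Subgroup.mem_top b)
    rw [h3, Subgroup.mem_bot, commutatorElement_eq_one_iff_mul_comm] at this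
    exact this
  have hab : ∀ l ∈ L, ∀ l' ∈ L, ⁅l, l'⁆ ∈ Subgroup.center G := by
    intro l hl l' hl'
    have h := hVcomm (QuotientGroup.mk (⟨l', hl'⟩ : L)⁻¹) (QuotientGroup.mk (⟨l, hl⟩ : L)⁻¹)
    rw [← QuotientGroup.mk_mul, ← QuotientGroup.mk_mul, QuotientGroup.eq] at h
    have h' : ((((⟨l', hl'⟩ : L)⁻¹ * (⟨l, hl⟩ : L)⁻¹)⁻¹ * ((⟨l, hl⟩ : L)⁻¹ * (⟨l', hl'⟩ : L)⁻¹) : L) : G) ∈
        Subgroup.center G := h
    have e : ((((⟨l', hl'⟩ : L)⁻¹ * (⟨l, hl⟩ : L)⁻¹)⁻¹ * ((⟨l, hl⟩ : L)⁻¹ * (⟨l', hl'⟩ : L)⁻¹) : L) : G) =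
        ⁅l, l'⁆ := by
      simp [commutatorElement_def, mul_assoc]
    rw [e] at h'
    exact h'
  -- `L/Z` has prime exponent `r`
  obtain ⟨r, hr, hVexp⟩ : ∃ r : ℕ, r.Prime ∧
      ∀ v : ↥L ⧸ (Subgroup.center G).subgroupOf L, v ^ r = 1 := by
    have hcard : Nat.card (↥L ⧸ (Subgroup.center G).subgroupOf L) ≠ 1 := by
      intro h
      have := (Nat.card_eq_one_iff_unique.mp h).1
      exact hv₀ (Subsingleton.elim _ _)
    obtain ⟨r, hr, hdvd⟩ := Nat.exists_prime_and_dvd hcard
    refine ⟨r, hr, ?_⟩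
    have : Fact r.Prime := ⟨hr⟩
    obtain ⟨v₁, hv₁⟩ := exists_prime_orderOf_dvd_card' r hdvd
    let K : Subgroup (↥L ⧸ (Subgroup.center G).subgroupOf L) :=
      { carrier := {v | v ^ r = 1}
        mul_mem' := by
          intro a b ha hb
          change (a * b) ^ r = 1
          rw [(show Commute a b from hVcomm a b).mul_pow, ha, hb, mul_one]
        one_mem' := one_pow r
        inv_mem' := by
          intro a ha
          change a⁻¹ ^ r = 1
          rw [inv_pow, ha, inv_one] }
    have hKmem : ∀ v, v ∈ K ↔ v ^ r = 1 := fun v => Iff.rfl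
    have hK : K = ⊥ ∨ K = ⊤ := by
      apply hirr
      intro g w hw
      rw [hKmem] at hw ⊢
      rw [← map_pow, hw, map_one]
    have hv₁K : v₁ ∈ K := by
      rw [hKmem, ← hv₁]; exact pow_orderOf_eq_one v₁
    have hv₁1 : v₁ ≠ 1 := by
      intro h
      rw [h, orderOf_one] at hv₁
      exact hr.one_lt.ne hv₁
    rcases hK with h | h
    · rw [h, Subgroup.mem_bot] at hv₁K
      exact absurd hv₁K hv₁1
    · intro v
      have : v ∈ K := by rw [h]; exact Subgroup.mem_top v
      exact this
  have hexp : ∀ l ∈ L, l ^ r ∈ Subgroup.center G := by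
    intro l hl
    have h := hVexp (QuotientGroup.mk (⟨l, hl⟩ : L))
    rw [← QuotientGroup.mk_pow, QuotientGroup.eq_one_iff] at h
    have h' : (((⟨l, hl⟩ : L) ^ r : L) : G) ∈ Subgroup.center G := h
    simpa using h'
  -- `Z(L) ≤ Z(G)`
  have hZLcen : ∀ w ∈ L, (∀ l ∈ L, l * w = w * l) → w ∈ Subgroup.center G := by
    intro w hw hcomm
    have hAn : ((Subgroup.center L).map L.subtype).Normal :=
      ConjAct.normal_of_characteristic_of_normal
    have hAab : ∀ a ∈ (Subgroup.center L).map L.subtype,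
        ∀ b ∈ (Subgroup.center L).map L.subtype, a * b = b * a := by
      rintro a ⟨a', ha', rfl⟩ b ⟨b', _, rfl⟩
      have ha'' : a' ∈ Subgroup.center L := ha'
      rw [Subgroup.mem_center_iff] at ha''
      have := ha'' b'
      have h2 := congrArg Subtype.val this
      simpa using h2.symm
    apply hcen _ hAn hAab
    refine ⟨⟨w, hw⟩, ?_, rfl⟩
    change (⟨w, hw⟩ : L) ∈ Subgroup.center L
    rw [Subgroup.mem_center_iff]
    intro l
    apply Subtype.ext
    simpa using hcomm l l.2
  -- `x` acts nontrivially on `L/Z`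
  have hxL : ¬ L ≤ C := by
    intro hLC
    have hxker : x ∈ (secHom (Subgroup.center G) L).ker := by
      rw [MonoidHom.mem_ker]
      apply MulEquiv.ext
      intro v
      induction v using QuotientGroup.induction_on with
      | H l =>
        rw [MulAut.one_apply, secHom_fix_iff]
        exact ((hC l).mp (hLC l.2)).2
    have hker : (secHom (Subgroup.center G) L).ker = ⊤ := by
      rw [eq_top_iff, ← hgen]
      apply Subgroup.normalClosure_le_normal
      intro y hy
      rw [Set.mem_singleton_iff] at hy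
      rw [hy]; exact hxker
    have htriv : ∀ g : G, secHom (Subgroup.center G) L g = 1 := by
      intro g
      have : g ∈ (secHom (Subgroup.center G) L).ker := by rw [hker]; exact Subgroup.mem_top g
      exact MonoidHom.mem_ker.mp this
    have hcyc : Subgroup.zpowers
        (QuotientGroup.mk (⟨l₀, hl₀L⟩ : L) : ↥L ⧸ (Subgroup.center G).subgroupOf L) = ⊤ := by
      have h := hirr (Subgroup.zpowers
        (QuotientGroup.mk (⟨l₀, hl₀L⟩ : L) : ↥L ⧸ (Subgroup.center G).subgroupOf L)) (by
          intro g w hw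
          rw [htriv g, MulAut.one_apply]; exact hw)
      rcases h with h | h
      · exfalso
        rw [Subgroup.zpowers_eq_bot] at h
        exact hv₀ h
      · exact h
    have : IsCyclic (↥L ⧸ (Subgroup.center G).subgroupOf L) :=
      isCyclic_iff_exists_zpowers_eq_top.mpr ⟨_, hcyc⟩
    have hLab : ∀ a b : L, a * b = b * a := by
      have hcomL : IsMulCommutative L := by
        apply MonoidHom.isMulCommutative_of_isCyclic_of_ker_le_center
          (QuotientGroup.mk' ((Subgroup.center G).subgroupOf L))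
        intro a ha
        rw [QuotientGroup.ker_mk'] at ha
        have ha' : (a : G) ∈ Subgroup.center G := ha
        rw [Subgroup.mem_center_iff]
        intro b
        apply Subtype.ext
        simpa using hZc _ ha' (b : G)
      exact fun a b => hcomL.is_comm.comm a b
    have hLZ : L ≤ Subgroup.center G := by
      apply hcen L inferInstance
      intro a ha b hb
      have := hLab ⟨a, ha⟩ ⟨b, hb⟩
      have h2 := congrArg Subtype.val this
      simpa using h2
    exact hl₀Z (hLZ hl₀L)
  -- now make `V` commutative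
  let _ : CommGroup (↥L ⧸ (Subgroup.center G).subgroupOf L) :=
    { (inferInstance : Group (↥L ⧸ (Subgroup.center G).subgroupOf L)) with mul_comm := hVcomm }
  obtain ⟨α, hαdef⟩ : ∃ α : MulAut (↥L ⧸ (Subgroup.center G).subgroupOf L),
      α = secHom (Subgroup.center G) L x := ⟨_, rfl⟩
  have hαp : α ^ p = 1 := by rw [hαdef, ← map_pow, hx, map_one]
  have hfixC : ∀ l : L, α (QuotientGroup.mk l) = QuotientGroup.mk l ↔ (l : G) ∈ C := by
    intro l
    rw [hαdef, secHom_fix_iff, hC]
    exact ⟨fun h => ⟨l.2, h⟩, fun h => h.2⟩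
  have hα1 : α ≠ 1 := by
    intro h1
    apply hxL
    intro l hl
    exact (hfixC ⟨l, hl⟩).mp (by rw [h1, MulAut.one_apply])
  have hker : (commEnd α).ker.comap (QuotientGroup.mk' ((Subgroup.center G).subgroupOf L)) =
      C.subgroupOf L := by
    ext l
    rw [Subgroup.mem_comap, MonoidHom.mem_ker, Subgroup.mem_subgroupOf, ← hfixC l]
    change α (QuotientGroup.mk l) * (QuotientGroup.mk l)⁻¹ = 1 ↔ _
    rw [mul_inv_eq_one]
  have hidx : C.relIndex L = Nat.card (commEnd α).range := by
    rw [Subgroup.relIndex, ← hker,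
      Subgroup.index_comap_of_surjective _ (QuotientGroup.mk'_surjective _), Subgroup.index_ker]
  have hVr : IsPGroup r (↥L ⧸ (Subgroup.center G).subgroupOf L) :=
    fun v => ⟨1, by rw [pow_one]; exact hVexp v⟩
  have : Fact r.Prime := ⟨hr⟩
  obtain ⟨n, hn⟩ := IsPGroup.iff_card.mp hVr
  have hdvd : Nat.card (commEnd α).range ∣ r ^ n := by
    rw [← hn]; exact Subgroup.card_subgroup_dvd_card _
  obtain ⟨j, _, hj⟩ := (Nat.dvd_prime_pow hr).mp hdvd
  have hj1 : 1 ≤ j := by
    by_contra hlt
    have h0 : j = 0 := by omega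
    rw [h0, pow_zero] at hj
    have hbot : (commEnd α).range = ⊥ := Subgroup.card_eq_one.mp hj
    apply hα1
    apply MulEquiv.ext
    intro v
    have hv : commEnd α v ∈ (commEnd α).range := ⟨v, rfl⟩
    rw [hbot, Subgroup.mem_bot, commEnd_apply, mul_inv_eq_one] at hv
    rw [hv, MulAut.one_apply]
  have hmul := Subgroup.relIndex_mul_relIndex (Subgroup.center G) C L hZC hCL
  have hapos : 0 < (Subgroup.center G).relIndex C := by
    rw [Nat.pos_iff_ne_zero]
    intro h0
    have : (Subgroup.center G).relIndex C = ((Subgroup.center G).subgroupOf C).index := rfl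
    rw [this] at h0
    exact Subgroup.index_ne_zero_of_finite h0
  -- suffices: `4 (p - 1) ≤ (p - 4) Dd`
  suffices hmain : 4 * (p - 1) ≤ (p - 4) * C.relIndex L by
    rw [← hmul]
    calc 4 * (p - 1) * (Subgroup.center G).relIndex C
        ≤ (p - 4) * C.relIndex L * (Subgroup.center G).relIndex C :=
          Nat.mul_le_mul_right _ hmain
      _ = (p - 4) * ((Subgroup.center G).relIndex C * C.relIndex L) := by ring
  have h5 : 5 ≤ p := by
    rcases Nat.lt_or_ge 4 p with h | h
    · exact h
    · have : p = 4 := by omega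
      rw [this] at hpp
      exact absurd hpp (by decide)
  by_cases hrp : r = p
  · -- `r = p`: QUADR
    have hq := quadr hp x hx (Subgroup.center G) L C hZL.le hmin
      (by rw [← hrp]; exact hexp) hab hC hxL
    rw [← hmul] at hq
    have hD : p ^ 2 ≤ C.relIndex L := by
      rw [mul_comm] at hq
      exact Nat.le_of_mul_le_mul_left hq hapos
    have h1 : 1 ≤ p - 4 := by omega
    have h2 : 4 * (p - 1) ≤ p ^ 2 := by
      obtain ⟨k, rfl⟩ : ∃ k, p = k + 5 := ⟨p - 5, by omega⟩
      have e1 : k + 5 - 1 = k + 4 := by omega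
      rw [e1]
      nlinarith
    calc 4 * (p - 1) ≤ p ^ 2 := h2
      _ ≤ C.relIndex L := hD
      _ = 1 * C.relIndex L := (one_mul _).symm
      _ ≤ (p - 4) * C.relIndex L := Nat.mul_le_mul_right _ h1
  · -- `r ≠ p`
    have hmod := card_range_modEq_one hr hrp hVexp α hαp
    rw [← hidx] at hmod
    -- `j ≥ 2`
    have hj2 : 2 ≤ j := by
      by_contra hlt
      have hj1' : j = 1 := by omega
      rw [hj1', pow_one, ← hidx] at hj
      -- `C` centralizes every `⁅l, x⁆`
      have hcl1 : ∀ c ∈ C, ∀ l ∈ L, c * ⁅l, x⁆ = ⁅l, x⁆ * c := by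
        intro c hc l hl
        have hc' := (hC c).mp hc
        exact commute_comm_of_central (hab c hc'.1 l hl) hc'.2
      have hxLn : ∀ l ∈ L, ⁅l, x⁆ ∈ L := by
        intro l hl
        rw [commutatorElement_def]
        have h1 : x * l⁻¹ * x⁻¹ ∈ L := ‹L.Normal›.conj_mem _ (L.inv_mem hl) x
        have := L.mul_mem hl h1
        simpa [mul_assoc] using this
      -- every `⁅l, x⁆` lies in `C`
      have hcl2 : ∀ l ∈ L, ⁅l, x⁆ ∈ C := by
        intro l hl
        by_contra hwC
        have hwL := hxLn l hl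
        have hK1 : C ≤ C ⊔ Subgroup.zpowers ⁅l, x⁆ := le_sup_left
        have hK2 : C ⊔ Subgroup.zpowers ⁅l, x⁆ ≤ L :=
          sup_le hCL (by rw [Subgroup.zpowers_le]; exact hwL)
        have hm := Subgroup.relIndex_mul_relIndex C (C ⊔ Subgroup.zpowers ⁅l, x⁆) L hK1 hK2
        rw [hj] at hm
        have hne1 : C.relIndex (C ⊔ Subgroup.zpowers ⁅l, x⁆) ≠ 1 := by
          intro h1
          rw [Subgroup.relIndex_eq_one] at h1
          exact hwC (h1 (le_sup_right (a := C) (Subgroup.mem_zpowers _)))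
        have h2 : (C ⊔ Subgroup.zpowers ⁅l, x⁆).relIndex L = 1 := by
          rcases hr.eq_one_or_self_of_dvd _ (Dvd.intro _ hm) with h | h
          · exact absurd h hne1
          · rw [h] at hm
            have : r * (C ⊔ Subgroup.zpowers ⁅l, x⁆).relIndex L = r * 1 := by rw [hm, mul_one]
            exact Nat.eq_of_mul_eq_mul_left hr.pos this
        rw [Subgroup.relIndex_eq_one] at h2
        have hcent : C ⊔ Subgroup.zpowers ⁅l, x⁆ ≤ Subgroup.centralizer {⁅l, x⁆} := by
          apply sup_le
          · intro c hc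
            rw [Subgroup.mem_centralizer_iff]
            intro h hh
            rw [Set.mem_singleton_iff] at hh
            rw [hh]; exact (hcl1 c hc l hl).symm
          · rw [Subgroup.zpowers_le, Subgroup.mem_centralizer_iff]
            intro h hh
            rw [Set.mem_singleton_iff] at hh
            rw [hh]
        have hwZ : ⁅l, x⁆ ∈ Subgroup.center G := by
          apply hZLcen _ hwL
          intro l' hl'
          have := hcent (h2 hl')
          rw [Subgroup.mem_centralizer_iff] at this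
          exact (this _ rfl).symm
        exact hwC (hZC hwZ)
      -- hence `α` is quadratic
      have hfixT : ∀ v, α (commEnd α v) = commEnd α v := by
        intro v
        induction v using QuotientGroup.induction_on with
        | H l =>
          have e : commEnd α (QuotientGroup.mk l) =
              (QuotientGroup.mk (⟨⁅(l : G), x⁆, hxLn l l.2⟩ : L))⁻¹ := by
            rw [commEnd_apply, hαdef, secHom_mk, ← QuotientGroup.mk_inv, ← QuotientGroup.mk_inv,
              ← QuotientGroup.mk_mul]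
            congr 1
            apply Subtype.ext
            simp [MulAut.conjNormal_apply, commutatorElement_def, mul_assoc]
          rw [e, map_inv, (hfixC _).mpr (hcl2 l l.2)]
      have hquad := quad_of_fix α hfixT
      have hαr : α ^ r = 1 :=
        Cfsg.Agent.Lib.Helper97.mulAut_pow_eq_one_of_quad hVexp α hquad
      have ho1 : orderOf α ∣ r := orderOf_dvd_of_pow_eq_one hαr
      have ho2 : orderOf α ∣ p := orderOf_dvd_of_pow_eq_one hαp
      have ho3 : orderOf α = 1 :=
        Nat.eq_one_of_dvd_coprimes ((Nat.coprime_primes hr hpp).mpr hrp) ho1 ho2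
      exact hα1 (orderOf_eq_one_iff.mp ho3)
    -- arithmetic
    have hDd : C.relIndex L = r ^ j := by rw [hidx, hj]
    have hr2 : 2 ≤ r := hr.two_le
    have hDgt : 1 < C.relIndex L := by
      rw [hDd]; exact Nat.one_lt_pow (by omega) hr.one_lt
    have hDge : p + 1 ≤ C.relIndex L := by
      have h1 : C.relIndex L % p = 1 % p := hmod
      rw [Nat.mod_eq_of_lt hpp.one_lt] at h1
      have h2 := Nat.div_add_mod (C.relIndex L) p
      rw [h1] at h2
      have h3 : 1 ≤ C.relIndex L / p := by
        by_contra h0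
        have : C.relIndex L / p = 0 := Nat.lt_one_iff.mp (not_le.mp h0)
        rw [this] at h2
        omega
      nlinarith
    rcases Nat.lt_or_ge p 7 with hp7 | hp7
    · -- `p = 5`
      have hp5 : p = 5 := by
        have : p = 5 ∨ p = 6 := by omega
        rcases this with h | h
        · exact h
        · rw [h] at hpp; exact absurd hpp (by decide)
      subst hp5
      have h1 : C.relIndex L % 5 = 1 := hmod
      have hsq : r ^ 2 ∣ C.relIndex L := by
        rw [hDd]; exact pow_dvd_pow r hj2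
      have h16 : 16 ≤ C.relIndex L := by
        by_contra hlt
        have hcases : C.relIndex L = 6 ∨ C.relIndex L = 11 := by omega
        have hrle : r ^ 2 ≤ 11 := by
          rcases hcases with h | h <;> rw [h] at hsq <;> exact (Nat.le_of_dvd (by norm_num) hsq).trans (by norm_num)
        have hr3 : r ≤ 3 := by nlinarith
        have hr23 : r = 2 ∨ r = 3 := by omega
        rcases hr23 with h | h <;> rcases hcases with h' | h' <;> rw [h, h'] at hsq <;> omega
      omega
    · have h1 : (p - 4) * (p + 1) ≤ (p - 4) * C.relIndex L := Nat.mul_le_mul_left _ hDge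
      have h2 : 4 * (p - 1) ≤ (p - 4) * (p + 1) := by
        obtain ⟨k, rfl⟩ : ∃ k, p = k + 7 := ⟨p - 7, by omega⟩
        have e1 : k + 7 - 1 = k + 6 := by omega
        have e2 : k + 7 - 4 = k + 3 := by omega
        rw [e1, e2]
        nlinarith
      exact h2.trans h1

end Cfsg.Agent.Lib.Helper76.Flavell
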