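import Mathlib
import Cfsg.Agent.Lib.Helper2.HuppertDefs

/-!
# S3360-[D2a] and S3360-[A2] (helper76, for helper2)

* `scalar_of_normal_not_irr`: in dimension 2, a normal subgroup of a transitive linear group which
  is not irreducible consists of scalars.
* `good_of_normal_pGroup`: a nontrivial normal `r`-subgroup, all elements of order `r` acting
  irreducibly, gives an abelian normal irreducible subgroup.
-/

set_option autoImplicit false

namespace Cfsg.Agent.Lib.Helper76.HuppertD2a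

open Cfsg Module Cfsg.Agent.Lib.Helper2.Huppert

variable {q : ℕ} [Fact q.Prime] {V : Type*} [AddCommGroup V] [Module (ZMod q) V] [Finite V]
  {G : Type*} [Group G] [Finite G]

omit [Finite G] in
theorem scalar_of_normal_not_irr (ρ : G →* (V ≃ₗ[ZMod q] V)) (hdim : finrank (ZMod q) V = 2)
    (htrans : Trans ρ) (A : Subgroup G) [hAn : A.Normal] (hA : ¬ IrrOn ρ A) :
    ∀ a ∈ A, IsScalar ρ a := by
  unfold IrrOn at hA
  push Not at hA
  obtain ⟨W, hW, hbot, htop⟩ := hA
  obtain ⟨v₀, hv₀W, hv₀⟩ := (Submodule.ne_bot_iff W).mp hbot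
  have hfin : finrank (ZMod q) W = 1 := by
    have h1 : finrank (ZMod q) W < finrank (ZMod q) V :=
      Submodule.finrank_lt htop
    have h2 : 0 < finrank (ZMod q) W := by
      rw [Module.finrank_pos_iff_exists_ne_zero]
      exact ⟨⟨v₀, hv₀W⟩, fun h => hv₀ (congrArg Subtype.val h)⟩
    omega
  have hspan : ∀ w ∈ W, ∃ c : ZMod q, w = c • v₀ := by
    intro w hw
    have h := (finrank_eq_one_iff_of_nonzero' (⟨v₀, hv₀W⟩ : W)
      (fun h => hv₀ (congrArg Subtype.val h))).mp hfin ⟨w, hw⟩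
    obtain ⟨c, hc⟩ := h
    exact ⟨c, (congrArg Subtype.val hc).symm⟩
  intro a ha
  have key : ∀ v : V, ∃ c : ZMod q, ρ a v = c • v := by
    intro v
    by_cases hv : v = 0
    · exact ⟨0, by simp [hv]⟩
    obtain ⟨g, rfl⟩ := htrans v₀ v hv₀ hv
    have hb : g⁻¹ * a * g ∈ A := by
      have := hAn.conj_mem a ha g⁻¹
      simpa using this
    obtain ⟨c, hc⟩ := hspan _ (hW _ hb v₀ hv₀W)
    refine ⟨c, ?_⟩
    have e : a * g = g * (g⁻¹ * a * g) := by group
    calc ρ a (ρ g v₀) = ρ (a * g) v₀ := by rw [map_mul]; rfl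
      _ = ρ (g * (g⁻¹ * a * g)) v₀ := by rw [← e]
      _ = ρ g (ρ (g⁻¹ * a * g) v₀) := by rw [map_mul]; rfl
      _ = ρ g (c • v₀) := by rw [hc]
      _ = c • ρ g v₀ := by rw [map_smul]
  have hli : ∀ v : V, ¬ LinearIndependent (ZMod q) ![v, ((ρ a : V ≃ₗ[ZMod q] V) : V →ₗ[ZMod q] V) v] := by
    intro v hli
    obtain ⟨c, hc⟩ := key v
    rw [LinearIndependent.pair_iff] at hli
    have := hli c (-1) (by
      show c • v + (-1 : ZMod q) • (ρ a v) = 0
      rw [hc]; simp)
    have h1 : (-1 : ZMod q) = 0 := this.2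
    have h2 : (1 : ZMod q) = 0 := by
      have h3 := congrArg Neg.neg h1
      simp at h3
    exact one_ne_zero h2
  obtain ⟨c, hc⟩ := LinearMap.exists_eq_smul_id_of_forall_notLinearIndependent hli
  refine ⟨c, fun v => ?_⟩
  have := congrArg (fun f : V →ₗ[ZMod q] V => f v) hc
  simpa using this

omit [Finite V] in
theorem good_of_normal_pGroup (ρ : G →* (V ≃ₗ[ZMod q] V)) {r : ℕ} [Fact r.Prime]
    (N : Subgroup G) [N.Normal] (hN : IsPGroup r N) (hN1 : N ≠ ⊥)
    (hirr : ∀ g : G, orderOf g = r → IrrElt (ρ g)) : Good ρ := by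
  have hnt : Nontrivial N := (Subgroup.nontrivial_iff_ne_bot N).mpr hN1
  have hcnt : Nontrivial (Subgroup.center N) := hN.center_nontrivial
  have hdvd : r ∣ Nat.card (Subgroup.center N) := by
    rcases (hN.to_subgroup (Subgroup.center N)).card_eq_or_dvd with h | h
    · exfalso
      have := Finite.one_lt_card (α := Subgroup.center N)
      omega
    · exact h
  obtain ⟨z, hz⟩ := exists_prime_orderOf_dvd_card' r hdvd
  refine ⟨(Subgroup.center N).map N.subtype, inferInstance, ?_, ?_⟩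
  · rintro _ ⟨a, ha, rfl⟩ _ ⟨b, _, rfl⟩
    have := (Subgroup.mem_center_iff.mp ha) b
    have h2 : ((b * a : N) : G) = ((a * b : N) : G) := congrArg Subtype.val this
    simpa using h2.symm
  · refine irrOn_of_irrElt ρ _ ((z : N) : G) ⟨(z : N), z.2, rfl⟩ (hirr _ ?_)
    rw [Subgroup.orderOf_coe, Subgroup.orderOf_coe]
    exact hz

end Cfsg.Agent.Lib.Helper76.HuppertD2a
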