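import Mathlib
import Cfsg.Prelude.Def_Solvable
import Cfsg.Agent.Lib.Helper2.HuppertDefs
import Cfsg.Agent.Lib.Helper1.PCore
import Cfsg.Agent.Lib.Helper12.HuppertGL26

/-!
# S3360-[M26-S3] (helper76, for helper2): `|O_7(G)| = 7` for a transitive linear group on `F₂⁶`
-/

set_option autoImplicit false
set_option linter.unnecessarySeqFocus false

namespace Cfsg.Agent.Lib.Helper76.HuppertM26

open Cfsg Module Cfsg.Agent.Lib.Helper2.Huppert

section two

variable {V : Type*} [AddCommGroup V] [Module (ZMod 2) V] [Finite V] {G : Type*} [Group G]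

/-- the stabilizer in `L` of a vector -/
def stabIn (ρ : G →* (V ≃ₗ[ZMod 2] V)) (L : Subgroup G) (v : V) : Subgroup G where
  carrier := {y | y ∈ L ∧ ρ y v = v}
  one_mem' := ⟨L.one_mem, by simp⟩
  mul_mem' := by
    rintro a b ⟨h1, h2⟩ ⟨h3, h4⟩
    refine ⟨L.mul_mem h1 h3, ?_⟩
    rw [map_mul]
    show ρ a (ρ b v) = v
    rw [h4, h2]
  inv_mem' := by
    rintro a ⟨h1, h2⟩
    refine ⟨L.inv_mem h1, ?_⟩
    have : ρ a⁻¹ (ρ a v) = v := by
      rw [← LinearEquiv.mul_apply, ← map_mul, inv_mul_cancel, map_one]; rfl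
    rwa [h2] at this

omit [Finite V] in
theorem mem_stabIn (ρ : G →* (V ≃ₗ[ZMod 2] V)) (L : Subgroup G) (v : V) (y : G) :
    y ∈ stabIn ρ L v ↔ y ∈ L ∧ ρ y v = v := Iff.rfl

omit [Finite V] in
theorem stabIn_le (ρ : G →* (V ≃ₗ[ZMod 2] V)) (L : Subgroup G) (v : V) : stabIn ρ L v ≤ L :=
  fun _ h => h.1

/-- the number of fixed vectors of a nontrivial `7`-element is `1` or `8` -/
theorem card_fixed (ρ : G →* (V ≃ₗ[ZMod 2] V)) (hρ : Function.Injective ρ)
    (hdim : finrank (ZMod 2) V = 6) (L : Subgroup G) (hLp : IsPGroup 7 L) (y : G) (hy : y ∈ L)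
    (hy1 : y ≠ 1) :
    Nat.card {v : V // ρ y v = v} = 1 ∨ Nat.card {v : V // ρ y v = v} = 8 := by
  classical
  have : Fact (Nat.Prime 7) := ⟨by norm_num⟩
  have hfin : Module.Finite (ZMod 2) V := Module.Finite.of_finite
  obtain ⟨F, hF⟩ : ∃ F : Submodule (ZMod 2) V,
      F = LinearMap.ker (((ρ y : V ≃ₗ[ZMod 2] V) : V →ₗ[ZMod 2] V) - LinearMap.id) := ⟨_, rfl⟩
  have hmem : ∀ v, v ∈ F ↔ ρ y v = v := by
    intro v
    rw [hF, LinearMap.mem_ker, LinearMap.sub_apply, sub_eq_zero]
    rfl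
  have hcardF : Nat.card F = 2 ^ finrank (ZMod 2) F := by
    rw [Module.natCard_eq_pow_finrank (K := ZMod 2), Nat.card_zmod]
  have hcardV : Nat.card V = 64 := by
    rw [Module.natCard_eq_pow_finrank (K := ZMod 2), Nat.card_zmod, hdim]; norm_num
  have hle : finrank (ZMod 2) F ≤ 6 := hdim ▸ Submodule.finrank_le F
  have hFcard : Nat.card F = Nat.card {v : V // ρ y v = v} :=
    Nat.card_congr (Equiv.subtypeEquivRight hmem)
  let _ : MulAction G V := MulAction.compHom V ρ
  have hZ : IsPGroup 7 (Subgroup.zpowers y) := hLp.to_le (Subgroup.zpowers_le.mpr hy)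
  have hcong := hZ.card_modEq_card_fixedPoints V
  have hfix : (MulAction.fixedPoints (Subgroup.zpowers y) V) = {v | ρ y v = v} := by
    ext v
    constructor
    · intro h
      exact h ⟨y, Subgroup.mem_zpowers y⟩
    · intro h g
      have hle' : Subgroup.zpowers y ≤ MulAction.stabilizer G v :=
        Subgroup.zpowers_le.mpr (MulAction.mem_stabilizer_iff.mpr h)
      exact MulAction.mem_stabilizer_iff.mp (hle' g.2)
  have hfixcard : Nat.card (MulAction.fixedPoints (Subgroup.zpowers y) V) =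
      Nat.card {v : V // ρ y v = v} := by
    rw [hfix]; rfl
  rw [hcardV, hfixcard, ← hFcard, hcardF] at hcong
  rw [← hFcard, hcardF]
  obtain ⟨d, hd⟩ : ∃ d, d = finrank (ZMod 2) F := ⟨_, rfl⟩
  rw [← hd] at hcong hle ⊢
  have hd6 : d ≠ 6 := by
    intro h6
    have htop : F = ⊤ := Submodule.eq_top_of_finrank_eq (by rw [← hd, h6, hdim])
    apply hy1
    apply hρ
    rw [map_one]
    ext v
    have : v ∈ F := htop ▸ Submodule.mem_top
    exact (hmem v).mp this
  interval_cases d
  · left; rfl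
  · exfalso; revert hcong; decide
  · exfalso; revert hcong; decide
  · right; rfl
  · exfalso; revert hcong; decide
  · exfalso; revert hcong; decide
  · exact absurd rfl hd6

end two

variable {q : ℕ} [Fact q.Prime] {V : Type*} [AddCommGroup V] [Module (ZMod q) V] [Finite V]
  {G : Type*} [Group G] [Finite G]

theorem card_pCore_seven (ρ : G →* (V ≃ₗ[ZMod q] V)) (hρ : Function.Injective ρ)
    (htrans : Trans ρ) (hq : q = 2) (hdim : finrank (ZMod q) V = 6) (hL : pCore 7 G ≠ ⊥) :
    Nat.card (pCore 7 G) = 7 := by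
  classical
  subst hq
  have : Fact (Nat.Prime 7) := ⟨by norm_num⟩
  obtain ⟨L, hLdef⟩ : ∃ L : Subgroup G, L = pCore 7 G := ⟨_, rfl⟩
  rw [← hLdef] at hL ⊢
  have hLp : IsPGroup 7 L := hLdef ▸ Cfsg.Agent.Lib.Helper1.pCore_isPGroup 7
  have hLn : L.Normal := hLdef ▸ Cfsg.Agent.Lib.Helper1.pCore_normal 7
  obtain ⟨a, ha⟩ := hLp.exists_card_eq
  have hdvdG : Nat.card L ∣ 20158709760 :=
    (Subgroup.card_subgroup_dvd_card L).trans
      (Cfsg.Agent.Lib.Helper12.Huppert.card_dvd_26 ρ hρ rfl hdim)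
  have ha2 : a ≤ 2 := by
    by_contra h
    have h3 : 7 ^ 3 ∣ 20158709760 := (pow_dvd_pow 7 (by omega)).trans (ha ▸ hdvdG)
    norm_num at h3
  have ha1 : a ≠ 0 := by
    rintro rfl
    rw [pow_zero] at ha
    exact hL (Subgroup.card_eq_one.mp ha)
  interval_cases a
  · exact absurd rfl ha1
  · exact ha.trans (by norm_num)
  exfalso
  have hL49 : Nat.card L = 49 := ha.trans (by norm_num)
  -- basic cardinalities
  have hfinM : Module.Finite (ZMod 2) V := Module.Finite.of_finite
  have hcardV : Nat.card V = 64 := by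
    rw [Module.natCard_eq_pow_finrank (K := ZMod 2), Nat.card_zmod, hdim]; norm_num
  have : Fintype V := Fintype.ofFinite V
  have : Fintype G := Fintype.ofFinite G
  obtain ⟨Ls, hLs⟩ : ∃ Ls : Finset G, Ls = Finset.univ.filter (fun y => y ∈ L ∧ y ≠ 1) := ⟨_, rfl⟩
  obtain ⟨Vs, hVs⟩ : ∃ Vs : Finset V, Vs = Finset.univ.filter (fun v => v ≠ 0) := ⟨_, rfl⟩
  have hmemLs : ∀ y, y ∈ Ls ↔ y ∈ L ∧ y ≠ 1 := by intro y; rw [hLs]; simp
  have hmemVs : ∀ v, v ∈ Vs ↔ v ≠ 0 := by intro v; rw [hVs]; simp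
  have hcardsub : ∀ S : Subgroup G, (Finset.univ.filter (fun y => y ∈ S)).card = Nat.card S := by
    intro S
    rw [Nat.card_eq_fintype_card, Fintype.card_subtype]
  have hLscard : Ls.card = 48 := by
    have h1 : Ls = (Finset.univ.filter (fun y => y ∈ L)).erase 1 := by
      ext y; rw [hmemLs]; simp [and_comm]
    rw [h1, Finset.card_erase_of_mem (by simp [L.one_mem]), hcardsub, hL49]
  have hVscard : Vs.card = 63 := by
    have h1 : Vs = Finset.univ.erase 0 := by
      ext v; rw [hmemVs]; simp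
    rw [h1, Finset.card_erase_of_mem (Finset.mem_univ _), Finset.card_univ,
      ← Nat.card_eq_fintype_card, hcardV]
  -- first count
  have hcount1 : ∀ y ∈ Ls, (Vs.filter (fun v => ρ y v = v)).card ≤ 7 := by
    intro y hy
    rw [hmemLs] at hy
    have h1 : Vs.filter (fun v => ρ y v = v) =
        (Finset.univ.filter (fun v : V => ρ y v = v)).erase 0 := by
      ext v
      simp only [Finset.mem_filter, hmemVs, Finset.mem_erase, Finset.mem_univ, true_and]
    have h2 : (Finset.univ.filter (fun v : V => ρ y v = v)).card =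
        Nat.card {v : V // ρ y v = v} := by
      rw [Nat.card_eq_fintype_card, Fintype.card_subtype]
    rw [h1, Finset.card_erase_of_mem (by simp), h2]
    rcases card_fixed ρ hρ hdim L hLp y hy.1 hy.2 with h | h <;> rw [h] <;> norm_num
  -- second count
  have hcount2 : ∀ v ∈ Vs, (Ls.filter (fun y => ρ y v = v)).card + 1 =
      Nat.card (stabIn ρ L v) := by
    intro v _
    have h1 : Ls.filter (fun y => ρ y v = v) =
        (Finset.univ.filter (fun y => y ∈ stabIn ρ L v)).erase 1 := by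
      ext y
      simp only [Finset.mem_filter, hmemLs, Finset.mem_erase, Finset.mem_univ, true_and,
        mem_stabIn]
      tauto
    rw [h1, Finset.card_erase_of_mem (by simp [(stabIn ρ L v).one_mem]), hcardsub]
    have : 0 < Nat.card (stabIn ρ L v) := Nat.card_pos
    omega
  -- all stabilizers have the same order
  have hconj : ∀ v w : V, v ≠ 0 → w ≠ 0 → Nat.card (stabIn ρ L w) ≤ Nat.card (stabIn ρ L v) := by
    intro v w hv hw
    obtain ⟨g, rfl⟩ := htrans w v hw hv
    -- v = ρ g w; map y ↦ g y g⁻¹ from stab w into stab (ρ g w)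
    refine Nat.card_le_card_of_injective
      (fun y : stabIn ρ L w => (⟨g * y.1 * g⁻¹, ?_⟩ : stabIn ρ L (ρ g w))) ?_
    · obtain ⟨y, hyL, hyw⟩ := y
      refine ⟨hLn.conj_mem y hyL g, ?_⟩
      show ρ (g * y * g⁻¹) (ρ g w) = ρ g w
      have e : ρ (g * y * g⁻¹) (ρ g w) = ρ (g * y * g⁻¹ * g) w := by
        rw [map_mul (ρ) (g * y * g⁻¹) g]; rfl
      rw [e]
      have e2 : g * y * g⁻¹ * g = g * y := by group
      rw [e2, map_mul]
      show ρ g (ρ y w) = ρ g w
      rw [hyw]
    · intro y y' h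
      have := congrArg Subtype.val h
      simp only [mul_left_inj, mul_right_inj] at this
      exact Subtype.ext this
  obtain ⟨v₀, hv₀⟩ : ∃ v₀ : V, v₀ ≠ 0 := by
    have : 0 < Vs.card := by rw [hVscard]; norm_num
    obtain ⟨v, hv⟩ := Finset.card_pos.mp this
    exact ⟨v, (hmemVs v).mp hv⟩
  obtain ⟨c, hc⟩ : ∃ c, c = Nat.card (stabIn ρ L v₀) := ⟨_, rfl⟩
  have hcall : ∀ v : V, v ≠ 0 → Nat.card (stabIn ρ L v) = c := by
    intro v hv
    rw [hc]
    exact le_antisymm (hconj v₀ v hv₀ hv) (hconj v v₀ hv hv₀)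
  have hcdvd : c ∣ 7 ^ 2 := by
    rw [hc]
    have := Subgroup.card_dvd_of_le (stabIn_le ρ L v₀)
    rwa [hL49] at this
  -- the double count
  have hsum1 : ∑ y ∈ Ls, (Vs.filter (fun v => ρ y v = v)).card ≤ 48 * 7 := by
    have := Finset.sum_le_card_nsmul Ls (fun y => (Vs.filter (fun v => ρ y v = v)).card) 7 hcount1
    rwa [hLscard, smul_eq_mul] at this
  have hsum2 : ∑ v ∈ Vs, (Ls.filter (fun y => ρ y v = v)).card + 63 = 63 * c := by
    have h1 : ∀ v ∈ Vs, (Ls.filter (fun y => ρ y v = v)).card + 1 = c := by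
      intro v hv
      rw [hcount2 v hv, hcall v ((hmemVs v).mp hv)]
    have h2 : ∑ v ∈ Vs, ((Ls.filter (fun y => ρ y v = v)).card + 1) = ∑ _v ∈ Vs, c :=
      Finset.sum_congr rfl h1
    rw [Finset.sum_add_distrib, Finset.sum_const, Finset.sum_const, hVscard] at h2
    simpa using h2
  have hswap : ∑ y ∈ Ls, (Vs.filter (fun v => ρ y v = v)).card =
      ∑ v ∈ Vs, (Ls.filter (fun y => ρ y v = v)).card := by
    simp_rw [Finset.card_filter]
    exact Finset.sum_comm
  rw [hswap] at hsum1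
  obtain ⟨k, hk2, hck⟩ := (Nat.dvd_prime_pow (by norm_num : Nat.Prime 7)).mp hcdvd
  interval_cases k
  · -- c = 1: free action, two disjoint orbits of length 49 among 63 vectors
    have hc1 : c = 1 := by rw [hck]; norm_num
    have hfree : ∀ v : V, v ≠ 0 → ∀ y ∈ L, ρ y v = v → y = 1 := by
      intro v hv y hy hyv
      have h1 : Nat.card (stabIn ρ L v) = 1 := by rw [hcall v hv, hc1]
      have h2 : stabIn ρ L v = ⊥ := Subgroup.card_eq_one.mp h1
      have h3 : y ∈ stabIn ρ L v := ⟨hy, hyv⟩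
      rw [h2] at h3
      exact Subgroup.mem_bot.mp h3
    obtain ⟨LL, hLL⟩ : ∃ LL : Finset G, LL = Finset.univ.filter (fun y => y ∈ L) := ⟨_, rfl⟩
    have hLLmem : ∀ y, y ∈ LL ↔ y ∈ L := by intro y; rw [hLL]; simp
    have hLLcard : LL.card = 49 := by rw [hLL, hcardsub, hL49]
    have horb : ∀ v : V, v ≠ 0 → (LL.image (fun y => ρ y v)).card = 49 ∧
        LL.image (fun y => ρ y v) ⊆ Vs := by
      intro v hv
      constructor
      · rw [Finset.card_image_of_injOn, hLLcard]
        intro y hy y' hy' h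
        have hy := (hLLmem y).mp hy
        have hy' := (hLLmem y').mp hy'
        have h' : ρ y v = ρ y' v := h
        have h1 : ρ (y'⁻¹ * y) v = v := by
          rw [map_mul]
          show ρ y'⁻¹ (ρ y v) = v
          rw [h', ← LinearEquiv.mul_apply, ← map_mul, inv_mul_cancel, map_one]; rfl
        have h2 := hfree v hv (y'⁻¹ * y) (L.mul_mem (L.inv_mem hy') hy) h1
        calc y = y' * (y'⁻¹ * y) := by group
          _ = y' := by rw [h2, mul_one]
      · intro w hw
        obtain ⟨y, _, rfl⟩ := Finset.mem_image.mp hw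
        rw [hmemVs]
        intro h0
        apply hv
        have : ρ y v = ρ y 0 := by rw [h0, map_zero]
        exact (ρ y).injective this
    obtain ⟨h0card, h0sub⟩ := horb v₀ hv₀
    obtain ⟨v₁, hv₁Vs, hv₁⟩ : ∃ v₁ ∈ Vs, v₁ ∉ LL.image (fun y => ρ y v₀) := by
      apply Finset.exists_mem_notMem_of_card_lt_card
      rw [h0card, hVscard]; norm_num
    have hv₁0 : v₁ ≠ 0 := (hmemVs v₁).mp hv₁Vs
    obtain ⟨h1card, h1sub⟩ := horb v₁ hv₁0
    have hdisj : Disjoint (LL.image (fun y => ρ y v₀)) (LL.image (fun y => ρ y v₁)) := by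
      rw [Finset.disjoint_left]
      intro w hw0 hw1
      obtain ⟨y, hy, rfl⟩ := Finset.mem_image.mp hw0
      obtain ⟨y', hy', h⟩ := Finset.mem_image.mp hw1
      apply hv₁
      rw [Finset.mem_image]
      refine ⟨y'⁻¹ * y, (hLLmem _).mpr (L.mul_mem (L.inv_mem ((hLLmem y').mp hy'))
        ((hLLmem y).mp hy)), ?_⟩
      have h' : ρ y' v₁ = ρ y v₀ := h
      rw [map_mul]
      show ρ y'⁻¹ (ρ y v₀) = v₁
      rw [← h', ← LinearEquiv.mul_apply, ← map_mul, inv_mul_cancel, map_one]; rfl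
    have := Finset.card_le_card (Finset.union_subset h0sub h1sub)
    rw [Finset.card_union_of_disjoint hdisj, h0card, h1card, hVscard] at this
    omega
  · -- c = 7
    have hc7 : c = 7 := by rw [hck]; norm_num
    rw [hc7] at hsum2
    omega
  · -- c = 49: L acts trivially
    have hc49 : c = 49 := by rw [hck]; norm_num
    have hall : ∀ y ∈ L, y = 1 := by
      intro y hy
      apply hρ
      rw [map_one]
      ext v
      by_cases hv : v = 0
      · rw [hv]; simp
      have h1 : stabIn ρ L v = L := by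
        apply Subgroup.eq_of_le_of_card_ge (stabIn_le ρ L v)
        rw [hcall v hv, hc49, hL49]
      have h2 : y ∈ stabIn ρ L v := by rw [h1]; exact hy
      exact h2.2
    apply hL
    rw [Subgroup.eq_bot_iff_forall]
    exact hall

end Cfsg.Agent.Lib.Helper76.HuppertM26
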