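import Mathlib
import Cfsg.Agent.S2904
import Cfsg.Agent.S3430

/-!
# S3360-[ZS] (helper76, for helper2): a good primitive prime divisor of `q ^ n - 1`

For a prime `q` and `n ≥ 3`, `(q, n) ≠ (3, 4), (2, 6)`, there is a primitive prime divisor `r` of
`q ^ n - 1` with `n + 1 < r`, or `r ^ 2 ∣ q ^ n - 1`, or `q = 2`, or `r` not a Fermat prime.
-/

set_option autoImplicit false

namespace Cfsg.Agent.Lib.Helper76.HuppertZS

theorem seven_ne_two_pow_add_one : ¬ ∃ m : ℕ, 7 = 2 ^ m + 1 := by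
  rintro ⟨m, hm⟩
  rcases m with _ | _ | _ | m
  · simp at hm
  · simp at hm
  · simp at hm
  · have h1 : 2 ^ (m + 3) = 8 * 2 ^ m := by ring
    have h2 : 1 ≤ 2 ^ m := Nat.one_le_two_pow
    omega

theorem exists_good_prime (q n : ℕ) (hq : q.Prime) (hn : 3 ≤ n) (h34 : ¬ (q = 3 ∧ n = 4))
    (h26 : ¬ (q = 2 ∧ n = 6)) :
    ∃ r : ℕ, r.Prime ∧ r ∣ q ^ n - 1 ∧ (∀ i : ℕ, 1 ≤ i → i < n → ¬ r ∣ q ^ i - 1) ∧
      (n + 1 < r ∨ r ^ 2 ∣ q ^ n - 1 ∨ q = 2 ∨ ¬ ∃ m : ℕ, r = 2 ^ m + 1) := by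
  by_cases hq2 : q = 2
  · subst hq2
    obtain ⟨r, hr, hdvd, hprim⟩ := Cfsg.Agent.S2904.result 2 n (by norm_num) (by omega)
      (fun h => h26 ⟨rfl, h.2⟩) (fun h => by omega)
    exact ⟨r, hr, hdvd, fun i h1 h2 => hprim i (by omega) h2, Or.inr (Or.inr (Or.inl rfl))⟩
  by_cases h36 : q = 3 ∧ n = 6
  · obtain ⟨rfl, rfl⟩ := h36
    refine ⟨7, by norm_num, by norm_num, ?_, Or.inr (Or.inr (Or.inr seven_ne_two_pow_add_one))⟩
    intro i h1 h2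
    interval_cases i <;> norm_num
  by_cases h56 : q = 5 ∧ n = 6
  · obtain ⟨rfl, rfl⟩ := h56
    refine ⟨7, by norm_num, by norm_num, ?_, Or.inr (Or.inr (Or.inr seven_ne_two_pow_add_one))⟩
    intro i h1 h2
    interval_cases i <;> norm_num
  obtain ⟨p, hp, hdvd, hprim, hbig⟩ := Cfsg.Agent.S3430.result q n hq.two_le (by omega)
    (fun h => by omega) (fun h => hq2 h.1)
    (fun h => by
      rcases h with ⟨h3, h4 | h6⟩
      · exact h34 ⟨h3, h4⟩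
      · exact h36 ⟨h3, h6⟩)
    (fun h => h56 h)
  refine ⟨p, hp, hdvd, hprim, ?_⟩
  rcases hbig with h | h
  · exact Or.inl h
  · exact Or.inr (Or.inl h)

end Cfsg.Agent.Lib.Helper76.HuppertZS
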