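/-
helper76: PROJECT ASCHU (helper20, S5663), module [GRAM]: a Gram matrix `G` on `F^d ⊗ F^e` that is semi-invariant under
`a ⊗ 1`, `a` in an absolutely irreducible set of invertible matrices, is a Kronecker product `G₁ ⊗ G₂`.
-/
import Mathlib
import Cfsg.Prelude.Def_GeometricClasses
import Cfsg.Agent.Lib.Helper99.AschDefs
import Cfsg.Agent.Lib.Helper20.AschU.Basic
import Cfsg.Agent.Lib.Helper5.UnitaryField
import Cfsg.Agent.Lib.Helper76.AschBin

set_option autoImplicit false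
set_option linter.unusedSectionVars false

namespace Cfsg.Agent.Lib.Helper76.AschUGram

open Cfsg Cfsg.Geo Cfsg.Agent.Lib.Helper76.AschBin
open scoped Matrix Kronecker

section line

variable {F : Type*} [Field F] {d : ℕ}

/-- a non-zero solution `X` of `aᵀ X s(a) = c(a) X` (`a ∈ W` irreducible, `s(a)` invertible) is invertible -/
theorem isUnit_of_semiinvariant (W : Set (Matrix (Fin d) (Fin d) F)) (hW : ActsIrreducibly W)
    (s : Matrix (Fin d) (Fin d) F → Matrix (Fin d) (Fin d) F) (hs : ∀ a ∈ W, IsUnit (s a))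
    (c : Matrix (Fin d) (Fin d) F → F) (X : Matrix (Fin d) (Fin d) F)
    (hX : ∀ a ∈ W, aᵀ * X * s a = c a • X) (hX0 : X ≠ 0) : IsUnit X := by
  -- the left kernel of `X`
  let K : Submodule F (Fin d → F) := LinearMap.ker (Matrix.vecMulLinear X)
  have hK : ∀ u, u ∈ K ↔ Matrix.vecMul u X = 0 := fun u => by
    show Matrix.vecMulLinear X u = 0 ↔ _
    rw [Matrix.vecMulLinear_apply]
  have hinv : ∀ a ∈ W, K.map (Matrix.toLin' a) ≤ K := by
    intro a ha
    rintro _ ⟨u, hu', rfl⟩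
    have hu : Matrix.vecMul u X = 0 := (hK u).mp hu'
    rw [hK]
    rw [Matrix.toLin'_apply, ← Matrix.vecMul_transpose, Matrix.vecMul_vecMul]
    have h1 : Matrix.vecMul (Matrix.vecMul u (aᵀ * X)) (s a) = 0 := by
      rw [Matrix.vecMul_vecMul, hX a ha, Matrix.vecMul_smul, hu, smul_zero]
    obtain ⟨t, ht⟩ := (hs a ha).exists_right_inv
    have h2 := congrArg (fun w => Matrix.vecMul w t) h1
    simp only [Matrix.vecMul_vecMul, Matrix.zero_vecMul] at h2
    rw [mul_assoc, mul_assoc, ht, mul_one] at h2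
    exact h2
  rcases hW K hinv with hbot | htop
  · rw [← Matrix.vecMul_injective_iff_isUnit]
    intro u v huv
    have huv' : Matrix.vecMul u X = Matrix.vecMul v X := huv
    have : u - v ∈ K := by
      rw [hK, Matrix.sub_vecMul, huv', sub_self]
    rw [hbot, Submodule.mem_bot, sub_eq_zero] at this
    exact this
  · exfalso
    apply hX0
    ext i j
    have : Pi.single i (1 : F) ∈ K := by rw [htop]; trivial
    rw [hK] at this
    have h2 := congrFun this j
    simpa [Matrix.single_one_vecMul] using h2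

/-- two solutions of `aᵀ X s(a) = c(a) X` are proportional -/
theorem smul_of_semiinvariant (W : Set (Matrix (Fin d) (Fin d) F)) (hW : ActsAbsolutelyIrreducibly W)
    (s : Matrix (Fin d) (Fin d) F → Matrix (Fin d) (Fin d) F) (hs : ∀ a ∈ W, IsUnit (s a))
    (c : Matrix (Fin d) (Fin d) F → F) (X X' : Matrix (Fin d) (Fin d) F)
    (hX : ∀ a ∈ W, aᵀ * X * s a = c a • X) (hX' : ∀ a ∈ W, aᵀ * X' * s a = c a • X')
    (hX0 : X ≠ 0) : ∃ t : F, X' = t • X := by
  have hu : IsUnit X := isUnit_of_semiinvariant W hW.1 s hs c X hX hX0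
  obtain ⟨Y, hXY⟩ := hu.exists_right_inv
  have hYX : Y * X = 1 := mul_eq_one_comm.mp hXY
  have hP : X' = (X' * Y) * X := by rw [mul_assoc, hYX, mul_one]
  have hcomm : ∀ a ∈ W, (X' * Y)ᵀ * a = a * (X' * Y)ᵀ := by
    intro a ha
    have h1 : aᵀ * (X' * Y) * (X * s a) = (X' * Y) * aᵀ * (X * s a) := by
      calc aᵀ * (X' * Y) * (X * s a) = aᵀ * ((X' * Y) * X) * s a := by simp only [mul_assoc]
        _ = aᵀ * X' * s a := by rw [← hP]
        _ = c a • X' := hX' a ha
        _ = (X' * Y) * (c a • X) := by rw [Matrix.mul_smul, ← hP]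
        _ = (X' * Y) * (aᵀ * X * s a) := by rw [hX a ha]
        _ = (X' * Y) * aᵀ * (X * s a) := by simp only [mul_assoc]
    have hunit : IsUnit (X * s a) := hu.mul (hs a ha)
    obtain ⟨Z, hZ⟩ := hunit.exists_right_inv
    have h2 : aᵀ * (X' * Y) = (X' * Y) * aᵀ := by
      calc aᵀ * (X' * Y) = aᵀ * (X' * Y) * ((X * s a) * Z) := by rw [hZ, mul_one]
        _ = (aᵀ * (X' * Y) * (X * s a)) * Z := by rw [← mul_assoc (aᵀ * (X' * Y))]
        _ = ((X' * Y) * aᵀ * (X * s a)) * Z := by rw [h1]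
        _ = (X' * Y) * aᵀ * ((X * s a) * Z) := by rw [mul_assoc ((X' * Y) * aᵀ)]
        _ = (X' * Y) * aᵀ := by rw [hZ, mul_one]
    have h3 := congrArg Matrix.transpose h2
    rw [Matrix.transpose_mul, Matrix.transpose_mul (X' * Y), Matrix.transpose_transpose] at h3
    exact h3
  obtain ⟨t, ht⟩ := hW.2 _ hcomm
  refine ⟨t, ?_⟩
  have h4 : X' * Y = t • (1 : Matrix (Fin d) (Fin d) F) := by
    have := congrArg Matrix.transpose ht
    rwa [Matrix.transpose_transpose, Matrix.transpose_smul, Matrix.transpose_one] at this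
  rw [hP, h4, Matrix.smul_mul, one_mul]

end line

section main

variable {F : Type*} [Field F] [Fintype F] {q : ℕ} {d e : ℕ}

theorem transpose_kron_one (a : Matrix (Fin d) (Fin d) F) :
    (a ⊗ₖ (1 : Matrix (Fin e) (Fin e) F))ᵀ = aᵀ ⊗ₖ (1 : Matrix (Fin e) (Fin e) F) := by
  ext ⟨i, k⟩ ⟨j, l⟩
  simp only [Matrix.transpose_apply, Matrix.kroneckerMap_apply, Matrix.one_apply]
  by_cases hkl : k = l
  · simp [hkl]
  · have hlk : ¬ l = k := fun h => hkl h.symm
    simp [hkl, hlk]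

theorem map_kron_one (hq : q ≠ 0) (a : Matrix (Fin d) (Fin d) F) :
    (a ⊗ₖ (1 : Matrix (Fin e) (Fin e) F)).map (fun x => x ^ q) =
      (a.map (fun x => x ^ q)) ⊗ₖ (1 : Matrix (Fin e) (Fin e) F) := by
  ext ⟨i, k⟩ ⟨j, l⟩
  simp only [Matrix.map_apply, Matrix.kroneckerMap_apply, Matrix.one_apply]
  by_cases hkl : k = l
  · simp [hkl]
  · simp [hkl, hq]

/-- blocks of `(a' ⊗ 1) * G * (a'' ⊗ 1)` -/
theorem blk_kron_mul_kron (a' a'' : Matrix (Fin d) (Fin d) F)
    (G : Matrix (Fin d × Fin e) (Fin d × Fin e) F) (k l : Fin e) :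
    blk ((a' ⊗ₖ (1 : Matrix (Fin e) (Fin e) F)) * G * (a'' ⊗ₖ (1 : Matrix (Fin e) (Fin e) F))) k l =
      a' * blk G k l * a'' := by
  ext i j
  show ((a' ⊗ₖ (1 : Matrix (Fin e) (Fin e) F)) * G * (a'' ⊗ₖ (1 : Matrix (Fin e) (Fin e) F)))
    (i, k) (j, l) = _
  rw [mul_kron_one_apply]
  have h1 : blk ((a' ⊗ₖ (1 : Matrix (Fin e) (Fin e) F)) * G) k l = a' * blk G k l := by
    ext i' j'
    exact kron_one_mul_apply G a' i' j' k l
  rw [h1]

theorem blk_smul (c : F) (G : Matrix (Fin d × Fin e) (Fin d × Fin e) F) (k l : Fin e) :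
    blk (c • G) k l = c • blk G k l := rfl

/-- general form of ASCHU-[GRAM] (no finiteness, any "twist" `s` with `s a` invertible) -/
theorem kron_of_semiinvariant_gen {K : Type*} [Field K] (W : Set (Matrix (Fin d) (Fin d) K))
    (hW : ActsAbsolutelyIrreducibly W)
    (s : Matrix (Fin d) (Fin d) K → Matrix (Fin d) (Fin d) K) (hs : ∀ a ∈ W, IsUnit (s a))
    (c : Matrix (Fin d) (Fin d) K → K) (X : Fin e → Fin e → Matrix (Fin d) (Fin d) K)
    (hX : ∀ k l, ∀ a ∈ W, aᵀ * X k l * s a = c a • X k l) :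
    ∃ (G₁ : Matrix (Fin d) (Fin d) K) (C : Matrix (Fin e) (Fin e) K), ∀ k l, X k l = C k l • G₁ := by
  by_cases hall : ∀ k l, X k l = 0
  · exact ⟨0, 0, fun k l => by rw [hall k l, smul_zero]⟩
  · push Not at hall
    obtain ⟨k₀, l₀, h0⟩ := hall
    have hex : ∀ k l, ∃ t : K, X k l = t • X k₀ l₀ := fun k l =>
      smul_of_semiinvariant W hW s hs c (X k₀ l₀) (X k l) (hX k₀ l₀) (hX k l) h0
    choose C hC using hex
    exact ⟨X k₀ l₀, Matrix.of C, hC⟩

end main

end Cfsg.Agent.Lib.Helper76.AschUGram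

namespace Cfsg.Agent.Lib.Helper20.AschU

open Cfsg Cfsg.Geo Cfsg.Agent.Lib.Helper99.Asch
open scoped MatrixGroups Matrix Kronecker

variable {n : ℕ} {F : Type*} [Field F] [Fintype F] {q : ℕ}

/-- ASCHU-[GRAM] (sheet statement) -/
theorem kronecker_of_semiinvariant (hF : Fintype.card F = q ^ 2) {d e : ℕ}
    (W : Set (Matrix (Fin d) (Fin d) F)) (hW : ActsAbsolutelyIrreducibly W) (hWu : ∀ a ∈ W, IsUnit a.det)
    (G : Matrix (Fin d × Fin e) (Fin d × Fin e) F)
    (hG : ∀ a ∈ W, ∃ c : F, (a ⊗ₖ (1 : Matrix (Fin e) (Fin e) F))ᵀ * G *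
        (a ⊗ₖ (1 : Matrix (Fin e) (Fin e) F)).map (fun x => x ^ q) = c • G) :
    ∃ (G₁ : Matrix (Fin d) (Fin d) F) (G₂ : Matrix (Fin e) (Fin e) F), G = G₁ ⊗ₖ G₂ := by
  classical
  have hq : q ≠ 0 := by
    have := Cfsg.Agent.Lib.Helper5.two_le_of_card_eq_sq hF
    omega
  -- the twist `a ↦ a^(q)` has invertible values on `W`
  have hs : ∀ a ∈ W, IsUnit (a.map (fun x => x ^ q)) := by
    intro a ha
    rw [Matrix.isUnit_iff_isUnit_det]
    have h1 : (a.map (fun x => x ^ q)).det = (Cfsg.Agent.Lib.Helper5.conjHom hF) a.det := by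
      rw [RingHom.map_det]
      rfl
    rw [h1]
    exact (hWu a ha).map _
  -- the constants
  let c : Matrix (Fin d) (Fin d) F → F := fun a => if ha : a ∈ W then (hG a ha).choose else 0
  have hc : ∀ a (ha : a ∈ W), (a ⊗ₖ (1 : Matrix (Fin e) (Fin e) F))ᵀ * G *
      (a ⊗ₖ (1 : Matrix (Fin e) (Fin e) F)).map (fun x => x ^ q) = c a • G := by
    intro a ha
    have := (hG a ha).choose_spec
    simp only [c, dif_pos ha]
    exact this
  have hX : ∀ k l, ∀ a ∈ W, aᵀ * Cfsg.Agent.Lib.Helper76.AschBin.blk G k l * a.map (fun x => x ^ q) =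
      c a • Cfsg.Agent.Lib.Helper76.AschBin.blk G k l := by
    intro k l a ha
    have h1 := congrArg (fun M => Cfsg.Agent.Lib.Helper76.AschBin.blk M k l) (hc a ha)
    simp only at h1
    rw [Cfsg.Agent.Lib.Helper76.AschUGram.transpose_kron_one,
      Cfsg.Agent.Lib.Helper76.AschUGram.map_kron_one hq,
      Cfsg.Agent.Lib.Helper76.AschUGram.blk_kron_mul_kron,
      Cfsg.Agent.Lib.Helper76.AschUGram.blk_smul] at h1
    exact h1
  obtain ⟨G₁, C, hGC⟩ := Cfsg.Agent.Lib.Helper76.AschUGram.kron_of_semiinvariant_gen W hW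
    (fun a => a.map (fun x => x ^ q)) hs c (fun k l => Cfsg.Agent.Lib.Helper76.AschBin.blk G k l) hX
  refine ⟨G₁, C, ?_⟩
  ext ⟨i, k⟩ ⟨j, l⟩
  have h2 := congrFun (congrFun (hGC k l) i) j
  rw [Matrix.kroneckerMap_apply]
  simp only [Cfsg.Agent.Lib.Helper76.AschBin.blk, Matrix.smul_apply, smul_eq_mul] at h2
  rw [h2, mul_comm]

end Cfsg.Agent.Lib.Helper20.AschU
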