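/-
helper76: PROJECT ASCHU (helper20, S5663), module [U2PAIR]: a fixed-point-free involution `s` on a transitive system of
orthogonal idempotents gives the paired system `ε i + ε (s i)`.
-/
import Mathlib
import Cfsg.Prelude.Def_GeometricClasses
import Cfsg.Agent.Lib.Helper99.AschDefs
import Cfsg.Agent.Lib.Helper20.AschU.Basic

set_option autoImplicit false

namespace Cfsg.Agent.Lib.Helper76.AschUU2Pair

open scoped MatrixGroups Matrix

variable {n : ℕ} {F : Type*} [Field F]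

theorem conj_cancel (h : GL (Fin n) F) (M M' : Matrix (Fin n) (Fin n) F)
    (hMM : (h : Matrix (Fin n) (Fin n) F) * M * ((h⁻¹ : GL (Fin n) F) : Matrix (Fin n) (Fin n) F) =
      (h : Matrix (Fin n) (Fin n) F) * M' * ((h⁻¹ : GL (Fin n) F) : Matrix (Fin n) (Fin n) F)) :
    M = M' := by
  have h1 : ((h⁻¹ : GL (Fin n) F) : Matrix (Fin n) (Fin n) F) * (h : Matrix (Fin n) (Fin n) F) = 1 :=
    Units.inv_mul h
  have key : ∀ X : Matrix (Fin n) (Fin n) F,
      ((h⁻¹ : GL (Fin n) F) : Matrix (Fin n) (Fin n) F) *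
        ((h : Matrix (Fin n) (Fin n) F) * X * ((h⁻¹ : GL (Fin n) F) : Matrix (Fin n) (Fin n) F)) *
        (h : Matrix (Fin n) (Fin n) F) = X := by
    intro X
    calc _ = (((h⁻¹ : GL (Fin n) F) : Matrix (Fin n) (Fin n) F) * (h : Matrix (Fin n) (Fin n) F)) * X *
          (((h⁻¹ : GL (Fin n) F) : Matrix (Fin n) (Fin n) F) * (h : Matrix (Fin n) (Fin n) F)) := by
            simp only [mul_assoc]
      _ = X := by rw [h1, one_mul, mul_one]
  rw [← key M, hMM, key M']

end Cfsg.Agent.Lib.Helper76.AschUU2Pair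

namespace Cfsg.Agent.Lib.Helper20.AschU

open Cfsg Cfsg.Geo Cfsg.Agent.Lib.Helper99.Asch
open scoped MatrixGroups Matrix Kronecker

variable {n : ℕ} {F : Type*} [Field F] [Fintype F] {q : ℕ}

/-- ASCHU-[U2PAIR] (sheet statement) -/
theorem exists_paired_idempotents (H : Subgroup (GL (Fin n) F)) (t : ℕ) (ht : 2 < t)
    (ε : Fin t → Matrix (Fin n) (Fin n) F)
    (hne : ∀ i, ε i ≠ 0) (hid : ∀ i, ε i * ε i = ε i) (horth : ∀ i j, i ≠ j → ε i * ε j = 0)
    (hsum : ∑ i, ε i = 1) (s : Fin t → Fin t) (hs : ∀ i, s (s i) = i) (hsne : ∀ i, s i ≠ i)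
    (hperm : ∀ h ∈ H, ∃ π : Equiv.Perm (Fin t), (∀ i,
      (h : Matrix (Fin n) (Fin n) F) * ε i * ((h⁻¹ : GL (Fin n) F) : Matrix (Fin n) (Fin n) F) = ε (π i)) ∧
      ∀ i, π (s i) = s (π i))
    (htrans : ∀ i j, ∃ h ∈ H,
      (h : Matrix (Fin n) (Fin n) F) * ε i * ((h⁻¹ : GL (Fin n) F) : Matrix (Fin n) (Fin n) F) = ε j) :
    ∃ (t' : ℕ) (E : Fin t' → Matrix (Fin n) (Fin n) F), 2 ≤ t' ∧ (∀ k, ∃ i, E k = ε i + ε (s i)) ∧
      (∀ k, E k ≠ 0) ∧ (∀ k, E k * E k = E k) ∧ (∀ k l, k ≠ l → E k * E l = 0) ∧ ∑ k, E k = 1 ∧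
      (∀ h ∈ H, ∃ π : Equiv.Perm (Fin t'), ∀ k,
        (h : Matrix (Fin n) (Fin n) F) * E k * ((h⁻¹ : GL (Fin n) F) : Matrix (Fin n) (Fin n) F) = E (π k)) ∧
      (∀ k l, ∃ h ∈ H,
        (h : Matrix (Fin n) (Fin n) F) * E k * ((h⁻¹ : GL (Fin n) F) : Matrix (Fin n) (Fin n) F) = E l) := by
  classical
  -- the paired idempotents
  let e : Fin t → Matrix (Fin n) (Fin n) F := fun i => ε i + ε (s i)
  have he : ∀ i, e i = ε i + ε (s i) := fun _ => rfl
  have hinj : ∀ a b, ε a = ε b → a = b := by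
    intro a b hab
    by_contra hne'
    have := horth a b hne'
    rw [← hab, hid a] at this
    exact hne a this
  have he_s : ∀ i, e (s i) = e i := by
    intro i
    rw [he, he, hs i, add_comm]
  have he_id : ∀ i, e i * e i = e i := by
    intro i
    rw [he, mul_add, add_mul, add_mul, hid, hid, horth i (s i) (hsne i).symm, horth (s i) i (hsne i),
      add_zero, zero_add]
  have he_ε : ∀ i, ε i * e i = ε i := by
    intro i
    rw [he, mul_add, hid, horth i (s i) (hsne i).symm, add_zero]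
  have he_ne : ∀ i, e i ≠ 0 := fun i h0 => hne i (by rw [← he_ε i, h0, mul_zero])
  have hε_orth : ∀ i j, j ≠ i → j ≠ s i → ε i * e j = 0 := by
    intro i j h1 h2
    have h3 : i ≠ s j := by
      intro h
      apply h2
      rw [h, hs]
    rw [he, mul_add, horth i j (Ne.symm h1), horth i (s j) h3, add_zero]
  have he_orth : ∀ i j, j ≠ i → j ≠ s i → e i * e j = 0 := by
    intro i j h1 h2
    have h3 : e i * e j = ε i * e j + ε (s i) * e j := by rw [he i, add_mul]
    rw [h3, hε_orth i j h1 h2, hε_orth (s i) j h2 (by rw [hs]; exact h1), add_zero]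
  have he_cases : ∀ i j, e j = e i ∨ e i * e j = 0 := by
    intro i j
    by_cases h1 : j = i
    · left; rw [h1]
    · by_cases h2 : j = s i
      · left; rw [h2, he_s]
      · right; exact he_orth i j h1 h2
  have hε_cases : ∀ i j, e j = e i ∨ ε i * e j = 0 := by
    intro i j
    by_cases h1 : j = i
    · left; rw [h1]
    · by_cases h2 : j = s i
      · left; rw [h2, he_s]
      · right; exact hε_orth i j h1 h2
  -- the set of paired idempotents and its enumeration
  let S : Finset (Matrix (Fin n) (Fin n) F) := Finset.univ.image e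
  have hS : ∀ M, M ∈ S ↔ ∃ i, e i = M := by
    intro M
    simp [S]
  let E : Fin S.card → Matrix (Fin n) (Fin n) F := fun k => ((S.equivFin.symm k : S) : Matrix _ _ F)
  have hE : ∀ k, ∃ i, E k = e i := by
    intro k
    obtain ⟨i, hi⟩ := (hS _).mp (S.equivFin.symm k).2
    exact ⟨i, hi.symm⟩
  have hE_inj : ∀ k l, E k = E l → k = l := by
    intro k l hkl
    have : S.equivFin.symm k = S.equivFin.symm l := Subtype.ext hkl
    exact S.equivFin.symm.injective this
  have hE_surj : ∀ i, ∃ k, E k = e i := by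
    intro i
    have hm : e i ∈ S := (hS _).mpr ⟨i, rfl⟩
    refine ⟨S.equivFin ⟨e i, hm⟩, ?_⟩
    show ((S.equivFin.symm (S.equivFin ⟨e i, hm⟩) : S) : Matrix _ _ F) = e i
    rw [Equiv.symm_apply_apply]
  have hconj : ∀ h ∈ H, ∀ k, ∃ l,
      (h : Matrix (Fin n) (Fin n) F) * E k * ((h⁻¹ : GL (Fin n) F) : Matrix (Fin n) (Fin n) F) = E l := by
    intro h hh k
    obtain ⟨π, hπ1, hπ2⟩ := hperm h hh
    obtain ⟨i, hi⟩ := hE k
    obtain ⟨l, hl⟩ := hE_surj (π i)
    refine ⟨l, ?_⟩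
    rw [hl, hi, he, he, mul_add, add_mul, hπ1, hπ1, hπ2]
  refine ⟨S.card, E, ?_, hE, ?_, ?_, ?_, ?_, ?_, ?_⟩
  · -- two different pairs
    have h3 : ∃ j : Fin t, j ≠ ⟨0, by omega⟩ ∧ j ≠ s ⟨0, by omega⟩ := by
      by_cases h1 : (⟨1, by omega⟩ : Fin t) = s ⟨0, by omega⟩
      · refine ⟨⟨2, by omega⟩, ?_, ?_⟩
        · intro h; simp [Fin.ext_iff] at h
        · rw [← h1]; intro h; simp [Fin.ext_iff] at h
      · refine ⟨⟨1, by omega⟩, ?_, h1⟩
        intro h; simp [Fin.ext_iff] at h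
    obtain ⟨j, hj1, hj2⟩ := h3
    have hne' : e ⟨0, by omega⟩ ≠ e j := by
      intro heq
      have := he_orth ⟨0, by omega⟩ j hj1 hj2
      rw [← heq, he_id] at this
      exact he_ne _ this
    have : 1 < S.card := Finset.one_lt_card.mpr
      ⟨e ⟨0, by omega⟩, (hS _).mpr ⟨_, rfl⟩, e j, (hS _).mpr ⟨_, rfl⟩, hne'⟩
    omega
  · intro k
    obtain ⟨i, hi⟩ := hE k
    rw [hi]; exact he_ne i
  · intro k
    obtain ⟨i, hi⟩ := hE k
    rw [hi]; exact he_id i
  · intro k l hkl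
    obtain ⟨i, hi⟩ := hE k
    obtain ⟨j, hj⟩ := hE l
    rcases he_cases i j with h1 | h1
    · exfalso
      apply hkl
      apply hE_inj
      rw [hi, hj, h1]
    · rw [hi, hj]; exact h1
  · -- the sum is `1`
    have hsumS : ∑ k, E k = ∑ M ∈ S, M := by
      rw [← Finset.sum_coe_sort S (fun M => M)]
      exact Equiv.sum_comp S.equivFin.symm (fun x : S => (x : Matrix (Fin n) (Fin n) F))
    have hεT : ∀ i, ε i * ∑ M ∈ S, M = ε i := by
      intro i
      rw [Finset.mul_sum, Finset.sum_eq_single_of_mem (e i) ((hS _).mpr ⟨i, rfl⟩)]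
      · exact he_ε i
      · intro M hM hMne
        obtain ⟨j, rfl⟩ := (hS _).mp hM
        rcases hε_cases i j with h1 | h1
        · exact absurd h1 hMne
        · exact h1
    rw [hsumS]
    calc ∑ M ∈ S, M = (∑ i, ε i) * ∑ M ∈ S, M := by rw [hsum, one_mul]
      _ = ∑ i, ε i * ∑ M ∈ S, M := by rw [Finset.sum_mul]
      _ = ∑ i, ε i := Finset.sum_congr rfl fun i _ => hεT i
      _ = 1 := hsum
  · intro h hh
    choose f hf using hconj h hh
    have hfinj : Function.Injective f := by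
      intro k k' hkk
      apply hE_inj
      apply Cfsg.Agent.Lib.Helper76.AschUU2Pair.conj_cancel h
      rw [hf k, hf k', hkk]
    exact ⟨Equiv.ofBijective f (Finite.injective_iff_bijective.mp hfinj), fun k => hf k⟩
  · intro k l
    obtain ⟨i, hi⟩ := hE k
    obtain ⟨j, hj⟩ := hE l
    obtain ⟨h, hh, hij⟩ := htrans i j
    obtain ⟨π, hπ1, hπ2⟩ := hperm h hh
    have hπi : π i = j := hinj _ _ ((hπ1 i).symm.trans hij)
    refine ⟨h, hh, ?_⟩
    rw [hi, hj, he, he, mul_add, add_mul, hπ1, hπ1, hπ2, hπi]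

end Cfsg.Agent.Lib.Helper20.AschU
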