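/-
helper76: PROJECT ASCHU (helper20, S5663), module [IDEMDEC]: orthogonal idempotents with sum 1 give a direct-sum
decomposition into their ranges.
-/
import Mathlib
import Cfsg.Prelude.Def_GeometricClasses
import Cfsg.Agent.Lib.Helper99.AschDefs
import Cfsg.Agent.Lib.Helper20.AschU.Basic

set_option autoImplicit false

namespace Cfsg.Agent.Lib.Helper20.AschU

open Cfsg Cfsg.Geo Cfsg.Agent.Lib.Helper99.Asch
open scoped MatrixGroups Matrix Kronecker

variable {n : ℕ}

/-- ASCHU-[IDEMDEC] (sheet statement) -/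
theorem iSupIndep_range_of_idempotents {K : Type*} [Field K] {t : ℕ} (E : Fin t → Matrix (Fin n) (Fin n) K)
    (hid : ∀ i, E i * E i = E i) (horth : ∀ i j, i ≠ j → E i * E j = 0) (hsum : ∑ i, E i = 1) :
    iSupIndep (fun i => LinearMap.range (Matrix.toLin' (E i))) ∧
    (⨆ i, LinearMap.range (Matrix.toLin' (E i))) = ⊤ := by
  constructor
  · rw [iSupIndep_def]
    intro i
    rw [Submodule.disjoint_def]
    intro x hx1 hx2
    have hfix : Matrix.toLin' (E i) x = x := by
      obtain ⟨w, rfl⟩ := hx1
      rw [← LinearMap.comp_apply, ← Matrix.toLin'_mul, hid i]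
    have hker : (⨆ j, ⨆ (_ : j ≠ i), LinearMap.range (Matrix.toLin' (E j))) ≤
        LinearMap.ker (Matrix.toLin' (E i)) := by
      apply iSup_le
      intro j
      apply iSup_le
      intro hji
      rintro _ ⟨w, rfl⟩
      rw [LinearMap.mem_ker, ← LinearMap.comp_apply, ← Matrix.toLin'_mul, horth i j (Ne.symm hji),
        map_zero, LinearMap.zero_apply]
    have h0 := hker hx2
    rw [LinearMap.mem_ker, hfix] at h0
    exact h0
  · rw [eq_top_iff]
    intro v _
    have hv : v = ∑ i, Matrix.toLin' (E i) v := by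
      rw [← LinearMap.sum_apply, ← map_sum, hsum, Matrix.toLin'_one, LinearMap.id_apply]
    rw [hv]
    exact Submodule.sum_mem _ fun i _ =>
      Submodule.mem_iSup_of_mem i (LinearMap.mem_range_self _ v)

end Cfsg.Agent.Lib.Helper20.AschU
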