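/-
helper76: PROJECT ASCHU (helper20, S5663): common part of [U2SA] and [U2TS]: a system of orthogonal idempotents with sum 1,
permuted transitively by `H`, gives an `m`-decomposition into the ranges, stabilised by `H`.
-/
import Mathlib
import Cfsg.Prelude.Def_GeometricClasses
import Cfsg.Agent.Lib.Helper99.AschDefs
import Cfsg.Agent.Lib.Helper20.AschU.Basic
import Cfsg.Agent.Lib.Helper20.AschU.Ctr
import Cfsg.Agent.Lib.Helper76.AschUIdemDec

set_option autoImplicit false
set_option linter.unusedSectionVars false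

namespace Cfsg.Agent.Lib.Helper76.AschUIdemAux

open Cfsg Cfsg.Geo Cfsg.Agent.Lib.Helper99.Asch Cfsg.Agent.Lib.Helper20.AschU
open scoped MatrixGroups Matrix

variable {n : ℕ} {F : Type*} [Field F]

/-- the range of a matrix, as a subspace -/
abbrev rg (M : Matrix (Fin n) (Fin n) F) : Submodule F (Fin n → F) := LinearMap.range (Matrix.toLin' M)

theorem mem_rg_of_idem {M : Matrix (Fin n) (Fin n) F} (hM : M * M = M) (v : Fin n → F) :
    v ∈ rg M ↔ M *ᵥ v = v := by
  constructor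
  · rintro ⟨w, rfl⟩
    rw [Matrix.toLin'_apply, Matrix.mulVec_mulVec, hM]
  · intro h
    exact ⟨v, by rw [Matrix.toLin'_apply, h]⟩

theorem mulVec_mem_rg (M : Matrix (Fin n) (Fin n) F) (v : Fin n → F) : M *ᵥ v ∈ rg M :=
  ⟨v, Matrix.toLin'_apply _ _⟩

/-- conjugation moves ranges -/
theorem map_rg_conj (h : GL (Fin n) F) (M M' : Matrix (Fin n) (Fin n) F)
    (hconj : (h : Matrix (Fin n) (Fin n) F) * M * ((h⁻¹ : GL (Fin n) F) : Matrix (Fin n) (Fin n) F) = M') :
    (rg M).map (Matrix.toLin' (h : Matrix (Fin n) (Fin n) F)) = rg M' := by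
  have h1 : ((h⁻¹ : GL (Fin n) F) : Matrix (Fin n) (Fin n) F) * (h : Matrix (Fin n) (Fin n) F) = 1 :=
    Units.inv_mul h
  have h2 : M' * (h : Matrix (Fin n) (Fin n) F) = (h : Matrix (Fin n) (Fin n) F) * M := by
    rw [← hconj, mul_assoc, h1, mul_one]
  ext v
  constructor
  · rintro ⟨_, ⟨w, rfl⟩, rfl⟩
    refine ⟨(h : Matrix (Fin n) (Fin n) F) *ᵥ w, ?_⟩
    rw [Matrix.toLin'_apply, Matrix.toLin'_apply, Matrix.toLin'_apply, Matrix.mulVec_mulVec, h2,
      Matrix.mulVec_mulVec]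
  · rintro ⟨w, rfl⟩
    refine ⟨M *ᵥ (((h⁻¹ : GL (Fin n) F) : Matrix (Fin n) (Fin n) F) *ᵥ w), mulVec_mem_rg _ _, ?_⟩
    rw [Matrix.toLin'_apply, Matrix.toLin'_apply, Matrix.mulVec_mulVec, Matrix.mulVec_mulVec, ← hconj]

theorem finrank_map_gl (h : GL (Fin n) F) (W : Submodule F (Fin n → F)) :
    Module.finrank F (W.map (Matrix.toLin' (h : Matrix (Fin n) (Fin n) F))) = Module.finrank F W := by
  have hinj : Function.Injective (Matrix.toLin' (h : Matrix (Fin n) (Fin n) F)) := by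
    have hcomp : (Matrix.toLin' ((h⁻¹ : GL (Fin n) F) : Matrix (Fin n) (Fin n) F)).comp
        (Matrix.toLin' (h : Matrix (Fin n) (Fin n) F)) = LinearMap.id := by
      rw [← Matrix.toLin'_mul, Units.inv_mul, Matrix.toLin'_one]
    intro u v huv
    have := congrArg (Matrix.toLin' ((h⁻¹ : GL (Fin n) F) : Matrix (Fin n) (Fin n) F)) huv
    rw [← LinearMap.comp_apply, ← LinearMap.comp_apply, hcomp] at this
    exact this
  exact (LinearEquiv.finrank_eq (Submodule.equivMapOfInjective _ hinj W)).symm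

/-- the decomposition into the ranges of a transitive system of orthogonal idempotents -/
theorem isMDecomposition_rg (H : Subgroup (GL (Fin n) F)) (t : ℕ) (ht : 2 ≤ t)
    (E : Fin t → Matrix (Fin n) (Fin n) F)
    (hne : ∀ i, E i ≠ 0) (hid : ∀ i, E i * E i = E i) (horth : ∀ i j, i ≠ j → E i * E j = 0)
    (hsum : ∑ i, E i = 1)
    (htrans : ∀ i j, ∃ h ∈ H,
      (h : Matrix (Fin n) (Fin n) F) * E i * ((h⁻¹ : GL (Fin n) F) : Matrix (Fin n) (Fin n) F) = E j) :
    IsMDecomposition (Module.finrank F (rg (E ⟨0, by omega⟩))) (fun i => rg (E i)) := by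
  obtain ⟨hind, htop⟩ := iSupIndep_range_of_idempotents E hid horth hsum
  refine ⟨ht, ?_, ?_, hind, htop⟩
  · rw [Module.finrank_pos_iff_exists_ne_zero]
    have : E ⟨0, by omega⟩ ≠ 0 := hne _
    have hex : ∃ v, E ⟨0, by omega⟩ *ᵥ v ≠ 0 := by
      by_contra hcon
      push Not at hcon
      apply this
      apply Matrix.toLin'.injective
      apply LinearMap.ext
      intro v
      rw [Matrix.toLin'_apply, hcon v, map_zero, LinearMap.zero_apply]
    obtain ⟨v, hv⟩ := hex
    exact ⟨⟨_, mulVec_mem_rg _ v⟩, fun h0 => hv (congrArg Subtype.val h0)⟩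
  · intro i
    obtain ⟨h, _, hh⟩ := htrans ⟨0, by omega⟩ i
    show Module.finrank F (rg (E i)) = _
    rw [← map_rg_conj h _ _ hh, finrank_map_gl]

/-- `H` stabilises the decomposition -/
theorem le_decompositionStabilizer_rg (H : Subgroup (GL (Fin n) F)) (t : ℕ)
    (E : Fin t → Matrix (Fin n) (Fin n) F)
    (hperm : ∀ h ∈ H, ∃ π : Equiv.Perm (Fin t), ∀ i,
      (h : Matrix (Fin n) (Fin n) F) * E i * ((h⁻¹ : GL (Fin n) F) : Matrix (Fin n) (Fin n) F) = E (π i)) :
    H ≤ decompositionStabilizer (fun i => rg (E i)) := by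
  intro h hh
  obtain ⟨π, hπ⟩ := hperm h hh
  exact ⟨π, fun i => map_rg_conj h _ _ (hπ i)⟩

theorem hermForm_zero_right' {q : ℕ} (hq : q ≠ 0) (u : Fin n → F) :
    hermForm n F q u 0 = 0 := by
  simp [hermForm, zero_pow hq]

end Cfsg.Agent.Lib.Helper76.AschUIdemAux
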