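/-
helper76: PROJECT ASCHU (helper20, S5663), module [U2SA]: a transitive system of self-adjoint orthogonal idempotents gives
a member of class 2 (non-degenerate decomposition).
-/
import Mathlib
import Cfsg.Prelude.Def_GeometricClasses
import Cfsg.Agent.Lib.Helper99.AschDefs
import Cfsg.Agent.Lib.Helper20.AschU.Basic
import Cfsg.Agent.Lib.Helper20.AschU.Ctr
import Cfsg.Agent.Lib.Helper76.AschUIdemAux

set_option autoImplicit false

namespace Cfsg.Agent.Lib.Helper20.AschU

open Cfsg Cfsg.Geo Cfsg.Agent.Lib.Helper99.Asch Cfsg.Agent.Lib.Helper5 Cfsg.Agent.Lib.Helper76.AschUIdemAux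
open scoped MatrixGroups Matrix Kronecker

variable {n : ℕ} {F : Type*} [Field F] [Fintype F] {q : ℕ}

/-- ASCHU-[U2SA] (sheet statement) -/
theorem ugeo_of_selfadjoint_idempotents (hF : Fintype.card F = q ^ 2) (H : Subgroup (GL (Fin n) F))
    (hH : H ≤ GU n F q) (t : ℕ) (ht : 2 ≤ t) (E : Fin t → Matrix (Fin n) (Fin n) F)
    (hne : ∀ i, E i ≠ 0) (hid : ∀ i, E i * E i = E i) (horth : ∀ i j, i ≠ j → E i * E j = 0)
    (hsum : ∑ i, E i = 1) (hsa : ∀ i, ctr q (E i) = E i)
    (hperm : ∀ h ∈ H, ∃ π : Equiv.Perm (Fin t), ∀ i,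
      (h : Matrix (Fin n) (Fin n) F) * E i * ((h⁻¹ : GL (Fin n) F) : Matrix (Fin n) (Fin n) F) = E (π i))
    (htrans : ∀ i j, ∃ h ∈ H,
      (h : Matrix (Fin n) (Fin n) F) * E i * ((h⁻¹ : GL (Fin n) F) : Matrix (Fin n) (Fin n) F) = E j) :
    UGeo q H := by
  have hdec := isMDecomposition_rg H t ht E hne hid horth hsum htrans
  refine ⟨decompositionStabilizer (fun i => rg (E i)) ⊓ GU n F q, Or.inl (Or.inr (Or.inr (Or.inl
    ⟨t, _, fun i => rg (E i), ⟨hdec, ?_, ?_⟩, rfl⟩))), le_inf (le_decompositionStabilizer_rg H t E hperm) hH⟩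
  · -- non-degenerate on each range
    intro i w hw hw0
    have hEw : E i *ᵥ w = w := (mem_rg_of_idem (hid i) w).mp hw
    constructor
    · have hex : ∃ x, hermForm n F q x w ≠ 0 := by
        by_contra hcon
        push Not at hcon
        exact hw0 (hermForm_eq_zero_right hF w hcon)
      obtain ⟨x, hx⟩ := hex
      refine ⟨E i *ᵥ x, mulVec_mem_rg _ _, ?_⟩
      rw [hermForm_mulVec_left hF, hsa i, hEw]
      exact hx
    · have hex : ∃ x, hermForm n F q w x ≠ 0 := by
        by_contra hcon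
        push Not at hcon
        exact hw0 (hermForm_eq_zero_left hF w hcon)
      obtain ⟨x, hx⟩ := hex
      refine ⟨E i *ᵥ x, mulVec_mem_rg _ _, ?_⟩
      rw [hermForm_mulVec_right hF, hsa i, hEw]
      exact hx
  · -- pairwise orthogonal
    intro i j hij u hu v hv
    have hEu : E i *ᵥ u = u := (mem_rg_of_idem (hid i) u).mp hu
    have hEv : E j *ᵥ v = v := (mem_rg_of_idem (hid j) v).mp hv
    rw [← hEu, ← hEv, hermForm_mulVec_left hF, hsa i, Matrix.mulVec_mulVec, horth i j hij,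
      Matrix.zero_mulVec]
    exact hermForm_zero_right' (q_ne_zero hF) u

end Cfsg.Agent.Lib.Helper20.AschU
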