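/-
helper76: PROJECT ASCHU (helper20, S5663), module [U2TS]: two dual orthogonal idempotents, swapped transitively by `H`,
give a member of class 2 (pair of totally singular subspaces).
-/
import Mathlib
import Cfsg.Prelude.Def_GeometricClasses
import Cfsg.Agent.Lib.Helper99.AschDefs
import Cfsg.Agent.Lib.Helper20.AschU.Basic
import Cfsg.Agent.Lib.Helper20.AschU.Ctr
import Cfsg.Agent.Lib.Helper76.AschUIdemAux
import Cfsg.Agent.Lib.Helper76.AschUU2SA

set_option autoImplicit false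

namespace Cfsg.Agent.Lib.Helper20.AschU

open Cfsg Cfsg.Geo Cfsg.Agent.Lib.Helper99.Asch Cfsg.Agent.Lib.Helper5 Cfsg.Agent.Lib.Helper76.AschUIdemAux
open scoped MatrixGroups Matrix Kronecker

variable {n : ℕ} {F : Type*} [Field F] [Fintype F] {q : ℕ}

/-- ASCHU-[U2TS] (sheet statement) -/
theorem ugeo_of_dual_idempotents (hF : Fintype.card F = q ^ 2) (H : Subgroup (GL (Fin n) F))
    (hH : H ≤ GU n F q) (ε : Fin 2 → Matrix (Fin n) (Fin n) F)
    (hne : ∀ i, ε i ≠ 0) (hid : ∀ i, ε i * ε i = ε i) (horth : ∀ i j, i ≠ j → ε i * ε j = 0)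
    (hsum : ∑ i, ε i = 1) (hdual : ctr q (ε 0) = ε 1)
    (hperm : ∀ h ∈ H, ∃ π : Equiv.Perm (Fin 2), ∀ i,
      (h : Matrix (Fin n) (Fin n) F) * ε i * ((h⁻¹ : GL (Fin n) F) : Matrix (Fin n) (Fin n) F) = ε (π i))
    (htrans : ∀ i j, ∃ h ∈ H,
      (h : Matrix (Fin n) (Fin n) F) * ε i * ((h⁻¹ : GL (Fin n) F) : Matrix (Fin n) (Fin n) F) = ε j) :
    UGeo q H := by
  have hdec := isMDecomposition_rg H 2 le_rfl ε hne hid horth hsum htrans
  have hdual' : ctr q (ε 1) = ε 0 := by rw [← hdual, ctr_ctr hF]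
  have h01 : (0 : Fin 2) ≠ 1 := by decide
  -- dimensions
  have hk : 2 * Module.finrank F (rg (ε ⟨0, by omega⟩)) = n := by
    have h0 : Module.finrank F (rg (ε 0)) = Module.finrank F (rg (ε ⟨0, by omega⟩)) := hdec.finrank_eq 0
    have h1 : Module.finrank F (rg (ε 1)) = Module.finrank F (rg (ε ⟨0, by omega⟩)) := hdec.finrank_eq 1
    have hdisj : Disjoint (rg (ε 0)) (rg (ε 1)) := hdec.indep.pairwiseDisjoint h01
    have hsup : rg (ε 0) ⊔ rg (ε 1) = ⊤ := by
      rw [eq_top_iff, ← hdec.iSup_eq_top]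
      apply iSup_le
      intro i
      fin_cases i
      · exact le_sup_left
      · exact le_sup_right
    have h2 := Submodule.finrank_sup_add_finrank_inf_eq (rg (ε 0)) (rg (ε 1))
    rw [hsup, hdisj.eq_bot, finrank_bot, finrank_top, Module.finrank_fin_fun, h0, h1] at h2
    omega
  refine ⟨decompositionStabilizer (fun i => rg (ε i)) ⊓ GU n F q, Or.inl (Or.inr (Or.inr (Or.inr (Or.inl
    ⟨_, fun i => rg (ε i), hk, hdec, ?_, rfl⟩)))), le_inf (le_decompositionStabilizer_rg H 2 ε hperm) hH⟩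
  intro i u hu v hv
  have hEu : ε i *ᵥ u = u := (mem_rg_of_idem (hid i) u).mp hu
  have hEv : ε i *ᵥ v = v := (mem_rg_of_idem (hid i) v).mp hv
  rw [← hEu, ← hEv, hermForm_mulVec_left hF, Matrix.mulVec_mulVec]
  fin_cases i
  · show hermForm n F q u ((ctr q (ε 0) * ε 0) *ᵥ v) = 0
    rw [hdual, horth 1 0 h01.symm, Matrix.zero_mulVec]
    exact hermForm_zero_right' (q_ne_zero hF) u
  · show hermForm n F q u ((ctr q (ε 1) * ε 1) *ᵥ v) = 0
    rw [hdual', horth 0 1 h01, Matrix.zero_mulVec]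
    exact hermForm_zero_right' (q_ne_zero hF) u

end Cfsg.Agent.Lib.Helper20.AschU
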