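import Mathlib

set_option autoImplicit false

namespace Cfsg.Agent.Lib.Helper76

/-- In a `p`-subgroup, with `|E| ∣ m * n`, `m, n` coprime, `a ≡ 1 [MOD n]`, `a ≡ 0 [MOD m]`,
raising to the `a` is either the identity or trivial. -/
theorem pow_crt_of_mem_sylow {E : Type*} [Group E] [Finite E] {m n a : ℕ}
    (hcop : m.Coprime n) (hE : Nat.card E ∣ m * n) (ha1 : a ≡ 1 [MOD n]) (ha0 : a ≡ 0 [MOD m])
    {p : ℕ} [hp : Fact p.Prime] (P : Sylow p E) :
    (∀ z : P, z ^ a = z) ∨ (∀ z : P, z ^ a = 1) := by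
  by_cases hpn : p ∣ n
  · left
    intro z
    obtain ⟨k, hk⟩ := P.2 z
    have hord : orderOf z ∣ n := by
      have h1 : orderOf z ∣ m * n := by
        have : orderOf (z : E) ∣ Nat.card E := orderOf_dvd_natCard _
        rw [Subgroup.orderOf_coe] at this
        exact this.trans hE
      have h2 : orderOf z ∣ p ^ k := orderOf_dvd_of_pow_eq_one hk
      have hpm : Nat.Coprime p m := by
        rw [Nat.Prime.coprime_iff_not_dvd hp.out]
        intro hpm
        have := Nat.dvd_gcd hpm hpn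
        rw [hcop] at this
        exact hp.out.one_lt.ne' (Nat.dvd_one.mp this)
      have h3 : Nat.Coprime (orderOf z) m :=
        Nat.Coprime.coprime_dvd_left h2 (Nat.Coprime.pow_left k hpm)
      exact h3.dvd_of_dvd_mul_left h1
    have : a ≡ 1 [MOD orderOf z] := ha1.of_dvd hord
    calc z ^ a = z ^ 1 := (pow_eq_pow_iff_modEq).mpr this
      _ = z := pow_one z
  · right
    intro z
    obtain ⟨k, hk⟩ := P.2 z
    have hord : orderOf z ∣ m := by
      have h1 : orderOf z ∣ m * n := by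
        have : orderOf (z : E) ∣ Nat.card E := orderOf_dvd_natCard _
        rw [Subgroup.orderOf_coe] at this
        exact this.trans hE
      have h2 : orderOf z ∣ p ^ k := orderOf_dvd_of_pow_eq_one hk
      have hpn' : Nat.Coprime p n := (Nat.Prime.coprime_iff_not_dvd hp.out).mpr hpn
      have h3 : Nat.Coprime (orderOf z) n :=
        Nat.Coprime.coprime_dvd_left h2 (Nat.Coprime.pow_left k hpn')
      exact h3.dvd_of_dvd_mul_right h1
    have : a ≡ 0 [MOD orderOf z] := ha0.of_dvd hord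
    calc z ^ a = z ^ 0 := (pow_eq_pow_iff_modEq).mpr this
      _ = 1 := pow_zero z

/-- In a finite nilpotent group of order dividing `m * n` with `m, n` coprime, the power map
`x ↦ x ^ a` with `a ≡ 1 [MOD n]`, `a ≡ 0 [MOD m]` is multiplicative (it is the projection onto
the Hall subgroup for the primes of `n`). -/
theorem mul_pow_crt_of_isNilpotent {E : Type*} [Group E] [Finite E] [hnil : Group.IsNilpotent E]
    {m n a : ℕ} (hcop : m.Coprime n) (hE : Nat.card E ∣ m * n) (ha1 : a ≡ 1 [MOD n])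
    (ha0 : a ≡ 0 [MOD m]) (x y : E) : (x * y) ^ a = x ^ a * y ^ a := by
  obtain ⟨φ⟩ := (Group.isNilpotent_of_finite_tfae (G := E)).out 0 4 rfl rfl |>.mp hnil
  have key : ∀ f g : (∀ p : (Nat.card E).primeFactors, ∀ P : Sylow p E, (↑P : Subgroup E)),
      (f * g) ^ a = f ^ a * g ^ a := by
    intro f g
    funext p P
    have : Fact (p : ℕ).Prime := ⟨Nat.prime_of_mem_primeFactors p.2⟩
    simp only [Pi.pow_apply, Pi.mul_apply]
    rcases pow_crt_of_mem_sylow hcop hE ha1 ha0 P with h | h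
    · rw [h, h, h]
    · rw [h, h, h, one_mul]
  obtain ⟨f, rfl⟩ := φ.surjective x
  obtain ⟨g, rfl⟩ := φ.surjective y
  rw [← map_mul, ← map_pow, ← map_pow, ← map_pow, ← map_mul, key]

/-- The power map of `mul_pow_crt_of_isNilpotent` as a monoid homomorphism. -/
def powCrtHom {E : Type*} [Group E] [Finite E] [Group.IsNilpotent E]
    {m n a : ℕ} (hcop : m.Coprime n) (hE : Nat.card E ∣ m * n) (ha1 : a ≡ 1 [MOD n])
    (ha0 : a ≡ 0 [MOD m]) : E →* E where
  toFun x := x ^ a
  map_one' := one_pow a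
  map_mul' := mul_pow_crt_of_isNilpotent hcop hE ha1 ha0

@[simp] theorem powCrtHom_apply {E : Type*} [Group E] [Finite E] [Group.IsNilpotent E]
    {m n a : ℕ} (hcop : m.Coprime n) (hE : Nat.card E ∣ m * n) (ha1 : a ≡ 1 [MOD n])
    (ha0 : a ≡ 0 [MOD m]) (x : E) : powCrtHom hcop hE ha1 ha0 x = x ^ a := rfl

/-- The range of `powCrtHom` has order dividing `n`. -/
theorem card_range_powCrtHom_dvd {E : Type*} [Group E] [Finite E] [Group.IsNilpotent E]
    {m n a : ℕ} (hcop : m.Coprime n) (hE : Nat.card E ∣ m * n) (ha1 : a ≡ 1 [MOD n])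
    (ha0 : a ≡ 0 [MOD m]) : Nat.card (powCrtHom hcop hE ha1 ha0).range ∣ n := by
  set P := (powCrtHom hcop hE ha1 ha0).range with hP
  have hpow : ∀ y : P, y ^ n = 1 := by
    rintro ⟨y, x, rfl⟩
    apply Subtype.ext
    simp only [powCrtHom_apply, Subgroup.coe_pow, Subgroup.coe_one]
    rw [← pow_mul]
    have hm : m ∣ a := (Nat.modEq_zero_iff_dvd).mp ha0
    have : Nat.card E ∣ a * n := hE.trans (Nat.mul_dvd_mul_right hm n)
    obtain ⟨c, hc⟩ := this
    rw [hc, pow_mul, pow_card_eq_one', one_pow]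
  have h1 : Nat.card P ∣ m * n := (Subgroup.card_subgroup_dvd_card P).trans hE
  have h2 : Nat.Coprime (Nat.card P) m := by
    apply Nat.Coprime.symm
    apply Nat.coprime_of_dvd
    intro q hq hqm hqP
    have : Fact q.Prime := ⟨hq⟩
    obtain ⟨y, hy⟩ := exists_prime_orderOf_dvd_card' q hqP
    have : q ∣ n := by
      rw [← hy]
      exact orderOf_dvd_of_pow_eq_one (hpow y)
    have := Nat.dvd_gcd hqm this
    rw [hcop] at this
    exact hq.one_lt.ne' (Nat.dvd_one.mp this)
  exact h2.dvd_of_dvd_mul_left h1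

end Cfsg.Agent.Lib.Helper76
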