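import Mathlib
import Cfsg.Prelude.Def_Characters
import Cfsg.Agent.S0164
import Cfsg.Agent.Lib.Helper3.Regular
import Cfsg.Agent.Lib.Helper3.BrElem
import Cfsg.Agent.Lib.Helper80.CharBasic
import Cfsg.Agent.Lib.Helper76.NilpPow

set_option autoImplicit false

namespace Cfsg.Agent.Lib.Helper76

open Cfsg

/-- `p^a` on `p`-regular elements and `0` elsewhere, where `p^a` is the `p`-part of `|G|`. -/
noncomputable def pRegInd (p : ℕ) (G : Type*) [Group G] : G → ℂ :=
  fun x => if p ∣ orderOf x then 0 else ((p ^ (Nat.card G).factorization p : ℕ) : ℂ)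

theorem pRegInd_isClassFunction (p : ℕ) (G : Type*) [Group G] :
    IsClassFunction G (pRegInd p G) := by
  intro x h
  unfold pRegInd
  have : orderOf (h * x * h⁻¹) = orderOf x := by
    have := orderOf_injective (MulAut.conj h).toMonoidHom (MulAut.conj h).injective x
    simpa using this
  rw [this]

open Classical in
/-- The regular character `|K| · δ₁` of a finite group is a character. -/
theorem isCharacter_regular (K : Type*) [Group K] [Finite K] :
    IsCharacter K (fun y => if y = 1 then (Nat.card K : ℂ) else 0) := by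
  classical
  have : Fintype K := Fintype.ofFinite K
  have h := Cfsg.Agent.Lib.Helper80.isCharacter_of_rep (Representation.leftRegular ℂ K)
  convert h using 1
  funext y
  rw [Cfsg.Agent.Lib.Helper3.leftRegular_character]

/-- `pRegInd p G` restricted to a nilpotent subgroup is a character. -/
theorem pRegInd_restrict_isCharacter {G : Type*} [Group G] [Finite G] {p : ℕ} (hp : p.Prime)
    (E : Subgroup G) [hnil : Group.IsNilpotent E] :
    IsCharacter E (fun e : E => pRegInd p G e) := by
  classical
  set a := (Nat.card G).factorization p with ha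
  set q := p ^ a with hq
  set g' := Nat.card G / q with hg'
  have hqdvd : q ∣ Nat.card G := Nat.ordProj_dvd _ _
  have hcard : Nat.card G = g' * q := (Nat.div_mul_cancel hqdvd).symm
  have hcop : Nat.Coprime g' q := by
    have := Nat.coprime_ordCompl hp (Nat.card_pos (α := G)).ne'
    exact (Nat.Coprime.pow_right a this.symm)
  have hEc : Nat.card E ∣ g' * q := hcard ▸ Subgroup.card_subgroup_dvd_card E
  obtain ⟨k, hk1, hk0⟩ : ∃ k : ℕ, k ≡ 1 [MOD q] ∧ k ≡ 0 [MOD g'] := by
    have := Nat.chineseRemainder hcop.symm 1 0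
    exact ⟨this.1, this.2.1, this.2.2⟩
  set π := powCrtHom hcop hEc hk1 hk0 with hπ
  have hPq : Nat.card π.range ∣ q := card_range_powCrtHom_dvd hcop hEc hk1 hk0
  obtain ⟨c, hc⟩ := hPq
  -- `p ∣ orderOf e ↔ π e ≠ 1`
  have hiff : ∀ e : E, p ∣ orderOf (e : G) ↔ π e ≠ 1 := by
    intro e
    rw [Subgroup.orderOf_coe]
    have hoG : orderOf e ∣ g' * q := (orderOf_dvd_natCard e).trans hEc
    constructor
    · intro hpe hπe
      rw [hπ, powCrtHom_apply] at hπe
      have h1 : orderOf e ∣ k := orderOf_dvd_of_pow_eq_one hπe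
      have hpk : p ∣ k := hpe.trans h1
      have ha0 : a ≠ 0 := by
        intro h0
        have hpG : p ∣ Nat.card G := hpe.trans (orderOf_dvd_natCard e |>.trans
          (Subgroup.card_subgroup_dvd_card E))
        have : 0 < (Nat.card G).factorization p :=
          hp.factorization_pos_of_dvd (Nat.card_pos (α := G)).ne' hpG
        omega
      have hpq : p ∣ q := dvd_pow_self p ha0
      have hk1' : k ≡ 1 [MOD p] := hk1.of_dvd hpq
      have : 1 ≡ 0 [MOD p] := hk1'.symm.trans ((Nat.modEq_zero_iff_dvd).mpr hpk)
      have := (Nat.modEq_zero_iff_dvd).mp this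
      exact hp.one_lt.ne' (Nat.dvd_one.mp this)
    · intro hπe
      by_contra hpe
      apply hπe
      rw [hπ, powCrtHom_apply]
      have hcopq : Nat.Coprime (orderOf e) q :=
        Nat.Coprime.pow_right a ((Nat.Prime.coprime_iff_not_dvd hp).mpr hpe).symm
      have h1 : orderOf e ∣ g' := hcopq.dvd_of_dvd_mul_right hoG
      have h2 : g' ∣ k := (Nat.modEq_zero_iff_dvd).mp hk0
      exact orderOf_dvd_iff_pow_eq_one.mp (h1.trans h2)
  have hreg := isCharacter_regular π.range
  have hμ := Cfsg.Agent.Lib.Helper80.isCharacter_nsmul c hreg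
  have hcomp := Cfsg.Agent.Lib.Helper80.isCharacter_comp π.rangeRestrict hμ
  convert hcomp using 1
  funext e
  unfold pRegInd
  simp only [Pi.smul_apply, nsmul_eq_mul]
  by_cases hpe : p ∣ orderOf (e : G)
  · rw [if_pos hpe, if_neg, mul_zero]
    intro h
    apply (hiff e).mp hpe
    have := congrArg Subtype.val h
    simpa using this
  · rw [if_neg hpe, if_pos]
    · rw [← hq, hc]; push_cast; ring
    · have : π e = 1 := by
        by_contra h
        exact hpe ((hiff e).mpr h)
      apply Subtype.ext
      simpa using this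

/-- `pRegInd p G` is a generalized character (Brauer's characterization). -/
theorem pRegInd_isGeneralizedCharacter {G : Type*} [Group G] [Finite G] {p : ℕ} (hp : p.Prime) :
    IsGeneralizedCharacter G (pRegInd p G) := by
  apply Cfsg.Agent.S0164.result _ (pRegInd_isClassFunction p G)
  intro E r hr hE
  have : Group.IsNilpotent E := Cfsg.Agent.Lib.Helper3.isNilpotent_of_isElementary hr hE
  refine ⟨_, 0, pRegInd_restrict_isCharacter hp E, Cfsg.Agent.Lib.Helper80.isCharacter_zero, ?_⟩
  simp

end Cfsg.Agent.Lib.Helper76
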