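import Cfsg.Agent.Lib.Helper54.Coprime

/-!
# Fixed points of coprime operators on conjugacy classes of a normal Hall subgroup (helper76)

* `exists_conj_centralized`: Glauberman's lemma for elements: `H ⊴ M`, `Y ≤ M` solvable of order
  coprime to `|H|` stabilizing the `H`-class of `c` (i.e. `Y ≤ H C_M(c)`); then `Y` centralizes
  some `H`-conjugate of `c`.
* `exists_commuting_of_conj_class`: `H` a normal Hall subgroup of `M`, `x ∈ M` stabilizing the
  `H`-class of `1 ≠ c ∈ H`; then `x` centralizes a non-identity element of `H`.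
-/

set_option autoImplicit false

namespace Cfsg.Agent.Lib.Helper76

open Cfsg.Agent.Lib.Helper54

variable {M : Type*} [Group M] [Finite M]

theorem exists_conj_centralized (H Y : Subgroup M) [hH : H.Normal]
    (hcop : (Nat.card H).Coprime (Nat.card Y)) (hsolv : Group.IsSolvable Y) (c : M)
    (hY : Y ≤ H ⊔ Subgroup.centralizer ({c} : Set M)) :
    ∃ l ∈ H, ∀ y ∈ Y, y * (l⁻¹ * c * l) = (l⁻¹ * c * l) * y := by
  have hnorm : ∀ K : Subgroup M, K ≤ Subgroup.normalizer (H : Set M) := by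
    intro K
    rw [Subgroup.normalizer_eq_top_iff.mpr hH]
    exact le_top
  set Γ : Subgroup M := H ⊔ Y with hΓ
  set S : Subgroup M := Γ ⊓ Subgroup.centralizer ({c} : Set M) with hS
  have hHΓ : H ≤ Γ := le_sup_left
  have hYΓ : Y ≤ Γ := le_sup_right
  have hΓle : Γ ≤ H ⊔ Subgroup.centralizer ({c} : Set M) := sup_le le_sup_left hY
  have hHS : S ⊔ H = Γ := by
    apply le_antisymm
    · exact sup_le inf_le_left hHΓ
    · intro γ hγ
      have h1 : γ ∈ ((H ⊔ Subgroup.centralizer ({c} : Set M) : Subgroup M) : Set M) := hΓle hγ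
      rw [Subgroup.normal_mul] at h1
      obtain ⟨h, hh, k, hk, rfl⟩ := Set.mem_mul.mp h1
      have hkΓ : k ∈ Γ := by
        have : k = h⁻¹ * (h * k) := by group
        rw [this]
        exact Γ.mul_mem (Γ.inv_mem (hHΓ hh)) hγ
      exact (S ⊔ H).mul_mem ((le_sup_right : H ≤ S ⊔ H) hh)
        ((le_sup_left : S ≤ S ⊔ H) ⟨hkΓ, hk⟩)
  have hdisj : H ⊓ Y = ⊥ := (Subgroup.disjoint_of_coprime_natCard hcop).eq_bot
  have hrelY : H.relIndex Y = Nat.card Y := by
    rw [← Subgroup.inf_relIndex_right, hdisj, Subgroup.relIndex_bot_left]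
  have hrelS : H.relIndex S = Nat.card Y := by
    have h1 := relIndex_sup_of_le_normalizer (hnorm S)
    have h2 := relIndex_sup_of_le_normalizer (hnorm Y)
    rw [hHS] at h1
    rw [sup_comm, ← hΓ] at h2
    rw [← h1, h2, hrelY]
  have hcop' : (Nat.card (H ⊓ S : Subgroup M)).Coprime (H.relIndex S) := by
    rw [hrelS]
    exact Nat.Coprime.coprime_dvd_left (Subgroup.card_dvd_of_le inf_le_left) hcop
  obtain ⟨B, hBS, hBcard⟩ := exists_complement_rel S H (hnorm S) hcop'
  rw [hrelS] at hBcard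
  have hcardΓ : Nat.card H * Nat.card Y = Nat.card Γ :=
    (card_sup_of_le_normalizer (hnorm Y) hdisj).symm
  obtain ⟨l, hl, hlY⟩ := sz_conj_rel Γ H Y B hHΓ (hnorm Γ) hYΓ (hBS.trans inf_le_left) hcardΓ
    hBcard hcop (Or.inl hsolv)
  refine ⟨l, hl, fun y hy => ?_⟩
  have h1 : l * y * l⁻¹ ∈ B := by rw [← hlY]; exact conj_mem_conj_smul hy
  have h2 : l * y * l⁻¹ ∈ Subgroup.centralizer ({c} : Set M) := (hBS h1).2
  rw [Subgroup.mem_centralizer_iff] at h2
  have h3 := h2 c rfl
  -- `c * (l y l⁻¹) = (l y l⁻¹) * c`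
  calc y * (l⁻¹ * c * l) = l⁻¹ * ((l * y * l⁻¹) * c) * l := by group
    _ = l⁻¹ * (c * (l * y * l⁻¹)) * l := by rw [h3]
    _ = (l⁻¹ * c * l) * y := by group

theorem exists_commuting_of_conj_class (H : Subgroup M) [hH : H.Normal]
    (hHall : (Nat.card H).Coprime H.index) (x c : M) (hc : c ∈ H) (hc1 : c ≠ 1)
    (hx : ∃ h ∈ H, x * c * x⁻¹ = h * c * h⁻¹) :
    ∃ h' ∈ H, h' ≠ 1 ∧ x * h' = h' * x := by
  have hnorm : ∀ K : Subgroup M, K ≤ Subgroup.normalizer (H : Set M) := by
    intro K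
    rw [Subgroup.normalizer_eq_top_iff.mpr hH]
    exact le_top
  set X : Subgroup M := Subgroup.zpowers x with hX
  have hcommX : ∀ a ∈ X, a * x = x * a := by
    intro a ha
    obtain ⟨k, rfl⟩ := Subgroup.mem_zpowers_iff.mp ha
    exact ((Commute.refl x).zpow_left k).eq
  -- `x ∈ H C(c)`
  obtain ⟨h, hh, hxc⟩ := hx
  have hxT : x ∈ H ⊔ Subgroup.centralizer ({c} : Set M) := by
    have h1 : h⁻¹ * x ∈ Subgroup.centralizer ({c} : Set M) := by
      rw [Subgroup.mem_centralizer_iff]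
      intro d hd
      rw [Set.mem_singleton_iff] at hd
      subst hd
      calc d * (h⁻¹ * x) = h⁻¹ * (h * d * h⁻¹) * x := by group
        _ = h⁻¹ * (x * d * x⁻¹) * x := by rw [hxc]
        _ = h⁻¹ * x * d := by group
    have : x = h * (h⁻¹ * x) := by group
    rw [this]
    exact Subgroup.mul_mem _ ((le_sup_left : H ≤ _) hh) ((le_sup_right : _ ≤ H ⊔ _) h1)
  have hXT : X ≤ H ⊔ Subgroup.centralizer ({c} : Set M) := by
    rw [hX, Subgroup.zpowers_le]; exact hxT
  -- the complement `Y` of `H ∩ X` in `X`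
  have hrel_dvd : H.relIndex X ∣ H.index := Subgroup.relIndex_dvd_index_of_normal H X
  have hcop1 : (Nat.card (H ⊓ X : Subgroup M)).Coprime (H.relIndex X) :=
    Nat.Coprime.coprime_dvd_left (Subgroup.card_dvd_of_le inf_le_left)
      (Nat.Coprime.coprime_dvd_right hrel_dvd hHall)
  obtain ⟨Y, hYX, hYcard⟩ := exists_complement_rel X H (hnorm X) hcop1
  have hcop : (Nat.card H).Coprime (Nat.card Y) := by
    rw [hYcard]; exact Nat.Coprime.coprime_dvd_right hrel_dvd hHall
  have hsolv : Group.IsSolvable Y := by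
    apply Group.isSolvable_of_comm
    intro a b
    obtain ⟨k, hk⟩ := Subgroup.mem_zpowers_iff.mp (hYX a.2)
    obtain ⟨j, hj⟩ := Subgroup.mem_zpowers_iff.mp (hYX b.2)
    apply Subtype.ext
    rw [Subgroup.coe_mul, Subgroup.coe_mul, ← hk, ← hj, ← zpow_add, ← zpow_add, add_comm]
  obtain ⟨l, hl, hlY⟩ := exists_conj_centralized H Y hcop hsolv c (hYX.trans hXT)
  -- `X = (H ∩ X) Y`
  have hcardX : Nat.card (H ⊓ X : Subgroup M) * Nat.card Y = Nat.card X := by
    rw [hYcard, ← Subgroup.inf_relIndex_right]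
    exact card_mul_relIndex inf_le_right
  have hW : (H ⊓ X) ⊔ Y = X := by
    apply Subgroup.eq_of_le_of_card_ge (sup_le inf_le_right hYX)
    apply Nat.le_of_dvd Nat.card_pos
    rw [← hcardX]
    exact Nat.Coprime.mul_dvd_of_dvd_of_dvd
      (Nat.Coprime.coprime_dvd_left (Subgroup.card_dvd_of_le inf_le_left) hcop)
      (Subgroup.card_dvd_of_le le_sup_left) (Subgroup.card_dvd_of_le le_sup_right)
  have hxHY : x ∈ ((H ⊔ Y : Subgroup M) : Set M) := by
    have h1 : x ∈ (H ⊓ X) ⊔ Y := by rw [hW]; exact Subgroup.mem_zpowers x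
    exact (sup_le_sup_right inf_le_left Y) h1
  rw [Subgroup.normal_mul] at hxHY
  obtain ⟨z, hz, y, hy, hzy⟩ := Set.mem_mul.mp hxHY
  have hyx : y * x = x * y := hcommX y (hYX hy)
  have hzx : z * x = x * z := by
    have hz' : z = x * y⁻¹ := by rw [← hzy]; group
    have hcy : Commute y x := hyx
    rw [hz']
    exact (((Commute.refl x).mul_left hcy.inv_left) : Commute (x * y⁻¹) x).eq
  by_cases hz1 : z = 1
  · -- `x = y` centralizes `l⁻¹ c l`
    have hxy : x = y := by rw [← hzy, hz1, one_mul]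
    refine ⟨l⁻¹ * c * l, ?_, ?_, ?_⟩
    · have := hH.conj_mem c hc l⁻¹
      simpa using this
    · intro h1
      apply hc1
      have : c = l * (l⁻¹ * c * l) * l⁻¹ := by group
      rw [this, h1]; group
    · rw [hxy]; exact hlY y hy
  · exact ⟨z, hz, hz1, hzx.symm⟩

end Cfsg.Agent.Lib.Helper76
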