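import Mathlib
import Cfsg.Agent.Lib.Helper85.Suz2Defs

/-!
# SUZ2-[NTF]: the four `LamArith` lemmas (helper85's sheet), with the arithmetic modules
[NT-ORD], [NT-THREE], [NT-FOUR] as explicit hypotheses
-/

set_option autoImplicit false

namespace Cfsg.Agent.Lib.Helper76.Suz2

open Cfsg.Agent.Lib.Helper19.Suz Cfsg.Agent.Lib.Helper85.Suz2

/-- statement of [NT-ORD] -/
def NtOrd : Prop :=
  ∀ (n e m : ℕ), 2 ≤ n → e ∣ n → m * e = 2 ^ n - 1 → ∀ k : ℕ, m ∣ 2 ^ k - 1 → n ∣ k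

/-- statement of [NT-THREE] -/
def NtThree : Prop :=
  ∀ (n e m : ℕ), 2 ≤ n → e ∣ n → m * e = 2 ^ n - 1 → ∀ i j : ℕ, i < j → j < n →
    ¬ (m ∣ 2 ^ i + 2 ^ j - 1)

/-- statement of [NT-FOUR] -/
def NtFour : Prop :=
  ∀ (n e m : ℕ), 2 ≤ n → e ∣ n → m * e = 2 ^ n - 1 → ∀ s s' j : ℕ, 0 < s → s < n → 0 < s' →
    s' < n → j < n → ((m : ℤ) ∣ 2 ^ j + 2 ^ s' - 2 ^ ((s + j) % n) - 1) → s = s'

section field
variable {F : Type*} [Field F] [Fintype F] {lam : F} {n e : ℕ}

/-- every automorphism of a field with `2 ^ n` elements is a Frobenius power -/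
theorem exists_frob_pow [CharP F 2] (hcard : Fintype.card F = 2 ^ n) (σ : F ≃+* F) :
    ∃ i < n, ∀ x : F, σ x = x ^ (2 ^ i) := by
  letI alg : Algebra (ZMod 2) F := ZMod.algebra F 2
  have hfr : Module.finrank (ZMod 2) F = n := by
    have h1 : Fintype.card F = Fintype.card (ZMod 2) ^ Module.finrank (ZMod 2) F :=
      Module.card_eq_pow_finrank
    rw [ZMod.card, hcard] at h1
    exact (Nat.pow_right_injective (le_refl 2) h1).symm
  let σ' : F →ₐ[ZMod 2] F :=
    { σ.toRingHom with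
      commutes' := fun r => by
        have : σ.toRingHom.comp (algebraMap (ZMod 2) F) = algebraMap (ZMod 2) F :=
          Subsingleton.elim _ _
        exact RingHom.congr_fun this r }
  obtain ⟨i, hi⟩ := (FiniteField.bijective_frobeniusAlgHom_pow (ZMod 2) F).2 σ'
  refine ⟨i.1, hfr ▸ i.2, fun x => ?_⟩
  have h1 : σ x = σ' x := rfl
  have h2 : σ' x = (FiniteField.frobeniusAlgHom (ZMod 2) F ^ i.1) x := by
    have := congrArg (fun f : F →ₐ[ZMod 2] F => f x) hi
    exact this.symm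
  rw [h1, h2, AlgHom.coe_pow, FiniteField.coe_frobeniusAlgHom, pow_iterate, ZMod.card]

theorem modEq_of_pow_eq {x : F} (hx : x ≠ 0) {a b : ℕ} (h : x ^ a = x ^ b) :
    a ≡ b [MOD orderOf x] := by
  have h1 : (Units.mk0 x hx) ^ a = (Units.mk0 x hx) ^ b := Units.ext (by simpa using h)
  rw [pow_eq_pow_iff_modEq] at h1
  have h2 : orderOf (Units.mk0 x hx) = orderOf x := by
    rw [← orderOf_units, Units.val_mk0]
  rwa [h2] at h1

theorem LamArith.orderOf_pos (L : LamArith F lam n e) : 0 < orderOf lam := by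
  rcases Nat.eq_zero_or_pos (orderOf lam) with h | h
  · exfalso
    have h1 := L.order
    rw [h, zero_mul] at h1
    have h2 : 2 ^ 2 ≤ 2 ^ n := Nat.pow_le_pow_right (by norm_num) L.two_le
    omega
  · exact h

theorem LamArith.lam_ne_zero (L : LamArith F lam n e) : lam ≠ 0 := by
  intro h
  have h1 := pow_orderOf_eq_one lam
  rw [h, zero_pow (h ▸ (LamArith.orderOf_pos L).ne')] at h1
  exact zero_ne_one h1

theorem LamArith.pow_card (L : LamArith F lam n e) (x : F) : x ^ (2 ^ n) = x := by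
  rw [← L.card]
  exact FiniteField.pow_card x

/-- `x ^ (2 ^ k)` only depends on `k mod n` -/
theorem LamArith.pow_two_pow_mod (L : LamArith F lam n e) (x : F) (k : ℕ) :
    x ^ (2 ^ k) = x ^ (2 ^ (k % n)) := by
  have key : ∀ q r : ℕ, x ^ (2 ^ (n * q + r)) = x ^ (2 ^ r) := by
    intro q r
    induction q with
    | zero => simp
    | succ q ih =>
      have : n * (q + 1) + r = n + (n * q + r) := by ring
      rw [this, pow_add, pow_mul, LamArith.pow_card L, ih]
  conv_lhs => rw [← Nat.div_add_mod k n]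
  exact key _ _

/-- **[NTF-FIX]** (with [NT-ORD] as a hypothesis) -/
theorem LamArith.frob_fix_of (hord : NtOrd) (L : LamArith F lam n e) (σ : F ≃+* F)
    (h : σ lam = lam) : σ = 1 := by
  have hch := L.char2
  obtain ⟨i, hi, hσ⟩ := exists_frob_pow L.card σ
  rw [hσ] at h
  have h1 : lam ^ (2 ^ i) = lam ^ 1 := by rw [h, pow_one]
  replace h1 := modEq_of_pow_eq (LamArith.lam_ne_zero L) h1
  have h2 : orderOf lam ∣ 2 ^ i - 1 := by
    have h3 : 1 ≤ 2 ^ i := Nat.one_le_two_pow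
    exact (Nat.modEq_iff_dvd' h3).mp h1.symm
  have h4 : n ∣ i := hord n e (orderOf lam) L.two_le L.e_dvd L.order i h2
  have h5 : i = 0 := Nat.eq_zero_of_dvd_of_lt h4 hi
  apply RingEquiv.ext
  intro x
  rw [hσ, h5]
  simp

/-- **[NTF-SQ]** (with [NT-ORD] as a hypothesis) -/
theorem LamArith.sq_fix_of (hord : NtOrd) (L : LamArith F lam n e) (σ : F ≃+* F)
    (h : σ lam * σ lam = lam) : ∀ x : F, σ x * σ x = x := by
  have hch := L.char2
  have hρ : σ.trans (frobeniusEquiv F 2) = 1 := by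
    apply LamArith.frob_fix_of hord L
    show frobeniusEquiv F 2 (σ lam) = lam
    rw [frobeniusEquiv_apply, frobenius_def, pow_two]
    exact h
  intro x
  have := congrArg (fun ρ : F ≃+* F => ρ x) hρ
  have h2 : frobeniusEquiv F 2 (σ x) = x := this
  rw [frobeniusEquiv_apply, frobenius_def, pow_two] at h2
  exact h2

/-- **[NTF-THREE]** (with [NT-THREE] as a hypothesis) -/
theorem LamArith.three_of (hthree : NtThree) (L : LamArith F lam n e) (σ τ : F ≃+* F)
    (hne : σ ≠ τ) : σ lam * τ lam ≠ lam := by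
  have hch := L.char2
  obtain ⟨i, hi, hσ⟩ := exists_frob_pow L.card σ
  obtain ⟨j, hj, hτ⟩ := exists_frob_pow L.card τ
  have hij : i ≠ j := by
    intro hij
    apply hne
    apply RingEquiv.ext
    intro x
    rw [hσ, hτ, hij]
  intro h
  rw [hσ, hτ, ← pow_add] at h
  have h1 : lam ^ (2 ^ i + 2 ^ j) = lam ^ 1 := by rw [h, pow_one]
  replace h1 := modEq_of_pow_eq (LamArith.lam_ne_zero L) h1
  have h3 : 1 ≤ 2 ^ i + 2 ^ j := Nat.le_trans Nat.one_le_two_pow (Nat.le_add_right _ _)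
  have h2 : orderOf lam ∣ 2 ^ i + 2 ^ j - 1 := (Nat.modEq_iff_dvd' h3).mp h1.symm
  rcases lt_or_gt_of_ne hij with hlt | hlt
  · exact hthree n e (orderOf lam) L.two_le L.e_dvd L.order i j hlt hj h2
  · rw [add_comm] at h2
    exact hthree n e (orderOf lam) L.two_le L.e_dvd L.order j i hlt hi h2

/-- **[NTF-NONCONJ]** (with [NT-FOUR] as a hypothesis) -/
theorem LamArith.nonconj_of (hfour : NtFour) (L : LamArith F lam n e) (τ τ' : F ≃+* F)
    (hτ : τ ≠ 1) (hτ' : τ' ≠ 1) (k : ℕ)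
    (h : (lam * (τ lam)⁻¹) ^ (2 ^ k) = lam * (τ' lam)⁻¹) : τ = τ' := by
  have hch := L.char2
  obtain ⟨s, hs, hσ⟩ := exists_frob_pow L.card τ
  obtain ⟨s', hs', hσ'⟩ := exists_frob_pow L.card τ'
  have hs0 : 0 < s := by
    rcases Nat.eq_zero_or_pos s with h0 | h0
    · exfalso
      apply hτ
      apply RingEquiv.ext
      intro x
      rw [hσ, h0]
      simp
    · exact h0
  have hs'0 : 0 < s' := by
    rcases Nat.eq_zero_or_pos s' with h0 | h0
    · exfalso
      apply hτ'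
      apply RingEquiv.ext
      intro x
      rw [hσ', h0]
      simp
    · exact h0
  have hn0 : 0 < n := by have := L.two_le; omega
  have hl0 := LamArith.lam_ne_zero L
  obtain ⟨j, hj⟩ : ∃ j, j = k % n := ⟨_, rfl⟩
  have hjn : j < n := by rw [hj]; exact Nat.mod_lt _ hn0
  rw [LamArith.pow_two_pow_mod L, ← hj, hσ, hσ', mul_pow, inv_pow, ← pow_mul, ← pow_add] at h
  -- lam^(2^j) * (lam^(2^(s+j)))⁻¹ = lam * (lam^(2^s'))⁻¹
  have hne1 : lam ^ (2 ^ (s + j)) ≠ 0 := pow_ne_zero _ hl0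
  have hne2 : lam ^ (2 ^ s') ≠ 0 := pow_ne_zero _ hl0
  have h1 : lam ^ (2 ^ j) * lam ^ (2 ^ s') = lam * lam ^ (2 ^ (s + j)) := by
    field_simp at h
    rw [mul_comm (lam ^ (2 ^ (s + j))) lam] at h
    exact h
  rw [LamArith.pow_two_pow_mod L lam (s + j), ← pow_add, ← pow_succ'] at h1
  replace h1 := modEq_of_pow_eq hl0 h1
  have h2 : (orderOf lam : ℤ) ∣ 2 ^ j + 2 ^ s' - 2 ^ ((s + j) % n) - 1 := by
    have h3 := (Nat.modEq_iff_dvd.mp h1.symm)
    have h4 : ((2 ^ j + 2 ^ s' : ℕ) : ℤ) - ((2 ^ ((s + j) % n) + 1 : ℕ) : ℤ)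
        = 2 ^ j + 2 ^ s' - 2 ^ ((s + j) % n) - 1 := by
      push_cast
      ring
    rw [h4] at h3
    exact h3
  have h5 : s = s' := hfour n e (orderOf lam) L.two_le L.e_dvd L.order s s' j hs0 hs hs'0 hs' hjn h2
  apply RingEquiv.ext
  intro x
  rw [hσ, hσ', h5]

end field

end Cfsg.Agent.Lib.Helper76.Suz2
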