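import Mathlib
import Cfsg.Agent.Lib.Helper85.Suz2Defs
import Cfsg.Agent.Lib.Helper76.Suz2NTF

/-!
# SUZ2-[HUP-B] (helper85's sheet): the scalar generator `lam`
-/

set_option autoImplicit false

namespace Cfsg.Agent.Lib.Helper76.Suz2

open Cfsg.Agent.Lib.Helper19.Suz Cfsg.Agent.Lib.Helper85.Suz2

universe u

variable {P : Type u} [Group P] {Y : Subgroup (MulAut P)}

section
variable {F : Type} [Field F] [Fintype F] {aZ : P → F} {κ : MulAut P → F}
  {σ : MulAut P → (F ≃+* F)}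

theorem zcActMul (zc : ZCoord P Y F aZ κ σ) {k k' : MulAut P} (hk : k ∈ Y) (hk' : k' ∈ Y)
    (u : F) : κ (k * k') * σ (k * k') u = κ k * σ k (κ k' * σ k' u) := by
  obtain ⟨z, hz, rfl⟩ := zc.aZ_surj u
  have h1 := zc.act (k * k') (Y.mul_mem hk hk') z hz
  have h2 := zc.act k hk (k' z) (aut_mem_Z0 k' hz)
  have h3 := zc.act k' hk' z hz
  rw [← h1, ← h3, ← h2]
  rfl

theorem zcKappaMul (zc : ZCoord P Y F aZ κ σ) {k k' : MulAut P} (hk : k ∈ Y) (hk' : k' ∈ Y) :
    κ (k * k') = κ k * σ k (κ k') := by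
  have := (zcActMul zc) hk hk' 1
  simpa using this

theorem zcSigmaMul (zc : ZCoord P Y F aZ κ σ) {k k' : MulAut P} (hk : k ∈ Y) (hk' : k' ∈ Y) :
    σ (k * k') = σ k * σ k' := by
  apply RingEquiv.ext
  intro u
  have h1 := (zcActMul zc) hk hk' u
  have h2 : κ k * σ k (κ k') ≠ 0 := by
    rw [← (zcKappaMul zc) hk hk']
    exact zc.κ_ne _ (Y.mul_mem hk hk')
  have h3 : (σ k * σ k') u = σ k (σ k' u) := rfl
  rw [h3]
  have h4 : (κ k * σ k (κ k')) * σ (k * k') u = (κ k * σ k (κ k')) * σ k (σ k' u) := by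
    rw [← (zcKappaMul zc) hk hk', h1, (zcKappaMul zc) hk hk', map_mul, mul_assoc]
  exact mul_left_cancel₀ h2 h4

theorem zcSigmaOne (zc : ZCoord P Y F aZ κ σ) : σ 1 = 1 := by
  have h := (zcSigmaMul zc) Y.one_mem Y.one_mem
  rw [mul_one] at h
  exact (mul_eq_left (a := σ 1)).mp h.symm

theorem zcKappaOne (zc : ZCoord P Y F aZ κ σ) : κ 1 = 1 := by
  have h := (zcKappaMul zc) Y.one_mem Y.one_mem
  rw [mul_one, (zcSigmaOne zc)] at h
  have h0 := zc.κ_ne 1 Y.one_mem
  have h2 : κ 1 * 1 = κ 1 * κ 1 := by rw [mul_one]; exact h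
  exact (mul_left_cancel₀ h0 h2).symm

/-- the automorphism part as a homomorphism -/
noncomputable def zcSigmaHom (zc : ZCoord P Y F aZ κ σ) : Y →* (F ≃+* F) :=
  MonoidHom.mk' (fun k => σ (k : MulAut P)) (fun a b => (zcSigmaMul zc) a.2 b.2)

/-- the scalar part on the kernel of `sigmaHom` -/
noncomputable def zcKappaHom (zc : ZCoord P Y F aZ κ σ) : (zcSigmaHom zc).ker →* Fˣ :=
  MonoidHom.mk' (fun k => Units.mk0 (κ ((k : Y) : MulAut P)) (zc.κ_ne _ (k : Y).2)) (by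
    intro a b
    apply Units.ext
    show κ (((a : Y) : MulAut P) * ((b : Y) : MulAut P)) = κ ((a : Y) : MulAut P) * κ ((b : Y) : MulAut P)
    rw [(zcKappaMul zc) (a : Y).2 (b : Y).2]
    have ha : σ ((a : Y) : MulAut P) = 1 := a.2
    rw [ha]
    rfl)

/-- the twisted action of `Y` on `F`: `k • v = (κ k)^m * σ k v` -/
@[instance_reducible]
noncomputable def zcPowAction (zc : ZCoord P Y F aZ κ σ) (m : ℕ) : MulAction Y F where
  smul k v := κ (k : MulAut P) ^ m * σ (k : MulAut P) v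
  one_smul v := by
    show κ (1 : MulAut P) ^ m * σ (1 : MulAut P) v = v
    rw [(zcKappaOne zc), (zcSigmaOne zc), one_pow, one_mul]
    rfl
  mul_smul k k' v := by
    show κ ((k : MulAut P) * (k' : MulAut P)) ^ m * σ ((k : MulAut P) * (k' : MulAut P)) v =
      κ (k : MulAut P) ^ m * σ (k : MulAut P) (κ (k' : MulAut P) ^ m * σ (k' : MulAut P) v)
    rw [(zcKappaMul zc) k.2 k'.2, (zcSigmaMul zc) k.2 k'.2, mul_pow, map_mul, map_pow]
    show _ * _ * σ (k : MulAut P) (σ (k' : MulAut P) v) = _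
    ring

theorem frob_pow_apply [CharP F 2] (i : ℕ) (x : F) :
    ((frobeniusEquiv F 2) ^ i) x = x ^ (2 ^ i) := by
  induction i generalizing x with
  | zero => simp
  | succ i ih =>
    rw [pow_succ]
    show ((frobeniusEquiv F 2) ^ i) (frobeniusEquiv F 2 x) = _
    rw [ih, frobeniusEquiv_apply, frobenius_def, ← pow_mul, pow_succ']

theorem card_ringAut_dvd [CharP F 2] {n : ℕ} (hcard : Fintype.card F = 2 ^ n) :
    Nat.card (F ≃+* F) ∣ n := by
  have hall : ∀ τ : F ≃+* F, τ ∈ Subgroup.zpowers (frobeniusEquiv F 2) := by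
    intro τ
    obtain ⟨i, -, hi⟩ := exists_frob_pow hcard τ
    refine ⟨(i : ℤ), ?_⟩
    show frobeniusEquiv F 2 ^ (i : ℤ) = τ
    rw [zpow_natCast]
    apply RingEquiv.ext
    intro x
    rw [frob_pow_apply, hi]
  rw [← orderOf_eq_card_of_forall_mem_zpowers hall]
  apply orderOf_dvd_of_pow_eq_one
  apply RingEquiv.ext
  intro x
  rw [frob_pow_apply, ← hcard, FiniteField.pow_card]
  rfl

end

/-- **SUZ2-[HUP-B]** -/
theorem ZCoord.exists_lam {F : Type} [Field F] [Fintype F] {aZ : P → F} {κ : MulAut P → F}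
    {σ : MulAut P → (F ≃+* F)} (h : SHyp P Y) (zc : ZCoord P Y F aZ κ σ) :
    ∃ (ξ : MulAut P) (n e : ℕ), LamHyp P Y F κ σ ξ n e := by
  classical
  have hch := zc.char2
  have hPfin := h.fin
  have hYfin : Finite Y := inferInstance
  -- the cardinality
  obtain ⟨n, -, hn⟩ := FiniteField.card F 2
  have hn' : Fintype.card F = 2 ^ (n : ℕ) := hn
  -- `aZ` is injective on `Z0`
  have hinj : ∀ z ∈ Z0 P, ∀ w ∈ Z0 P, aZ z = aZ w → z = w := by
    intro z hz w hw hzw
    have h1 : aZ (z * w) = 0 := by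
      rw [zc.aZ_mul z hz w hw, hzw]
      exact CharTwo.add_self_eq_zero _
    have h2 := zc.aZ_inj (z * w) ((Z0 P).mul_mem hz hw) h1
    have h3 : w * w = 1 := hw.2
    calc z = z * (w * w) := by rw [h3, mul_one]
      _ = (z * w) * w := by group
      _ = w := by rw [h2, one_mul]
  have htwo : 2 ≤ (n : ℕ) := by
    obtain ⟨x, y, hxy, hx1, hx2, hy1, hy2⟩ := h.two
    have hxZ : x ∈ Z0 P := h.mem_Z0_iff.mpr hx2
    have hyZ : y ∈ Z0 P := h.mem_Z0_iff.mpr hy2
    have h1Z : (1 : P) ∈ Z0 P := (Z0 P).one_mem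
    have h3 : 3 ≤ Fintype.card F := by
      have hne1 : aZ x ≠ aZ y := fun e => hxy (hinj x hxZ y hyZ e)
      have hne2 : aZ x ≠ aZ 1 := fun e => hx1 (hinj x hxZ 1 h1Z e)
      have hne3 : aZ y ≠ aZ 1 := fun e => hy1 (hinj y hyZ 1 h1Z e)
      have hcard3 : ({aZ x, aZ y, aZ 1} : Finset F).card = 3 := by
        rw [Finset.card_insert_of_notMem, Finset.card_insert_of_notMem, Finset.card_singleton]
        · simpa using hne3
        · simp only [Finset.mem_insert, Finset.mem_singleton, not_or]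
          exact ⟨hne1, hne2⟩
      rw [← hcard3]
      exact Finset.card_le_univ _
    rw [hn'] at h3
    by_contra hlt
    push Not at hlt
    have : (n : ℕ) ≤ 1 := by omega
    have h4 : 2 ^ (n : ℕ) ≤ 2 ^ 1 := Nat.pow_le_pow_right (by norm_num) this
    omega
  -- the scalar group
  obtain ⟨Λ, hΛ⟩ : ∃ Λ : Subgroup Fˣ, Λ = (zcKappaHom zc).range := ⟨_, rfl⟩
  obtain ⟨g, hg⟩ := IsCyclic.exists_generator (α := Λ)
  have hgr : (g : Fˣ) ∈ (zcKappaHom zc).range := hΛ ▸ g.2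
  obtain ⟨ξ₀, hξ₀⟩ := hgr
  obtain ⟨m, hm⟩ : ∃ m, m = Nat.card Λ := ⟨_, rfl⟩
  have hord : orderOf (κ ((ξ₀ : Y) : MulAut P)) = m := by
    have h1 : orderOf g = Nat.card Λ := orderOf_eq_card_of_forall_mem_zpowers hg
    have h2 : orderOf (g : Fˣ) = orderOf g := Subgroup.orderOf_coe g
    have h3 : orderOf (((g : Fˣ) : F)) = orderOf (g : Fˣ) := orderOf_units
    have h4 : ((g : Fˣ) : F) = κ ((ξ₀ : Y) : MulAut P) := by
      rw [← hξ₀]
      rfl
    rw [← h4, h3, h2, h1, hm]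
  have hcardU : Nat.card Fˣ = 2 ^ (n : ℕ) - 1 := by
    rw [Nat.card_units, Nat.card_eq_fintype_card, hn']
  have hmdvd : m ∣ 2 ^ (n : ℕ) - 1 := by
    rw [hm, ← hcardU]
    exact Subgroup.card_subgroup_dvd_card Λ
  obtain ⟨e, he⟩ := hmdvd
  have hpos : 0 < 2 ^ (n : ℕ) - 1 := by
    have : 2 ^ 2 ≤ 2 ^ (n : ℕ) := Nat.pow_le_pow_right (by norm_num) htwo
    omega
  have hm0 : 0 < m := by
    rcases Nat.eq_zero_or_pos m with h0 | h0
    · rw [h0, zero_mul] at he; omega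
    · exact h0
  -- `e ∣ n`
  have hedvd : e ∣ (n : ℕ) := by
    let act := (zcPowAction zc) m
    have hidx := MulAction.index_stabilizer Y (1 : F)
    -- the orbit of `1`
    have horb : (MulAction.orbit Y (1 : F)) =
        (fun u : Fˣ => ((u : F))) '' ((powMonoidHom m : Fˣ →* Fˣ).range : Set Fˣ) := by
      ext v
      constructor
      · rintro ⟨k, rfl⟩
        show κ (k : MulAut P) ^ m * σ (k : MulAut P) 1 ∈ _
        rw [map_one, mul_one]
        refine ⟨Units.mk0 (κ (k : MulAut P)) (zc.κ_ne _ k.2) ^ m, ⟨_, rfl⟩, ?_⟩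
        simp
      · rintro ⟨_, ⟨u, rfl⟩, rfl⟩
        obtain ⟨k, hk, hku⟩ := zc.κ_surj (u : F) u.ne_zero
        refine ⟨⟨k, hk⟩, ?_⟩
        show κ k ^ m * σ k 1 = _
        rw [map_one, mul_one, hku]
        simp
    have hncard : (MulAction.orbit Y (1 : F)).ncard = e := by
      rw [horb, Set.ncard_image_of_injective _ Units.val_injective]
      have h1 : ((powMonoidHom m : Fˣ →* Fˣ).range : Set Fˣ).ncard
          = Nat.card (powMonoidHom m : Fˣ →* Fˣ).range := (Nat.card_coe_set_eq _).symm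
      rw [h1, IsCyclic.card_powMonoidHom_range, hcardU, he, Nat.gcd_mul_right_left,
        Nat.mul_div_cancel_left _ hm0]
    -- the kernel of `sigmaHom` stabilizes `1`
    have hle : (zcSigmaHom zc).ker ≤ MulAction.stabilizer Y (1 : F) := by
      intro k hk
      rw [MulAction.mem_stabilizer_iff]
      show κ (k : MulAut P) ^ m * σ (k : MulAut P) 1 = 1
      rw [map_one, mul_one]
      have h1 : (zcKappaHom zc) ⟨k, hk⟩ ∈ Λ := by rw [hΛ]; exact ⟨_, rfl⟩
      have h2 : (⟨(zcKappaHom zc) ⟨k, hk⟩, h1⟩ : Λ) ^ Nat.card Λ = 1 := pow_card_eq_one'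
      have h3 : ((zcKappaHom zc) ⟨k, hk⟩ : Fˣ) ^ m = 1 := by
        rw [hm]
        exact congrArg Subtype.val h2
      have h4 := congrArg Units.val h3
      rw [Units.val_pow_eq_pow_val, Units.val_one] at h4
      exact h4
    have h5 : (MulAction.stabilizer Y (1 : F)).index ∣ (zcSigmaHom zc).ker.index :=
      Subgroup.index_dvd_of_le hle
    rw [hidx, hncard, Subgroup.index_ker] at h5
    exact h5.trans ((Subgroup.card_subgroup_dvd_card _).trans (card_ringAut_dvd hn'))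
  refine ⟨((ξ₀ : Y) : MulAut P), (n : ℕ), e, (ξ₀ : Y).2, ?_, hn', htwo, hedvd, ?_⟩
  · exact ξ₀.2
  · rw [hord, he]

end Cfsg.Agent.Lib.Helper76.Suz2
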