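import Mathlib
import Cfsg.Prelude.Def_Involutions
import Cfsg.Prelude.Def_LieExceptional
import Cfsg.Agent.Lib.Helper32.AbCentDefs
import Cfsg.Agent.Lib.Helper21.StronglyEmbedded

set_option autoImplicit false

/-!
# S2202 module [I-8] (helper32, AbCentSPINE.md): the coset action on `G ⧸ H` is Zassenhaus
-/

namespace Cfsg.Agent.Lib.Helper76.AbCent

open Cfsg Cfsg.Agent.Lib.Helper32.AbCent Cfsg.Agent.Lib.Helper21

variable {G : Type*} [Group G] [Finite G] {H M : Subgroup G}

omit [Finite G] in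
/-- `mk g ≠ mk 1` iff `g ∉ H`. -/
theorem mk_ne_mk_one_iff (g : G) : (QuotientGroup.mk g : G ⧸ H) ≠ QuotientGroup.mk 1 ↔ g ∉ H := by
  rw [not_iff_not]
  constructor
  · intro h
    have := QuotientGroup.eq.mp h
    have h2 : g⁻¹ ∈ H := by simpa using this
    simpa using H.inv_mem h2
  · intro h
    apply QuotientGroup.eq.mpr
    simpa using H.inv_mem h

/-- every coset other than `H` is `uH` for an involution `u`. -/
theorem exists_involution_mk (h : TIData H M) {g : G} (hg : g ∉ H) :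
    ∃ u : G, orderOf u = 2 ∧ u ∉ H ∧ (QuotientGroup.mk u : G ⧸ H) = QuotientGroup.mk g := by
  have hxy : (QuotientGroup.mk 1 : G ⧸ H) ≠ QuotientGroup.mk g :=
    fun e => (mk_ne_mk_one_iff g).mpr hg e.symm
  have hcard := se_card_swapping h.se hxy
  obtain ⟨a, b, haH, hbH, ha, hb, hab⟩ := h.two
  have hne : Nonempty {t : G // orderOf t = 2 ∧ t ∈ H} := ⟨⟨a, ha, haH⟩⟩
  have hpos : 0 < Nat.card {t : G // orderOf t = 2 ∧ t ∈ H} := Nat.card_pos
  rw [← hcard] at hpos
  obtain ⟨⟨u, hu, hux⟩⟩ := (Nat.card_pos_iff.mp hpos).1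
  have hmk : (QuotientGroup.mk u : G ⧸ H) = QuotientGroup.mk g := by
    rw [← hux, MulAction.Quotient.smul_mk, smul_eq_mul, mul_one]
  refine ⟨u, hu, ?_, hmk⟩
  rw [← mk_ne_mk_one_iff, hmk, mk_ne_mk_one_iff]
  exact hg

/-- a nonidentity element fixing `H` fixes at most one further coset. -/
theorem fix_unique (h : TIData H M) (h6 : Fix2 H) {d : G} (hd : d ≠ 1) (hdH : d ∈ H)
    {g₁ g₂ : G} (hg₁ : g₁ ∉ H) (hg₂ : g₂ ∉ H)
    (h₁ : d • (QuotientGroup.mk g₁ : G ⧸ H) = QuotientGroup.mk g₁)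
    (h₂ : d • (QuotientGroup.mk g₂ : G ⧸ H) = QuotientGroup.mk g₂) :
    (QuotientGroup.mk g₁ : G ⧸ H) = QuotientGroup.mk g₂ := by
  obtain ⟨u, hu, huH, hmk⟩ := exists_involution_mk h hg₁
  have hdu : d ∈ H ⊓ cj u H := by
    refine Subgroup.mem_inf.mpr ⟨hdH, ?_⟩
    rw [mem_map_conj_iff_smul, hmk]
    exact h₁
  have hdg : d ∈ cj g₂ H := by
    rw [mem_map_conj_iff_smul]
    exact h₂
  have := h6 u hu huH d hdu hd g₂ hg₂ hdg
  rw [← hmk]
  exact QuotientGroup.eq.mpr this

/-- no nonidentity element fixes three cosets. -/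
theorem fix_three (h : TIData H M) (h6 : Fix2 H) (g : G) (a b c : G ⧸ H) (hab : a ≠ b)
    (hbc : b ≠ c) (hac : a ≠ c) (ha : g • a = a) (hb : g • b = b) (hc : g • c = c) : g = 1 := by
  by_contra hg
  obtain ⟨α, rfl⟩ := QuotientGroup.mk_surjective a
  obtain ⟨β, rfl⟩ := QuotientGroup.mk_surjective b
  obtain ⟨γ, rfl⟩ := QuotientGroup.mk_surjective c
  -- conjugate by `α`
  have hd1 : α⁻¹ * g * α ≠ 1 := by
    intro e
    apply hg
    have : g = α * (α⁻¹ * g * α) * α⁻¹ := by group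
    rw [this, e]; group
  have hdH : α⁻¹ * g * α ∈ H := (smul_mk_eq_mk_iff g α).mp ha
  have hβ : α⁻¹ * β ∉ H := fun hh => hab (QuotientGroup.eq.mpr hh)
  have hγ : α⁻¹ * γ ∉ H := fun hh => hac (QuotientGroup.eq.mpr hh)
  have key : ∀ δ : G, g • (QuotientGroup.mk δ : G ⧸ H) = QuotientGroup.mk δ →
      (α⁻¹ * g * α) • (QuotientGroup.mk (α⁻¹ * δ) : G ⧸ H) = QuotientGroup.mk (α⁻¹ * δ) := by
    intro δ hδ
    rw [smul_mk_eq_mk_iff] at hδ ⊢
    have : (α⁻¹ * δ)⁻¹ * (α⁻¹ * g * α) * (α⁻¹ * δ) = δ⁻¹ * g * δ := by group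
    rw [this]; exact hδ
  have := fix_unique h h6 hd1 hdH hβ hγ (key β hb) (key γ hc)
  have h2 := QuotientGroup.eq.mp this
  apply hbc
  apply QuotientGroup.eq.mpr
  have : (α⁻¹ * β)⁻¹ * (α⁻¹ * γ) = β⁻¹ * γ := by group
  rwa [this] at h2

omit [Finite G] in
/-- involutions of `H` lie in `M`. -/
theorem involution_mem_M (h : TIData H M) {t : G} (ht : orderOf t = 2) (htH : t ∈ H) : t ∈ M :=
  h.cent t htH ht t rfl

/-- `3 ≤ |M|`. -/
theorem three_le_card_M (h : TIData H M) : 3 ≤ Nat.card M := by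
  obtain ⟨a, b, haH, hbH, ha, hb, hab⟩ := h.two
  have haM := involution_mem_M h ha haH
  have hbM := involution_mem_M h hb hbH
  let f : Fin 3 → M := ![⟨1, M.one_mem⟩, ⟨a, haM⟩, ⟨b, hbM⟩]
  have hf : Function.Injective f := by
    intro i j hij
    have ha1 : a ≠ 1 := inv_ne_one ha
    have hb1 : b ≠ 1 := inv_ne_one hb
    fin_cases i <;> fin_cases j <;> simp [f, Subtype.ext_iff] at hij ⊢
    · exact absurd hij.symm ha1
    · exact absurd hij.symm hb1
    · exact absurd hij ha1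
    · exact absurd hij hab
    · exact absurd hij hb1
    · exact absurd hij.symm hab
  have := Nat.card_le_card_of_injective f hf
  simpa using this

/-- there is an involution outside `H`. -/
theorem exists_involution_not_mem (h : TIData H M) : ∃ u : G, orderOf u = 2 ∧ u ∉ H := by
  have hne : ∃ g : G, g ∉ H := by
    by_contra hcon
    apply h.se.1
    rw [Subgroup.eq_top_iff']
    intro x
    by_contra hx
    exact hcon ⟨x, hx⟩
  obtain ⟨g, hg⟩ := hne
  obtain ⟨u, hu, huH, _⟩ := exists_involution_mk h hg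
  exact ⟨u, hu, huH⟩

omit [Finite G] in
/-- the action is 2-pretransitive. -/
theorem two_pretransitive (h : TIData H M)
    (h7 : ∀ g g' : G, g ∉ H → g' ∉ H →
      ∃ x ∈ M, x • (QuotientGroup.mk g : G ⧸ H) = QuotientGroup.mk g') :
    MulAction.IsMultiplyPretransitive G (G ⧸ H) 2 := by
  rw [MulAction.is_two_pretransitive_iff]
  intro a b c d hab hcd
  obtain ⟨α, rfl⟩ := QuotientGroup.mk_surjective a
  obtain ⟨β, rfl⟩ := QuotientGroup.mk_surjective b
  obtain ⟨γ, rfl⟩ := QuotientGroup.mk_surjective c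
  obtain ⟨δ, rfl⟩ := QuotientGroup.mk_surjective d
  have hβ : α⁻¹ * β ∉ H := fun hh => hab (QuotientGroup.eq.mpr hh)
  have hδ : γ⁻¹ * δ ∉ H := fun hh => hcd (QuotientGroup.eq.mpr hh)
  obtain ⟨x, hxM, hx⟩ := h7 _ _ hβ hδ
  have hxH : x ∈ H := h.le hxM
  refine ⟨γ * x * α⁻¹, ?_, ?_⟩
  · rw [MulAction.Quotient.smul_mk, smul_eq_mul]
    apply QuotientGroup.eq.mpr
    have : (γ * x * α⁻¹ * α)⁻¹ * γ = x⁻¹ := by group
    rw [this]
    exact H.inv_mem hxH
  · rw [MulAction.Quotient.smul_mk, smul_eq_mul] at hx ⊢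
    have e1 : γ * x * α⁻¹ * β = γ * (x * (α⁻¹ * β)) := by group
    rw [e1]
    have h2 := QuotientGroup.eq.mp hx
    apply QuotientGroup.eq.mpr
    have : (γ * (x * (α⁻¹ * β)))⁻¹ * δ = (x * (α⁻¹ * β))⁻¹ * (γ⁻¹ * δ) := by group
    rw [this]; exact h2

/-- three distinct cosets exist. -/
theorem exists_three (h : TIData H M) (hcard : Nat.card (G ⧸ H) = Nat.card M + 1) :
    ∃ a b c : G ⧸ H, a ≠ b ∧ b ≠ c ∧ a ≠ c := by
  have h3 := three_le_card_M h
  have h4 : 2 < Nat.card (G ⧸ H) := by omega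
  have hft : Fintype (G ⧸ H) := Fintype.ofFinite _
  rw [Nat.card_eq_fintype_card, Fintype.two_lt_card_iff] at h4
  obtain ⟨a, b, c, hab, hac, hbc⟩ := h4
  exact ⟨a, b, c, hab, hbc, hac⟩

/-- the action is faithful. -/
theorem faithful (h : TIData H M) (h6 : Fix2 H) (hcard : Nat.card (G ⧸ H) = Nat.card M + 1) :
    FaithfulSMul G (G ⧸ H) := by
  constructor
  intro g₁ g₂ hg
  obtain ⟨a, b, c, hab, hbc, hac⟩ := exists_three h hcard
  have key : ∀ x : G ⧸ H, (g₂⁻¹ * g₁) • x = x := by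
    intro x
    rw [mul_smul, hg x, ← mul_smul, inv_mul_cancel, one_smul]
  have := fix_three h h6 (g₂⁻¹ * g₁) a b c hab hbc hac (key a) (key b) (key c)
  calc g₁ = g₂ * (g₂⁻¹ * g₁) := by group
    _ = g₂ := by rw [this, mul_one]

/-- `2 ≤ numInv H`. -/
theorem two_le_numInv (h : TIData H M) : 2 ≤ numInv H := by
  obtain ⟨a, b, haH, hbH, ha, hb, hab⟩ := h.two
  let f : Fin 2 → {t : G // orderOf t = 2 ∧ t ∈ H} := ![⟨a, ha, haH⟩, ⟨b, hb, hbH⟩]
  have hf : Function.Injective f := by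
    intro i j hij
    fin_cases i <;> fin_cases j <;> simp [f, Subtype.ext_iff] at hij ⊢
    · exact absurd hij hab
    · exact absurd hij.symm hab
  have := Nat.card_le_card_of_injective f hf
  simpa using this

/-- a nonidentity element fixes two distinct cosets. -/
theorem exists_fix_two (h : TIData H M) (h4 : DInv H) :
    ∃ g : G, g ≠ 1 ∧ ∃ a b : G ⧸ H, a ≠ b ∧ g • a = a ∧ g • b = b := by
  obtain ⟨u, hu, huH⟩ := exists_involution_not_mem h
  obtain ⟨hcard, _⟩ := h4 u hu huH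
  have h2 := two_le_numInv h
  rw [← hcard] at h2
  have hnt : Nontrivial ↥(H ⊓ cj u H) := by
    have hfin : Finite ↥(H ⊓ cj u H) := inferInstance
    exact (Finite.one_lt_card_iff_nontrivial).mp (by omega)
  obtain ⟨d, hd⟩ := exists_ne (1 : ↥(H ⊓ cj u H))
  have hdmem := Subgroup.mem_inf.mp d.2
  refine ⟨d.1, fun e => hd (Subtype.ext e), QuotientGroup.mk 1, QuotientGroup.mk u, ?_, ?_, ?_⟩
  · exact fun e => (mk_ne_mk_one_iff u).mpr huH e.symm
  · exact (smul_mk_one_eq_iff d.1).mpr hdmem.1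
  · exact (mem_map_conj_iff_smul u d.1).mp hdmem.2

/-- no normal subgroup acts regularly. -/
theorem no_regular_normal (h : TIData H M) (N : Subgroup G) (hN : N.Normal)
    (htr : MulAction.IsPretransitive N (G ⧸ H)) :
    ∃ a : G ⧸ H, MulAction.stabilizer N a ≠ ⊥ := by
  by_contra hcon
  have hstab : ∀ a : G ⧸ H, MulAction.stabilizer N a = ⊥ := by
    intro a
    by_contra hne
    exact hcon ⟨a, hne⟩
  -- elements of `N` fixing a coset are trivial
  have hfix : ∀ n : G, n ∈ N → ∀ a : G ⧸ H, n • a = a → n = 1 := by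
    intro n hn a ha
    have hmem : (⟨n, hn⟩ : N) ∈ MulAction.stabilizer N a := by
      rw [MulAction.mem_stabilizer_iff]
      exact ha
    rw [hstab a, Subgroup.mem_bot] at hmem
    exact congrArg Subtype.val hmem
  have hNH : ∀ n : G, n ∈ N → n ∈ H → n = 1 := fun n hn hnH =>
    hfix n hn (QuotientGroup.mk 1) ((smul_mk_one_eq_iff n).mpr hnH)
  -- involutions of `H` invert `N`
  have hinv : ∀ t : G, orderOf t = 2 → t ∈ H → ∀ n : G, n ∈ N → t * n * t⁻¹ = n⁻¹ := by
    intro t ht htH n hn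
    have hfpf : MonoidHom.FixedPointFree (MulAut.conjNormal t : MulAut N) := by
      intro m hm
      have hm' : t * (m : G) * t⁻¹ = (m : G) := by
        have := congrArg Subtype.val hm
        rwa [MulAut.conjNormal_apply] at this
      have hcomm : (m : G) * t = t * (m : G) := by
        calc (m : G) * t = (t * (m : G) * t⁻¹) * t := by rw [hm']
          _ = t * (m : G) := by group
      have hmM : (m : G) ∈ M := h.cent t htH ht (m : G) hcomm
      exact Subtype.ext (hNH (m : G) m.2 (h.le hmM))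
    have hinvol : Function.Involutive (MulAut.conjNormal t : MulAut N) := by
      intro m
      apply Subtype.ext
      rw [MulAut.conjNormal_apply, MulAut.conjNormal_apply]
      have htt : t * t = 1 := inv_mul_self ht
      have hti : t⁻¹ = t := inv_inv_eq ht
      rw [hti]
      calc t * (t * (m : G) * t) * t = (t * t) * (m : G) * (t * t) := by group
        _ = (m : G) := by rw [htt, one_mul, mul_one]
    have hco := MonoidHom.FixedPointFree.coe_eq_inv_of_involutive hfpf hinvol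
    have := congrFun hco ⟨n, hn⟩
    have h2 := congrArg Subtype.val this
    rw [MulAut.conjNormal_apply] at h2
    simpa using h2
  -- three involutions `a`, `b`, `a * b`
  obtain ⟨a, b, haH, hbH, ha, hb, hab⟩ := h.two
  have haM := involution_mem_M h ha haH
  have hbM := involution_mem_M h hb hbH
  have hcomm : a * b = b * a := h.comm a haM b hbM
  have hab2 : (a * b) * (a * b) = 1 := by
    calc (a * b) * (a * b) = a * (b * a) * b := by group
      _ = a * (a * b) * b := by rw [hcomm]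
      _ = (a * a) * (b * b) := by group
      _ = 1 := by rw [inv_mul_self ha, inv_mul_self hb, one_mul]
  have hab1 : a * b ≠ 1 := by
    intro e
    apply hab
    have : a = b⁻¹ := eq_inv_of_mul_eq_one_left e
    rw [this, inv_inv_eq hb]
  have habo : orderOf (a * b) = 2 := orderOf_eq_two_of hab1 hab2
  have habH : a * b ∈ H := H.mul_mem haH hbH
  -- `N` has exponent two
  have hsq : ∀ n : G, n ∈ N → n * n = 1 := by
    intro n hn
    have h1 := hinv (a * b) habo habH n hn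
    have hbn : b * n * b⁻¹ ∈ N := hN.conj_mem n hn b
    have h2 : a * (b * n * b⁻¹) * a⁻¹ = (b * n * b⁻¹)⁻¹ := hinv a ha haH _ hbn
    have h3 : b * n * b⁻¹ = n⁻¹ := hinv b hb hbH n hn
    have h4 : (a * b) * n * (a * b)⁻¹ = n := by
      calc (a * b) * n * (a * b)⁻¹ = a * (b * n * b⁻¹) * a⁻¹ := by group
        _ = (b * n * b⁻¹)⁻¹ := h2
        _ = n := by rw [h3, inv_inv]
    have h5 : n = n⁻¹ := h4.symm.trans h1
    calc n * n = n * n⁻¹ := by rw [← h5]
      _ = 1 := mul_inv_cancel n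
  -- a nonidentity element of `N`
  obtain ⟨u, hu, huH⟩ := exists_involution_not_mem h
  obtain ⟨n, hn⟩ := MulAction.exists_smul_eq N (QuotientGroup.mk 1 : G ⧸ H) (QuotientGroup.mk u)
  have hn' : (n : G) • (QuotientGroup.mk 1 : G ⧸ H) = QuotientGroup.mk u := hn
  have hn1 : (n : G) ≠ 1 := by
    intro e
    rw [e, one_smul] at hn'
    exact (mk_ne_mk_one_iff u).mpr huH hn'.symm
  have hno : orderOf (n : G) = 2 := orderOf_eq_two_of hn1 (hsq n n.2)
  obtain ⟨x, hx⟩ := se_exists_fixed h.se hno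
  exact hn1 (hfix n n.2 x hx)

/-- MODULE [I-8] -/
theorem isZassenhaus (h : TIData H M) (h3 : FTriv H M) (h4 : DInv H) (h6 : Fix2 H)
    (h7 : Nat.card (G ⧸ H) = Nat.card M + 1 ∧
      ∀ g g' : G, g ∉ H → g' ∉ H → ∃ x ∈ M, x • (QuotientGroup.mk g : G ⧸ H) = QuotientGroup.mk g') :
    Cfsg.IsZassenhausGroup G (G ⧸ H) := by
  refine ⟨faithful h h6 h7.1, two_pretransitive h h7.2, ?_, exists_fix_two h h4, ?_⟩
  · intro g a b c hab hbc hac ha hb hc
    exact fix_three h h6 g a b c hab hbc hac ha hb hc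
  · intro N hN htr
    exact no_regular_normal h N hN htr

end Cfsg.Agent.Lib.Helper76.AbCent
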