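import Mathlib
import Cfsg.Agent.Lib.Helper76.AbCentZass
import Cfsg.Agent.S0885

set_option autoImplicit false

/-!
# S2202 module [I-9], conditional form (helper32, AbCentSPINE.md)

`caseI_false_of`: the contradiction of case (I) from the facts [I-3] (`FTriv`), [I-4] (`DInv`),
[I-6] (`Fix2`) and [I-7], using [I-8] and the Feit inequality S0885.
-/

namespace Cfsg.Agent.Lib.Helper76.AbCent

open Cfsg Cfsg.Agent.Lib.Helper32.AbCent Cfsg.Agent.Lib.Helper21

variable {G : Type*} [Group G] [Finite G] {H M : Subgroup G}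

omit [Finite G] in
theorem stabilizer_mk_one : MulAction.stabilizer G (QuotientGroup.mk 1 : G ⧸ H) = H := by
  ext x
  rw [MulAction.mem_stabilizer_iff]
  exact smul_mk_one_eq_iff x

omit [Finite G] in
theorem stabilizer_mk (u : G) : MulAction.stabilizer G (QuotientGroup.mk u : G ⧸ H) = cj u H := by
  ext x
  rw [MulAction.mem_stabilizer_iff]
  exact (mem_map_conj_iff_smul u x).symm

/-- the subgroup of elements of `M` of square one. -/
def sqOne (h : TIData H M) : Subgroup G where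
  carrier := {x | x ∈ M ∧ x * x = 1}
  one_mem' := ⟨M.one_mem, by simp⟩
  mul_mem' := by
    rintro x y ⟨hx, hx2⟩ ⟨hy, hy2⟩
    refine ⟨M.mul_mem hx hy, ?_⟩
    have hc : x * y = y * x := h.comm x hx y hy
    calc x * y * (x * y) = x * (y * x) * y := by group
      _ = x * (x * y) * y := by rw [hc]
      _ = (x * x) * (y * y) := by group
      _ = 1 := by rw [hx2, hy2, one_mul]
  inv_mem' := by
    rintro x ⟨hx, hx2⟩
    refine ⟨M.inv_mem hx, ?_⟩
    have : x⁻¹ = x := inv_eq_of_mul_eq_one_left hx2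
    rw [this, hx2]

omit [Finite G] in
theorem mem_sqOne (h : TIData H M) (x : G) : x ∈ sqOne h ↔ x ∈ M ∧ x * x = 1 := Iff.rfl

omit [Finite G] in
theorem sqOne_le (h : TIData H M) : sqOne h ≤ M := fun _ hx => hx.1

/-- `|sqOne| = numInv H + 1`. -/
theorem card_sqOne (h : TIData H M) : Nat.card (sqOne h) = numInv H + 1 := by
  have e1 : Nat.card (sqOne h) = Set.ncard ((sqOne h : Subgroup G) : Set G) :=
    Nat.card_coe_set_eq _
  have e2 : numInv H = Set.ncard {t : G | orderOf t = 2 ∧ t ∈ H} :=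
    Nat.card_coe_set_eq {t : G | orderOf t = 2 ∧ t ∈ H}
  have hset : ((sqOne h : Subgroup G) : Set G) = insert 1 {t : G | orderOf t = 2 ∧ t ∈ H} := by
    ext x
    simp only [SetLike.mem_coe, Set.mem_insert_iff, Set.mem_ofPred_eq]
    rw [mem_sqOne]
    constructor
    · rintro ⟨hxM, hx2⟩
      by_cases hx1 : x = 1
      · exact Or.inl hx1
      · exact Or.inr ⟨orderOf_eq_two_of hx1 hx2, h.le hxM⟩
    · rintro (rfl | ⟨hx, hxH⟩)
      · exact ⟨M.one_mem, by simp⟩
      · exact ⟨involution_mem_M h hx hxH, inv_mul_self hx⟩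
  have hnot : (1 : G) ∉ {t : G | orderOf t = 2 ∧ t ∈ H} := by
    rintro ⟨h1, _⟩
    rw [orderOf_one] at h1
    omega
  rw [e1, e2, hset, Set.ncard_insert_of_notMem hnot (Set.toFinite _)]

/-- if some element of `M` has nontrivial square then `2 * (numInv H + 1) ≤ |M|`. -/
theorem two_mul_le_card_M (h : TIData H M) (hne : ∃ x ∈ M, x ^ 2 ≠ 1) :
    2 * (numInv H + 1) ≤ Nat.card M := by
  obtain ⟨x, hxM, hx2⟩ := hne
  have hdvd : Nat.card (sqOne h) ∣ Nat.card M := Subgroup.card_dvd_of_le (sqOne_le h)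
  obtain ⟨k, hk⟩ := hdvd
  have hMpos : 0 < Nat.card M := Nat.card_pos
  have hk0 : k ≠ 0 := by
    rintro rfl
    rw [mul_zero] at hk
    omega
  have hk1 : k ≠ 1 := by
    rintro rfl
    rw [mul_one] at hk
    have heq : sqOne h = M := Subgroup.eq_of_le_of_card_ge (sqOne_le h) hk.le
    apply hx2
    have hmem : x ∈ sqOne h := by rw [heq]; exact hxM
    rw [pow_two]
    exact hmem.2
  have hk2 : 2 ≤ k := by omega
  rw [hk, card_sqOne h]
  calc 2 * (numInv H + 1) = (numInv H + 1) * 2 := by ring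
    _ ≤ (numInv H + 1) * k := Nat.mul_le_mul_left _ hk2

/-- MODULE [I-9], conditional form. -/
theorem caseI_false_of (h : TIData H M) (hne : ∃ x ∈ M, x ^ 2 ≠ 1) (h3 : FTriv H M)
    (h4 : DInv H) (h6 : Fix2 H)
    (h7 : Nat.card (G ⧸ H) = Nat.card M + 1 ∧
      ∀ g g' : G, g ∉ H → g' ∉ H → ∃ x ∈ M, x • (QuotientGroup.mk g : G ⧸ H) = QuotientGroup.mk g') :
    False := by
  have hZ := isZassenhaus h h3 h4 h6 h7
  obtain ⟨u, hu, huH⟩ := exists_involution_not_mem h
  have hft : Fintype (G ⧸ H) := Fintype.ofFinite _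
  have hab : (QuotientGroup.mk 1 : G ⧸ H) ≠ QuotientGroup.mk u :=
    fun e => (mk_ne_mk_one_iff u).mpr huH e.symm
  have hh : Fintype.card (G ⧸ H) = Nat.card M + 1 := by
    rw [← Nat.card_eq_fintype_card]; exact h7.1
  have he : Nat.card ↥(MulAction.stabilizer G (QuotientGroup.mk 1 : G ⧸ H) ⊓
      MulAction.stabilizer G (QuotientGroup.mk u : G ⧸ H) : Subgroup G) = numInv H := by
    rw [stabilizer_mk_one, stabilizer_mk]
    exact (h4 u hu huH).1
  have hodd : Odd (numInv H) := by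
    rw [← (h4 u hu huH).1]
    exact h.se.2.2 u huH
  have hHa : M ≤ MulAction.stabilizer G (QuotientGroup.mk 1 : G ⧸ H) := by
    rw [stabilizer_mk_one]; exact h.le
  have hHfix : ∀ x ∈ M, x ≠ 1 → ∀ c : G ⧸ H, x • c = c → c = QuotientGroup.mk 1 := by
    intro x hxM hx1 c hc
    obtain ⟨g, rfl⟩ := QuotientGroup.mk_surjective c
    by_contra hcon
    have hg : g ∉ H := (mk_ne_mk_one_iff g).mp hcon
    apply hx1
    apply h3 g hg x hxM
    rw [mem_map_conj_iff_smul]
    exact hc
  have key := Cfsg.Agent.S0885.result hZ hab (Nat.card M) (numInv H) hh he hodd M hHa hh.symm hHfix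
  have h2 := two_mul_le_card_M h hne
  rcases key with hk | ⟨_, ⟨x, y, hxy⟩, _⟩
  · omega
  · apply hxy
    apply Subtype.ext
    exact h.comm x x.2 y y.2

end Cfsg.Agent.Lib.Helper76.AbCent
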