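import Mathlib

/-!
# Fixed-point-free Frobenius groups of order `r * s`: ambient context (helper76)

`FCtx r s G f h`: inside an ambient group `Γ`, `G` is a normal subgroup of order prime to `r * s`,
`f` has order `r`, `h` has order `s`, `h` normalizes `⟨f⟩` without centralizing it, and no
nonidentity element of `G` commutes with both `f` and `h`.
-/

set_option autoImplicit false
set_option linter.unusedSectionVars false
set_option linter.unusedVariables false

namespace Cfsg.Agent.Lib.Helper76.FrobRed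

universe u

/-- The standing hypotheses (ambient form) for a fixed-point-free Frobenius group `⟨f, h⟩`
of order `r * s` acting on `G`. -/
structure FCtx {Γ : Type*} [Group Γ] (r s : ℕ) (G : Subgroup Γ) (f h : Γ) : Prop where
  hGn : G.Normal
  hrs : r ≠ s
  hf : f ^ r = 1
  hf1 : f ≠ 1
  hh : h ^ s = 1
  hh1 : h ≠ 1
  hnorm : h * f * h⁻¹ ∈ Subgroup.zpowers f
  hncomm : h * f ≠ f * h
  hrG : ¬ r ∣ Nat.card G
  hsG : ¬ s ∣ Nat.card G
  hfpf : ∀ g ∈ G, g * f = f * g → g * h = h * g → g = 1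

/-- The statement of the ambient theorem (proved in `FrobRedF`). -/
def FrobAmbientStmt : Prop :=
  ∀ {r s : ℕ} [Fact r.Prime] [Fact s.Prime] (Γ : Type u) [Group Γ] [Finite Γ]
    [Group.IsSolvable Γ] (G : Subgroup Γ) (f h : Γ), FCtx r s G f h →
      ∃ N : Subgroup Γ, N ≤ G ∧ N.Normal ∧ (∃ m, N.lowerCentralSeries m = ⊥) ∧
        ∃ k, G.lowerCentralSeries k ≤ N

variable {Γ : Type*} [Group Γ] [Finite Γ] {r s : ℕ} {G : Subgroup Γ} {f h : Γ}

theorem FCtx.r_not_dvd_of_le (c : FCtx r s G f h) {K : Subgroup Γ} (hK : K ≤ G) :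
    ¬ r ∣ Nat.card K := fun hd => c.hrG (hd.trans (Subgroup.card_dvd_of_le hK))

theorem FCtx.s_not_dvd_of_le (c : FCtx r s G f h) {K : Subgroup Γ} (hK : K ≤ G) :
    ¬ s ∣ Nat.card K := fun hd => c.hsG (hd.trans (Subgroup.card_dvd_of_le hK))

end Cfsg.Agent.Lib.Helper76.FrobRed
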