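import Mathlib

set_option autoImplicit false

/-!
# S3777 (Vaughan-Lee) modules [VL-P1], [VL-P2], [VL-T] (helper35, board #4359)

Homomorphisms from a finite `p`-group to `Multiplicative (ZMod p)` normalised at an element.
-/

open Subgroup

namespace Cfsg.Agent.Lib.Helper76.VL

/-- `ofAdd 1 ≠ 1` in `Multiplicative (ZMod p)`. -/
theorem ofAdd_one_ne_one {p : ℕ} [Fact p.Prime] :
    (Multiplicative.ofAdd (1 : ZMod p)) ≠ 1 := by
  intro h
  have h1 : (1 : ZMod p) = 0 := by
    have := congrArg Multiplicative.toAdd h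
    simp at this
  exact one_ne_zero h1

/-- `Multiplicative (ZMod p)` has `p` elements. -/
theorem card_mult_zmod {p : ℕ} [Fact p.Prime] : Nat.card (Multiplicative (ZMod p)) = p := by
  have : Nat.card (Multiplicative (ZMod p)) = Nat.card (ZMod p) :=
    Nat.card_congr Multiplicative.toAdd
  rw [this, Nat.card_zmod]

/-- every element of `Multiplicative (ZMod p)` has `p`-th power `1`. -/
theorem pow_p_eq_one {p : ℕ} [Fact p.Prime] (a : Multiplicative (ZMod p)) : a ^ p = 1 := by
  have h : Nat.card (Multiplicative (ZMod p)) = p := card_mult_zmod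
  have := pow_card_eq_one' (G := Multiplicative (ZMod p)) (x := a)
  rwa [h] at this

/-- MODULE [VL-P2] -/
theorem index_ker_of_apply_eq {G : Type*} [Group G] [Finite G] {p : ℕ} [Fact p.Prime]
    (φ : G →* Multiplicative (ZMod p)) (g : G) (hg : φ g = Multiplicative.ofAdd 1) :
    φ.ker.index = p := by
  rw [Subgroup.index_ker]
  have hcard : Nat.card (Multiplicative (ZMod p)) = p := card_mult_zmod
  have hfact : Fact (Nat.card (Multiplicative (ZMod p))).Prime := by
    rw [hcard]; infer_instance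
  rcases φ.range.eq_bot_or_eq_top_of_prime_card with h | h
  · exfalso
    have hmem : φ g ∈ φ.range := ⟨g, rfl⟩
    rw [h, Subgroup.mem_bot, hg] at hmem
    exact ofAdd_one_ne_one hmem
  · rw [h, Subgroup.card_top, hcard]

/-- MODULE [VL-P1] -/
theorem exists_hom_of_index_prime {G : Type*} [Group G] [Finite G] {p : ℕ} [Fact p.Prime]
    (hG : IsPGroup p G) (L : Subgroup G) (hL : L.index = p) (g : G) (hg : g ∉ L) :
    ∃ φ : G →* Multiplicative (ZMod p), φ.ker = L ∧ φ g = Multiplicative.ofAdd 1 := by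
  have hp : p.Prime := Fact.out
  -- `L` is normal
  have hLn : L.Normal := by
    apply Subgroup.normal_of_index_eq_minFac_card
    obtain ⟨n, hn⟩ := (IsPGroup.iff_card).mp hG
    have hn0 : n ≠ 0 := by
      rintro rfl
      rw [pow_zero] at hn
      have : L.index ∣ Nat.card G := Subgroup.index_dvd_card L
      rw [hn, hL, Nat.dvd_one] at this
      exact hp.one_lt.ne' this
    rw [hL, hn, Nat.Prime.pow_minFac hp hn0]
  have hcard : Nat.card (G ⧸ L) = p := by rw [← Subgroup.index_eq_card, hL]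
  have hfact : Fact (Nat.card (G ⧸ L)).Prime := by rw [hcard]; infer_instance
  have hne : (QuotientGroup.mk' L g) ≠ 1 := by
    intro h
    exact hg ((QuotientGroup.eq_one_iff g).mp h)
  have hgen : ∀ x : G ⧸ L, x ∈ Subgroup.zpowers (QuotientGroup.mk' L g) := by
    intro x
    rw [zpowers_eq_top_of_prime_card hcard hne]
    exact Subgroup.mem_top x
  refine ⟨((zmodMulEquivOfGenerator hgen hcard).symm.toMonoidHom).comp (QuotientGroup.mk' L),
    ?_, ?_⟩
  · ext x
    rw [MonoidHom.mem_ker, MonoidHom.comp_apply]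
    change (zmodMulEquivOfGenerator hgen hcard).symm (QuotientGroup.mk' L x) = 1 ↔ x ∈ L
    rw [MulEquiv.map_eq_one_iff]
    exact QuotientGroup.eq_one_iff x
  · rw [MonoidHom.comp_apply]
    exact zmodMulEquivOfGenerator_symm_apply_generator hgen hcard

/-- In a non-cyclic finite `p`-group every element lies in a subgroup of index `p`. -/
theorem exists_index_prime_of_not_isCyclic {G : Type*} [Group G] [Finite G] {p : ℕ}
    [Fact p.Prime] (hG : IsPGroup p G) (hnc : ¬ IsCyclic G) (g : G) :
    ∃ L : Subgroup G, L.index = p ∧ g ∈ L := by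
  have hp : p.Prime := Fact.out
  obtain ⟨N, hN⟩ := (IsPGroup.iff_card).mp hG
  have hK : IsPGroup p (Subgroup.zpowers g) := hG.to_subgroup _
  obtain ⟨n, hn⟩ := (IsPGroup.iff_card).mp hK
  have hne : Subgroup.zpowers g ≠ ⊤ := by
    intro h
    refine hnc ⟨g, fun x => ?_⟩
    have hx : x ∈ Subgroup.zpowers g := by rw [h]; exact Subgroup.mem_top x
    exact hx
  have hlt : n < N := by
    have hdvd : Nat.card (Subgroup.zpowers g) ∣ Nat.card G := Subgroup.card_subgroup_dvd_card _
    rw [hn, hN] at hdvd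
    have hle : n ≤ N := (Nat.pow_dvd_pow_iff_le_right hp.one_lt).mp hdvd
    rcases hle.lt_or_eq with h | h
    · exact h
    · exfalso
      apply hne
      apply (Subgroup.card_eq_iff_eq_top (Subgroup.zpowers g)).mp
      rw [hn, hN, h]
  obtain ⟨L, hLcard, hLle⟩ := Sylow.exists_subgroup_card_pow_prime_le p
    (n := n) (m := N - 1) (by rw [hN]; exact pow_dvd_pow p (Nat.sub_le N 1))
    (Subgroup.zpowers g) hn (by omega)
  refine ⟨L, ?_, hLle (Subgroup.mem_zpowers g)⟩
  have hmul : Nat.card L * L.index = Nat.card G := Subgroup.card_mul_index L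
  rw [hLcard, hN] at hmul
  have hN1 : N = (N - 1) + 1 := by omega
  have hpow : p ^ N = p ^ (N - 1) * p := by
    conv_lhs => rw [hN1]
    exact pow_succ p (N - 1)
  rw [hpow] at hmul
  exact Nat.eq_of_mul_eq_mul_left (pow_pos hp.pos _) hmul

/-- MODULE [VL-T] -/
theorem dvd_card_homs {G : Type*} [Group G] [Finite G] {p : ℕ} [Fact p.Prime]
    (hG : IsPGroup p G) (hnc : ¬ IsCyclic G) (g : G)
    (hex : ∃ φ : G →* Multiplicative (ZMod p), φ g = Multiplicative.ofAdd 1) :
    p ∣ Nat.card {φ : G →* Multiplicative (ZMod p) // φ g = Multiplicative.ofAdd 1} := by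
  have hp : p.Prime := Fact.out
  obtain ⟨φ₀, hφ₀⟩ := hex
  -- the subgroup `A` of homs killing `g`
  let ev : (G →* Multiplicative (ZMod p)) →* Multiplicative (ZMod p) := MonoidHom.eval g
  have hev : ∀ ψ : G →* Multiplicative (ZMod p), ψ ∈ ev.ker ↔ ψ g = 1 := by
    intro ψ
    rw [MonoidHom.mem_ker]
    rfl
  -- the bijection
  have hequiv : Nat.card {φ : G →* Multiplicative (ZMod p) // φ g = Multiplicative.ofAdd 1}
      = Nat.card ev.ker := by
    apply Nat.card_congr
    refine ⟨fun φ => ⟨φ₀⁻¹ * φ.1, ?_⟩, fun ψ => ⟨φ₀ * ψ.1, ?_⟩, ?_, ?_⟩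
    · rw [hev, MonoidHom.mul_apply, MonoidHom.inv_apply, hφ₀, φ.2, inv_mul_cancel]
    · rw [MonoidHom.mul_apply, hφ₀, (hev ψ.1).mp ψ.2, mul_one]
    · intro φ
      apply Subtype.ext
      simp
    · intro ψ
      apply Subtype.ext
      simp
  rw [hequiv]
  -- `A` is a `p`-group
  have hA : IsPGroup p ev.ker := by
    intro ψ
    refine ⟨1, ?_⟩
    apply Subtype.ext
    rw [pow_one, Subgroup.coe_pow, Subgroup.coe_one]
    ext x
    rw [MonoidHom.pow_apply, MonoidHom.one_apply]
    exact congrArg _ (pow_p_eq_one (ψ.1 x))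
  -- `A` is nontrivial
  rcases hA.card_eq_or_dvd with h1 | h
  · exfalso
    rw [Subgroup.card_eq_one] at h1
    obtain ⟨L, hL, hgL⟩ := exists_index_prime_of_not_isCyclic hG hnc g
    have hLtop : L ≠ ⊤ := by
      intro h
      rw [h, Subgroup.index_top] at hL
      exact hp.one_lt.ne hL
    obtain ⟨g', hg'⟩ : ∃ g' : G, g' ∉ L := by
      by_contra hcon
      apply hLtop
      rw [Subgroup.eq_top_iff']
      intro x
      by_contra hx
      exact hcon ⟨x, hx⟩
    obtain ⟨ψ, hker, hψ⟩ := exists_hom_of_index_prime hG L hL g' hg'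
    have hmem : ψ ∈ ev.ker := by
      rw [hev, ← MonoidHom.mem_ker, hker]
      exact hgL
    rw [h1, Subgroup.mem_bot] at hmem
    rw [hmem, MonoidHom.one_apply] at hψ
    exact ofAdd_one_ne_one hψ.symm
  · exact h

end Cfsg.Agent.Lib.Helper76.VL
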