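/-
helper76: PROJECT ASCH (helper99, S5630), module [BIN]: exact sheet statement `tensor_of_commuting`,
from `AschBin.tensor_of_commuting_of` and the landed modules [SS] (helper66), [ISO] (helper80), [NF] (helper51).
-/
import Mathlib
import Cfsg.Prelude.Def_GeometricClasses
import Cfsg.Agent.Lib.Helper99.AschDefs
import Cfsg.Agent.Lib.Helper76.AschBin
import Cfsg.Agent.Lib.Helper66.AschSS
import Cfsg.Agent.Lib.Helper80.AschIso
import Cfsg.Agent.Lib.Helper51.AschNF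

set_option autoImplicit false

namespace Cfsg.Agent.Lib.Helper99.Asch

open Cfsg Cfsg.Geo
open scoped MatrixGroups Matrix Kronecker

variable {n : ℕ} {F : Type*} [Field F] [Fintype F]

/-- ASCH-[BIN] (sheet statement) -/
theorem tensor_of_commuting (Q Q' : Subgroup (GL (Fin n) F))
    (hcomm : ∀ x ∈ Q, ∀ y ∈ Q', x * y = y * x)
    (habs : ActsAbsolutelyIrreducibly (matrixSet (Q ⊔ Q'))) :
    ∃ (d e : ℕ) (idx : Fin n ≃ Fin d × Fin e) (B : GL (Fin n) F), TensorNF Q d e idx B ∧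
      (∀ y ∈ Q', ∃ b : GL (Fin e) F, ((B * y * B⁻¹ : GL (Fin n) F) : Matrix (Fin n) (Fin n) F) =
        Matrix.reindex idx.symm idx.symm
          ((1 : Matrix (Fin d) (Fin d) F) ⊗ₖ (b : Matrix (Fin e) (Fin e) F))) ∧
      ActsAbsolutelyIrreducibly {b : Matrix (Fin e) (Fin e) F | ∃ y ∈ Q',
        ((B * y * B⁻¹ : GL (Fin n) F) : Matrix (Fin n) (Fin n) F) =
          Matrix.reindex idx.symm idx.symm ((1 : Matrix (Fin d) (Fin d) F) ⊗ₖ b)} :=
  Cfsg.Agent.Lib.Helper76.AschBin.tensor_of_commuting_of Q Q' hcomm habs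
    (semisimple_of_normalized (Q ⊔ Q') Q habs.1 (Cfsg.Agent.Lib.Helper76.AschBin.nrm_sup Q Q' hcomm))
    (isotypic_or_decomposition (Q ⊔ Q') Q habs.1 (Cfsg.Agent.Lib.Helper76.AschBin.nrm_sup Q Q' hcomm))
    (fun hn hss hiso hsc => tensorNF_of_isotypic hn Q hss hiso hsc)

end Cfsg.Agent.Lib.Helper99.Asch
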