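/-
helper76: ASCHU-[KFOLD-H] (helper70's sheet).  The `k`-fold tensor structure of a system of components together
with `H ≤` the tensor wreath group (form-free core of helper99's ASCH-[PARTB]).
-/
import Mathlib
import Cfsg.Prelude.Def_GeometricClasses
import Cfsg.Agent.Lib.Helper99.AschDefs
import Cfsg.Agent.Lib.Helper99.AschUtil3
import Cfsg.Agent.Lib.Helper99.AschUtil4
import Cfsg.Agent.Lib.Helper54.AschKFoldFinal
import Cfsg.Agent.Lib.Helper47.AschSlotNorm

set_option autoImplicit false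

namespace Cfsg.Agent.Lib.Helper76.AschUKFoldH

open Cfsg Cfsg.Geo Cfsg.Agent.Lib.Helper99.Asch Cfsg.Agent.Lib.Helper99.AschUtil
open scoped MatrixGroups Matrix Kronecker

variable {n : ℕ} {F : Type*} [Field F] [Fintype F]

theorem glReindex_symm_glReindex {k d : ℕ} (idx : Fin n ≃ (Fin k → Fin d)) (x : GL (Fin n) F) :
    glReindex idx.symm (glReindex idx x) = x := by
  apply Units.ext
  ext i j
  simp [glReindex]

/-- ASCHU-[KFOLD-H], proof. -/
theorem kfold_of_compSys_h76 (hn : 3 ≤ n) (H P : Subgroup (GL (Fin n) F)) {k : ℕ} (hk : 2 ≤ k)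
    (Q : Fin k → Subgroup (GL (Fin n) F)) (hQ : CompSys H P Q)
    (habs : ActsAbsolutelyIrreducibly (matrixSet P)) :
    ∃ (d : ℕ) (idx : Fin n ≃ (Fin k → Fin d)) (B : GL (Fin n) F), 2 ≤ d ∧
      (∀ i, ∀ x ∈ Q i, ∃ a : GL (Fin d) F,
        ((B * x * B⁻¹ : GL (Fin n) F) : Matrix (Fin n) (Fin n) F) =
          Matrix.reindex idx.symm idx.symm (slotMatrix i (a : Matrix (Fin d) (Fin d) F))) ∧
      (∀ i (a : Matrix (Fin d) (Fin d) F),
        ((B⁻¹ : GL (Fin n) F) : Matrix (Fin n) (Fin n) F) *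
          Matrix.reindex idx.symm idx.symm (slotMatrix i a) * (B : Matrix (Fin n) (Fin n) F) ∈
          Submodule.span F (matrixSet (Q i))) ∧
      (∀ h ∈ H, glReindex idx (B * h * B⁻¹) ∈ tensorWreathStandard d k F) := by
  have hk0 : 0 < k := by omega
  have hdim : ∀ i j, Module.finrank F (Submodule.span F (matrixSet (Q i))) =
      Module.finrank F (Submodule.span F (matrixSet (Q j))) := by
    intro i j
    obtain ⟨h, _, hh⟩ := hQ.trans i j
    exact finrank_span_eq_of_conj (Q i) (Q j) h hh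
  obtain ⟨d, idx, B, hslot, hspan⟩ :=
    kfold_tensor hk0 Q hQ.commute (by rw [hQ.iSup_eq]; exact habs) hdim
  have hnd : n = d ^ k := by
    have := Fintype.card_congr idx
    simpa using this
  have hd2 : 2 ≤ d := by
    by_contra hd
    have hd' : d ≤ 1 := by omega
    have : d ^ k ≤ 1 := by
      calc d ^ k ≤ 1 ^ k := Nat.pow_le_pow_left hd' k
        _ = 1 := one_pow k
    omega
  refine ⟨d, idx, B, hd2, hslot, hspan, ?_⟩
  intro h hh
  obtain ⟨σ, hσ⟩ := hQ.perm h hh
  exact mem_tensorWreathStandard_of_permutes_slots hk0 (glReindex idx (B * h * B⁻¹)) σ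
    (slot_conj Q idx B hslot hspan h σ hσ (glReindex idx (B * h * B⁻¹))
      (glReindex_symm_glReindex idx _))

end Cfsg.Agent.Lib.Helper76.AschUKFoldH
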