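/-
helper76: ASCHU-[KFOLD-H], exact sheet statement (proof in Lib/Helper76/AschUKFoldH.lean).
-/
import Mathlib
import Cfsg.Prelude.Def_GeometricClasses
import Cfsg.Agent.Lib.Helper99.AschDefs
import Cfsg.Agent.Lib.Helper70.AschU.Defs
import Cfsg.Agent.Lib.Helper76.AschUKFoldH

set_option autoImplicit false

namespace Cfsg.Agent.Lib.Helper70.AschU

open Cfsg Cfsg.Geo Cfsg.Agent.Lib.Helper99.Asch
open scoped MatrixGroups Matrix Kronecker

variable {n : ℕ} {F : Type*} [Field F] [Fintype F]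

/-- ASCHU-[KFOLD-H] -/
theorem kfold_of_compSys (hn : 3 ≤ n) (H P : Subgroup (GL (Fin n) F)) {k : ℕ} (hk : 2 ≤ k)
    (Q : Fin k → Subgroup (GL (Fin n) F)) (hQ : CompSys H P Q)
    (habs : ActsAbsolutelyIrreducibly (matrixSet P)) :
    ∃ (d : ℕ) (idx : Fin n ≃ (Fin k → Fin d)) (B : GL (Fin n) F), 2 ≤ d ∧
      (∀ i, ∀ x ∈ Q i, ∃ a : GL (Fin d) F,
        ((B * x * B⁻¹ : GL (Fin n) F) : Matrix (Fin n) (Fin n) F) =
          Matrix.reindex idx.symm idx.symm (slotMatrix i (a : Matrix (Fin d) (Fin d) F))) ∧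
      (∀ i (a : Matrix (Fin d) (Fin d) F),
        ((B⁻¹ : GL (Fin n) F) : Matrix (Fin n) (Fin n) F) *
          Matrix.reindex idx.symm idx.symm (slotMatrix i a) * (B : Matrix (Fin n) (Fin n) F) ∈
          Submodule.span F (matrixSet (Q i))) ∧
      (∀ h ∈ H, glReindex idx (B * h * B⁻¹) ∈ tensorWreathStandard d k F) :=
  Cfsg.Agent.Lib.Helper76.AschUKFoldH.kfold_of_compSys_h76 hn H P hk Q hQ habs

end Cfsg.Agent.Lib.Helper70.AschU
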