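import Mathlib
import Cfsg.Agent.Lib.Helper13.MinusNoTS
import Cfsg.Agent.Lib.Helper6.DetSq

set_option autoImplicit false

/-!
# S2733 module [G-CLASS] (for helper37): involutory similarities of the minus form

A similarity `g` (multiplier `μ`) of the minus-type form `quadFormMinus m F a b` (anisotropic binary
part, odd characteristic) with `g² = lam • 1` and `det g ≠ μ^(m+1)` has `lam = μ`, and `μ` is a
square or `m + 1` is odd.

The determinant input [DET-SQ] (`g² = ν` a nonsquare ⇒ `det g = (-ν)^(m+1)`) is taken as a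
hypothesis in `minus_graph_class_of_detSq` and supplied from `Lib/Helper6/DetSq.lean` in
`minus_graph_class`.
-/

namespace Cfsg.Agent.Lib.Helper76.MinusGraphClass

open Module Matrix Cfsg.Agent.S0791 Cfsg.Agent.Lib.Helper36 Cfsg.Agent.Lib.Helper13

variable {F : Type*} [Field F] {m : ℕ}

/-- The `c`-eigenspace of a matrix. -/
def eigSub (g : Matrix ((Fin m ⊕ Fin m) ⊕ Fin 2) ((Fin m ⊕ Fin m) ⊕ Fin 2) F) (c : F) :
    Submodule F ((Fin m ⊕ Fin m) ⊕ Fin 2 → F) where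
  carrier := {v | g *ᵥ v = c • v}
  add_mem' := by
    intro x y hx hy
    simp only [Set.mem_ofPred_eq] at hx hy ⊢
    rw [Matrix.mulVec_add, hx, hy, smul_add]
  zero_mem' := by
    simp only [Set.mem_ofPred_eq]
    rw [Matrix.mulVec_zero, smul_zero]
  smul_mem' := by
    intro r x hx
    simp only [Set.mem_ofPred_eq] at hx ⊢
    rw [Matrix.mulVec_smul, hx, smul_comm]

theorem mem_eigSub (g : Matrix ((Fin m ⊕ Fin m) ⊕ Fin 2) ((Fin m ⊕ Fin m) ⊕ Fin 2) F) (c : F)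
    (v : (Fin m ⊕ Fin m) ⊕ Fin 2 → F) : v ∈ eigSub g c ↔ g *ᵥ v = c • v := Iff.rfl

/-- An eigenspace for an eigenvalue `c` with `c² = -μ` of a `μ`-similarity is totally singular. -/
theorem eigSub_isTS (a b : F) (h2 : (2 : F) ≠ 0)
    (g : Matrix ((Fin m ⊕ Fin m) ⊕ Fin 2) ((Fin m ⊕ Fin m) ⊕ Fin 2) F) (μ : F) (hμ : μ ≠ 0)
    (hmult : ∀ v, Cfsg.quadFormMinus m F a b (g *ᵥ v) = μ * Cfsg.quadFormMinus m F a b v)
    (c : F) (hc : c * c = -μ) : IsTS (minusForm m F a b) (eigSub g c) := by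
  intro v hv
  rw [mem_eigSub] at hv
  have h1 := hmult v
  rw [hv, ← minusForm_coe, QuadraticMap.map_smul, hc, smul_eq_mul] at h1
  have h3 : (2 * μ) * (minusForm m F a b) v = 0 := by linear_combination -h1
  rcases mul_eq_zero.1 h3 with h | h
  · exact absurd h (mul_ne_zero h2 hμ)
  · exact h

/-- If `g² = d²` with `2 d ≠ 0`, the space is the sum of the `d`- and `-d`-eigenspaces. -/
theorem eigSub_sup_eq_top (g : Matrix ((Fin m ⊕ Fin m) ⊕ Fin 2) ((Fin m ⊕ Fin m) ⊕ Fin 2) F)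
    (d : F) (h2d : (2 : F) * d ≠ 0)
    (hgg : g * g = (d * d) • (1 : Matrix ((Fin m ⊕ Fin m) ⊕ Fin 2) ((Fin m ⊕ Fin m) ⊕ Fin 2) F)) :
    eigSub g d ⊔ eigSub g (-d) = ⊤ := by
  rw [eq_top_iff]
  intro v _
  have hggv : g *ᵥ (g *ᵥ v) = (d * d) • v := by
    rw [Matrix.mulVec_mulVec, hgg, Matrix.smul_mulVec, Matrix.one_mulVec]
  have hp : (g *ᵥ v + d • v) ∈ eigSub g d := by
    rw [mem_eigSub, Matrix.mulVec_add, hggv, Matrix.mulVec_smul, smul_add, smul_smul]
    rw [add_comm]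
  have hm : (d • v - g *ᵥ v) ∈ eigSub g (-d) := by
    rw [mem_eigSub, Matrix.mulVec_sub, hggv, Matrix.mulVec_smul, smul_sub, smul_smul]
    simp only [neg_smul, neg_mul]
    abel
  have hv : v = (2 * d)⁻¹ • (g *ᵥ v + d • v) + (2 * d)⁻¹ • (d • v - g *ᵥ v) := by
    rw [← smul_add]
    have : g *ᵥ v + d • v + (d • v - g *ᵥ v) = (2 * d) • v := by
      rw [two_mul, add_smul]; abel
    rw [this, smul_smul, inv_mul_cancel₀ h2d, one_smul]
  rw [hv]
  exact Submodule.add_mem _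
    (Submodule.mem_sup_left (Submodule.smul_mem _ _ hp))
    (Submodule.mem_sup_right (Submodule.smul_mem _ _ hm))

/-- A totally singular subspace of dimension at least `m + 1` is impossible. -/
theorem finrank_lt_of_isTS [Finite F] (a b : F)
    (hab : ∀ z₁ z₂ : F, z₁ ^ 2 + a * z₁ * z₂ + b * z₂ ^ 2 = 0 → z₁ = 0 ∧ z₂ = 0)
    (E : Submodule F ((Fin m ⊕ Fin m) ⊕ Fin 2 → F)) (hE : IsTS (minusForm m F a b) E) :
    finrank F E < m + 1 := by
  by_contra hlt
  push Not at hlt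
  obtain ⟨f, hf⟩ := exists_linearIndependent_of_le_finrank (R := F) (M := E) hlt
  have hf' : LinearIndependent F (fun i => ((f i : E) : (Fin m ⊕ Fin m) ⊕ Fin 2 → F)) :=
    hf.map' E.subtype (Submodule.ker_subtype E)
  set W : Submodule F ((Fin m ⊕ Fin m) ⊕ Fin 2 → F) :=
    Submodule.span F (Set.range (fun i => ((f i : E) : (Fin m ⊕ Fin m) ⊕ Fin 2 → F))) with hW
  have hWE : W ≤ E := by
    rw [hW, Submodule.span_le]
    rintro _ ⟨i, rfl⟩
    exact (f i).2
  have hfW : finrank F W = m + 1 := by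
    rw [hW, finrank_span_eq_card hf', Fintype.card_fin]
  exact finrank_ne_of_aniso m a b hab W (hE.mono hWE) hfW

/-- **[G-CLASS]** with the determinant input [DET-SQ] as a hypothesis. -/
theorem minus_graph_class_of_detSq [Fintype F] (a b : F)
    (hab : ∀ z₁ z₂ : F, z₁ ^ 2 + a * z₁ * z₂ + b * z₂ ^ 2 = 0 → z₁ = 0 ∧ z₂ = 0)
    (h2 : (2 : F) ≠ 0)
    (g : Matrix ((Fin m ⊕ Fin m) ⊕ Fin 2) ((Fin m ⊕ Fin m) ⊕ Fin 2) F) (μ lam : F) (hμ : μ ≠ 0)
    (hmult : ∀ v, Cfsg.quadFormMinus m F a b (g *ᵥ v) = μ * Cfsg.quadFormMinus m F a b v)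
    (hgg : g * g = lam • (1 : Matrix ((Fin m ⊕ Fin m) ⊕ Fin 2) ((Fin m ⊕ Fin m) ⊕ Fin 2) F))
    (hdet : g.det ≠ μ ^ (m + 1))
    (DS : ∀ ν : F, ¬ IsSquare ν →
      g * g = ν • (1 : Matrix ((Fin m ⊕ Fin m) ⊕ Fin 2) ((Fin m ⊕ Fin m) ⊕ Fin 2) F) →
      g.det = (-ν) ^ (m + 1)) :
    lam = μ ∧ (IsSquare μ ∨ Odd (m + 1)) := by
  classical
  -- `lam² = μ²`
  set v₀ : (Fin m ⊕ Fin m) ⊕ Fin 2 → F := Pi.single (Sum.inr 0) 1 with hv₀
  have hQv₀ : (minusForm m F a b) v₀ = 1 := by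
    rw [minusForm_coe]
    unfold Cfsg.quadFormMinus
    have h1 : ∑ i : Fin m, v₀ (Sum.inl (Sum.inl i)) * v₀ (Sum.inl (Sum.inr i)) = 0 := by
      apply Finset.sum_eq_zero
      intro i _
      rw [hv₀, Pi.single_eq_of_ne (by simp), zero_mul]
    have h3 : v₀ (Sum.inr 0) = 1 := by rw [hv₀, Pi.single_eq_same]
    have h4 : v₀ (Sum.inr 1) = 0 := by
      rw [hv₀, Pi.single_eq_of_ne (by simp)]
    rw [h1, h3, h4]
    ring
  have hsq : lam * lam = μ * μ := by
    have h1 := hmult (g *ᵥ v₀)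
    rw [hmult v₀, Matrix.mulVec_mulVec, hgg, Matrix.smul_mulVec, Matrix.one_mulVec,
      ← minusForm_coe, QuadraticMap.map_smul, hQv₀, smul_eq_mul] at h1
    linear_combination h1
  have hcases : lam = μ ∨ lam = -μ := by
    have : (lam - μ) * (lam + μ) = 0 := by linear_combination hsq
    rcases mul_eq_zero.1 this with h | h
    · left; linear_combination h
    · right; linear_combination h
  have hlam : lam = μ := by
    rcases hcases with h | h
    · exact h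
    · exfalso
      by_cases hs : IsSquare (-μ)
      · obtain ⟨d, hd⟩ := hs
        have hd0 : d ≠ 0 := by
          intro h0
          rw [h0, mul_zero, neg_eq_zero] at hd
          exact hμ hd
        have h2d : (2 : F) * d ≠ 0 := mul_ne_zero h2 hd0
        have hgg' : g * g = (d * d) •
            (1 : Matrix ((Fin m ⊕ Fin m) ⊕ Fin 2) ((Fin m ⊕ Fin m) ⊕ Fin 2) F) := by
          rw [hgg, h, hd]
        have htop := eigSub_sup_eq_top g d h2d hgg'
        have hTS1 := eigSub_isTS a b h2 g μ hμ hmult d hd.symm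
        have hTS2 := eigSub_isTS a b h2 g μ hμ hmult (-d) (by rw [neg_mul_neg]; exact hd.symm)
        have hf1 := finrank_lt_of_isTS a b hab _ hTS1
        have hf2 := finrank_lt_of_isTS a b hab _ hTS2
        have hsum := Submodule.finrank_add_le_finrank_add_finrank (eigSub g d) (eigSub g (-d))
        rw [htop, finrank_top, finrank_minus_space] at hsum
        omega
      · have := DS (-μ) hs (by rw [hgg, h])
        rw [neg_neg] at this
        exact hdet this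
  refine ⟨hlam, ?_⟩
  by_cases hs : IsSquare μ
  · exact Or.inl hs
  · right
    have hd := DS μ hs (by rw [hgg, hlam])
    rw [← Nat.not_even_iff_odd]
    intro hev
    rw [hev.neg_pow] at hd
    exact hdet hd

/-- **[G-CLASS]** (exact statement of board #3579). -/
theorem minus_graph_class {F : Type*} [Field F] [Fintype F] {m : ℕ} (a b : F)
    (hab : ∀ z₁ z₂ : F, z₁ ^ 2 + a * z₁ * z₂ + b * z₂ ^ 2 = 0 → z₁ = 0 ∧ z₂ = 0)
    (h2 : (2 : F) ≠ 0)
    (g : Matrix ((Fin m ⊕ Fin m) ⊕ Fin 2) ((Fin m ⊕ Fin m) ⊕ Fin 2) F) (μ lam : F) (hμ : μ ≠ 0)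
    (hmult : ∀ v, Cfsg.quadFormMinus m F a b (g *ᵥ v) = μ * Cfsg.quadFormMinus m F a b v)
    (hgg : g * g = lam • (1 : Matrix ((Fin m ⊕ Fin m) ⊕ Fin 2) ((Fin m ⊕ Fin m) ⊕ Fin 2) F))
    (hdet : g.det ≠ μ ^ (m + 1)) : lam = μ ∧ (IsSquare μ ∨ Odd (m + 1)) := by
  apply minus_graph_class_of_detSq a b hab h2 g μ lam hμ hmult hgg hdet
  intro ν hν hν2
  apply Cfsg.Agent.Lib.Helper6.DetSq.det_of_sq_eq_nonsquare (m + 1) _ g ν hν hν2
  rw [Fintype.card_sum, Fintype.card_sum, Fintype.card_fin, Fintype.card_fin]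
  ring

end Cfsg.Agent.Lib.Helper76.MinusGraphClass
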