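import Mathlib
import Cfsg.Agent.Lib.Helper37.PlusField.Defs
import Cfsg.Agent.Lib.Helper43.OSplit
import Cfsg.Agent.Lib.Helper43.OSquares
import Cfsg.Agent.Lib.Helper43.PlusGFCount
import Cfsg.Agent.Lib.Helper36.PsoInn

set_option autoImplicit false

/-!
# PF15-[ODD] (helper37, board #4519): the `Inndiag`-class of a field automorphism of odd order of
`PΩ⁺_{2m}(F)` (odd characteristic) is a single `Inn`-class.
-/

namespace Cfsg.Agent.Lib.Helper76.PlusField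

open scoped MatrixGroups Matrix
open Module Matrix Cfsg.Agent.Lib.Helper45.PSLField Cfsg.Agent.Lib.Helper36 Cfsg.Agent.S2168
  Cfsg.Agent.Lib.Helper43 Cfsg.Agent.Lib.Helper13 Cfsg.Agent.Lib.Helper37.PlusField

variable {m : ℕ} {F : Type*} [Field F] [Fintype F] {F₀ : Type*} [Field F₀] [Fintype F₀]

/-- the vector `e_{i₀} + η f_{i₀}` -/
def etaVec (i₀ : Fin m) (η : F) : Fin m ⊕ Fin m → F :=
  Sum.elim (fun i => if i = i₀ then 1 else 0) (fun i => if i = i₀ then η else 0)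

omit [Fintype F] in
theorem plusQF_etaVec (i₀ : Fin m) (η : F) : plusQF m F (etaVec i₀ η) = η := by
  show Cfsg.quadFormPlus m F (etaVec i₀ η) = η
  unfold Cfsg.quadFormPlus etaVec
  simp

omit [Fintype F] in
theorem vmap_etaVec (σ : F ≃+* F) (i₀ : Fin m) (η : F) (hη : σ η = η) :
    vmap σ (etaVec i₀ η : Fin m ⊕ Fin m → F) = etaVec i₀ η := by
  funext x
  unfold vmap etaVec
  rcases x with i | i
  · simp only [Sum.elim_inl]
    split_ifs
    · exact map_one σ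
    · exact map_zero σ
  · simp only [Sum.elim_inr]
    split_ifs
    · exact hη
    · exact map_zero σ

omit [Fintype F] in
/-- a similarity fixed entrywise by `σ` centralises the field automorphism `φ_σ`. -/
theorem simAut_mem_centralizer_of_fixed (σ : RingAut F)
    (d : ↥(Cfsg.Geo.quadSimilarityGroup (⇑(plusQF m F))))
    (hd : ((d : GL (Fin m ⊕ Fin m) F) : Matrix (Fin m ⊕ Fin m) (Fin m ⊕ Fin m) F).map σ =
      ((d : GL (Fin m ⊕ Fin m) F) : Matrix (Fin m ⊕ Fin m) (Fin m ⊕ Fin m) F)) :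
    simAut (⇑(plusQF m F)) d ∈ Subgroup.centralizer {phiP m σ} := by
  rw [Subgroup.mem_centralizer_iff]
  intro h hh
  rw [Set.mem_singleton_iff] at hh
  subst hh
  show oField (fieldCompat_plusQF (m := m) (F := F)) σ * simAut (⇑(plusQF m F)) d =
    simAut (⇑(plusQF m F)) d * oField (fieldCompat_plusQF (m := m) (F := F)) σ
  rw [oField_mul_simAut]
  congr 2
  apply Subtype.ext
  apply Units.ext
  rw [simMap_coe]
  exact hd

/-- MODULE PF15-[ODD] -/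
theorem splitClassCount_phiP_of_odd (hm : 4 ≤ m) (h2 : (2 : F) ≠ 0) (σ : RingAut F) {r : ℕ}
    (hr : Odd r) (hσ : orderOf σ = r) :
    Cfsg.splitClassCount (inndiagPlusQ m F) (Cfsg.Inn (Cfsg.POmega F (⇑(plusQF m F))))
      (phiP m σ) = 1 := by
  classical
  have hm1 : 1 ≤ m := by omega
  have hQ := plusQF_nondeg m F
  have hcard : Fintype.card (Fin m ⊕ Fin m) = 2 * m := card_plus_index
  have hdim2 : 2 ≤ Fintype.card (Fin m ⊕ Fin m) := by rw [hcard]; omega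
  have hv₀ : plusQF m F (hypVec (F := F) ⟨0, hm1⟩) ≠ 0 := hypVec_ne hm1
  obtain ⟨η, hση, hη0, hηns⟩ := exists_fixed_nonsquare h2 σ hr hσ
  apply splitClassCount_eq_one_of_cover
  intro a ha
  obtain ⟨g, hgE, rfl⟩ := (mem_inndiagPlusQ_iff a).mp ha
  obtain ⟨μ, hμ⟩ := g.2
  -- choose `ν ∈ {1, η}` with `μ ν` a square
  obtain ⟨ν, hσν, t, ht⟩ : ∃ ν : Fˣ, σ (ν : F) = ν ∧ ∃ t : F, (μ : F) * ν = t * t := by
    by_cases hsq : IsSquare (μ : F)
    · obtain ⟨t, ht⟩ := hsq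
      refine ⟨1, by simp, t, ?_⟩
      rw [Units.val_one, mul_one]
      exact ht
    · obtain ⟨t, ht⟩ := isSquare_mul_of_not_isSquare h2 (μ : F) η hsq hηns
      exact ⟨Units.mk0 η hη0, hση, t, ht⟩
  have ht0 : t ≠ 0 := by
    rintro rfl
    rw [mul_zero] at ht
    exact mul_ne_zero μ.ne_zero ν.ne_zero ht
  -- the diagonal similarity
  obtain ⟨dfun, hdfun⟩ : ∃ dfun : Fin m ⊕ Fin m → Fˣ, dfun = Sum.elim (fun _ => ν) (fun _ => 1) :=
    ⟨_, rfl⟩
  have hdprod : ∀ i, dfun (Sum.inl i) * dfun (Sum.inr i) = ν := by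
    intro i
    rw [hdfun]
    simp
  have hdmem : (diagPI dfun : GL (Fin m ⊕ Fin m) F) ∈
      Cfsg.Geo.quadSimilarityGroup (⇑(plusQF m F)) := diagPI_mem dfun ν hdprod
  obtain ⟨d, hd⟩ : ∃ d : ↥(Cfsg.Geo.quadSimilarityGroup (⇑(plusQF m F))),
      (d : GL (Fin m ⊕ Fin m) F) = diagPI dfun := ⟨⟨diagPI dfun, hdmem⟩, rfl⟩
  have hdE : plusEven (d : GL (Fin m ⊕ Fin m) F) := by rw [hd]; exact plusEven_diagPI dfun
  have hdsim : ∀ v, plusQF m F (((d : GL (Fin m ⊕ Fin m) F) :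
      Matrix (Fin m ⊕ Fin m) (Fin m ⊕ Fin m) F) *ᵥ v) = (ν : F) * plusQF m F v := by
    intro v
    rw [hd]
    exact diagPI_similarity dfun ν hdprod v
  have hdfix : ∀ x, σ ((dfun x : Fˣ) : F) = ((dfun x : Fˣ) : F) := by
    intro x
    rw [hdfun]
    rcases x with i | i
    · exact hσν
    · simp
  have hdσ : ((d : GL (Fin m ⊕ Fin m) F) : Matrix (Fin m ⊕ Fin m) (Fin m ⊕ Fin m) F).map σ =
      ((d : GL (Fin m ⊕ Fin m) F) : Matrix (Fin m ⊕ Fin m) (Fin m ⊕ Fin m) F) := by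
    rw [hd, diagPI_coe]
    ext x y
    by_cases hxy : x = y
    · subst hxy
      simp [hdfix]
    · simp [Matrix.diagonal_apply_ne _ hxy]
  have hdcent := simAut_mem_centralizer_of_fixed σ d hdσ
  have hdI : simAut (⇑(plusQF m F)) d ∈ inndiagPlusQ m F :=
    (mem_inndiagPlusQ_iff _).mpr ⟨d, hdE, rfl⟩
  -- `g * d` has square multiplier
  have hgdE : plusEven ((g * d : ↥(Cfsg.Geo.quadSimilarityGroup (⇑(plusQF m F)))) :
      GL (Fin m ⊕ Fin m) F) :=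
    (plusEven_mul _ _ g.2 d.2).mpr (iff_of_true hgE hdE)
  have hgdsim : ∀ v, plusQF m F ((((g * d : ↥(Cfsg.Geo.quadSimilarityGroup (⇑(plusQF m F)))) :
      GL (Fin m ⊕ Fin m) F) : Matrix (Fin m ⊕ Fin m) (Fin m ⊕ Fin m) F) *ᵥ v) =
      t * t * plusQF m F v := by
    intro v
    rw [Subgroup.coe_mul, Units.val_mul, ← Matrix.mulVec_mulVec, hμ, hdsim, ← mul_assoc, ht]
  obtain ⟨g', hg'S, -, hg'sim⟩ := exists_special_of_even_sq h2 hm1 (g * d) hgdE t ht0 hgdsim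
  rcases spin_matrix_eq_one_or (plusQF m F) hQ h2 (g' : GL (Fin m ⊕ Fin m) F) hg'S.1 with hs | hs
  · refine ⟨simAut (⇑(plusQF m F)) d, Subgroup.mem_inf.mpr ⟨hdI, hdcent⟩, ?_⟩
    rw [← map_mul, ← hg'sim]
    exact simAut_mem_Inn_of_mem _ g'
      ((mem_OmegaGL_iff_spin (plusQF m F) hQ h2 hdim2 _ hg'S).mpr hs)
  · -- correct the spinor norm by a product of two reflections in `σ`-fixed vectors
    have hv₂ : plusQF m F (etaVec (⟨0, hm1⟩ : Fin m) η) ≠ 0 := by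
      rw [plusQF_etaVec]; exact hη0
    obtain ⟨g₀, hg₀S, hg₀M, hg₀spin⟩ := exists_special_two_refl (plusQF m F) hQ h2
      (hypVec (F := F) ⟨0, hm1⟩) (etaVec (⟨0, hm1⟩ : Fin m) η) hv₀ hv₂
    have hSO_le : Cfsg.specialIsometryGL F (⇑(plusQF m F)) ≤
        Cfsg.Geo.quadSimilarityGroup (⇑(plusQF m F)) :=
      le_trans inf_le_left (isometryGroup_le_similarity (⇑(plusQF m F)))
    obtain ⟨c₂, hc₂⟩ : ∃ c₂ : ↥(Cfsg.Geo.quadSimilarityGroup (⇑(plusQF m F))),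
        (c₂ : GL (Fin m ⊕ Fin m) F) = g₀ := ⟨⟨g₀, hSO_le hg₀S⟩, rfl⟩
    have hc₂σ : ((c₂ : GL (Fin m ⊕ Fin m) F) :
        Matrix (Fin m ⊕ Fin m) (Fin m ⊕ Fin m) F).map σ =
        ((c₂ : GL (Fin m ⊕ Fin m) F) : Matrix (Fin m ⊕ Fin m) (Fin m ⊕ Fin m) F) := by
      rw [hc₂, hg₀M]
      have hrm : ∀ v : Fin m ⊕ Fin m → F, (Cfsg.reflectionMatrix (⇑(plusQF m F)) v).map σ =
          Cfsg.reflectionMatrix (⇑(plusQF m F)) (vmap σ v) := fun v =>
        Cfsg.Agent.Lib.Helper43.reflectionMatrix_map ((σ : F ≃+* F) : F →+* F) (⇑(plusQF m F))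
          (⇑(plusQF m F)) (fun w => fieldCompat_plusQF σ w) v
      have hmm : (Cfsg.reflectionMatrix (⇑(plusQF m F)) (hypVec (F := F) ⟨0, hm1⟩) *
          Cfsg.reflectionMatrix (⇑(plusQF m F)) (etaVec (⟨0, hm1⟩ : Fin m) η)).map σ =
          (Cfsg.reflectionMatrix (⇑(plusQF m F)) (hypVec (F := F) ⟨0, hm1⟩)).map σ *
          (Cfsg.reflectionMatrix (⇑(plusQF m F)) (etaVec (⟨0, hm1⟩ : Fin m) η)).map σ :=
        Matrix.map_mul (f := ((σ : F ≃+* F) : F →+* F))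
      rw [hmm, hrm, hrm, vmap_hypVec, vmap_etaVec σ _ η hση]
    have hc₂cent := simAut_mem_centralizer_of_fixed σ c₂ hc₂σ
    have hc₂I : simAut (⇑(plusQF m F)) c₂ ∈ inndiagPlusQ m F := by
      apply psoAut_le_inndiag h2 _ hv₀
      rw [psoAut_eq]
      exact ⟨c₂, Subgroup.mem_subgroupOf.mpr (by rw [hc₂]; exact hg₀S), rfl⟩
    refine ⟨simAut (⇑(plusQF m F)) d * simAut (⇑(plusQF m F)) c₂,
      Subgroup.mem_inf.mpr ⟨Subgroup.mul_mem _ hdI hc₂I, Subgroup.mul_mem _ hdcent hc₂cent⟩, ?_⟩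
    rw [← mul_assoc, ← map_mul, ← hg'sim, ← map_mul]
    apply simAut_mem_Inn_of_mem
    have hmulS : ((g' * c₂ : ↥(Cfsg.Geo.quadSimilarityGroup (⇑(plusQF m F)))) :
        GL (Fin m ⊕ Fin m) F) ∈ Cfsg.specialIsometryGL F (⇑(plusQF m F)) := by
      rw [Subgroup.coe_mul, hc₂]
      exact Subgroup.mul_mem _ hg'S hg₀S
    rw [mem_OmegaGL_iff_spin (plusQF m F) hQ h2 hdim2 _ hmulS, Subgroup.coe_mul, hc₂,
      spin_mul_matrix (plusQF m F) hQ h2 _ _ hg'S.1 hg₀S.1, hs, hg₀spin, plusQF_hypVec,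
      plusQF_etaVec, MulChar.map_one, one_mul,
      quadraticChar_neg_one_iff_not_isSquare.mpr hηns]
    norm_num

end Cfsg.Agent.Lib.Helper76.PlusField
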