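/-
helper76: project SPMD (helper94, S2333), module [S-NC]: the Siegel element `uS S` is not central for `S ≠ 0`.
-/
import Mathlib
import Cfsg.Agent.Lib.Helper94.SPMD.Defs

set_option autoImplicit false

namespace Cfsg.Agent.Lib.Helper94.SPMD

open Matrix Module

variable {F : Type*} [Field F] [Fintype F] {n : ℕ}

/-- **[S-NC]** `uS S` is not central for `S ≠ 0` -/
theorem uS_not_central (S : ↥(symAdd n F)) (hS : S ≠ 0) :
    ∃ g : Matrix.symplecticGroup (Fin n) F, g * uS S ≠ uS S * g := by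
  have hS' : (S : Matrix (Fin n) (Fin n) F) ≠ 0 := fun h => hS (Subtype.ext h)
  obtain ⟨i, j, hij⟩ : ∃ i j, (S : Matrix (Fin n) (Fin n) F) i j ≠ 0 := by
    by_contra hcon
    push Not at hcon
    exact hS' (Matrix.ext hcon)
  refine ⟨lT (rk1 1 (Pi.single j 1)), ?_⟩
  intro heq
  have h1 := congrArg (fun g : Matrix.symplecticGroup (Fin n) F =>
    (g : Matrix (Fin n ⊕ Fin n) (Fin n ⊕ Fin n) F) (Sum.inl i) (Sum.inl j)) heq
  simp only [Submonoid.coe_mul, lT_coe, uS_coe, fromBlocks_multiply, rk1_coe] at h1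
  simp only [Matrix.mul_zero, Matrix.mul_one, Matrix.one_mul, Matrix.zero_mul, zero_add, add_zero,
    fromBlocks_apply₁₁, Matrix.add_apply, one_smul] at h1
  have h2 : ((S : Matrix (Fin n) (Fin n) F) * vecMulVec (Pi.single j (1 : F)) (Pi.single j (1 : F))) i j =
      (S : Matrix (Fin n) (Fin n) F) i j := by
    rw [Matrix.mul_apply]
    simp [Matrix.vecMulVec_apply, Pi.single_apply]
  rw [h2] at h1
  exact hij (by simpa using h1.symm)

end Cfsg.Agent.Lib.Helper94.SPMD
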