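/-
helper76: project SPMD (helper94, S2333), module [S-NT]: a non-trivial representation of `Sp_{2n}(F)` is non-trivial
on some alternating Siegel element.  `exists_alt_ne_one_of`: [S-KER] (`normal_eq_top`) as a hypothesis; `exists_alt_ne_one`: exact sheet statement.
-/
import Mathlib
import Cfsg.Agent.Lib.Helper94.SPMD.Defs
import Cfsg.Agent.Lib.Helper76.SpmdSNC
import Cfsg.Agent.Lib.Helper76.SpmdSKer

set_option autoImplicit false

namespace Cfsg.Agent.Lib.Helper94.SPMD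

open Matrix Module

namespace SNT

variable {F : Type*} [Field F] {n : ℕ}

/-- `e₀ e₁ᵀ + e₁ e₀ᵀ` is alternating -/
theorem rk2_mem_altAdd (i j : Fin n) (hij : i ≠ j) :
    rk2 (1 : F) (Pi.single i 1) (Pi.single j 1) ∈ altAdd n F := by
  rw [mem_altAdd]
  intro k
  rw [rk2_coe, one_smul, Matrix.add_apply, Matrix.vecMulVec_apply, Matrix.vecMulVec_apply,
    Pi.single_apply, Pi.single_apply]
  by_cases hk : k = i
  · have hkj : k ≠ j := fun h => hij (hk.symm.trans h)
    simp [hkj]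
  · simp [hk]

theorem rk2_ne_zero (i j : Fin n) (hij : i ≠ j) :
    rk2 (1 : F) (Pi.single i 1) (Pi.single j 1) ≠ 0 := by
  intro h
  have h1 := congrArg (fun S : ↥(symAdd n F) => (S : Matrix (Fin n) (Fin n) F) i j) h
  simp only [rk2_coe, one_smul, Matrix.add_apply, Matrix.vecMulVec_apply, Pi.single_apply] at h1
  simp [hij, hij.symm] at h1

end SNT

variable {F : Type*} [Field F] [Fintype F] {n : ℕ}

/-- **[S-NT]** modulo [S-KER] -/
theorem exists_alt_ne_one_of (hn : 2 ≤ n)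
    (hKER : ∀ (N : Subgroup (Matrix.symplecticGroup (Fin n) F)) [N.Normal]
      (x : Matrix.symplecticGroup (Fin n) F), x ∈ N → (∃ g, g * x ≠ x * g) → N = ⊤)
    {V : Type*} [AddCommGroup V] [Module ℂ V]
    (ρ : Representation ℂ (Matrix.symplecticGroup (Fin n) F) V) (hρ : ∃ g, ρ g ≠ 1) :
    ∃ S ∈ altAdd n F, ρ (uS S) ≠ 1 := by
  by_contra hcon
  push Not at hcon
  have h01 : (⟨0, by omega⟩ : Fin n) ≠ ⟨1, by omega⟩ := by
    intro h
    simp [Fin.ext_iff] at h
  have hmem : uS (rk2 (1 : F) (Pi.single (⟨0, by omega⟩ : Fin n) 1) (Pi.single ⟨1, by omega⟩ 1)) ∈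
      MonoidHom.ker ρ :=
    MonoidHom.mem_ker.mpr (hcon _ (SNT.rk2_mem_altAdd _ _ h01))
  have htop := hKER (MonoidHom.ker ρ) _ hmem (uS_not_central _ (SNT.rk2_ne_zero _ _ h01))
  obtain ⟨g, hg⟩ := hρ
  apply hg
  have : g ∈ MonoidHom.ker ρ := by rw [htop]; trivial
  exact MonoidHom.mem_ker.mp this

/-- **[S-NT]** a non-trivial representation is non-trivial on some alternating Siegel element -/
theorem exists_alt_ne_one (hn : 2 ≤ n) (hex : n = 2 → 3 ≤ Fintype.card F)
    {V : Type*} [AddCommGroup V] [Module ℂ V]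
    (ρ : Representation ℂ (Matrix.symplecticGroup (Fin n) F) V) (hρ : ∃ g, ρ g ≠ 1) :
    ∃ S ∈ altAdd n F, ρ (uS S) ≠ 1 :=
  exists_alt_ne_one_of hn (fun N _ x hx hnc => SKer.normal_eq_top_h76 hn hex N x hx hnc) ρ hρ

end Cfsg.Agent.Lib.Helper94.SPMD
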