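import Mathlib
import Cfsg.Agent.Lib.Helper43.MonoStar

set_option autoImplicit false

namespace Cfsg.Agent.Lib.Helper76

open Matrix Cfsg.Geo Cfsg.Agent.Lib.Helper93 Cfsg.Agent.Lib.Helper43

variable {ι : Type} [Fintype ι] [DecidableEq ι] {F : Type*} [Field F]

/-- **[SL-R2]** -/
theorem bihom_split {μ : Fˣ} (h1 : μ ≠ 1) (h2 : μ ^ 2 ≠ 1) (h3 : μ ^ 3 ≠ 1) {l l' : ι}
    (hll : l ≠ l') (g : GL ι F) (hmono : g⁻¹ * dg2 l l' μ * g ∈ Mono ι F) (j : ι) :
    (∀ r, r ≠ l → r ≠ l' → (g : Matrix ι ι F) r j = 0) ∨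
      ((g : Matrix ι ι F) l j = 0 ∧ (g : Matrix ι ι F) l' j = 0) := by
  classical
  obtain ⟨σ, hσ⟩ := mem_Mono.mp hmono
  obtain ⟨m, hm⟩ : ∃ m : GL ι F, m = g⁻¹ * dg2 l l' μ * g := ⟨_, rfl⟩
  rw [← hm] at hσ
  obtain ⟨d, hd⟩ : ∃ d : ι → Fˣ,
      d = Function.update (1 : ι → Fˣ) l μ * Function.update (1 : ι → Fˣ) l' μ⁻¹ := ⟨_, rfl⟩
  have hdl : d l = μ := by
    rw [hd, Pi.mul_apply, Function.update_self, Function.update_of_ne hll]; simp
  have hdl' : d l' = μ⁻¹ := by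
    rw [hd, Pi.mul_apply, Function.update_self, Function.update_of_ne hll.symm]; simp
  have hdr : ∀ r, r ≠ l → r ≠ l' → d r = 1 := by
    intro r hr hr'
    rw [hd, Pi.mul_apply, Function.update_of_ne hr, Function.update_of_ne hr']; simp
  have hgm : g * m = dg d * g := by
    rw [hm, hd, ← dg2_eq]; group
  -- the basic relation
  have hR : ∀ r i, (d r : F) * (g : Matrix ι ι F) r i
      = (m : Matrix ι ι F) (σ i) i * (g : Matrix ι ι F) r (σ i) := by
    intro r i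
    have h : ((g * m : GL ι F) : Matrix ι ι F) r i = ((dg d * g : GL ι F) : Matrix ι ι F) r i := by
      rw [hgm]
    rw [dg_mul_apply, Units.val_mul, Matrix.mul_apply, Finset.sum_eq_single (σ i)] at h
    · rw [← h, mul_comm]
    · intro b _ hb
      rw [hσ b i hb, mul_zero]
    · intro hh; exact absurd (Finset.mem_univ _) hh
  by_contra hcon
  rw [not_or] at hcon
  obtain ⟨hc1, hc2⟩ := hcon
  push Not at hc1
  obtain ⟨r₀, hr₀l, hr₀l', hr₀⟩ := hc1
  have hdr₀ : d r₀ = 1 := hdr r₀ hr₀l hr₀l'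
  -- iterate
  have hpow : ∀ n : ℕ, ∃ C : F, ∀ r, (d r : F) ^ n * (g : Matrix ι ι F) r j
      = C * (g : Matrix ι ι F) r ((σ ^ n) j) := by
    intro n
    induction n with
    | zero => exact ⟨1, fun r => by simp⟩
    | succ n ih =>
      obtain ⟨C, hC⟩ := ih
      refine ⟨C * (m : Matrix ι ι F) (σ ((σ ^ n) j)) ((σ ^ n) j), fun r => ?_⟩
      rw [pow_succ, mul_assoc, mul_comm ((d r : F)) _, ← mul_assoc, hC r, mul_assoc, mul_comm _ ((d r : F)),
        hR r ((σ ^ n) j), pow_succ' σ n, Equiv.Perm.mul_apply]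
      ring
  -- no fixed points of small powers
  have hfix : ∀ n : ℕ, μ ^ n ≠ 1 → (σ ^ n) j ≠ j := by
    intro n hμn hfx
    obtain ⟨C, hC⟩ := hpow n
    rw [hfx] at hC
    have hC1 : C = 1 := by
      have := hC r₀
      rw [hdr₀, Units.val_one, one_pow, one_mul] at this
      have h' : (1 - C) * (g : Matrix ι ι F) r₀ j = 0 := by rw [sub_mul, one_mul, ← this, sub_self]
      rcases mul_eq_zero.mp h' with h'' | h''
      · exact (sub_eq_zero.mp h'').symm
      · exact absurd h'' hr₀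
    have hμF : ((μ : F)) ^ n ≠ 1 := by
      intro h
      apply hμn
      apply Units.ext
      rw [Units.val_pow_eq_pow_val, h, Units.val_one]
    have hμF' : (((μ⁻¹ : Fˣ) : F)) ^ n ≠ 1 := by
      intro h
      apply hμn
      have : (μ⁻¹) ^ n = 1 := by
        apply Units.ext
        rw [Units.val_pow_eq_pow_val, h, Units.val_one]
      rw [inv_pow, inv_eq_one] at this
      exact this
    have hl0 : (g : Matrix ι ι F) l j = 0 := by
      have := hC l
      rw [hdl, hC1, one_mul] at this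
      have h' : ((μ : F) ^ n - 1) * (g : Matrix ι ι F) l j = 0 := by
        rw [sub_mul, one_mul, this, sub_self]
      rcases mul_eq_zero.mp h' with h'' | h''
      · exact absurd (sub_eq_zero.mp h'') hμF
      · exact h''
    have hl'0 : (g : Matrix ι ι F) l' j = 0 := by
      have := hC l'
      rw [hdl', hC1, one_mul] at this
      have h' : (((μ⁻¹ : Fˣ) : F) ^ n - 1) * (g : Matrix ι ι F) l' j = 0 := by
        rw [sub_mul, one_mul, this, sub_self]
      rcases mul_eq_zero.mp h' with h'' | h''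
      · exact absurd (sub_eq_zero.mp h'') hμF'
      · exact h''
    exact hc2 ⟨hl0, hl'0⟩
  have hf1 : (σ ^ 1) j ≠ j := hfix 1 (by simpa using h1)
  have hf2 : (σ ^ 2) j ≠ j := hfix 2 h2
  have hf3 : (σ ^ 3) j ≠ j := hfix 3 h3
  obtain ⟨C1, hC1⟩ := hpow 1
  obtain ⟨C2, hC2⟩ := hpow 2
  obtain ⟨C3, hC3⟩ := hpow 3
  have hC3ne : C3 ≠ 0 := by
    intro h0
    have := hC3 r₀
    rw [hdr₀, Units.val_one, one_pow, one_mul, h0, zero_mul] at this
    exact hr₀ this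
  -- the cubic relation
  obtain ⟨s, hs⟩ : ∃ s : F, s = 1 + (μ : F) + ((μ⁻¹ : Fˣ) : F) := ⟨_, rfl⟩
  have hμμ : (μ : F) * ((μ⁻¹ : Fˣ) : F) = 1 := by
    rw [← Units.val_mul, mul_inv_cancel, Units.val_one]
  have hcubic : ∀ r, -(g : Matrix ι ι F) r j + s * ((d r : F) ^ 1 * (g : Matrix ι ι F) r j)
      - s * ((d r : F) ^ 2 * (g : Matrix ι ι F) r j) + (d r : F) ^ 3 * (g : Matrix ι ι F) r j = 0 := by
    intro r
    have hfac : -(g : Matrix ι ι F) r j + s * ((d r : F) ^ 1 * (g : Matrix ι ι F) r j)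
      - s * ((d r : F) ^ 2 * (g : Matrix ι ι F) r j) + (d r : F) ^ 3 * (g : Matrix ι ι F) r j
      = (g : Matrix ι ι F) r j * (((d r : F) - 1) * ((d r : F) - (μ : F))
          * ((d r : F) - ((μ⁻¹ : Fˣ) : F))) := by
      rw [hs]
      have e : ((d r : F) - 1) * ((d r : F) - (μ : F)) * ((d r : F) - ((μ⁻¹ : Fˣ) : F))
          = (d r : F) ^ 3 - (1 + (μ : F) + ((μ⁻¹ : Fˣ) : F)) * (d r : F) ^ 2
            + ((μ : F) + ((μ⁻¹ : Fˣ) : F) + (μ : F) * ((μ⁻¹ : Fˣ) : F)) * (d r : F)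
            - (μ : F) * ((μ⁻¹ : Fˣ) : F) := by ring
      rw [e, hμμ]; ring
    rw [hfac]
    by_cases hrl : r = l
    · rw [hrl, hdl, sub_self, mul_zero, zero_mul, mul_zero]
    · by_cases hrl' : r = l'
      · rw [hrl', hdl', sub_self, mul_zero, mul_zero]
      · rw [hdr r hrl hrl', Units.val_one, sub_self, zero_mul, zero_mul, mul_zero]
  have hrel : ∀ r, -(g : Matrix ι ι F) r j + s * (C1 * (g : Matrix ι ι F) r ((σ ^ 1) j))
      - s * (C2 * (g : Matrix ι ι F) r ((σ ^ 2) j)) + C3 * (g : Matrix ι ι F) r ((σ ^ 3) j) = 0 := by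
    intro r
    rw [← hC1 r, ← hC2 r, ← hC3 r]
    exact hcubic r
  -- multiply with row `σ^3 j` of `g⁻¹`
  have hinv : ∀ a b, ∑ r, ((g⁻¹ : GL ι F) : Matrix ι ι F) a r * (g : Matrix ι ι F) r b
      = if a = b then 1 else 0 := by
    intro a b
    have : (((g⁻¹ : GL ι F) : Matrix ι ι F) * (g : Matrix ι ι F)) a b = (1 : Matrix ι ι F) a b := by
      rw [← Units.val_mul, inv_mul_cancel, Units.val_one]
    rw [Matrix.mul_apply, Matrix.one_apply] at this
    exact this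
  have hsum : ∑ r, ((g⁻¹ : GL ι F) : Matrix ι ι F) ((σ ^ 3) j) r *
      (-(g : Matrix ι ι F) r j + s * (C1 * (g : Matrix ι ι F) r ((σ ^ 1) j))
      - s * (C2 * (g : Matrix ι ι F) r ((σ ^ 2) j)) + C3 * (g : Matrix ι ι F) r ((σ ^ 3) j)) = 0 := by
    apply Finset.sum_eq_zero
    intro r _
    rw [hrel r, mul_zero]
  have hexp : ∑ r, ((g⁻¹ : GL ι F) : Matrix ι ι F) ((σ ^ 3) j) r *
      (-(g : Matrix ι ι F) r j + s * (C1 * (g : Matrix ι ι F) r ((σ ^ 1) j))
      - s * (C2 * (g : Matrix ι ι F) r ((σ ^ 2) j)) + C3 * (g : Matrix ι ι F) r ((σ ^ 3) j))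
      = -(∑ r, ((g⁻¹ : GL ι F) : Matrix ι ι F) ((σ ^ 3) j) r * (g : Matrix ι ι F) r j)
        + s * C1 * (∑ r, ((g⁻¹ : GL ι F) : Matrix ι ι F) ((σ ^ 3) j) r * (g : Matrix ι ι F) r ((σ ^ 1) j))
        - s * C2 * (∑ r, ((g⁻¹ : GL ι F) : Matrix ι ι F) ((σ ^ 3) j) r * (g : Matrix ι ι F) r ((σ ^ 2) j))
        + C3 * (∑ r, ((g⁻¹ : GL ι F) : Matrix ι ι F) ((σ ^ 3) j) r * (g : Matrix ι ι F) r ((σ ^ 3) j)) := by
    rw [Finset.mul_sum, Finset.mul_sum, Finset.mul_sum, ← Finset.sum_neg_distrib,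
      ← Finset.sum_add_distrib, ← Finset.sum_sub_distrib, ← Finset.sum_add_distrib]
    apply Finset.sum_congr rfl
    intro r _
    ring
  rw [hexp, hinv, hinv, hinv, hinv, if_neg hf3, if_pos rfl] at hsum
  have hn31 : (σ ^ 3) j ≠ (σ ^ 1) j := by
    intro h
    apply hf2
    have : (σ ^ 3) j = σ ((σ ^ 2) j) := by rw [pow_succ' σ 2, Equiv.Perm.mul_apply]
    rw [this, pow_one] at h
    exact σ.injective h
  have hn32 : (σ ^ 3) j ≠ (σ ^ 2) j := by
    intro h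
    apply hf1
    have e3 : (σ ^ 3) j = σ (σ ((σ ^ 1) j)) := by
      rw [pow_succ' σ 2, Equiv.Perm.mul_apply, pow_succ' σ 1, Equiv.Perm.mul_apply]
    have e2 : (σ ^ 2) j = σ (σ j) := by
      rw [pow_succ' σ 1, Equiv.Perm.mul_apply, pow_one]
    rw [e3, e2] at h
    exact σ.injective (σ.injective h)
  rw [if_neg hn31, if_neg hn32] at hsum
  simp only [neg_zero, mul_zero, zero_add, sub_zero, mul_one] at hsum
  exact hC3ne hsum

end Cfsg.Agent.Lib.Helper76
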