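import Mathlib
import Cfsg.Agent.Lib.Helper43.MonoStar

set_option autoImplicit false
set_option linter.unusedSectionVars false

namespace Cfsg.Agent.Lib.Helper76

open Matrix Cfsg.Geo Cfsg.Agent.Lib.Helper93 Cfsg.Agent.Lib.Helper43

variable {ι : Type} [Fintype ι] [DecidableEq ι] {F : Type*} [Field F]

namespace CaseB

/-- `g * g⁻¹ = 1` entrywise -/
theorem mul_inv_entry (g : GL ι F) (i k : ι) :
    ∑ j, (g : Matrix ι ι F) i j * ((g⁻¹ : GL ι F) : Matrix ι ι F) j k = if i = k then 1 else 0 := by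
  have : ((g : Matrix ι ι F) * ((g⁻¹ : GL ι F) : Matrix ι ι F)) i k = (1 : Matrix ι ι F) i k := by
    rw [← Units.val_mul, mul_inv_cancel, Units.val_one]
  rw [Matrix.mul_apply, Matrix.one_apply] at this
  exact this

/-- `g⁻¹ * g = 1` entrywise -/
theorem inv_mul_entry (g : GL ι F) (i k : ι) :
    ∑ j, ((g⁻¹ : GL ι F) : Matrix ι ι F) i j * (g : Matrix ι ι F) j k = if i = k then 1 else 0 := by
  have : (((g⁻¹ : GL ι F) : Matrix ι ι F) * (g : Matrix ι ι F)) i k = (1 : Matrix ι ι F) i k := by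
    rw [← Units.val_mul, inv_mul_cancel, Units.val_one]
  rw [Matrix.mul_apply, Matrix.one_apply] at this
  exact this

/-- entries of a conjugate of a diagonal element -/
theorem conj_dg_entry (g : GL ι F) (d : ι → Fˣ) (i k : ι) :
    ((g * dg d * g⁻¹ : GL ι F) : Matrix ι ι F) i k =
      (if i = k then 1 else 0) +
        ∑ j, (g : Matrix ι ι F) i j * ((d j : F) - 1) * ((g⁻¹ : GL ι F) : Matrix ι ι F) j k := by
  rw [mul_dg_mul_apply, ← mul_inv_entry g i k, ← Finset.sum_add_distrib]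
  apply Finset.sum_congr rfl
  intro j _
  ring

/-- the three-point diagonal element -/
def d3 (a a' b : ι) (ua ua' : Fˣ) : ι → Fˣ :=
  Function.update (1 : ι → Fˣ) a ua * Function.update (1 : ι → Fˣ) a' ua' *
    Function.update (1 : ι → Fˣ) b (ua * ua')⁻¹

theorem d3_prod (a a' b : ι) (ua ua' : Fˣ) : ∏ j, d3 a a' b ua ua' j = 1 := by
  unfold d3
  simp only [Pi.mul_apply]
  rw [Finset.prod_mul_distrib, Finset.prod_mul_distrib,
    Finset.prod_update_of_mem (Finset.mem_univ a),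
    Finset.prod_update_of_mem (Finset.mem_univ a'), Finset.prod_update_of_mem (Finset.mem_univ b)]
  simp

theorem d3_a {a a' b : ι} (h1 : a ≠ a') (h2 : a ≠ b) (ua ua' : Fˣ) : d3 a a' b ua ua' a = ua := by
  unfold d3
  rw [Pi.mul_apply, Pi.mul_apply, Function.update_self, Function.update_of_ne h1,
    Function.update_of_ne h2]
  simp

theorem d3_a' {a a' b : ι} (h1 : a ≠ a') (h3 : a' ≠ b) (ua ua' : Fˣ) :
    d3 a a' b ua ua' a' = ua' := by
  unfold d3
  rw [Pi.mul_apply, Pi.mul_apply, Function.update_self, Function.update_of_ne h1.symm,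
    Function.update_of_ne h3]
  simp

theorem d3_other {a a' b : ι} (ua ua' : Fˣ) {j : ι} (h1 : j ≠ a) (h2 : j ≠ a') (h3 : j ≠ b) :
    d3 a a' b ua ua' j = 1 := by
  unfold d3
  rw [Pi.mul_apply, Pi.mul_apply, Function.update_of_ne h1, Function.update_of_ne h2,
    Function.update_of_ne h3]
  simp

/-- column `k` of the conjugate when `g⁻¹ b k = 0` -/
theorem conj_d3_col (g : GL ι F) {a a' b k : ι} (h1 : a ≠ a') (h2 : a ≠ b) (h3 : a' ≠ b)
    (h0 : ((g⁻¹ : GL ι F) : Matrix ι ι F) b k = 0) (ua ua' : Fˣ) (i : ι) :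
    ((g * dg (d3 a a' b ua ua') * g⁻¹ : GL ι F) : Matrix ι ι F) i k =
      (if i = k then 1 else 0) +
        ((g : Matrix ι ι F) i a * ((ua : F) - 1) * ((g⁻¹ : GL ι F) : Matrix ι ι F) a k +
          (g : Matrix ι ι F) i a' * ((ua' : F) - 1) * ((g⁻¹ : GL ι F) : Matrix ι ι F) a' k) := by
  rw [conj_dg_entry]
  congr 1
  rw [Finset.sum_eq_add a a' h1]
  · rw [d3_a h1 h2, d3_a' h1 h3]
  · intro c _ hc
    by_cases hcb : c = b
    · rw [hcb, h0, mul_zero]
    · rw [d3_other ua ua' hc.1 hc.2 hcb, Units.val_one, sub_self, mul_zero, zero_mul]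
  · intro h; exact absurd (Finset.mem_univ _) h
  · intro h; exact absurd (Finset.mem_univ _) h

/-- two vectors in the kernel of a non-zero linear form on `F²` are proportional -/
theorem prop_of_form {A B X Y X' Y' : F} (hAB : A ≠ 0 ∨ B ≠ 0) (h1 : A * X + B * Y = 0)
    (h2 : A * X' + B * Y' = 0) : X * Y' = X' * Y := by
  have hA : A * (X * Y' - X' * Y) = 0 := by
    have : A * (X * Y' - X' * Y) = (A * X + B * Y) * Y' - (A * X' + B * Y') * Y := by ring
    rw [this, h1, h2]; ring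
  have hB : B * (X * Y' - X' * Y) = 0 := by
    have : B * (X * Y' - X' * Y) = -((A * X + B * Y) * X') + (A * X' + B * Y') * X := by ring
    rw [this, h1, h2]; ring
  rcases hAB with h | h
  · exact sub_eq_zero.mp ((mul_eq_zero.mp hA).resolve_left h)
  · exact sub_eq_zero.mp ((mul_eq_zero.mp hB).resolve_left h)

/-- an element outside a small finset -/
theorem exists_notMem {α : Type*} [Fintype α] (S : Finset α) (h : S.card < Fintype.card α) :
    ∃ x, x ∉ S := by
  by_contra hcon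
  push Not at hcon
  have : S = Finset.univ := Finset.eq_univ_iff_forall.mpr hcon
  rw [this, Finset.card_univ] at h
  exact lt_irrefl _ h

/-- column `k` of the conjugate by the one-parameter family -/
theorem ycol (g : GL ι F) {a a' b k : ι} (h1 : a ≠ a') (h2 : a ≠ b) (h3 : a' ≠ b)
    (h0 : ((g⁻¹ : GL ι F) : Matrix ι ι F) b k = 0) (i : ι) (s : F)
    (hs1 : 1 + s * ((g : Matrix ι ι F) i a' * ((g⁻¹ : GL ι F) : Matrix ι ι F) a' k) ≠ 0)
    (hs2 : 1 - s * ((g : Matrix ι ι F) i a * ((g⁻¹ : GL ι F) : Matrix ι ι F) a k) ≠ 0) (i' : ι) :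
    ((g * dg (d3 a a' b (Units.mk0 _ hs1) (Units.mk0 _ hs2)) * g⁻¹ : GL ι F) : Matrix ι ι F) i' k =
      (if i' = k then 1 else 0) +
        s * (((g⁻¹ : GL ι F) : Matrix ι ι F) a k * ((g⁻¹ : GL ι F) : Matrix ι ι F) a' k *
          ((g : Matrix ι ι F) i a' * (g : Matrix ι ι F) i' a
            - (g : Matrix ι ι F) i a * (g : Matrix ι ι F) i' a')) := by
  rw [conj_d3_col g h1 h2 h3 h0]
  simp only [Units.val_mk0]
  ring

/-- columns `a`, `a'` of `g` are not proportional on the rows `≠ k` -/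
theorem no_prop (g : GL ι F) {a a' c k i : ι} (hca : c ≠ a) (hca' : c ≠ a') (haa' : a ≠ a')
    (hc : ((g⁻¹ : GL ι F) : Matrix ι ι F) c k ≠ 0) (hi : (g : Matrix ι ι F) i a ≠ 0)
    (hprop : ∀ i', i' ≠ k → (g : Matrix ι ι F) i a' * (g : Matrix ι ι F) i' a
      = (g : Matrix ι ι F) i a * (g : Matrix ι ι F) i' a') : False := by
  have key : ∀ e, ∑ i', ((g⁻¹ : GL ι F) : Matrix ι ι F) e i' *
      ((g : Matrix ι ι F) i a' * (g : Matrix ι ι F) i' a
        - (g : Matrix ι ι F) i a * (g : Matrix ι ι F) i' a')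
      = (g : Matrix ι ι F) i a' * (if e = a then 1 else 0)
        - (g : Matrix ι ι F) i a * (if e = a' then 1 else 0) := by
    intro e
    rw [← inv_mul_entry g e a, ← inv_mul_entry g e a', Finset.mul_sum, Finset.mul_sum,
      ← Finset.sum_sub_distrib]
    apply Finset.sum_congr rfl
    intro j _
    ring
  have key2 : ∀ e, ∑ i', ((g⁻¹ : GL ι F) : Matrix ι ι F) e i' *
      ((g : Matrix ι ι F) i a' * (g : Matrix ι ι F) i' a
        - (g : Matrix ι ι F) i a * (g : Matrix ι ι F) i' a')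
      = ((g⁻¹ : GL ι F) : Matrix ι ι F) e k *
        ((g : Matrix ι ι F) i a' * (g : Matrix ι ι F) k a
          - (g : Matrix ι ι F) i a * (g : Matrix ι ι F) k a') := by
    intro e
    apply Finset.sum_eq_single k
    · intro i' _ hi'
      rw [hprop i' hi', sub_self, mul_zero]
    · intro h; exact absurd (Finset.mem_univ _) h
  have h1 := (key2 c).symm.trans (key c)
  rw [if_neg hca, if_neg hca', mul_zero, mul_zero, sub_zero] at h1
  have hD : (g : Matrix ι ι F) i a' * (g : Matrix ι ι F) k a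
      - (g : Matrix ι ι F) i a * (g : Matrix ι ι F) k a' = 0 :=
    (mul_eq_zero.mp h1).resolve_left hc
  have h2 := (key2 a').symm.trans (key a')
  rw [hD, mul_zero, if_neg haa'.symm, if_pos rfl, mul_zero, mul_one, zero_sub] at h2
  exact hi (neg_eq_zero.mp h2.symm)

/-- Step (1): for a valid row `i`, all the minors `D(i,i')`, `i' ∉ {i,k}`, are non-zero. -/
theorem minor_ne_zero [Fintype F] (hq : 5 ≤ Fintype.card F)
    {M : Subgroup (GL ι F)} (hT : ∀ d : ι → Fˣ, ∏ i, d i = 1 → dg d ∈ M)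
    (h2col : ∀ g ∈ M, ∀ i l l', l ≠ l' → (g : Matrix ι ι F) l i = 0 →
      (g : Matrix ι ι F) l' i = 0 → g ∈ Mono ι F)
    {g : GL ι F} (hg : g ∈ M) {a a' b c k : ι} (h1 : a ≠ a') (h2 : a ≠ b) (h3 : a' ≠ b)
    (hca : c ≠ a) (hca' : c ≠ a')
    (h0 : ((g⁻¹ : GL ι F) : Matrix ι ι F) b k = 0)
    (hφa : ((g⁻¹ : GL ι F) : Matrix ι ι F) a k ≠ 0)
    (hφa' : ((g⁻¹ : GL ι F) : Matrix ι ι F) a' k ≠ 0)
    (hφc : ((g⁻¹ : GL ι F) : Matrix ι ι F) c k ≠ 0)
    {i : ι} (hik : i ≠ k) (hia : (g : Matrix ι ι F) i a ≠ 0) (hia' : (g : Matrix ι ι F) i a' ≠ 0)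
    {i₀ : ι} (hi₀i : i₀ ≠ i) (hi₀k : i₀ ≠ k) :
    (g : Matrix ι ι F) i a' * (g : Matrix ι ι F) i₀ a
      - (g : Matrix ι ι F) i a * (g : Matrix ι ι F) i₀ a' ≠ 0 := by
  classical
  intro hD0
  have hca0 : (g : Matrix ι ι F) i a * ((g⁻¹ : GL ι F) : Matrix ι ι F) a k ≠ 0 :=
    mul_ne_zero hia hφa
  have hca'0 : (g : Matrix ι ι F) i a' * ((g⁻¹ : GL ι F) : Matrix ι ι F) a' k ≠ 0 :=
    mul_ne_zero hia' hφa'
  -- two admissible parameters
  obtain ⟨S, hS⟩ : ∃ S : Finset F, S = {0,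
      -((g : Matrix ι ι F) i a' * ((g⁻¹ : GL ι F) : Matrix ι ι F) a' k)⁻¹,
      ((g : Matrix ι ι F) i a * ((g⁻¹ : GL ι F) : Matrix ι ι F) a k)⁻¹} := ⟨_, rfl⟩
  have hScard : S.card ≤ 3 := by rw [hS]; exact Finset.card_le_three
  have hlt1 : S.card < Fintype.card F := by omega
  obtain ⟨s₁, hs₁⟩ := exists_notMem S hlt1
  have hlt2 : (insert s₁ S).card < Fintype.card F := by
    have := Finset.card_insert_le s₁ S; omega
  obtain ⟨s₂, hs₂⟩ := exists_notMem (insert s₁ S) hlt2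
  have hs12 : s₂ ≠ s₁ := fun h => hs₂ (by rw [h]; exact Finset.mem_insert_self _ _)
  have hs₂' : s₂ ∉ S := fun h => hs₂ (Finset.mem_insert_of_mem h)
  have adm : ∀ s, s ∉ S →
      1 + s * ((g : Matrix ι ι F) i a' * ((g⁻¹ : GL ι F) : Matrix ι ι F) a' k) ≠ 0 ∧
      1 - s * ((g : Matrix ι ι F) i a * ((g⁻¹ : GL ι F) : Matrix ι ι F) a k) ≠ 0 := by
    intro s hs
    rw [hS] at hs
    simp only [Finset.mem_insert, Finset.mem_singleton, not_or] at hs
    obtain ⟨_, hsb, hsc⟩ := hs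
    constructor
    · intro h
      apply hsb
      have : s * ((g : Matrix ι ι F) i a' * ((g⁻¹ : GL ι F) : Matrix ι ι F) a' k) = -1 := by
        linear_combination h
      field_simp
      linear_combination this
    · intro h
      apply hsc
      have : s * ((g : Matrix ι ι F) i a * ((g⁻¹ : GL ι F) : Matrix ι ι F) a k) = 1 := by
        linear_combination -h
      field_simp
      linear_combination this
  -- the conjugates are monomial
  have ymono : ∀ s (hs : s ∉ S),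
      (g * dg (d3 a a' b (Units.mk0 _ (adm s hs).1) (Units.mk0 _ (adm s hs).2)) * g⁻¹ : GL ι F)
        ∈ Mono ι F := by
    intro s hs
    have hyM : (g * dg (d3 a a' b (Units.mk0 _ (adm s hs).1) (Units.mk0 _ (adm s hs).2)) * g⁻¹
        : GL ι F) ∈ M := M.mul_mem (M.mul_mem hg (hT _ (d3_prod _ _ _ _ _))) (M.inv_mem hg)
    apply h2col _ hyM k i i₀ hi₀i.symm
    · rw [ycol g h1 h2 h3 h0 i s, if_neg hik]
      ring
    · rw [ycol g h1 h2 h3 h0 i s, if_neg hi₀k, hD0]
      ring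
  -- all minors vanish
  have hall : ∀ i', i' ≠ k → (g : Matrix ι ι F) i a' * (g : Matrix ι ι F) i' a
      = (g : Matrix ι ι F) i a * (g : Matrix ι ι F) i' a' := by
    intro i' hi'k
    by_contra hne
    have hDne : (g : Matrix ι ι F) i a' * (g : Matrix ι ι F) i' a
      - (g : Matrix ι ι F) i a * (g : Matrix ι ι F) i' a' ≠ 0 := fun h => hne (sub_eq_zero.mp h)
    have hkk : ∀ s (hs : s ∉ S), s ≠ 0 →
        1 + s * (((g⁻¹ : GL ι F) : Matrix ι ι F) a k * ((g⁻¹ : GL ι F) : Matrix ι ι F) a' k *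
          ((g : Matrix ι ι F) i a' * (g : Matrix ι ι F) k a
            - (g : Matrix ι ι F) i a * (g : Matrix ι ι F) k a')) = 0 := by
      intro s hs hs0
      have hm := ymono s hs
      by_contra hne0
      have e1 : ((g * dg (d3 a a' b (Units.mk0 _ (adm s hs).1) (Units.mk0 _ (adm s hs).2)) * g⁻¹
          : GL ι F) : Matrix ι ι F) k k ≠ 0 := by
        rw [ycol g h1 h2 h3 h0 i s, if_pos rfl]; exact hne0
      have e2 : ((g * dg (d3 a a' b (Units.mk0 _ (adm s hs).1) (Units.mk0 _ (adm s hs).2)) * g⁻¹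
          : GL ι F) : Matrix ι ι F) i' k ≠ 0 := by
        rw [ycol g h1 h2 h3 h0 i s, if_neg hi'k, zero_add]
        exact mul_ne_zero hs0 (mul_ne_zero (mul_ne_zero hφa hφa') hDne)
      exact hi'k (IsMono.col_unique (mem_Mono.mp hm) e2 e1)
    have hs₁0 : s₁ ≠ 0 := by
      intro h; apply hs₁; rw [hS, h]; simp
    have hs₂0 : s₂ ≠ 0 := by
      intro h; apply hs₂'; rw [hS, h]; simp
    have e1 := hkk s₁ hs₁ hs₁0
    have e2 := hkk s₂ hs₂' hs₂0
    have hm0 : (s₂ - s₁) * (((g⁻¹ : GL ι F) : Matrix ι ι F) a k * ((g⁻¹ : GL ι F) : Matrix ι ι F) a' k *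
          ((g : Matrix ι ι F) i a' * (g : Matrix ι ι F) k a
            - (g : Matrix ι ι F) i a * (g : Matrix ι ι F) k a')) = 0 := by
      linear_combination e2 - e1
    have hm0' := (mul_eq_zero.mp hm0).resolve_left (sub_ne_zero.mpr hs12)
    rw [hm0', mul_zero, add_zero] at e1
    exact one_ne_zero e1
  exact no_prop g hca hca' h1 hφc hia hall

end CaseB

open CaseB in
/-- **[SL-CASEB]** -/
theorem sl_caseB [Fintype F] (hq : 5 ≤ Fintype.card F) (hcard : 8 ≤ Fintype.card ι)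
    {M : Subgroup (GL ι F)} (hT : ∀ d : ι → Fˣ, ∏ i, d i = 1 → dg d ∈ M)
    (h2col : ∀ g ∈ M, ∀ i l l', l ≠ l' → (g : Matrix ι ι F) l i = 0 →
      (g : Matrix ι ι F) l' i = 0 → g ∈ Mono ι F)
    (h2row : ∀ g ∈ M, ∀ i l l', l ≠ l' → (g : Matrix ι ι F) i l = 0 →
      (g : Matrix ι ι F) i l' = 0 → g ∈ Mono ι F)
    {g : GL ι F} (hg : g ∈ M) (hgm : g ∉ Mono ι F) {b k : ι}
    (h0 : ((g⁻¹ : GL ι F) : Matrix ι ι F) b k = 0) : False := by
  classical
  have hφM : g⁻¹ ∈ M := M.inv_mem hg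
  have hφm : g⁻¹ ∉ Mono ι F := fun h => hgm (by simpa using (Mono ι F).inv_mem h)
  -- at most one zero per row / column
  have gcol : ∀ i l l', (g : Matrix ι ι F) l i = 0 → (g : Matrix ι ι F) l' i = 0 → l = l' := by
    intro i l l' e1 e2
    by_contra hne
    exact hgm (h2col g hg i l l' hne e1 e2)
  have grow : ∀ i l l', (g : Matrix ι ι F) i l = 0 → (g : Matrix ι ι F) i l' = 0 → l = l' := by
    intro i l l' e1 e2
    by_contra hne
    exact hgm (h2row g hg i l l' hne e1 e2)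
  have φcol : ∀ i l l', ((g⁻¹ : GL ι F) : Matrix ι ι F) l i = 0 →
      ((g⁻¹ : GL ι F) : Matrix ι ι F) l' i = 0 → l = l' := by
    intro i l l' e1 e2
    by_contra hne
    exact hφm (h2col g⁻¹ hφM i l l' hne e1 e2)
  have hφk : ∀ x, x ≠ b → ((g⁻¹ : GL ι F) : Matrix ι ι F) x k ≠ 0 :=
    fun x hxb h => hxb (φcol k x b h h0)
  -- choose the columns `a`, `a'` and the auxiliary index `c`
  obtain ⟨Zk, hZk⟩ : ∃ Zk : Finset ι,
      Zk = Finset.univ.filter (fun j => (g : Matrix ι ι F) k j = 0) := ⟨_, rfl⟩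
  have hZkcard : Zk.card ≤ 1 := by
    rw [Finset.card_le_one]
    intro x hx y hy
    rw [hZk, Finset.mem_filter] at hx hy
    exact grow k x y hx.2 hy.2
  have hlt1 : (insert b Zk).card < Fintype.card ι := by
    have := Finset.card_insert_le b Zk; omega
  obtain ⟨a, ha⟩ := exists_notMem (insert b Zk) hlt1
  have hlt2 : (insert a (insert b Zk)).card < Fintype.card ι := by
    have := Finset.card_insert_le b Zk
    have := Finset.card_insert_le a (insert b Zk); omega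
  obtain ⟨a', ha'⟩ := exists_notMem (insert a (insert b Zk)) hlt2
  have hlt3 : ({a, a', b} : Finset ι).card < Fintype.card ι := by
    have : ({a, a', b} : Finset ι).card ≤ 3 := Finset.card_le_three
    omega
  obtain ⟨c, hc⟩ := exists_notMem ({a, a', b} : Finset ι) hlt3
  simp only [Finset.mem_insert, Finset.mem_singleton, not_or] at hc
  obtain ⟨hca, hca', hcb⟩ := hc
  rw [Finset.mem_insert, not_or] at ha
  obtain ⟨hab, haZ⟩ := ha
  rw [Finset.mem_insert, Finset.mem_insert, not_or, not_or] at ha'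
  obtain ⟨ha'a, ha'b, ha'Z⟩ := ha'
  have hka : (g : Matrix ι ι F) k a ≠ 0 := by
    intro h; apply haZ; rw [hZk, Finset.mem_filter]; exact ⟨Finset.mem_univ _, h⟩
  have hka' : (g : Matrix ι ι F) k a' ≠ 0 := by
    intro h; apply ha'Z; rw [hZk, Finset.mem_filter]; exact ⟨Finset.mem_univ _, h⟩
  have haa' : a ≠ a' := fun h => ha'a h.symm
  have hφa := hφk a hab
  have hφa' := hφk a' ha'b
  have hφc := hφk c hcb
  -- minors
  have hminor : ∀ i, i ≠ k → (g : Matrix ι ι F) i a ≠ 0 → (g : Matrix ι ι F) i a' ≠ 0 →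
      ∀ i₀, i₀ ≠ i → i₀ ≠ k →
      (g : Matrix ι ι F) i a' * (g : Matrix ι ι F) i₀ a
        - (g : Matrix ι ι F) i a * (g : Matrix ι ι F) i₀ a' ≠ 0 :=
    fun i hik hia hia' i₀ hi₀i hi₀k =>
      minor_ne_zero hq hT h2col hg haa' hab ha'b hca hca' h0 hφa hφa' hφc hik hia hia' hi₀i hi₀k
  -- the invalid rows
  obtain ⟨Z, hZ⟩ : ∃ Z : Finset ι, Z = insert k
      (Finset.univ.filter (fun i => (g : Matrix ι ι F) i a = 0) ∪
        Finset.univ.filter (fun i => (g : Matrix ι ι F) i a' = 0)) := ⟨_, rfl⟩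
  have hZcard : Z.card ≤ 3 := by
    have e1 : (Finset.univ.filter (fun i => (g : Matrix ι ι F) i a = 0)).card ≤ 1 := by
      rw [Finset.card_le_one]
      intro x hx y hy
      rw [Finset.mem_filter] at hx hy
      exact gcol a x y hx.2 hy.2
    have e2 : (Finset.univ.filter (fun i => (g : Matrix ι ι F) i a' = 0)).card ≤ 1 := by
      rw [Finset.card_le_one]
      intro x hx y hy
      rw [Finset.mem_filter] at hx hy
      exact gcol a' x y hx.2 hy.2
    have e3 := Finset.card_union_le (Finset.univ.filter (fun i => (g : Matrix ι ι F) i a = 0))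
      (Finset.univ.filter (fun i => (g : Matrix ι ι F) i a' = 0))
    have e4 := Finset.card_insert_le k
      (Finset.univ.filter (fun i => (g : Matrix ι ι F) i a = 0) ∪
        Finset.univ.filter (fun i => (g : Matrix ι ι F) i a' = 0))
    rw [hZ]; omega
  have hvalid : ∀ i, i ∉ Z → i ≠ k ∧ (g : Matrix ι ι F) i a ≠ 0 ∧ (g : Matrix ι ι F) i a' ≠ 0 := by
    intro i hi
    rw [hZ, Finset.mem_insert, Finset.mem_union, Finset.mem_filter, Finset.mem_filter] at hi
    push Not at hi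
    exact ⟨hi.1, hi.2.1 (Finset.mem_univ _), hi.2.2 (Finset.mem_univ _)⟩
  -- the three bad sets
  obtain ⟨B1, hB1⟩ : ∃ B1 : Finset ι, B1 = Finset.univ.filter (fun i => i ∉ Z ∧
      (g : Matrix ι ι F) i a' * (g : Matrix ι ι F) k a
        - (g : Matrix ι ι F) i a * (g : Matrix ι ι F) k a' = 0) := ⟨_, rfl⟩
  obtain ⟨B2, hB2⟩ : ∃ B2 : Finset ι, B2 = Finset.univ.filter (fun i => i ∉ Z ∧
      ((g⁻¹ : GL ι F) : Matrix ι ι F) a k * ((g : Matrix ι ι F) i a' * (g : Matrix ι ι F) k a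
        - (g : Matrix ι ι F) i a * (g : Matrix ι ι F) k a') = (g : Matrix ι ι F) i a') := ⟨_, rfl⟩
  obtain ⟨B3, hB3⟩ : ∃ B3 : Finset ι, B3 = Finset.univ.filter (fun i => i ∉ Z ∧
      ((g⁻¹ : GL ι F) : Matrix ι ι F) a' k * ((g : Matrix ι ι F) i a' * (g : Matrix ι ι F) k a
        - (g : Matrix ι ι F) i a * (g : Matrix ι ι F) k a') = -(g : Matrix ι ι F) i a) := ⟨_, rfl⟩
  -- two valid rows in the kernel of a common non-zero linear form coincide
  have hform : ∀ (A B : F), (A ≠ 0 ∨ B ≠ 0) → ∀ x y, x ∉ Z → y ∉ Z →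
      A * (g : Matrix ι ι F) x a + B * (g : Matrix ι ι F) x a' = 0 →
      A * (g : Matrix ι ι F) y a + B * (g : Matrix ι ι F) y a' = 0 → x = y := by
    intro A B hAB x y hx hy e1 e2
    by_contra hxy
    obtain ⟨hxk, hxa, hxa'⟩ := hvalid x hx
    obtain ⟨hyk, _, _⟩ := hvalid y hy
    have hm := hminor x hxk hxa hxa' y (fun h => hxy h.symm) hyk
    have hp := prop_of_form hAB e1 e2
    apply hm
    linear_combination -hp
  have hB1card : B1.card ≤ 1 := by
    rw [Finset.card_le_one]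
    intro x hx y hy
    rw [hB1, Finset.mem_filter] at hx hy
    apply hform (-(g : Matrix ι ι F) k a') ((g : Matrix ι ι F) k a) (Or.inr hka) x y hx.2.1 hy.2.1
    · linear_combination hx.2.2
    · linear_combination hy.2.2
  have hB2card : B2.card ≤ 1 := by
    rw [Finset.card_le_one]
    intro x hx y hy
    rw [hB2, Finset.mem_filter] at hx hy
    apply hform (-(((g⁻¹ : GL ι F) : Matrix ι ι F) a k * (g : Matrix ι ι F) k a'))
      (((g⁻¹ : GL ι F) : Matrix ι ι F) a k * (g : Matrix ι ι F) k a - 1)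
      (Or.inl (neg_ne_zero.mpr (mul_ne_zero hφa hka'))) x y hx.2.1 hy.2.1
    · linear_combination hx.2.2
    · linear_combination hy.2.2
  have hB3card : B3.card ≤ 1 := by
    rw [Finset.card_le_one]
    intro x hx y hy
    rw [hB3, Finset.mem_filter] at hx hy
    apply hform (1 - ((g⁻¹ : GL ι F) : Matrix ι ι F) a' k * (g : Matrix ι ι F) k a')
      (((g⁻¹ : GL ι F) : Matrix ι ι F) a' k * (g : Matrix ι ι F) k a)
      (Or.inr (mul_ne_zero hφa' hka)) x y hx.2.1 hy.2.1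
    · linear_combination hx.2.2
    · linear_combination hy.2.2
  -- choose the row `i`
  have hlt4 : (Z ∪ B1 ∪ B2 ∪ B3).card < Fintype.card ι := by
    have e1 := Finset.card_union_le Z B1
    have e2 := Finset.card_union_le (Z ∪ B1) B2
    have e3 := Finset.card_union_le (Z ∪ B1 ∪ B2) B3
    omega
  obtain ⟨i, hi⟩ := exists_notMem (Z ∪ B1 ∪ B2 ∪ B3) hlt4
  rw [Finset.mem_union, Finset.mem_union, Finset.mem_union, not_or, not_or, not_or] at hi
  obtain ⟨⟨⟨hiZ, hiB1⟩, hiB2⟩, hiB3⟩ := hi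
  obtain ⟨hik, hia, hia'⟩ := hvalid i hiZ
  have hE1 : (g : Matrix ι ι F) i a' * (g : Matrix ι ι F) k a
        - (g : Matrix ι ι F) i a * (g : Matrix ι ι F) k a' ≠ 0 := by
    intro h; apply hiB1; rw [hB1, Finset.mem_filter]; exact ⟨Finset.mem_univ _, hiZ, h⟩
  have hE2 : ((g⁻¹ : GL ι F) : Matrix ι ι F) a k * ((g : Matrix ι ι F) i a' * (g : Matrix ι ι F) k a
        - (g : Matrix ι ι F) i a * (g : Matrix ι ι F) k a') ≠ (g : Matrix ι ι F) i a' := by
    intro h; apply hiB2; rw [hB2, Finset.mem_filter]; exact ⟨Finset.mem_univ _, hiZ, h⟩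
  have hE3 : ((g⁻¹ : GL ι F) : Matrix ι ι F) a' k * ((g : Matrix ι ι F) i a' * (g : Matrix ι ι F) k a
        - (g : Matrix ι ι F) i a * (g : Matrix ι ι F) k a') ≠ -(g : Matrix ι ι F) i a := by
    intro h; apply hiB3; rw [hB3, Finset.mem_filter]; exact ⟨Finset.mem_univ _, hiZ, h⟩
  -- the parameter `s₀ = -1 / m_k`
  obtain ⟨mk, hmk⟩ : ∃ mk : F, mk = ((g⁻¹ : GL ι F) : Matrix ι ι F) a k *
      ((g⁻¹ : GL ι F) : Matrix ι ι F) a' k * ((g : Matrix ι ι F) i a' * (g : Matrix ι ι F) k a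
        - (g : Matrix ι ι F) i a * (g : Matrix ι ι F) k a') := ⟨_, rfl⟩
  have hmk0 : mk ≠ 0 := by
    rw [hmk]; exact mul_ne_zero (mul_ne_zero hφa hφa') hE1
  have hs1 : 1 + (-mk⁻¹) * ((g : Matrix ι ι F) i a' * ((g⁻¹ : GL ι F) : Matrix ι ι F) a' k) ≠ 0 := by
    intro h
    apply hE2
    have h' : mk = (g : Matrix ι ι F) i a' * ((g⁻¹ : GL ι F) : Matrix ι ι F) a' k := by
      field_simp at h
      linear_combination h
    rw [hmk] at h'
    have : ((g⁻¹ : GL ι F) : Matrix ι ι F) a' k *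
        (((g⁻¹ : GL ι F) : Matrix ι ι F) a k * ((g : Matrix ι ι F) i a' * (g : Matrix ι ι F) k a
        - (g : Matrix ι ι F) i a * (g : Matrix ι ι F) k a') - (g : Matrix ι ι F) i a') = 0 := by
      linear_combination h'
    exact sub_eq_zero.mp ((mul_eq_zero.mp this).resolve_left hφa')
  have hs2 : 1 - (-mk⁻¹) * ((g : Matrix ι ι F) i a * ((g⁻¹ : GL ι F) : Matrix ι ι F) a k) ≠ 0 := by
    intro h
    apply hE3
    have h' : mk = -((g : Matrix ι ι F) i a * ((g⁻¹ : GL ι F) : Matrix ι ι F) a k) := by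
      field_simp at h
      linear_combination h
    rw [hmk] at h'
    have : ((g⁻¹ : GL ι F) : Matrix ι ι F) a k *
        (((g⁻¹ : GL ι F) : Matrix ι ι F) a' k * ((g : Matrix ι ι F) i a' * (g : Matrix ι ι F) k a
        - (g : Matrix ι ι F) i a * (g : Matrix ι ι F) k a') - -(g : Matrix ι ι F) i a) = 0 := by
      linear_combination h'
    exact sub_eq_zero.mp ((mul_eq_zero.mp this).resolve_left hφa)
  have hyM : (g * dg (d3 a a' b (Units.mk0 _ hs1) (Units.mk0 _ hs2)) * g⁻¹ : GL ι F) ∈ M :=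
    M.mul_mem (M.mul_mem hg (hT _ (d3_prod _ _ _ _ _))) (M.inv_mem hg)
  have hymono : (g * dg (d3 a a' b (Units.mk0 _ hs1) (Units.mk0 _ hs2)) * g⁻¹ : GL ι F)
      ∈ Mono ι F := by
    apply h2col _ hyM k i k hik
    · rw [ycol g haa' hab ha'b h0 i (-mk⁻¹), if_neg hik]
      ring
    · rw [ycol g haa' hab ha'b h0 i (-mk⁻¹), if_pos rfl, ← hmk]
      field_simp
      ring
  -- two further rows
  have hlt5 : ({i, k} : Finset ι).card < Fintype.card ι := by
    have : ({i, k} : Finset ι).card ≤ 2 := Finset.card_le_two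
    omega
  obtain ⟨i₁, hi₁⟩ := exists_notMem ({i, k} : Finset ι) hlt5
  have hlt6 : ({i₁, i, k} : Finset ι).card < Fintype.card ι := by
    have : ({i₁, i, k} : Finset ι).card ≤ 3 := Finset.card_le_three
    omega
  obtain ⟨i₂, hi₂⟩ := exists_notMem ({i₁, i, k} : Finset ι) hlt6
  simp only [Finset.mem_insert, Finset.mem_singleton, not_or] at hi₁ hi₂
  have hne : ∀ i', i' ≠ i → i' ≠ k →
      ((g * dg (d3 a a' b (Units.mk0 _ hs1) (Units.mk0 _ hs2)) * g⁻¹ : GL ι F) : Matrix ι ι F) i' k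
        ≠ 0 := by
    intro i' hi'i hi'k
    rw [ycol g haa' hab ha'b h0 i (-mk⁻¹), if_neg hi'k, zero_add]
    exact mul_ne_zero (neg_ne_zero.mpr (inv_ne_zero hmk0))
      (mul_ne_zero (mul_ne_zero hφa hφa') (hminor i hik hia hia' i' hi'i hi'k))
  exact hi₂.1 (IsMono.col_unique (mem_Mono.mp hymono) (hne i₂ hi₂.2.1 hi₂.2.2)
    (hne i₁ hi₁.1 hi₁.2))

end Cfsg.Agent.Lib.Helper76
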