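import Mathlib
import Cfsg.Agent.Lib.Helper48.Bau.Defs

set_option autoImplicit false

/-!
# S2768 module [BAU-T3] (for helper48): `q |V ∩ Z(G)| ≤ |C_V(S)|`

In the rank-one pushing-up setting `Ctx p q S M Q`, for a normal elementary abelian `V` centralized
by `Q` on which `S` acts quadratically, with `C_V(S) ⊄ Z(G)`:
`q * |V ⊓ Z(G)| ≤ |V ⊓ C(S)|`.
-/

namespace Cfsg.Agent.Lib.Helper76.BauT3

open Cfsg.Agent.Lib.Helper48.Bau
open scoped Pointwise

variable {G : Type*} [Group G]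

/-- The set of `g` with `g v g⁻¹ v⁻¹` central, as a subgroup. -/
def centralCommSubgroup (v : G) : Subgroup G where
  carrier := {g | g * v * g⁻¹ * v⁻¹ ∈ Subgroup.center G}
  one_mem' := by
    show 1 * v * 1⁻¹ * v⁻¹ ∈ Subgroup.center G
    simp
  mul_mem' := by
    intro g g' hg hg'
    show g * g' * v * (g * g')⁻¹ * v⁻¹ ∈ Subgroup.center G
    have hg'' : g' * v * g'⁻¹ * v⁻¹ ∈ Subgroup.center G := hg'
    have hgg : g * v * g⁻¹ * v⁻¹ ∈ Subgroup.center G := hg
    have hc : (g' * v * g'⁻¹ * v⁻¹) * g = g * (g' * v * g'⁻¹ * v⁻¹) :=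
      ((Subgroup.mem_center_iff.1 hg'') g).symm
    have e : g * g' * v * (g * g')⁻¹ * v⁻¹ =
        (g' * v * g'⁻¹ * v⁻¹) * (g * v * g⁻¹ * v⁻¹) := by
      calc g * g' * v * (g * g')⁻¹ * v⁻¹
          = g * (g' * v * g'⁻¹ * v⁻¹) * (v * g⁻¹ * v⁻¹) := by group
        _ = (g' * v * g'⁻¹ * v⁻¹) * g * (v * g⁻¹ * v⁻¹) := by rw [hc]
        _ = _ := by group
    rw [e]
    exact Subgroup.mul_mem _ hg'' hgg
  inv_mem' := by
    intro g hg
    show g⁻¹ * v * g⁻¹⁻¹ * v⁻¹ ∈ Subgroup.center G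
    have hgg : g * v * g⁻¹ * v⁻¹ ∈ Subgroup.center G := hg
    have hinv : (g * v * g⁻¹ * v⁻¹)⁻¹ ∈ Subgroup.center G := Subgroup.inv_mem _ hgg
    have hc : (g * v * g⁻¹ * v⁻¹)⁻¹ * g = g * (g * v * g⁻¹ * v⁻¹)⁻¹ :=
      ((Subgroup.mem_center_iff.1 hinv) g).symm
    have e : g⁻¹ * v * g⁻¹⁻¹ * v⁻¹ = (g * v * g⁻¹ * v⁻¹)⁻¹ := by
      calc g⁻¹ * v * g⁻¹⁻¹ * v⁻¹ = g⁻¹ * ((g * v * g⁻¹ * v⁻¹)⁻¹ * g) := by group
        _ = g⁻¹ * (g * (g * v * g⁻¹ * v⁻¹)⁻¹) := by rw [hc]
        _ = _ := by group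
    rw [e]
    exact hinv

theorem mem_centralCommSubgroup (v g : G) :
    g ∈ centralCommSubgroup v ↔ g * v * g⁻¹ * v⁻¹ ∈ Subgroup.center G := Iff.rfl

/-- If every `g v g⁻¹ v⁻¹` is central, `g ↦ g v g⁻¹ v⁻¹` is a homomorphism. -/
def commHom (v : G) (hv : ∀ g : G, g * v * g⁻¹ * v⁻¹ ∈ Subgroup.center G) : G →* G where
  toFun g := g * v * g⁻¹ * v⁻¹
  map_one' := by simp
  map_mul' := by
    intro g g'
    have hc : (g' * v * g'⁻¹ * v⁻¹) * g = g * (g' * v * g'⁻¹ * v⁻¹) :=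
      ((Subgroup.mem_center_iff.1 (hv g')) g).symm
    have hc2 : (g' * v * g'⁻¹ * v⁻¹) * (g * v * g⁻¹ * v⁻¹) =
        (g * v * g⁻¹ * v⁻¹) * (g' * v * g'⁻¹ * v⁻¹) :=
      ((Subgroup.mem_center_iff.1 (hv g')) _).symm
    calc g * g' * v * (g * g')⁻¹ * v⁻¹
        = g * (g' * v * g'⁻¹ * v⁻¹) * (v * g⁻¹ * v⁻¹) := by group
      _ = (g' * v * g'⁻¹ * v⁻¹) * g * (v * g⁻¹ * v⁻¹) := by rw [hc]
      _ = (g' * v * g'⁻¹ * v⁻¹) * (g * v * g⁻¹ * v⁻¹) := by group
      _ = _ := hc2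

theorem commHom_apply (v : G) (hv : ∀ g : G, g * v * g⁻¹ * v⁻¹ ∈ Subgroup.center G) (g : G) :
    commHom v hv g = g * v * g⁻¹ * v⁻¹ := rfl

/-- KEY: an element `a ∈ S` whose commutator with `v` is central lies in `Q`. -/
theorem mem_Q_of_comm_central [Finite G] {p q : ℕ} [Fact p.Prime] {S : Sylow p G}
    {M Q : Subgroup G} (h : Ctx p q S M Q) (V : Subgroup G) [hVn : V.Normal]
    (hVp : ∀ a ∈ V, a ^ p = 1) (x : G) (hx : x ∉ M) (v : G) (hvV : v ∈ V)
    (hvc : ∀ g ∈ (MulAut.conj x • (S : Subgroup G) : Subgroup G), g * v = v * g)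
    (hvZ : v ∉ Subgroup.center G) (a : G) (haS : a ∈ (S : Subgroup G))
    (hca : v * a * v⁻¹ * a⁻¹ ∈ Subgroup.center G) : a ∈ Q := by
  have hpp : p.Prime := Fact.out
  by_contra haQ
  have hgen := h.gen x hx a haS haQ
  have hD : centralCommSubgroup v = ⊤ := by
    rw [eq_top_iff, ← hgen, Subgroup.closure_le]
    intro g hg
    rcases Set.mem_insert_iff.1 hg with rfl | hg
    · show g * v * g⁻¹ * v⁻¹ ∈ Subgroup.center G
      have : g * v * g⁻¹ * v⁻¹ = (v * g * v⁻¹ * g⁻¹)⁻¹ := by group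
      rw [this]
      exact Subgroup.inv_mem _ hca
    · show g * v * g⁻¹ * v⁻¹ ∈ Subgroup.center G
      rw [hvc g hg]
      have : v * g * g⁻¹ * v⁻¹ = 1 := by group
      rw [this]
      exact Subgroup.one_mem _
  have hall : ∀ g : G, g * v * g⁻¹ * v⁻¹ ∈ Subgroup.center G := fun g =>
    (mem_centralCommSubgroup v g).1 (hD ▸ Subgroup.mem_top g)
  have hrV : (commHom v hall).range ≤ V := by
    rintro _ ⟨g, rfl⟩
    rw [commHom_apply]
    exact V.mul_mem (hVn.conj_mem v hvV g) (V.inv_mem hvV)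
  have hker : (MulAut.conj x • (S : Subgroup G) : Subgroup G) ≤ (commHom v hall).ker := by
    intro g hg
    rw [MonoidHom.mem_ker, commHom_apply, hvc g hg]
    group
  have hpr : IsPGroup p (commHom v hall).range := by
    rintro ⟨y, hy⟩
    exact ⟨1, Subtype.ext (by simpa using hVp y (hrV hy))⟩
  obtain ⟨k, hk⟩ := IsPGroup.iff_card.1 hpr
  have h1 : Nat.card (commHom v hall).range ∣
      (MulAut.conj x • (S : Subgroup G) : Subgroup G).index := by
    rw [← Subgroup.index_ker]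
    exact Subgroup.index_dvd_of_le hker
  have h2 : ¬ p ∣ (MulAut.conj x • (S : Subgroup G) : Subgroup G).index := by
    have := (x • S : Sylow p G).not_dvd_index
    rwa [Sylow.smul_def, Sylow.pointwise_smul_def] at this
  have hk0 : k = 0 := by
    by_contra hk0
    apply h2
    exact (dvd_pow_self p hk0).trans (hk ▸ h1)
  rw [hk0, pow_zero] at hk
  apply hvZ
  rw [Subgroup.mem_center_iff]
  intro g
  have hsub : Subsingleton (commHom v hall).range := (Nat.card_eq_one_iff_unique.1 hk).1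
  have hg1 : (⟨commHom v hall g, g, rfl⟩ : (commHom v hall).range) = 1 := Subsingleton.elim _ _
  have hg2 : g * v * g⁻¹ * v⁻¹ = 1 := congrArg Subtype.val hg1
  calc g * v = (g * v * g⁻¹ * v⁻¹) * v * g := by group
    _ = v * g := by rw [hg2, one_mul]

/-- **[BAU-T3]** (exact statement of board #3812). -/
theorem card_fixed_ge [Finite G] {p q : ℕ} [Fact p.Prime] {S : Sylow p G} {M Q : Subgroup G}
    (h : Ctx p q S M Q) (V : Subgroup G) [V.Normal] (hV : Cfsg.IsElementaryAbelian p V)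
    (hQV : Q ≤ Subgroup.centralizer (V : Set G))
    (hquad : ⁅V, (S : Subgroup G)⁆ ≤ Subgroup.centralizer ((S : Subgroup G) : Set G))
    (hU : ¬ (V ⊓ Subgroup.centralizer ((S : Subgroup G) : Set G) ≤ Subgroup.center G)) :
    q * Nat.card (V ⊓ Subgroup.center G : Subgroup G) ≤
      Nat.card (V ⊓ Subgroup.centralizer ((S : Subgroup G) : Set G) : Subgroup G) := by
  have hVn : V.Normal := inferInstance
  obtain ⟨U, hUdef⟩ : ∃ U : Subgroup G,
      U = V ⊓ Subgroup.centralizer ((S : Subgroup G) : Set G) := ⟨_, rfl⟩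
  rw [← hUdef] at hU ⊢
  have hmemU : ∀ g : G, g ∈ V → g ∈ Subgroup.centralizer ((S : Subgroup G) : Set G) → g ∈ U :=
    fun g h1 h2 => hUdef ▸ Subgroup.mem_inf.2 ⟨h1, h2⟩
  have hUV : U ≤ V := hUdef ▸ inf_le_left
  have hUC : U ≤ Subgroup.centralizer ((S : Subgroup G) : Set G) := hUdef ▸ inf_le_right
  obtain ⟨x, hx⟩ : ∃ x, x ∉ M := by
    by_contra hx
    push Not at hx
    exact h.coatom.1 (eq_top_iff.2 (fun g _ => hx g))
  obtain ⟨u, huU, huZ⟩ := SetLike.not_le_iff_exists.1 hU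
  have huV : u ∈ V := hUV huU
  have huC : u ∈ Subgroup.centralizer ((S : Subgroup G) : Set G) := hUC huU
  obtain ⟨v, hvdef⟩ : ∃ v : G, v = x * u * x⁻¹ := ⟨_, rfl⟩
  have hvV : v ∈ V := hvdef ▸ hVn.conj_mem u huV x
  have hvc : ∀ g ∈ (MulAut.conj x • (S : Subgroup G) : Subgroup G), g * v = v * g := by
    intro g hg
    obtain ⟨s, hs, rfl⟩ := (Subgroup.mem_smul_pointwise_iff_exists _ _ _).1 hg
    rw [MulAut.smul_def, MulAut.conj_apply, hvdef]
    have hsu : s * u = u * s := Subgroup.mem_centralizer_iff.1 huC s hs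
    calc x * s * x⁻¹ * (x * u * x⁻¹) = x * (s * u) * x⁻¹ := by group
      _ = x * (u * s) * x⁻¹ := by rw [hsu]
      _ = x * u * x⁻¹ * (x * s * x⁻¹) := by group
  have hvZ : v ∉ Subgroup.center G := by
    intro hv
    apply huZ
    have hn : (Subgroup.center G).Normal := inferInstance
    have := hn.conj_mem v hv x⁻¹
    rw [hvdef] at this
    have e : x⁻¹ * (x * u * x⁻¹) * x⁻¹⁻¹ = u := by group
    rwa [e] at this
  -- the commutator homomorphism `S → U`
  have hcV : ∀ a : G, v * a * v⁻¹ * a⁻¹ ∈ V := by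
    intro a
    have : v * a * v⁻¹ * a⁻¹ = v * (a * v⁻¹ * a⁻¹) := by group
    rw [this]
    exact V.mul_mem hvV (hVn.conj_mem v⁻¹ (V.inv_mem hvV) a)
  have hcC : ∀ a ∈ (S : Subgroup G),
      v * a * v⁻¹ * a⁻¹ ∈ Subgroup.centralizer ((S : Subgroup G) : Set G) := by
    intro a ha
    have := hquad (Subgroup.commutator_mem_commutator hvV ha)
    rwa [commutatorElement_def] at this
  let c : (S : Subgroup G) →* U :=
    { toFun := fun a => ⟨v * (a : G) * v⁻¹ * (a : G)⁻¹, hmemU _ (hcV a) (hcC a a.2)⟩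
      map_one' := by
        apply Subtype.ext
        show v * ((1 : (S : Subgroup G)) : G) * v⁻¹ * ((1 : (S : Subgroup G)) : G)⁻¹ = 1
        simp
      map_mul' := by
        intro a b
        apply Subtype.ext
        show v * ((a * b : (S : Subgroup G)) : G) * v⁻¹ * ((a * b : (S : Subgroup G)) : G)⁻¹ =
          (v * (a : G) * v⁻¹ * (a : G)⁻¹) * (v * (b : G) * v⁻¹ * (b : G)⁻¹)
        have hcomm : (a : G) * (v * (b : G) * v⁻¹ * (b : G)⁻¹) =
            (v * (b : G) * v⁻¹ * (b : G)⁻¹) * (a : G) :=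
          Subgroup.mem_centralizer_iff.1 (hcC b b.2) a a.2
        rw [Subgroup.coe_mul]
        calc v * ((a : G) * (b : G)) * v⁻¹ * ((a : G) * (b : G))⁻¹
            = (v * (a : G) * v⁻¹ * (a : G)⁻¹) * ((a : G) * (v * (b : G) * v⁻¹ * (b : G)⁻¹)) *
                (a : G)⁻¹ := by group
          _ = (v * (a : G) * v⁻¹ * (a : G)⁻¹) * ((v * (b : G) * v⁻¹ * (b : G)⁻¹) * (a : G)) *
                (a : G)⁻¹ := by rw [hcomm]
          _ = _ := by group }
  have hc_apply : ∀ a : (S : Subgroup G), ((c a : U) : G) = v * (a : G) * v⁻¹ * (a : G)⁻¹ :=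
    fun a => rfl
  -- `W = Z(G) ∩ U` inside `U`
  let W : Subgroup U := (Subgroup.center G).subgroupOf U
  have hcomap : W.comap c = Q.subgroupOf (S : Subgroup G) := by
    ext a
    rw [Subgroup.mem_comap, Subgroup.mem_subgroupOf, Subgroup.mem_subgroupOf, hc_apply]
    constructor
    · intro hca
      exact mem_Q_of_comm_central h V hV.2 x hx v hvV hvc hvZ a a.2 hca
    · intro haQ
      have hav : v * (a : G) = (a : G) * v := Subgroup.mem_centralizer_iff.1 (hQV haQ) v hvV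
      have : v * (a : G) * v⁻¹ * (a : G)⁻¹ = 1 := by rw [hav]; group
      rw [this]
      exact Subgroup.one_mem _
  have hUcomm : ∀ y z : U, y * z = z * y := by
    intro y z
    have hVc := hV.1
    have := hVc.is_comm.comm (⟨y.1, hUV y.2⟩ : V) ⟨z.1, hUV z.2⟩
    have h3 : (y : G) * (z : G) = (z : G) * (y : G) := congrArg Subtype.val this
    apply Subtype.ext
    exact h3
  have hWn : W.Normal := ⟨fun n hn g => by
    have : g * n * g⁻¹ = n := by rw [hUcomm g n, mul_assoc, mul_inv_cancel, mul_one]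
    rw [this]; exact hn⟩
  -- index computations
  have hidxQ : (Q.subgroupOf (S : Subgroup G)).index = q := by
    have h1 := Subgroup.card_mul_index (Q.subgroupOf (S : Subgroup G))
    rw [Nat.card_congr (Subgroup.subgroupOfEquivOfLe h.Q_le).toEquiv, h.card, mul_comm q] at h1
    exact Nat.eq_of_mul_eq_mul_left Nat.card_pos h1
  have hdvd : q ∣ W.index := by
    rw [← hidxQ, ← hcomap, Subgroup.index_comap]
    exact Subgroup.relIndex_dvd_index_of_normal W c.range
  have hcardW : Nat.card W = Nat.card (V ⊓ Subgroup.center G : Subgroup G) := by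
    have e1 : W = (Subgroup.center G ⊓ U).subgroupOf U := (Subgroup.inf_subgroupOf_right _ _).symm
    rw [e1, Nat.card_congr (Subgroup.subgroupOfEquivOfLe (inf_le_right :
      Subgroup.center G ⊓ U ≤ U)).toEquiv]
    have e2 : Subgroup.center G ⊓ U = V ⊓ Subgroup.center G := by
      apply le_antisymm
      · intro g hg
        exact Subgroup.mem_inf.2 ⟨hUV (Subgroup.mem_inf.1 hg).2, (Subgroup.mem_inf.1 hg).1⟩
      · intro g hg
        exact Subgroup.mem_inf.2 ⟨(Subgroup.mem_inf.1 hg).2, hmemU g (Subgroup.mem_inf.1 hg).1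
          (Subgroup.center_le_centralizer _ (Subgroup.mem_inf.1 hg).2)⟩
    rw [e2]
  have hWU := Subgroup.index_mul_card W
  rw [hcardW] at hWU
  obtain ⟨m, hm⟩ := hdvd
  rw [← hWU, hm]
  have hmpos : 0 < m := by
    rcases Nat.eq_zero_or_pos m with h0 | h0
    · exfalso
      rw [h0, mul_zero] at hm
      exact Subgroup.index_ne_zero_of_finite hm
    · exact h0
  calc q * Nat.card (V ⊓ Subgroup.center G : Subgroup G)
      = q * 1 * Nat.card (V ⊓ Subgroup.center G : Subgroup G) := by rw [mul_one]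
    _ ≤ q * m * Nat.card (V ⊓ Subgroup.center G : Subgroup G) :=
        Nat.mul_le_mul_right _ (Nat.mul_le_mul_left _ hmpos)

end Cfsg.Agent.Lib.Helper76.BauT3
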