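import Mathlib

set_option autoImplicit false

namespace Cfsg.Agent.Lib.Helper76.ReeW

/-- Key step: in a commutative subgroup `D`, a cyclic subgroup `A` of order `N` contains every
element of `D` of order dividing `N`, provided the `p`-subgroups of `G` are cyclic for `p ∣ N`. -/
theorem mem_of_pow_eq_one_of_comm {G : Type*} [Group G] [Finite G] (D : Subgroup G)
    (hD : ∀ a ∈ D, ∀ b ∈ D, a * b = b * a) (N : ℕ)
    (hcyc : ∀ p : ℕ, p.Prime → p ∣ N → ∀ R : Subgroup G, IsPGroup p ↥R → IsCyclic ↥R)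
    (A : Subgroup G) (hAD : A ≤ D) (hA : IsCyclic ↥A) (hAN : Nat.card ↥A = N) :
    ∀ e : ℕ, e ∣ N → ∀ y ∈ D, y ^ e = 1 → y ∈ A := by
  classical
  have hN0 : N ≠ 0 := by rw [← hAN]; exact Nat.card_pos.ne'
  obtain ⟨⟨a, haA⟩, hgen⟩ := hA.exists_generator
  have hAz : A = Subgroup.zpowers a := by
    ext x
    constructor
    · intro hx
      obtain ⟨n, hn⟩ := Subgroup.mem_zpowers_iff.mp (hgen ⟨x, hx⟩)
      refine Subgroup.mem_zpowers_iff.mpr ⟨n, ?_⟩
      simpa using congrArg Subtype.val hn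
    · intro hx
      obtain ⟨n, hn⟩ := Subgroup.mem_zpowers_iff.mp hx
      rw [← hn]; exact A.zpow_mem haA n
  have hoa : orderOf a = N := by
    rw [← hAN, hAz, Nat.card_zpowers]
  intro e
  induction e using Nat.recOnPosPrimePosCoprime with
  | zero =>
    intro h0
    exact absurd (Nat.eq_zero_of_zero_dvd h0) hN0
  | one =>
    intro _ y _ hy
    rw [pow_one] at hy
    rw [hy]; exact A.one_mem
  | prime_pow p k hp hk =>
    intro hpk y hyD hy
    have hpN : p ∣ N := dvd_trans (dvd_pow_self p hk.ne') hpk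
    -- N = p^j * m with p ∤ m
    obtain ⟨j, m, hpm, hNjm⟩ := Nat.exists_eq_pow_mul_and_not_dvd hN0 p hp.ne_one
    have hkj : k ≤ j := by
      have h1 : p ^ k ∣ p ^ j * m := hNjm ▸ hpk
      have hcop : Nat.Coprime (p ^ k) m := (Nat.Coprime.pow_left k ((Nat.Prime.coprime_iff_not_dvd hp).mpr hpm))
      have h2 : p ^ k ∣ p ^ j := hcop.dvd_of_dvd_mul_right h1
      exact (Nat.pow_dvd_pow_iff_le_right hp.one_lt).mp h2
    have hm0 : m ≠ 0 := by rintro rfl; simp at hNjm; exact hN0 hNjm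
    -- a_p := a ^ m has order p ^ j
    have hoap : orderOf (a ^ m) = p ^ j := by
      rw [orderOf_pow' a hm0, hoa, hNjm, Nat.gcd_eq_right (Dvd.intro_left _ rfl),
        Nat.mul_div_cancel _ (Nat.pos_of_ne_zero hm0)]
    have hamD : a ^ m ∈ D := D.pow_mem (hAD haA) m
    -- R := zpowers (a^m) ⊔ zpowers y is a commutative p-group
    have hRD : Subgroup.zpowers (a ^ m) ⊔ Subgroup.zpowers y ≤ D :=
      sup_le ((Subgroup.zpowers_le).mpr hamD) ((Subgroup.zpowers_le).mpr hyD)
    have hRexp : ∀ x ∈ Subgroup.zpowers (a ^ m) ⊔ Subgroup.zpowers y, x ^ (p ^ j) = 1 := by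
      -- the subgroup of `D` of elements killed by `p ^ j`
      let K : Subgroup G :=
        { carrier := {x | x ∈ D ∧ x ^ (p ^ j) = 1}
          mul_mem' := by
            rintro u v ⟨hu, hu1⟩ ⟨hv, hv1⟩
            refine ⟨D.mul_mem hu hv, ?_⟩
            have hcuv : Commute u v := hD u hu v hv
            rw [hcuv.mul_pow, hu1, hv1, mul_one]
          one_mem' := ⟨D.one_mem, one_pow _⟩
          inv_mem' := by
            rintro u ⟨hu, hu1⟩
            exact ⟨D.inv_mem hu, by rw [inv_pow, hu1, inv_one]⟩ }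
      have h1 : Subgroup.zpowers (a ^ m) ≤ K := by
        rw [Subgroup.zpowers_le]
        exact ⟨hamD, by rw [← hoap]; exact pow_orderOf_eq_one _⟩
      have h2 : Subgroup.zpowers y ≤ K := by
        rw [Subgroup.zpowers_le]
        refine ⟨hyD, ?_⟩
        obtain ⟨c, hc⟩ := Nat.pow_dvd_pow p hkj
        rw [hc, pow_mul, hy, one_pow]
      intro x hx
      exact ((sup_le h1 h2) hx).2
    have hRp : IsPGroup p ↥(Subgroup.zpowers (a ^ m) ⊔ Subgroup.zpowers y) := by
      intro x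
      refine ⟨j, ?_⟩
      apply Subtype.ext
      simpa using hRexp x.1 x.2
    have hRcyc := hcyc p hp hpN _ hRp
    obtain ⟨⟨z, hzR⟩, hzgen⟩ := hRcyc.exists_generator
    have hcardR : Nat.card ↥(Subgroup.zpowers (a ^ m) ⊔ Subgroup.zpowers y) = orderOf z := by
      have h1 := orderOf_eq_card_of_forall_mem_zpowers hzgen
      rw [← h1]
      exact (Subgroup.orderOf_mk z hzR)
    have hoz : orderOf z ∣ p ^ j := orderOf_dvd_of_pow_eq_one (hRexp z hzR)
    have hle : Subgroup.zpowers (a ^ m) ≤ Subgroup.zpowers (a ^ m) ⊔ Subgroup.zpowers y :=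
      le_sup_left
    have hcardle : Nat.card ↥(Subgroup.zpowers (a ^ m) ⊔ Subgroup.zpowers y)
        ≤ Nat.card ↥(Subgroup.zpowers (a ^ m)) := by
      rw [hcardR, Nat.card_zpowers, hoap]
      exact Nat.le_of_dvd (pow_pos hp.pos j) hoz
    have heq : Subgroup.zpowers (a ^ m) = Subgroup.zpowers (a ^ m) ⊔ Subgroup.zpowers y :=
      Subgroup.eq_of_le_of_card_ge hle hcardle
    have hy_mem : y ∈ Subgroup.zpowers (a ^ m) := by
      rw [heq]
      exact (le_sup_right : Subgroup.zpowers y ≤ _) (Subgroup.mem_zpowers y)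
    have : Subgroup.zpowers (a ^ m) ≤ A := (Subgroup.zpowers_le).mpr (A.pow_mem haA m)
    exact this hy_mem
  | coprime m n hm hn hmn ihm ihn =>
    intro hdvd y hyD hy
    have hmN : m ∣ N := dvd_trans (Dvd.intro _ rfl) hdvd
    have hnN : n ∣ N := dvd_trans (Dvd.intro_left _ rfl) hdvd
    have h1 : y ^ n ∈ A := by
      apply ihm hmN (y ^ n) (D.pow_mem hyD n)
      rw [← pow_mul, mul_comm]; exact hy
    have h2 : y ^ m ∈ A := by
      apply ihn hnN (y ^ m) (D.pow_mem hyD m)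
      rw [← pow_mul]; exact hy
    -- y = (y^m)^u * (y^n)^v with u m + v n = 1
    have hgcd : (m : ℤ) * Nat.gcdA m n + (n : ℤ) * Nat.gcdB m n = 1 := by
      have := Nat.gcd_eq_gcd_ab m n
      rw [hmn] at this
      push_cast at this
      linarith
    have : y = (y ^ m) ^ (Nat.gcdA m n) * (y ^ n) ^ (Nat.gcdB m n) := by
      rw [← zpow_natCast y m, ← zpow_natCast y n, ← zpow_mul, ← zpow_mul, ← zpow_add, hgcd, zpow_one]
    rw [this]
    exact A.mul_mem (A.zpow_mem h2 _) (A.zpow_mem h1 _)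

/-- **[W-CYCSUB]** -/
theorem eq_of_card_eq_of_comm {G : Type*} [Group G] [Finite G] (D : Subgroup G)
    (hD : ∀ a ∈ D, ∀ b ∈ D, a * b = b * a) (d : ℕ)
    (hcyc : ∀ p : ℕ, p.Prime → p ∣ d → ∀ R : Subgroup G, IsPGroup p ↥R → IsCyclic ↥R)
    (A B : Subgroup G) (hAD : A ≤ D) (hBD : B ≤ D) (hA : IsCyclic ↥A) (hB : IsCyclic ↥B)
    (hAd : Nat.card ↥A = d) (hBd : Nat.card ↥B = d) : A = B := by
  have hBA : B ≤ A := by
    intro y hy
    apply mem_of_pow_eq_one_of_comm D hD d hcyc A hAD hA hAd d dvd_rfl y (hBD hy)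
    have := pow_card_eq_one' (G := ↥B) (x := ⟨y, hy⟩)
    rw [hBd] at this
    simpa using congrArg Subtype.val this
  exact (Subgroup.eq_of_le_of_card_ge hBA (by rw [hAd, hBd])).symm

end Cfsg.Agent.Lib.Helper76.ReeW
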