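import Mathlib
import Cfsg.Agent.Lib.Helper76.FongReynolds
import Cfsg.Agent.Lib.Helper16.BrauerIdem
import Cfsg.Agent.Lib.Helper78.DefectOrder
import Cfsg.Agent.Lib.Helper79.Integrality
import Cfsg.Agent.S0917

/-!
# Fong–Reynolds: defect groups and heights (helper76)
-/

set_option autoImplicit false
set_option linter.unusedSectionVars false
set_option linter.style.haveILetI false

namespace Cfsg.Agent.Lib.Helper76

open Cfsg Cfsg.Agent.Lib.Helper16 Cfsg.Agent.Lib.Helper75 Cfsg.Agent.Lib.Helper78 MonoidAlgebra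
open scoped ComplexConjugate

universe u

/-- the infimum of a translated nonempty set of naturals -/
theorem sInf_image_add {S : Set ℕ} (hS : S.Nonempty) (k : ℕ) :
    sInf ((fun s => k + s) '' S) = k + sInf S := by
  have hne : ((fun s => k + s) '' S).Nonempty := hS.image _
  apply le_antisymm
  · exact Nat.sInf_le ⟨sInf S, Nat.sInf_mem hS, rfl⟩
  · obtain ⟨s, hs, hs'⟩ := Nat.sInf_mem hne
    rw [← hs']
    exact Nat.add_le_add_left (Nat.sInf_le hs) k

section

variable {G : Type u} [Group G] [Fintype G] (H : Subgroup G) [Fintype H]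

/-- the degree of an irreducible induced character -/
theorem charDegree_of_eq_indFun (χ : IrrCharacter G) (ψ : IrrCharacter H)
    (h : (χ : G → ℂ) = indFun H (ψ : H → ℂ)) :
    charDegree (χ : G → ℂ) = H.index * charDegree (ψ : H → ℂ) := by
  have h1 := Cfsg.Agent.Lib.Helper79.irr_apply_one_eq_charDegree χ
  have h2 : (χ : G → ℂ) 1 = (H.index : ℂ) * (charDegree (ψ : H → ℂ) : ℂ) := by
    rw [h, indFun_one, Cfsg.Agent.Lib.Helper79.irr_apply_one_eq_charDegree ψ]
  rw [h2] at h1
  exact_mod_cast h1.symm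

end

section MainFRD

variable {G : Type u} [Group G] [Fintype G] {N T : Subgroup G} [hN : N.Normal] [Fintype N]
  [Fintype T] {M : Ideal AlgInt}

open scoped Classical in
/-- **Fong–Reynolds: defect groups and heights.** -/
theorem fongReynolds_defect_height {p : ℕ} [Fact p.Prime] (hM : IsPModular p M) (hNT : N ≤ T)
    {b : Set (IrrCharacter N)} (hstab : IsBlockStab N T b) (hb : IsPBlock M b)
    {B' : Set (IrrCharacter T)} (hB' : IsPBlock M B')
    (hcov : ∃ ψ ∈ B', ∃ θ ∈ b, classInner (resNT N T hNT (ψ : T → ℂ)) (θ : N → ℂ) ≠ 0)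
    {B : Set (IrrCharacter G)} (hind : IsInducedBlock M T B' B) :
    (∀ D : Subgroup T, IsDefectGroup p M B' D → IsDefectGroup p M B (D.map T.subtype)) ∧
      ∀ ψ ∈ B', ∃ χ ∈ B, (χ : G → ℂ) = indFun T (ψ : T → ℂ) ∧
        blockHeight p B (χ : G → ℂ) = blockHeight p B' (ψ : T → ℂ) := by
  haveI hMp := isPModular_isPrime hM
  have hp : p.Prime := Fact.out
  obtain ⟨B₁, hind₁, -, hirr, hmem⟩ := fongReynolds_induced hNT hstab hb hB' hcov
  have hBB : B₁ = B := isInducedBlock_unique T hind₁ hind
  rw [hBB] at hmem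
  have hB : IsPBlock M B := hind.2.1
  -- the degree valuations
  set k := T.index.factorization p with hk
  have hTi0 : T.index ≠ 0 := Subgroup.index_ne_zero_of_finite
  have hdeg : ∀ (χ : IrrCharacter G) (ψ : IrrCharacter T),
      (χ : G → ℂ) = indFun T (ψ : T → ℂ) →
      (charDegree (χ : G → ℂ)).factorization p = k + (charDegree (ψ : T → ℂ)).factorization p := by
    intro χ ψ h
    rw [charDegree_of_eq_indFun T χ ψ h,
      Nat.factorization_mul hTi0 (Cfsg.Agent.Lib.Helper79.irr_charDegree_pos ψ).ne']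
    rfl
  have himage : (fun χ : IrrCharacter G => (charDegree (χ : G → ℂ)).factorization p) '' B =
      (fun s => k + s) ''
        ((fun ψ : IrrCharacter T => (charDegree (ψ : T → ℂ)).factorization p) '' B') := by
    ext v
    constructor
    · rintro ⟨χ, hχ, rfl⟩
      obtain ⟨ψ, hψ, h⟩ := (hmem χ).mp hχ
      exact ⟨_, ⟨ψ, hψ, rfl⟩, (hdeg χ ψ h).symm⟩
    · rintro ⟨_, ⟨ψ, hψ, rfl⟩, rfl⟩
      refine ⟨⟨indFun T (ψ : T → ℂ), hirr ψ hψ⟩, (hmem _).mpr ⟨ψ, hψ, rfl⟩, ?_⟩
      exact hdeg ⟨indFun T (ψ : T → ℂ), hirr ψ hψ⟩ ψ rfl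
  have hB'ne : ((fun ψ : IrrCharacter T => (charDegree (ψ : T → ℂ)).factorization p) ''
      B').Nonempty := (IsPBlock_nonempty hMp.ne_top hB').image _
  have hinf : sInf ((fun χ : IrrCharacter G => (charDegree (χ : G → ℂ)).factorization p) '' B) =
      k + sInf ((fun ψ : IrrCharacter T => (charDegree (ψ : T → ℂ)).factorization p) '' B') := by
    rw [himage, sInf_image_add hB'ne]
  constructor
  · -- defect groups
    intro D hD
    obtain ⟨E, hE, hDE⟩ := Cfsg.Agent.S0917.result p M hM T B' hB' B hB hind D hD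
    have hcardD : Nat.card D = p ^ blockDefect p B' := card_defectGroup hM hB' hD
    have hcardE : Nat.card E = p ^ blockDefect p B := card_defectGroup hM hB hE
    have hdef : blockDefect p B = blockDefect p B' := by
      unfold blockDefect
      rw [hinf]
      have h1 := congrArg (fun m : ℕ => m.factorization p) T.card_mul_index
      simp only [Nat.factorization_mul (Nat.card_pos (α := T)).ne' hTi0, Finsupp.coe_add,
        Pi.add_apply] at h1
      rw [← h1]
      omega
    have hcardmap : Nat.card (D.map T.subtype) = Nat.card D :=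
      Subgroup.card_map_of_injective (Subgroup.subtype_injective _)
    have heq : D.map T.subtype = E := by
      apply Subgroup.eq_of_le_of_card_ge hDE
      rw [hcardmap, hcardD, hcardE, hdef]
    rw [heq]
    exact hE
  · intro ψ hψ
    refine ⟨⟨indFun T (ψ : T → ℂ), hirr ψ hψ⟩, (hmem _).mpr ⟨ψ, hψ, rfl⟩, rfl, ?_⟩
    unfold blockHeight
    rw [hinf, hdeg ⟨indFun T (ψ : T → ℂ), hirr ψ hψ⟩ ψ rfl]
    omega

end MainFRD

end Cfsg.Agent.Lib.Helper76
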