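import Mathlib
import Cfsg.Agent.Lib.Helper17.SylowInter
import Cfsg.Agent.Lib.Helper17.SylowCard
import Cfsg.Agent.Lib.Helper17.SimpleIndex
import Cfsg.Agent.Lib.Helper17.Burnside
import Cfsg.Agent.Lib.Helper17.SimpleTools
import Cfsg.Agent.Lib.Helper17.CosetAction
import Cfsg.Agent.Lib.Helper17.InvolutionParity
import Cfsg.Agent.Lib.Helper17.ConjCount
import Cfsg.Agent.Lib.Helper76.FixedByCommute

set_option autoImplicit false

/-!
# Simple groups of order 720: the case `n₃ = 40` (module [N40] for helper72 / S0496)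

`|N(P)| = 18` for a Sylow `3`-subgroup `P` (abelian of order `9`), so `N(P)` acts on `P` by `±1`.
Since `40 ≢ 1 mod 9` there are `P ≠ R` with `D = P ⊓ R` of order `3`, and `L = N(D)` has order
`18 n₃(L) = 72`, index `10`.  A generator `x` of `D` fixes only the coset `L` of `G/L`; an involution
`k ∈ C(D)` then has `|Fix(k)| ≡ 1 mod 3` and `4 ∣ 10 - |Fix(k)|`, so `k` acts trivially on `G/L`:
contradiction with simplicity.
-/

namespace Cfsg.Agent.Lib.Helper76.Simple720

open Subgroup MulAction Cfsg.Agent.Lib.Helper17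

theorem fact3 : Fact (Nat.Prime 3) := ⟨by norm_num⟩
theorem fact2 : Fact (Nat.Prime 2) := ⟨by norm_num⟩

attribute [local instance] fact3 fact2

/-- If `g x g⁻¹` and `g⁻¹ x g` lie in `⟨x⟩` then `g` normalizes `⟨x⟩`. -/
theorem mem_normalizer_zpowers_of_conj_mem {G : Type*} [Group G] {x g : G}
    (h1 : g * x * g⁻¹ ∈ zpowers x) (h2 : g⁻¹ * x * g ∈ zpowers x) :
    g ∈ normalizer ((zpowers x : Subgroup G) : Set G) := by
  rw [Subgroup.mem_normalizer_iff]
  intro h
  constructor
  · intro hh
    obtain ⟨i, rfl⟩ := Subgroup.mem_zpowers_iff.1 hh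
    have : g * x ^ i * g⁻¹ = (g * x * g⁻¹) ^ i := by
      rw [conj_zpow]
    rw [this]
    exact Subgroup.zpow_mem _ h1 i
  · intro hh
    obtain ⟨j, hj⟩ := Subgroup.mem_zpowers_iff.1 hh
    have e : h = g⁻¹ * (g * h * g⁻¹) * g := by group
    rw [e, ← hj]
    have : g⁻¹ * x ^ j * g = (g⁻¹ * x * g) ^ j := by
      have := conj_zpow (a := g⁻¹) (b := x) (i := j)
      rw [inv_inv] at this
      exact this.symm
    rw [this]
    exact Subgroup.zpow_mem _ h2 j

variable {G : Type*} [Group G] [Finite G] [IsSimpleGroup G]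

theorem not_comm (h : Nat.card G = 720) : ¬ IsMulCommutative G :=
  not_comm_of_simple_of_not_prime (by rw [h]; norm_num)

theorem card_sylow3 (h : Nat.card G = 720) (P : Sylow 3 G) :
    Nat.card (P : Subgroup G) = 9 := by
  have hcard : Nat.card G = 3 ^ 2 * 80 := by rw [h]; norm_num
  rw [sylow_card_of_card_eq P hcard (by norm_num)]; norm_num

theorem sylow3_comm (h : Nat.card G = 720) (P : Sylow 3 G) :
    IsMulCommutative (P : Subgroup G) :=
  IsPGroup.isMulCommutative_of_card_eq_prime_sq (p := 3) (by rw [card_sylow3 h P]; norm_num)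

theorem card_normalizer_sylow3 (h : Nat.card G = 720) (hn : Nat.card (Sylow 3 G) = 40)
    (P : Sylow 3 G) : Nat.card (normalizer ((P : Subgroup G) : Set G)) = 18 := by
  have := card_sylow_mul_card_normalizer P
  rw [hn, h] at this
  omega

/-- `N(P)` acts on `P` by `±1`. -/
theorem conj_eq_or_inv (h : Nat.card G = 720) (hn : Nat.card (Sylow 3 G) = 40) (P : Sylow 3 G)
    {s : G} (hs : s ∈ normalizer ((P : Subgroup G) : Set G)) {a : G}
    (ha : a ∈ (P : Subgroup G)) : s * a * s⁻¹ = a ∨ s * a * s⁻¹ = a⁻¹ := by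
  have hPc := sylow3_comm h P
  by_cases hsP : s ∈ (P : Subgroup G)
  · left
    have := hPc.is_comm.comm (⟨s, hsP⟩ : (P : Subgroup G)) ⟨a, ha⟩
    have h1 : s * a = a * s := congrArg Subtype.val this
    rw [h1]; group
  · right
    exact conj_eq_inv_of_card_normalizer_eq_two_mul (not_comm h) P
      (by rw [card_normalizer_sylow3 h hn P, card_sylow3 h P]) hs hsP ha

omit [Finite G] [IsSimpleGroup G] in
theorem isPGroup_zpowers_of_pow_eq_one {x : G} {p n : ℕ} (hx : x ^ p ^ n = 1) :
    IsPGroup p (zpowers x) := by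
  rintro ⟨g, hg⟩
  obtain ⟨i, rfl⟩ := Subgroup.mem_zpowers_iff.1 hg
  refine ⟨n, Subtype.ext ?_⟩
  show (x ^ i) ^ p ^ n = 1
  rw [← zpow_natCast, ← zpow_mul, mul_comm, zpow_mul, zpow_natCast, hx, one_zpow]

/-- **[N40]**: a simple group of order `720` does not have `40` Sylow `3`-subgroups. -/
theorem false_of_card_sylow3_eq_40 (h : Nat.card G = 720) (hn : Nat.card (Sylow 3 G) = 40) :
    False := by
  have hG := not_comm h
  have hnot : ¬ Nat.card (Sylow 3 G) ≡ 1 [MOD 3 ^ 2] := by rw [hn]; decide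
  obtain ⟨P, R, hne, hPL, hRL, hD⟩ := exists_sylow_pair_normalizing_inter hnot
  rw [card_sylow3 h P] at hD
  have hD3 : Nat.card ((P : Subgroup G) ⊓ (R : Subgroup G) : Subgroup G) = 3 := by omega
  obtain ⟨D, hDdef⟩ : ∃ D : Subgroup G, D = (P : Subgroup G) ⊓ (R : Subgroup G) := ⟨_, rfl⟩
  rw [← hDdef] at hPL hRL hD3
  obtain ⟨L, hLdef⟩ : ∃ L : Subgroup G, L = normalizer (D : Set G) := ⟨_, rfl⟩
  rw [← hLdef] at hPL hRL
  have hDP : D ≤ (P : Subgroup G) := hDdef ▸ inf_le_left
  have hDR : D ≤ (R : Subgroup G) := hDdef ▸ inf_le_right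
  -- a generator of `D`
  obtain ⟨x, hxD, hx1⟩ : ∃ x ∈ D, x ≠ 1 := by
    have hnt : D ≠ ⊥ := by
      intro hb
      rw [hb, card_bot] at hD3; omega
    obtain ⟨⟨x, hx⟩, hx1⟩ := Subgroup.ne_bot_iff_exists_ne_one.1 hnt
    exact ⟨x, hx, fun h => hx1 (Subtype.ext h)⟩
  have hDx : D = zpowers x := eq_zpowers_of_card_prime D (by norm_num) hD3 hxD hx1
  have hx3 : x ^ 3 = 1 := by
    have := Subgroup.orderOf_dvd_natCard D hxD
    rw [hD3] at this
    exact orderOf_dvd_iff_pow_eq_one.1 this
  have hxP : x ∈ (P : Subgroup G) := hDP hxD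
  -- `L` is proper
  have hLtop : L ≠ ⊤ := by
    intro htop
    have hnorm : D.Normal := normalizer_eq_top_iff.1 (hLdef ▸ htop)
    rcases hnorm.eq_bot_or_eq_top with hb | ht
    · rw [hb, card_bot] at hD3; omega
    · rw [ht, card_top, h] at hD3; omega
  -- `N(P) ≤ L`
  have hNPL : normalizer ((P : Subgroup G) : Set G) ≤ L := by
    intro s hs
    rw [hLdef, hDx]
    apply mem_normalizer_zpowers_of_conj_mem
    · rcases conj_eq_or_inv h hn P hs hxP with e | e
      · rw [e]; exact mem_zpowers x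
      · rw [e]; exact inv_mem (mem_zpowers x)
    · have hs' : s⁻¹ ∈ normalizer ((P : Subgroup G) : Set G) := inv_mem hs
      have := conj_eq_or_inv h hn P hs' hxP
      rw [inv_inv] at this
      rcases this with e | e
      · rw [e]; exact mem_zpowers x
      · rw [e]; exact inv_mem (mem_zpowers x)
  -- `|L| = 72`, index `10`
  have hL10 : L.index = 10 := by
    have hmodL : Nat.card (Sylow 3 L) % 3 = 1 := card_sylow_modEq_one 3 L
    have hNL := card_sylow_mul_card_normalizer (P.subtype hPL)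
    have hnorm_eq : normalizer (((P.subtype hPL : Sylow 3 L) : Subgroup L) : Set L) =
        (normalizer ((P : Subgroup G) : Set G)).subgroupOf L := by
      rw [Sylow.coe_subtype, Subgroup.subgroupOf_normalizer_eq hPL]
    have hcNL : Nat.card (normalizer (((P.subtype hPL : Sylow 3 L) : Subgroup L) : Set L)) = 18 := by
      rw [hnorm_eq, Nat.card_congr (Subgroup.subgroupOfEquivOfLe hNPL).toEquiv,
        card_normalizer_sylow3 h hn P]
    rw [hcNL] at hNL
    have hs4 := succ_le_card_sylow_subgroup L P R hne hPL hRL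
    have hfact := two_mul_card_dvd_factorial_index_of_simple hG L hLtop
    rw [h] at hfact
    have hidx := L.index_mul_card
    rw [h, ← hNL] at hidx
    have hi8 : 8 ≤ L.index := by
      by_contra hlt
      have hle : L.index ≤ 7 := by omega
      have h0 : L.index ≠ 0 := Subgroup.index_ne_zero_of_finite
      generalize L.index = j at *
      interval_cases j <;> revert hfact <;> decide
    generalize Nat.card (Sylow 3 L) = n at *
    generalize L.index = i at *
    have hin : i * n = 40 := by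
      have : 18 * (i * n) = 18 * 40 := by
        have e : 18 * (i * n) = i * (n * 18) := by ring
        rw [e, hidx]
      exact Nat.eq_of_mul_eq_mul_left (by norm_num) this
    have hn5 : n ≤ 5 := by nlinarith
    interval_cases n <;> omega
  -- an involution in `C(D)`
  have hcent : ∀ (Q : Sylow 3 G), D ≤ (Q : Subgroup G) →
      (Q : Subgroup G) ≤ centralizer (D : Set G) := by
    intro Q hDQ a ha
    rw [Subgroup.mem_centralizer_iff]
    intro d hd
    have hQc := sylow3_comm h Q
    have := hQc.is_comm.comm (⟨d, hDQ hd⟩ : (Q : Subgroup G)) ⟨a, ha⟩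
    exact congrArg Subtype.val this
  have hPC := hcent P hDP
  have hRC := hcent R hDR
  have h2C : 2 ∣ Nat.card (centralizer (D : Set G)) := by
    have hsC := succ_le_card_sylow_subgroup (centralizer (D : Set G)) P R hne hPC hRC
    have hdC := card_sylow_subgroup_mul_card_dvd (centralizer (D : Set G)) P hPC
    have hmodC : Nat.card (Sylow 3 (centralizer (D : Set G))) % 3 = 1 :=
      card_sylow_modEq_one 3 (centralizer (D : Set G))
    rw [card_sylow3 h P] at hdC
    have hC720 : Nat.card (centralizer (D : Set G)) ∣ 720 :=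
      h ▸ Subgroup.card_subgroup_dvd_card _
    have h1 : Nat.card (Sylow 3 (centralizer (D : Set G))) * 9 ∣ 80 * 9 := hdC.trans hC720
    have h80 : Nat.card (Sylow 3 (centralizer (D : Set G))) ∣ 80 :=
      Nat.dvd_of_mul_dvd_mul_right (by norm_num) h1
    have h2n : 2 ∣ Nat.card (Sylow 3 (centralizer (D : Set G))) := by
      have hle : Nat.card (Sylow 3 (centralizer (D : Set G))) ≤ 80 :=
        Nat.le_of_dvd (by norm_num) h80
      generalize Nat.card (Sylow 3 (centralizer (D : Set G))) = c at *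
      interval_cases c <;> omega
    exact (h2n.trans (Dvd.intro _ rfl)).trans hdC
  obtain ⟨k', hk'⟩ := exists_prime_orderOf_dvd_card' (G := centralizer (D : Set G)) 2 h2C
  obtain ⟨k, hkC⟩ := k'
  have hk2 : orderOf k = 2 := by
    rw [← hk']; exact (Subgroup.orderOf_mk k hkC).symm
  have hkk : k ^ 2 = 1 := by rw [← hk2]; exact pow_orderOf_eq_one k
  have hkL : k ∈ L := hLdef ▸ Subgroup.centralizer_le_normalizer _ hkC
  have hkx : Commute x k := Subgroup.mem_centralizer_iff.1 hkC x hxD
  -- `x` fixes only the coset `L`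
  have hclaim : ∀ g : G, g⁻¹ * x * g ∈ L → g ∈ L := by
    intro g hy
    have hy3 : (g⁻¹ * x * g) ^ 3 ^ 1 = 1 := by
      have := conj_pow (a := g⁻¹) (b := x) (i := 3)
      rw [inv_inv] at this
      rw [pow_one, this, hx3]; group
    have hYp : IsPGroup 3 (zpowers (g⁻¹ * x * g)) := isPGroup_zpowers_of_pow_eq_one hy3
    have hDp : IsPGroup 3 D := IsPGroup.of_card (n := 1) (by rw [hD3]; norm_num)
    have hQ : IsPGroup 3 (zpowers (g⁻¹ * x * g) ⊔ D : Subgroup G) :=
      IsPGroup.to_sup_of_normal_right' hYp hDp (by rw [zpowers_le, ← hLdef]; exact hy)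
    obtain ⟨P'', hP''⟩ := hQ.exists_le_sylow
    have hxP'' : x ∈ (P'' : Subgroup G) := hP'' (Subgroup.mem_sup_right hxD)
    have hyP'' : g⁻¹ * x * g ∈ (P'' : Subgroup G) :=
      hP'' (Subgroup.mem_sup_left (mem_zpowers _))
    have := sylow3_comm h P''
    obtain ⟨n, hnN, hnxy⟩ := Sylow.conj_eq_normalizer_conj_of_mem P'' x g hxP'' hyP''
    have hn' : n⁻¹ ∈ normalizer ((P'' : Subgroup G) : Set G) := inv_mem hnN
    have hcases := conj_eq_or_inv h hn P'' hn' hxP''
    rw [inv_inv, ← hnxy] at hcases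
    rw [hLdef, hDx]
    rcases hcases with e | e
    · apply mem_normalizer_zpowers_of_conj_mem
      · have : g * x * g⁻¹ = x := by
          calc g * x * g⁻¹ = g * (g⁻¹ * x * g) * g⁻¹ := by rw [e]
            _ = x := by group
        rw [this]; exact mem_zpowers x
      · rw [e]; exact mem_zpowers x
    · apply mem_normalizer_zpowers_of_conj_mem
      · have : g * x * g⁻¹ = x⁻¹ := by
          have h1 : g * x⁻¹ * g⁻¹ = x := by
            calc g * x⁻¹ * g⁻¹ = g * (g⁻¹ * x * g) * g⁻¹ := by rw [e]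
              _ = x := by group
          calc g * x * g⁻¹ = (g * x⁻¹ * g⁻¹)⁻¹ := by group
            _ = x⁻¹ := by rw [h1]
        rw [this]; exact inv_mem (mem_zpowers x)
      · rw [e]; exact inv_mem (mem_zpowers x)
  -- fixed points of `k` on `G ⧸ L`
  have hxL : x ∈ L := hLdef ▸ (Subgroup.le_normalizer : D ≤ normalizer (D : Set G)) hxD
  have hq₀k : k • (QuotientGroup.mk 1 : G ⧸ L) = QuotientGroup.mk 1 := by
    have := (mk_mem_fixedBy_iff L k 1).2 (by simpa using hkL)
    exact this
  have hq₀x : x • (QuotientGroup.mk 1 : G ⧸ L) = QuotientGroup.mk 1 := by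
    have := (mk_mem_fixedBy_iff L x 1).2 (by simpa using hxL)
    exact this
  have hfix : ∀ q : G ⧸ L, x • q = q → q = QuotientGroup.mk 1 := by
    intro q hq
    obtain ⟨g, rfl⟩ := QuotientGroup.mk_surjective q
    have hgL := hclaim g ((mk_mem_fixedBy_iff L x g).1 hq)
    rw [QuotientGroup.eq]
    simpa using inv_mem hgL
  have hmod := FixedByCommute.card_fixedBy_modEq_one (p := 3) (α := G ⧸ L) x k 1
    (by simpa using hx3) hkx (QuotientGroup.mk 1) hq₀k hq₀x hfix
  have hpar := four_dvd_index_sub_card_fixedBy_of_simple hG L k hkk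
  rw [hL10] at hpar
  have hcardq : Nat.card (G ⧸ L) = 10 := by rw [← hL10]; rfl
  have hle : Nat.card (fixedBy (G ⧸ L) k) ≤ 10 := by
    rw [← hcardq]
    exact Nat.card_le_card_of_injective Subtype.val Subtype.val_injective
  have hF10 : Nat.card (fixedBy (G ⧸ L) k) = 10 := by
    unfold Nat.ModEq at hmod
    omega
  have hall : fixedBy (G ⧸ L) k = Set.univ := by
    apply Set.eq_of_subset_of_ncard_le (Set.subset_univ _) _ Set.finite_univ
    rw [Set.ncard_univ, hcardq, ← Nat.card_coe_set_eq, hF10]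
  have hcore : k ∈ L.normalCore := by
    intro b
    have hb : (QuotientGroup.mk b⁻¹ : G ⧸ L) ∈ fixedBy (G ⧸ L) k := by rw [hall]; trivial
    have := (mk_mem_fixedBy_iff L k b⁻¹).1 hb
    simpa using this
  have hcb : L.normalCore = ⊥ := by
    rcases (Subgroup.normalCore_normal L).eq_bot_or_eq_top with hb | ht
    · exact hb
    · exact absurd (top_le_iff.1 (ht ▸ Subgroup.normalCore_le L)) hLtop
  rw [hcb, Subgroup.mem_bot] at hcore
  rw [hcore, orderOf_one] at hk2
  omega

end Cfsg.Agent.Lib.Helper76.Simple720
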