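import Cfsg.Agent.Lib.Helper80.InvariantOver
import Cfsg.Agent.Lib.Helper80.PResidualExt
import Cfsg.Agent.Lib.Helper82.BlockInflation
import Cfsg.Agent.Lib.Helper82.NormalPSupport
import Cfsg.Agent.Lib.Helper76.PCore
import Cfsg.Agent.Lib.Helper76.Fong

/-!
# Fong: the characters over an invariant character of a normal `p'`-subgroup (helper76)

`N ⊴ G` a `p'`-group, `θ ∈ Irr(N)` invariant in `G`, and `G / N` has a normal `p`-subgroup whose
centralizer is a `p`-group.  Then all irreducible characters of `G` over `θ` lie in one `p`-block.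
The twist is removed in the central extension `linGroup` of helper80.
-/

set_option autoImplicit false

namespace Cfsg.Agent.Lib.Helper76

open Cfsg Cfsg.Agent.Lib.Helper16 Cfsg.Agent.Lib.Helper78
open scoped ComplexConjugate

universe u v

section Transfer

variable {M : Ideal AlgInt}

/-- Multiplying by a function with local-integer normalised values preserves `SameBlock`. -/
theorem sameBlock_mul_right [M.IsPrime] {E : Type u} [Group E] {β β' τ : E → ℂ}
    (h : SameBlock M β β') (hτ : ∀ x, MemLocalRing M (τ x / τ 1)) :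
    SameBlock M (β * τ) (β' * τ) := by
  intro x
  have e : centralChar (β * τ) x - centralChar (β' * τ) x =
      (τ x / τ 1) * (centralChar β x - centralChar β' x) := by
    unfold centralChar
    simp only [Pi.mul_apply]
    ring
  rw [e]
  exact memLocalIdeal_mul_left (hτ x) (h x)

/-- The commutator with `x` as a homomorphism from the preimage of `C(π x)` to the central
kernel. -/
theorem relIndex_centralizer_dvd_card_ker {E : Type u} {G : Type v} [Group E] [Finite E] [Group G]
    (π : E →* G) (hc : π.ker ≤ Subgroup.center E) (x : E) :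
    (Subgroup.centralizer ({x} : Set E)).relIndex
      ((Subgroup.centralizer ({π x} : Set G)).comap π) ∣ Nat.card π.ker := by
  set C : Subgroup E := (Subgroup.centralizer ({π x} : Set G)).comap π with hC
  have hmem : ∀ y : C, (y : E) * x * (y : E)⁻¹ * x⁻¹ ∈ π.ker := by
    intro y
    have hy : π (y : E) ∈ Subgroup.centralizer ({π x} : Set G) := y.2
    rw [Subgroup.mem_centralizer_singleton_iff] at hy
    rw [MonoidHom.mem_ker, map_mul, map_mul, map_mul, map_inv, map_inv, hy]
    group
  let f : C →* π.ker :=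
    { toFun := fun y => ⟨(y : E) * x * (y : E)⁻¹ * x⁻¹, hmem y⟩
      map_one' := by
        apply Subtype.ext
        simp
      map_mul' := by
        intro y y'
        apply Subtype.ext
        have hz := Subgroup.mem_center_iff.mp (hc (hmem y'))
        show ((y * y' : C) : E) * x * ((y * y' : C) : E)⁻¹ * x⁻¹ =
          ((y : E) * x * (y : E)⁻¹ * x⁻¹) * ((y' : E) * x * (y' : E)⁻¹ * x⁻¹)
        have h1 : ((y * y' : C) : E) * x * ((y * y' : C) : E)⁻¹ * x⁻¹ =
            (y : E) * (((y' : E) * x * (y' : E)⁻¹ * x⁻¹) * x) * (y : E)⁻¹ * x⁻¹ := by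
          simp only [Subgroup.coe_mul]
          group
        rw [h1]
        generalize (y' : E) * x * (y' : E)⁻¹ * x⁻¹ = c at hz
        calc (y : E) * (c * x) * (y : E)⁻¹ * x⁻¹ = ((y : E) * c) * x * (y : E)⁻¹ * x⁻¹ := by group
          _ = (c * (y : E)) * x * (y : E)⁻¹ * x⁻¹ := by rw [hz (y : E)]
          _ = c * ((y : E) * x * (y : E)⁻¹ * x⁻¹) := by group
          _ = (y : E) * x * (y : E)⁻¹ * x⁻¹ * c := (hz _).symm }
  have hker : f.ker = (Subgroup.centralizer ({x} : Set E)).subgroupOf C := by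
    ext y
    rw [MonoidHom.mem_ker, Subgroup.mem_subgroupOf, Subgroup.mem_centralizer_singleton_iff]
    constructor
    · intro h
      have h1 : (y : E) * x * (y : E)⁻¹ * x⁻¹ = 1 := congrArg Subtype.val h
      have h2 : (y : E) * x = x * (y : E) := by
        have := congrArg (fun t => t * x * (y : E)) h1
        simpa [mul_assoc] using this
      exact h2
    · intro h
      apply Subtype.ext
      show (y : E) * x * (y : E)⁻¹ * x⁻¹ = 1
      rw [h]
      group
  have h1 : (Subgroup.centralizer ({x} : Set E)).relIndex C = Nat.card f.range := by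
    unfold Subgroup.relIndex
    rw [← hker, Subgroup.index_ker]
  rw [h1]
  exact Subgroup.card_subgroup_dvd_card f.range

/-- Central characters of a function pulled back along a surjection. -/
theorem centralChar_comp_surjective {E : Type u} {G : Type v} [Group E] [Group G]
    (π : E →* G) (hπ : Function.Surjective π) (χ : G → ℂ) (x : E) :
    centralChar (χ ∘ π) x =
      (((Subgroup.centralizer ({x} : Set E)).relIndex
        ((Subgroup.centralizer ({π x} : Set G)).comap π) : ℕ) : ℂ) * centralChar χ (π x) := by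
  have hle : Subgroup.centralizer ({x} : Set E) ≤
      (Subgroup.centralizer ({π x} : Set G)).comap π := by
    intro y hy
    rw [Subgroup.mem_comap, Subgroup.mem_centralizer_singleton_iff]
    rw [Subgroup.mem_centralizer_singleton_iff] at hy
    rw [← map_mul, ← map_mul, hy]
  have h1 : (Subgroup.centralizer ({x} : Set E)).index =
      (Subgroup.centralizer ({x} : Set E)).relIndex
        ((Subgroup.centralizer ({π x} : Set G)).comap π) *
      (Subgroup.centralizer ({π x} : Set G)).index := by
    rw [← Subgroup.index_comap_of_surjective _ hπ]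
    exact (Subgroup.relIndex_mul_index hle).symm
  unfold centralChar
  rw [h1]
  simp only [Function.comp_apply, map_one, Nat.cast_mul]
  ring

/-- `SameBlock` descends along a surjection with central kernel of order prime to `p`. -/
theorem sameBlock_of_comp_surjective {p : ℕ} [Fact p.Prime] (hM : IsPModular p M)
    {E : Type u} {G : Type v} [Group E] [Finite E] [Group G]
    (π : E →* G) (hπ : Function.Surjective π) (hc : π.ker ≤ Subgroup.center E)
    (hcop : (Nat.card π.ker).Coprime p) {χ χ' : G → ℂ}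
    (h : SameBlock M (χ ∘ π) (χ' ∘ π)) : SameBlock M χ χ' := by
  have hMp := isPModular_isPrime hM
  have hp : p.Prime := Fact.out
  intro g
  obtain ⟨x, rfl⟩ := hπ g
  have h1 := h x
  rw [centralChar_comp_surjective π hπ χ x, centralChar_comp_surjective π hπ χ' x, ← mul_sub] at h1
  set r := (Subgroup.centralizer ({x} : Set E)).relIndex
    ((Subgroup.centralizer ({π x} : Set G)).comap π) with hr
  have hrd : r ∣ Nat.card π.ker := relIndex_centralizer_dvd_card_ker π hc x
  have hrp : ¬ p ∣ r := by
    intro hpr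
    have : p ∣ Nat.card π.ker := dvd_trans hpr hrd
    exact (Nat.Prime.coprime_iff_not_dvd hp).mp hcop.symm this
  have hr0 : (r : ℂ) ≠ 0 := by
    have : r ≠ 0 := by
      rintro h0
      rw [h0] at hrp
      exact hrp (dvd_zero p)
    exact_mod_cast this
  have h2 := memLocalIdeal_mul_left (memLocalRing_inv_natCast hM hrp) h1
  rwa [← mul_assoc, inv_mul_cancel₀ hr0, one_mul] at h2

end Transfer

section Central

variable {M : Ideal AlgInt}

/-- **Central case.**  Let `φ : X → W` have central kernel and let `Q ⊴ X` be a `p`-subgroup such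
that `C_W(φ(Q))` is a `p`-group.  Two irreducible characters of `X` with the same central character
on `ker φ` lie in the same block. -/
theorem sameBlock_of_central_kernel {p : ℕ} [Fact p.Prime] (hM : IsPModular p M)
    {X : Type u} {W : Type v} [Group X] [Fintype X] [Group W] (φ : X →* W)
    (hφc : φ.ker ≤ Subgroup.center X) (Q : Subgroup X) [Q.Normal] (hQ : IsPGroup p Q)
    (hC : IsPGroup p (Subgroup.centralizer ((Q.map φ : Subgroup W) : Set W)))
    (β β' : IrrCharacter X)
    (hz : ∀ z ∈ φ.ker, (β : X → ℂ) z / (β : X → ℂ) 1 = (β' : X → ℂ) z / (β' : X → ℂ) 1) :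
    SameBlock M (β : X → ℂ) (β' : X → ℂ) := by
  have hMp := isPModular_isPrime hM
  have hp : p.Prime := Fact.out
  rw [Cfsg.Agent.Lib.Helper82.sameBlock_iff_pRegular hM]
  intro y hy
  by_cases hyQ : y ∈ Subgroup.centralizer (Q : Set X)
  · -- `φ y` is a `p`-regular element of a `p`-group
    have h1 : φ y ∈ Subgroup.centralizer ((Q.map φ : Subgroup W) : Set W) := by
      rw [Subgroup.mem_centralizer_iff]
      rintro _ ⟨q, hq, rfl⟩
      rw [← map_mul, ← map_mul, Subgroup.mem_centralizer_iff.mp hyQ q hq]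
    obtain ⟨k, hk⟩ := hC ⟨φ y, h1⟩
    have hk' : (φ y) ^ p ^ k = 1 := by
      have := congrArg Subtype.val hk
      rwa [Subgroup.coe_pow, Subgroup.coe_one] at this
    have h2 : orderOf (φ y) ∣ p ^ k := orderOf_dvd_of_pow_eq_one hk'
    have h3 : orderOf (φ y) ∣ orderOf y := orderOf_map_dvd φ y
    have hcop : Nat.Coprime (p ^ k) (orderOf y) :=
      Nat.Coprime.pow_left _ ((Nat.Prime.coprime_iff_not_dvd hp).mpr hy)
    have h4 : orderOf (φ y) = 1 := Nat.eq_one_of_dvd_coprimes hcop h2 h3
    have hyk : y ∈ φ.ker := by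
      rw [MonoidHom.mem_ker]
      exact orderOf_eq_one_iff.mp h4
    have hyc : y ∈ Subgroup.center X := hφc hyk
    have htop : Subgroup.centralizer ({y} : Set X) = ⊤ := by
      rw [Subgroup.centralizer_eq_top_iff_subset]
      intro t ht
      rw [Set.mem_singleton_iff] at ht
      rw [ht]
      exact hyc
    unfold centralChar
    rw [htop, Subgroup.index_top, Nat.cast_one, one_mul, one_mul, hz y hyk, sub_self]
    exact memLocalIdeal_zero hMp.ne_top
  · exact memLocalIdeal_sub
      (Cfsg.Agent.Lib.Helper82.memLocalIdeal_centralChar_of_not_mem_centralizer hM Q hQ β y hyQ)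
      (Cfsg.Agent.Lib.Helper82.memLocalIdeal_centralChar_of_not_mem_centralizer hM Q hQ β' y hyQ)

end Central

section Structure

/-- A normal `p`-subgroup of the image of a surjection with central kernel is the image of a
normal `p`-subgroup. -/
theorem exists_normal_pSubgroup_map_eq {p : ℕ} [Fact p.Prime] {X : Type u} {W : Type v}
    [Group X] [Finite X] [Group W]
    (φ : X →* W) (hφ : Function.Surjective φ) (hφc : φ.ker ≤ Subgroup.center X)
    (K : Subgroup W) [hKn : K.Normal] (hK : IsPGroup p K) :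
    ∃ Q : Subgroup X, Q.Normal ∧ IsPGroup p Q ∧ Q.map φ = K := by
  have hp : p.Prime := Fact.out
  have hWfin : Finite W := Finite.of_surjective φ hφ
  have hYn : (K.comap φ).Normal := Subgroup.Normal.comap hKn φ
  have hφY : Function.Surjective (φ.subgroupComap K) :=
    MonoidHom.subgroupComap_surjective_of_surjective φ K hφ
  have hker : (φ.subgroupComap K).ker ≤ Subgroup.center (K.comap φ) := by
    intro y hy
    rw [MonoidHom.mem_ker] at hy
    have h1 : (y : X) ∈ φ.ker := by
      rw [MonoidHom.mem_ker]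
      exact congrArg Subtype.val hy
    have h2 := Subgroup.mem_center_iff.mp (hφc h1)
    rw [Subgroup.mem_center_iff]
    intro t
    apply Subtype.ext
    exact h2 (t : X)
  have hKnil : Group.IsNilpotent K := hK.isNilpotent
  have hYnil : Group.IsNilpotent (K.comap φ) :=
    Subgroup.isNilpotent_of_ker_le_center (φ.subgroupComap K) hker
  have hall := (Group.isNilpotent_of_finite_tfae (G := K.comap φ)).out 0 3
  have hSn := hall.mp hYnil p inferInstance
  obtain ⟨S⟩ : Nonempty (Sylow p (K.comap φ)) := inferInstance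
  have hSnorm : (S : Subgroup (K.comap φ)).Normal := hSn S
  have hSchar : (S : Subgroup (K.comap φ)).Characteristic := Sylow.characteristic_of_normal S hSnorm
  refine ⟨(S : Subgroup (K.comap φ)).map (K.comap φ).subtype,
    ConjAct.normal_of_characteristic_of_normal, S.2.map _, ?_⟩
  -- the image of `S` in `K` is everything
  have hidx : ((S : Subgroup (K.comap φ)).map (φ.subgroupComap K)).index = 1 := by
    have h1 : ((S : Subgroup (K.comap φ)).map (φ.subgroupComap K)).index ∣
        (S : Subgroup (K.comap φ)).index := Subgroup.index_map_dvd _ hφY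
    obtain ⟨n, hn⟩ := hK.index ((S : Subgroup (K.comap φ)).map (φ.subgroupComap K))
    rw [hn] at h1 ⊢
    rcases Nat.eq_zero_or_pos n with h0 | h0
    · rw [h0, pow_zero]
    · exfalso
      exact S.not_dvd_index (dvd_trans (dvd_pow_self p h0.ne') h1)
  have htop := Subgroup.index_eq_one.mp hidx
  have hcomp : φ.comp (K.comap φ).subtype = K.subtype.comp (φ.subgroupComap K) := by
    ext y
    rfl
  rw [Subgroup.map_map, hcomp, ← Subgroup.map_map, htop, ← MonoidHom.range_eq_map,
    Subgroup.range_subtype]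

end Structure

section Core

open Cfsg.Agent.Lib.Helper80

variable {M : Ideal AlgInt}

theorem classInner_comp_equiv' {A B : Type*} [Group A] [Group B] [Fintype A] [Fintype B]
    (e : A ≃ B) (f h : B → ℂ) : classInner (f ∘ e) (h ∘ e) = classInner f h := by
  unfold classInner
  rw [Nat.card_congr e]
  congr 1
  exact Fintype.sum_equiv e _ _ (fun a => rfl)

/-- The kernel of `linProj` has order prime to `p` when `|N|` does. -/
theorem card_ker_linProj_coprime {Γ : Type u} [Group Γ] [Finite Γ] (N : Subgroup Γ)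
    [hN : N.Normal] {d : ℕ} (ρ : Representation ℂ N (Fin d → ℂ)) [hirr : ρ.IsIrreducible]
    {p : ℕ} [Fact p.Prime] (hNp : ¬ p ∣ Nat.card N) :
    (Nat.card (linProj N ρ (Nat.card N)).ker).Coprime p := by
  have hp : p.Prime := Fact.out
  have hfin : Finite (linGroup N ρ (Nat.card N)) :=
    finite_linGroup N ρ (Nat.card N) Nat.card_pos.ne'
  have hd : d ∣ Nat.card N := by
    have := Helper79.finrank_dvd_card ρ
    rwa [Module.finrank_fin_fun] at this
  have hpd : ¬ p ∣ d * Nat.card N := by
    intro h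
    rcases (Nat.Prime.dvd_mul hp).mp h with h | h
    · exact hNp (dvd_trans h hd)
    · exact hNp h
  rw [Nat.coprime_comm, Nat.Prime.coprime_iff_not_dvd hp]
  intro hdvd
  obtain ⟨z, hz⟩ := exists_prime_orderOf_dvd_card' (G := (linProj N ρ (Nat.card N)).ker) p hdvd
  apply hpd
  rw [← hz]
  apply orderOf_dvd_of_pow_eq_one
  obtain ⟨c, hc⟩ := exists_scalar_of_mem_ker N ρ (Nat.card N) z.1 (MonoidHom.mem_ker.mp z.2)
  have hpow := scalar_pow_of_mem_ker N ρ (Nat.card N) z.1 c hc
  apply Subtype.ext
  rw [Subgroup.coe_pow, Subgroup.coe_one]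
  have h1 : linProj N ρ (Nat.card N) ((z : linGroup N ρ (Nat.card N)) ^ (d * Nat.card N)) = 1 := by
    rw [map_pow, MonoidHom.mem_ker.mp z.2, one_pow]
  have h2 : linRep N ρ (Nat.card N) ((z : linGroup N ρ (Nat.card N)) ^ (d * Nat.card N)) = 1 := by
    rw [map_pow, hc, smul_pow, hpow, one_smul]
    exact one_pow _
  apply Subtype.ext
  apply Prod.ext
  · exact h1
  · apply Units.ext
    exact h2

section Rep

variable {Γ : Type u} [Group Γ] [Fintype Γ] (N : Subgroup Γ) [hN : N.Normal] [Fintype N] {d : ℕ}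
  (ρ : Representation ℂ N (Fin d → ℂ)) [hirr : ρ.IsIrreducible]

local notation "EE" => (linGroup N ρ (Nat.card N))
local notation "pp" => linProj N ρ (Nat.card N)
local notation "ii" => linEmb N ρ (Nat.card N) (fun _ => pow_card_eq_one')
local notation "θθ" => linChar N ρ (Nat.card N)

set_option maxHeartbeats 1600000 in
/-- Representation form of the invariant case of Fong's theorem. -/
theorem sameBlock_of_over_invariant_rep {p : ℕ} [Fact p.Prime] (hM : IsPModular p M)
    (hNp : ¬ p ∣ Nat.card N)
    (K : Subgroup (Γ ⧸ N)) [hKn : K.Normal] (hK : IsPGroup p K)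
    (hCK : IsPGroup p (Subgroup.centralizer (K : Set (Γ ⧸ N))))
    (hinv : ∀ (g : Γ) (n : N), ρ.character (MulAut.conjNormal g n) = ρ.character n)
    (χ χ' : IrrCharacter Γ)
    (hχ : classInner (fun n : N => (χ : Γ → ℂ) n) ρ.character ≠ 0)
    (hχ' : classInner (fun n : N => (χ' : Γ → ℂ) n) ρ.character ≠ 0) :
    SameBlock M (χ : Γ → ℂ) (χ' : Γ → ℂ) := by
  classical
  have hMp := isPModular_isPrime hM
  have hMtop : M ≠ ⊤ := hMp.ne_top
  have hp : p.Prime := Fact.out
  have hfin : Finite EE := finite_linGroup N ρ (Nat.card N) Nat.card_pos.ne'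
  let _ : Fintype EE := Fintype.ofFinite EE
  have hsurj : Function.Surjective pp := linProj_surjective N ρ (Nat.card N) hinv
  have hN₀n : (ii).range.Normal := linEmb_range_normal N ρ (Nat.card N) _
  let _ : Fintype (ii).range := Fintype.ofFinite _
  have hθ : IsIrrCharacter EE θθ :=
    isIrrCharacter_linChar N ρ (Nat.card N) (fun _ => pow_card_eq_one')
  have hKc := ker_linProj_le_center N ρ (Nat.card N)
  have hcop := card_ker_linProj_coprime N ρ hNp
  -- the iso `N ≃ N₁`
  let e : N ≃* (ii).range := MonoidHom.ofInjective (linEmb_injective N ρ (Nat.card N) _)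
  have he : ∀ n : N, ((e n : (ii).range) : EE) = ii n := fun n => rfl
  have hθe : (fun n : (ii).range => θθ (n : EE)) ∘ e = ρ.character := by
    funext n
    show θθ ((e n : (ii).range) : EE) = _
    rw [he, linChar_linEmb]
  have hθN : IsIrrCharacter (ii).range (fun n : (ii).range => θθ (n : EE)) := by
    have h1 : (fun n : (ii).range => θθ (n : EE)) = ρ.character ∘ e.symm := by
      rw [← hθe]
      funext n
      simp
    rw [h1]
    exact Helper81.isIrrCharacter_comp_surjective ⟨d, ρ, hirr, rfl⟩ e.symm.toMonoidHom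
      e.symm.surjective
  -- lifting a character over `θ`
  have key : ∀ ψ : IrrCharacter Γ, classInner (fun n : N => (ψ : Γ → ℂ) n) ρ.character ≠ 0 →
      ∃ β : IrrCharacter (EE ⧸ (ii).range), (ψ : Γ → ℂ) ∘ pp = infl (ii).range β * θθ := by
    intro ψ hψ
    have hψE : IsIrrCharacter EE ((ψ : Γ → ℂ) ∘ pp) :=
      Helper81.isIrrCharacter_comp_surjective ψ.2 pp hsurj
    apply gallagher_exists (ii).range hθ hθN hψE
    have h1 : (fun n : (ii).range => ((ψ : Γ → ℂ) ∘ pp) (n : EE)) ∘ e =
        fun n : N => (ψ : Γ → ℂ) n := by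
      funext n
      rfl
    rw [← classInner_comp_equiv' e.toEquiv]
    show classInner ((fun n : (ii).range => ((ψ : Γ → ℂ) ∘ pp) (n : EE)) ∘ e)
      ((fun n : (ii).range => θθ (n : EE)) ∘ e) ≠ 0
    rw [h1, hθe]
    exact hψ
  obtain ⟨β, hβ⟩ := key χ hχ
  obtain ⟨β', hβ'⟩ := key χ' hχ'
  -- the quotient map
  let _ : Fintype (EE ⧸ (ii).range) := Fintype.ofFinite _
  have hle : (ii).range ≤ N.comap pp := by
    rintro _ ⟨n, rfl⟩
    rw [Subgroup.mem_comap]
    show ((n : N) : Γ) ∈ N
    exact n.2
  have hφsurj : Function.Surjective (QuotientGroup.map (ii).range N pp hle) := by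
    apply QuotientGroup.map_surjective_of_surjective
    exact (QuotientGroup.mk_surjective).comp hsurj
  have hkerφ : ∀ x ∈ (QuotientGroup.map (ii).range N pp hle).ker,
      ∃ z ∈ (pp).ker, ((z : EE) : EE ⧸ (ii).range) = x := by
    intro x hx
    obtain ⟨y, rfl⟩ := QuotientGroup.mk_surjective x
    rw [MonoidHom.mem_ker, QuotientGroup.map_mk, QuotientGroup.eq_one_iff] at hx
    obtain ⟨z, hz, n, hy⟩ := exists_decomp_of_linProj_mem N ρ y hx
    refine ⟨z, hz, ?_⟩
    rw [hy, QuotientGroup.mk_mul]
    have : ((ii n : EE) : EE ⧸ (ii).range) = 1 := by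
      rw [QuotientGroup.eq_one_iff]
      exact ⟨n, rfl⟩
    rw [this, mul_one]
  have hφc : (QuotientGroup.map (ii).range N pp hle).ker ≤ Subgroup.center (EE ⧸ (ii).range) := by
    intro x hx
    obtain ⟨z, hz, rfl⟩ := hkerφ x hx
    rw [Subgroup.mem_center_iff]
    intro y
    obtain ⟨y, rfl⟩ := QuotientGroup.mk_surjective y
    rw [← QuotientGroup.mk_mul, ← QuotientGroup.mk_mul, Subgroup.mem_center_iff.mp (hKc hz) y]
  obtain ⟨Q, hQn, hQ, hQmap⟩ := exists_normal_pSubgroup_map_eq
    (QuotientGroup.map (ii).range N pp hle) hφsurj hφc K hK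
  have hCK' : IsPGroup p (Subgroup.centralizer
      ((Q.map (QuotientGroup.map (ii).range N pp hle) : Subgroup (Γ ⧸ N)) : Set (Γ ⧸ N))) := by
    rw [hQmap]
    exact hCK
  have hθ1 : θθ 1 ≠ 0 := Helper78.IsIrrCharacter.apply_one_ne_zero hθ
  have hval : ∀ γ : IrrCharacter (EE ⧸ (ii).range), ∀ ψ : IrrCharacter Γ,
      (ψ : Γ → ℂ) ∘ pp = infl (ii).range γ * θθ → ∀ z ∈ (pp).ker,
      (γ : EE ⧸ (ii).range → ℂ) ((z : EE) : EE ⧸ (ii).range) / (γ : EE ⧸ (ii).range → ℂ) 1 =
        θθ 1 / θθ z := by
    intro γ ψ hγ z hz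
    have h1 := congrFun hγ z
    have h2 := congrFun hγ 1
    simp only [Function.comp_apply, Pi.mul_apply] at h1 h2
    rw [MonoidHom.mem_ker.mp hz] at h1
    rw [map_one] at h2
    have h3 : infl (ii).range γ z = (γ : EE ⧸ (ii).range → ℂ) ((z : EE) : EE ⧸ (ii).range) := rfl
    have h4 : infl (ii).range γ 1 = (γ : EE ⧸ (ii).range → ℂ) 1 := rfl
    rw [h3] at h1
    rw [h4] at h2
    have hγ1 : (γ : EE ⧸ (ii).range → ℂ) 1 ≠ 0 := Helper78.IsIrrCharacter.apply_one_ne_zero γ.2
    have hθz : θθ z ≠ 0 := by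
      intro h0
      rw [h0, mul_zero] at h1
      rw [h1] at h2
      exact mul_ne_zero hγ1 hθ1 h2.symm
    rw [div_eq_div_iff hγ1 hθz, ← h1, h2, mul_comm]
  have hX : SameBlock M (β : EE ⧸ (ii).range → ℂ) (β' : EE ⧸ (ii).range → ℂ) := by
    apply sameBlock_of_central_kernel hM (QuotientGroup.map (ii).range N pp hle) hφc Q hQ hCK' β β'
    intro x hx
    obtain ⟨z, hz, rfl⟩ := hkerφ x hx
    rw [hval β χ hβ z hz, hval β' χ' hβ' z hz]
  have h1 := Helper82.sameBlock_comp_mk (ii).range hMtop hX
  -- multiply by `θ̂`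
  have hd : d ∣ Nat.card N := by
    have := Helper79.finrank_dvd_card ρ
    rwa [Module.finrank_fin_fun] at this
  have hpd : ¬ p ∣ d := fun h => hNp (dvd_trans h hd)
  have hθ1' : θθ 1 = (d : ℂ) := by
    have h := linChar_linEmb N ρ (Nat.card N) (fun _ => pow_card_eq_one') 1
    rw [map_one] at h
    rw [h, Representation.char_one, Module.finrank_fin_fun]
  have hτ : ∀ x, MemLocalRing M (θθ x / θθ 1) := by
    intro x
    rw [hθ1', div_eq_mul_inv]
    exact memLocalRing_mul (memLocalRing_of_isIntegral hMtop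
      (Helper78.IsCharacter.isIntegral (Helper78.IsIrrCharacter.isCharacter hθ) x))
      (memLocalRing_inv_natCast hM hpd)
  have h2 := sameBlock_mul_right h1 hτ
  have hinfl : ∀ γ : IrrCharacter (EE ⧸ (ii).range),
      (γ : EE ⧸ (ii).range → ℂ) ∘ (QuotientGroup.mk : EE → EE ⧸ (ii).range) = infl (ii).range γ :=
    fun γ => rfl
  rw [hinfl, hinfl, ← hβ, ← hβ'] at h2
  exact sameBlock_of_comp_surjective hM pp hsurj hKc hcop h2

end Rep

end Core

section Final

open Cfsg.Agent.Lib.Helper80

variable {M : Ideal AlgInt} {G : Type u} [Group G] [Fintype G] (N : Subgroup G) [hN : N.Normal]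
  [Fintype N]

/-- Character form of the invariant case of Fong's theorem. -/
theorem sameBlock_of_over_invariant {p : ℕ} [Fact p.Prime] (hM : IsPModular p M)
    (hNp : ¬ p ∣ Nat.card N)
    (K : Subgroup (G ⧸ N)) [hKn : K.Normal] (hK : IsPGroup p K)
    (hCK : IsPGroup p (Subgroup.centralizer (K : Set (G ⧸ N))))
    (θ : IrrCharacter N)
    (hinv : ∀ (g : G) (n : N),
      (θ : N → ℂ) ⟨g * n * g⁻¹, hN.conj_mem n n.2 g⟩ = (θ : N → ℂ) n)
    (χ χ' : IrrCharacter G)
    (hχ : classInner (fun n : N => (χ : G → ℂ) n) (θ : N → ℂ) ≠ 0)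
    (hχ' : classInner (fun n : N => (χ' : G → ℂ) n) (θ : N → ℂ) ≠ 0) :
    SameBlock M (χ : G → ℂ) (χ' : G → ℂ) := by
  obtain ⟨d, ρ, hirr, hρ⟩ := θ.2
  have hinv' : ∀ (g : G) (n : N), ρ.character (MulAut.conjNormal g n) = ρ.character n := by
    intro g n
    rw [hρ]
    have h1 : MulAut.conjNormal g n = ⟨g * n * g⁻¹, hN.conj_mem n n.2 g⟩ := by
      apply Subtype.ext
      simp [MulAut.conjNormal_apply]
    rw [h1]
    exact hinv g n
  rw [← hρ] at hχ hχ'
  exact sameBlock_of_over_invariant_rep N ρ hM hNp K hK hCK hinv' χ χ' hχ hχ'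

open scoped Classical in
/-- **Fong**: over a `G`-invariant irreducible character of a normal `p'`-subgroup `N` such that
`G / N` has a normal `p`-subgroup with `p`-group centralizer, there is exactly one block; it has
full defect. -/
theorem fong_invariant {p : ℕ} [Fact p.Prime] (hM : IsPModular p M)
    (hNp : ¬ p ∣ Nat.card N)
    (K : Subgroup (G ⧸ N)) [hKn : K.Normal] (hK : IsPGroup p K)
    (hCK : IsPGroup p (Subgroup.centralizer (K : Set (G ⧸ N))))
    (θ : IrrCharacter N)
    (hinv : ∀ (g : G) (n : N),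
      (θ : N → ℂ) ⟨g * n * g⁻¹, hN.conj_mem n n.2 g⟩ = (θ : N → ℂ) n) :
    ∃ B : Set (IrrCharacter G), IsPBlock M B ∧
      (∀ χ : IrrCharacter G, χ ∈ B ↔
        classInner (fun n : N => (χ : G → ℂ) n) (θ : N → ℂ) ≠ 0) ∧
      (∀ P : Sylow p G, IsDefectGroup p M B (P : Subgroup G)) ∧
      ∀ D : Subgroup G, IsDefectGroup p M B D → ∃ P : Sylow p G, D = (P : Subgroup G) := by
  have hMp := isPModular_isPrime hM
  have hMtop : M ≠ ⊤ := hMp.ne_top
  have hp : p.Prime := Fact.out
  -- `{θ}` is stable
  have hU : IsGStable N ({θ} : Set (IrrCharacter N)) := by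
    intro θ' hθ' g
    rw [Set.mem_singleton_iff] at hθ' ⊢
    rw [hθ']
    apply Subtype.ext
    funext n
    rw [conjIrrN_apply]
    exact hinv g n
  have hover : ∀ χ : IrrCharacter G, χ ∈ overSet N ({θ} : Set (IrrCharacter N)) ↔
      classInner (fun n : N => (χ : G → ℂ) n) (θ : N → ℂ) ≠ 0 := by
    intro χ
    constructor
    · rintro ⟨θ', hθ', h⟩
      rw [Set.mem_singleton_iff] at hθ'
      rwa [hθ'] at h
    · intro h
      exact ⟨θ, rfl, h⟩
  have hR : ∀ n : N, MemLocalRing M (blockCoeff ({θ} : Set (IrrCharacter N)) n) :=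
    fun n => blockCoeff_memLocalRing_of_not_dvd N hM hNp _ n
  obtain ⟨χ₀, hχ₀⟩ := Cfsg.Agent.Lib.Helper16.exists_irr_over N θ
  have hBeq : blockOf M (χ₀ : G → ℂ) = overSet N ({θ} : Set (IrrCharacter N)) := by
    ext χ
    constructor
    · intro h
      exact overSet_closed N hU hR χ₀ χ ((hover χ₀).mpr hχ₀) h
    · intro h
      exact sameBlock_of_over_invariant N hM hNp K hK hCK θ hinv χ₀ χ hχ₀ ((hover χ).mp h)
  have hB : IsPBlock M (blockOf M (χ₀ : G → ℂ)) := isPBlock_blockOf χ₀
  -- the identity is a defect class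
  have hd : charDegree (θ : N → ℂ) ∣ Nat.card N := Helper79.irr_charDegree_dvd_card θ
  have hpd : ¬ p ∣ charDegree (θ : N → ℂ) := fun h => hNp (dvd_trans h hd)
  have hcoeff : blockCoeff (blockOf M (χ₀ : G → ℂ)) 1 =
      (Nat.card N : ℂ)⁻¹ * ((charDegree (θ : N → ℂ) : ℂ) * (charDegree (θ : N → ℂ) : ℂ)) := by
    rw [hBeq, blockCoeff_overSet N hU]
    have h1 := coeff_stableElt_coe N ({θ} : Set (IrrCharacter N)) 1
    rw [Subgroup.coe_one] at h1
    rw [h1]
    unfold blockCoeff
    rw [finsum_mem_singleton, Helper79.irr_apply_one_eq_charDegree, Complex.conj_natCast]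
  have hcent1 : (Subgroup.centralizer ({(1 : G)} : Set G)) = ⊤ := by
    rw [Subgroup.centralizer_eq_top_iff_subset]
    intro t ht
    rw [Set.mem_singleton_iff] at ht
    rw [ht]
    exact Subgroup.one_mem _
  have hdc : IsDefectClass M (blockOf M (χ₀ : G → ℂ)) 1 := by
    refine ⟨blockCoeff_memLocalRing hB 1, ?_, ?_⟩
    · intro h
      rw [hcoeff] at h
      have h2 := memLocalIdeal_mul_left (memLocalRing_natCast hMtop (Nat.card N)) h
      have hN0 : (Nat.card N : ℂ) ≠ 0 := by
        exact_mod_cast Nat.card_pos.ne'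
      rw [← mul_assoc, mul_inv_cancel₀ hN0, one_mul, ← Nat.cast_mul,
        memLocalIdeal_natCast_iff hM] at h2
      rcases (Nat.Prime.dvd_mul hp).mp h2 with h3 | h3 <;> exact hpd h3
    · intro χ _ h
      have h1 : centralChar (χ : G → ℂ) 1 = 1 := by
        unfold centralChar
        rw [hcent1, Subgroup.index_top, Nat.cast_one, one_mul,
          div_self (Helper79.irr_apply_one_ne_zero χ)]
      rw [h1] at h
      exact one_not_memLocalIdeal h
  have hsyl : ∀ P : Sylow p G, IsDefectGroup p M (blockOf M (χ₀ : G → ℂ)) (P : Subgroup G) := by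
    intro P
    have hle : (P : Subgroup G) ≤ Subgroup.centralizer ({(1 : G)} : Set G) := by
      rw [hcent1]
      exact le_top
    refine ⟨1, hdc, P.subtype hle, ?_⟩
    rw [Sylow.coe_subtype, Subgroup.subgroupOf_map_subtype, inf_eq_left.mpr hle]
  refine ⟨blockOf M (χ₀ : G → ℂ), hB, ?_, hsyl, ?_⟩
  · intro χ
    rw [hBeq]
    exact hover χ
  · intro D hD
    obtain ⟨P⟩ : Nonempty (Sylow p G) := inferInstance
    have h1 := card_defectGroup hM hB hD
    have h2 := card_defectGroup hM hB (hsyl P)
    have h3 : Nat.card D = p ^ (Nat.card G).factorization p := by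
      rw [h1, ← h2]
      exact P.card_eq_multiplicity
    exact ⟨Sylow.ofCard D h3, rfl⟩

end Final

end Cfsg.Agent.Lib.Helper76
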