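import Mathlib
import Cfsg.Agent.Lib.Helper75.QBaer.Defs

/-!
helper76, hedge for S4125-[C12] (helper75's sheet, q-Baer groups): the case `(q, n, |S|) = (3, 4, 16)` of the core
of Theorem X: `X` is a `2`-group.
-/

set_option autoImplicit false

namespace Cfsg.Agent.Lib.Helper76.QBaer

open Cfsg.Agent.Lib.Helper75.QBaer

variable {q : ℕ} {X V : Type*} [Group X] [Finite X] [CommGroup V] [Finite V]
  [MulDistribMulAction X V]

/-- the fixed points of `x` on `V`, a subgroup -/
def fixSubgroup (x : X) : Subgroup V where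
  carrier := {v : V | x • v = v}
  one_mem' := smul_one x
  mul_mem' := by
    intro a b ha hb
    change x • (a * b) = a * b
    rw [smul_mul', ha, hb]
  inv_mem' := by
    intro a ha
    change x • a⁻¹ = a⁻¹
    rw [smul_inv', ha]

theorem mem_fixSubgroup {x : X} {v : V} : v ∈ fixSubgroup x ↔ x • v = v := Iff.rfl

/-- fixed points of the cyclic group generated by `x` -/
theorem mem_fixedPoints_zpowers {α : Type*} [MulAction X α] (x : X) (w : α) :
    w ∈ MulAction.fixedPoints (Subgroup.zpowers x) α ↔ x • w = w := by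
  constructor
  · intro hw
    exact hw ⟨x, Subgroup.mem_zpowers x⟩
  · intro hw z
    have hx : x ∈ MulAction.stabilizer X w := MulAction.mem_stabilizer_iff.mpr hw
    have hz : (z : X) ∈ MulAction.stabilizer X w := (Subgroup.zpowers_le.mpr hx) z.2
    exact MulAction.mem_stabilizer_iff.mp hz

/-- an odd prime cannot divide `|X|` -/
theorem prime_eq_two_of_three_four (h : CoreHyp 3 X V) (S : Sylow 2 X) (hcard : Nat.card V = 3 ^ 4)
    (hS : Nat.card S = 2 ^ 4)
    (horb : ∀ v : V, v ≠ 1 → Nat.card (MulAction.orbit X v) = Nat.card S)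
    (r : ℕ) (hr : r.Prime) (hrX : r ∣ Nat.card X) : r = 2 := by
  classical
  by_contra hr2
  have hrF : Fact r.Prime := ⟨hr⟩
  have hr3 : r ≠ 3 := by
    rintro rfl
    have := h.hX
    exact (Nat.Prime.coprime_iff_not_dvd Nat.prime_three).mp this.symm hrX
  obtain ⟨x, hx⟩ := exists_prime_orderOf_dvd_card' r hrX
  have hx1 : x ≠ 1 := by
    rintro rfl
    rw [orderOf_one] at hx
    exact hr.one_lt.ne hx
  -- the cyclic group `Z = ⟨x⟩` is an `r`-group
  have hZ : IsPGroup r (Subgroup.zpowers x) := by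
    apply IsPGroup.of_card (n := 1)
    rw [Nat.card_zpowers, hx, pow_one]
  have hr16 : ¬ r ∣ 16 := by
    intro hd
    have : r ∣ 2 ^ 4 := by norm_num; exact hd
    exact hr2 ((Nat.prime_dvd_prime_iff_eq hr Nat.prime_two).mp (hr.dvd_of_dvd_pow this))
  -- every `v ≠ 1` is in the orbit of a nontrivial fixed point of `x`
  have hcover : ∀ v : V, v ≠ 1 → ∃ c : V, x • c = c ∧ c ≠ 1 ∧ v ∈ MulAction.orbit X c := by
    intro v hv
    have hO : Nat.card (MulAction.orbit X v) = 16 := by rw [horb v hv, hS]; norm_num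
    have hnd : ¬ r ∣ Nat.card (MulAction.orbit X v) := by rw [hO]; exact hr16
    obtain ⟨w, hw⟩ := hZ.nonempty_fixed_point_of_prime_not_dvd_card (MulAction.orbit X v) hnd
    have hxw : x • w = w := (mem_fixedPoints_zpowers x w).mp hw
    obtain ⟨g, hg⟩ := w.2
    have hxw' : x • (w : V) = (w : V) := congrArg Subtype.val hxw
    refine ⟨(w : V), hxw', ?_, ?_⟩
    · intro hw1
      apply hv
      have : g • v = 1 := hg.trans hw1
      have h2 : g⁻¹ • (g • v) = g⁻¹ • (1 : V) := by rw [this]
      rwa [inv_smul_smul, smul_one] at h2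
    · refine ⟨g⁻¹, ?_⟩
      change g⁻¹ • (w : V) = v
      rw [← hg, inv_smul_smul]
  -- counting: `80 ≤ 16 * (|C| - 1)`
  have := Fintype.ofFinite V
  set C' : Finset V := Finset.univ.filter (fun c : V => x • c = c ∧ c ≠ 1) with hC'
  have hsub : (Finset.univ.filter (fun v : V => v ≠ 1)) ⊆
      C'.biUnion (fun c => (Finset.univ.filter (fun v : V => v ∈ MulAction.orbit X c))) := by
    intro v hv
    rw [Finset.mem_filter] at hv
    obtain ⟨c, hc1, hc2, hc3⟩ := hcover v hv.2
    rw [Finset.mem_biUnion]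
    exact ⟨c, by rw [hC', Finset.mem_filter]; exact ⟨Finset.mem_univ _, hc1, hc2⟩,
      by rw [Finset.mem_filter]; exact ⟨Finset.mem_univ _, hc3⟩⟩
  have hcardV : Fintype.card V = 81 := by
    rw [← Nat.card_eq_fintype_card, hcard]; norm_num
  have h80 : (Finset.univ.filter (fun v : V => v ≠ 1)).card = 80 := by
    have h1 : (Finset.univ.filter (fun v : V => v ≠ 1)) = Finset.univ.erase 1 := by
      ext v; simp
    rw [h1, Finset.card_erase_of_mem (Finset.mem_univ _), Finset.card_univ, hcardV]
  have horbcard : ∀ c ∈ C', (Finset.univ.filter (fun v : V => v ∈ MulAction.orbit X c)).card = 16 := by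
    intro c hc
    rw [hC', Finset.mem_filter] at hc
    have h1 : Nat.card (MulAction.orbit X c) = 16 := by rw [horb c hc.2.2, hS]; norm_num
    rw [← h1, Nat.card_eq_fintype_card, Fintype.card_subtype]
  have hle : 80 ≤ C'.card * 16 := by
    calc 80 = (Finset.univ.filter (fun v : V => v ≠ 1)).card := h80.symm
      _ ≤ (C'.biUnion (fun c => (Finset.univ.filter (fun v : V => v ∈ MulAction.orbit X c)))).card :=
          Finset.card_le_card hsub
      _ ≤ ∑ c ∈ C', (Finset.univ.filter (fun v : V => v ∈ MulAction.orbit X c)).card :=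
          Finset.card_biUnion_le
      _ = ∑ _c ∈ C', 16 := Finset.sum_congr rfl horbcard
      _ = C'.card * 16 := by rw [Finset.sum_const, smul_eq_mul]
  -- the subgroup of fixed points
  have hCcard : Nat.card (fixSubgroup (V := V) x) = C'.card + 1 := by
    rw [Nat.card_eq_fintype_card, Fintype.card_subtype]
    have h1 : (Finset.univ.filter (fun v : V => v ∈ fixSubgroup x)) = insert 1 C' := by
      ext v
      simp only [Finset.mem_filter, Finset.mem_univ, true_and, Finset.mem_insert, hC',
        mem_fixSubgroup]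
      constructor
      · intro hv
        by_cases hv1 : v = 1
        · exact Or.inl hv1
        · exact Or.inr ⟨hv, hv1⟩
      · rintro (rfl | hv)
        · exact smul_one x
        · exact hv.1
    rw [h1, Finset.card_insert_of_notMem]
    rw [hC', Finset.mem_filter]
    intro hh
    exact hh.2.2 rfl
  have hCdvd : Nat.card (fixSubgroup (V := V) x) ∣ 3 ^ 4 := by
    rw [← hcard]; exact Subgroup.card_subgroup_dvd_card _
  obtain ⟨j, hj4, hj⟩ := (Nat.dvd_prime_pow Nat.prime_three).mp hCdvd
  -- congruence mod `r`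
  have hmod := hZ.card_modEq_card_fixedPoints V
  have hfixcard : Nat.card (MulAction.fixedPoints (Subgroup.zpowers x) V) =
      Nat.card (fixSubgroup (V := V) x) := by
    apply Nat.card_congr
    exact Equiv.subtypeEquivRight (fun v => by
      rw [mem_fixedPoints_zpowers, mem_fixSubgroup])
  rw [hfixcard, hcard, hj] at hmod
  -- `|C| ≠ 81`
  have hj4' : j ≠ 4 := by
    rintro rfl
    apply hx1
    apply h.faithful
    intro v
    have htop : fixSubgroup (V := V) x = ⊤ := by
      apply Subgroup.eq_top_of_card_eq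
      rw [hj, hcard]
    have : v ∈ fixSubgroup (V := V) x := by rw [htop]; exact Subgroup.mem_top v
    exact this
  have h6 : 6 ≤ 3 ^ j := by
    rw [← hj, hCcard]; omega
  have hj23 : j = 2 ∨ j = 3 := by
    have hj2 : 2 ≤ j := by
      by_contra hlt
      have : j = 0 ∨ j = 1 := by omega
      rcases this with rfl | rfl <;> norm_num at h6
    omega
  have hdiv : (r : ℤ) ∣ (3 ^ 4 : ℕ) - (3 ^ j : ℕ) := (Nat.modEq_iff_dvd.mp hmod.symm)
  rcases hj23 with rfl | rfl
  · -- r ∣ 72
    have h72 : r ∣ 72 := by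
      have : (r : ℤ) ∣ 72 := by norm_num at hdiv; exact hdiv
      exact_mod_cast this
    have : r ∣ 2 ^ 3 * 3 ^ 2 := by norm_num; exact h72
    rcases (Nat.Prime.dvd_mul hr).mp this with hd | hd
    · exact hr2 ((Nat.prime_dvd_prime_iff_eq hr Nat.prime_two).mp (hr.dvd_of_dvd_pow hd))
    · exact hr3 ((Nat.prime_dvd_prime_iff_eq hr Nat.prime_three).mp (hr.dvd_of_dvd_pow hd))
  · -- r ∣ 54
    have h54 : r ∣ 54 := by
      have : (r : ℤ) ∣ 54 := by norm_num at hdiv; exact hdiv
      exact_mod_cast this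
    have : r ∣ 2 ^ 1 * 3 ^ 3 := by norm_num; exact h54
    rcases (Nat.Prime.dvd_mul hr).mp this with hd | hd
    · exact hr2 ((Nat.prime_dvd_prime_iff_eq hr Nat.prime_two).mp (hr.dvd_of_dvd_pow hd))
    · exact hr3 ((Nat.prime_dvd_prime_iff_eq hr Nat.prime_three).mp (hr.dvd_of_dvd_pow hd))

/-- S4125-[C12] -/
theorem solvable_of_three_four (h : CoreHyp 3 X V) (S : Sylow 2 X) (hcard : Nat.card V = 3 ^ 4)
    (hS : Nat.card S = 2 ^ 4)
    (horb : ∀ v : V, v ≠ 1 → Nat.card (MulAction.orbit X v) = Nat.card S) :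
    Group.IsSolvable X := by
  have hF2 : Fact (Nat.Prime 2) := ⟨Nat.prime_two⟩
  have hpos : Nat.card X ≠ 0 := Nat.card_pos.ne'
  have hall : ∀ r : ℕ, r.Prime → r ∣ Nat.card X → r = 2 :=
    fun r hr hrX => prime_eq_two_of_three_four h S hcard hS horb r hr hrX
  have hpow : ∃ k : ℕ, Nat.card X = 2 ^ k := by
    exact ⟨_, Nat.eq_prime_pow_of_unique_prime_dvd hpos (fun {d} hd hdvd => hall d hd hdvd)⟩
  obtain ⟨k, hk⟩ := hpow
  have hp : IsPGroup 2 X := IsPGroup.of_card hk
  have hnil : Group.IsNilpotent X := hp.isNilpotent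
  infer_instance

end Cfsg.Agent.Lib.Helper76.QBaer
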