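/-
helper76: project S4125 (helper75, q-Baer groups), module [C6A] (hedge): in the core case the Sylow
2-subgroup has no normal four-group.  Uses [C3] (helper66), [C4], [C5] (helper51) and S0065.
-/
import Mathlib
import Cfsg.Agent.Lib.Helper75.QBaer.Defs
import Cfsg.Agent.Lib.Helper66.QBaerC3
import Cfsg.Agent.Lib.Helper51.QBaerC4
import Cfsg.Agent.Lib.Helper51.QBaerC5
import Cfsg.Agent.S0065

set_option autoImplicit false

namespace Cfsg.Agent.Lib.Helper76.QBaer

open Cfsg.Agent.Lib.Helper75.QBaer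

/-- in a group of order `4` containing an involution `z`, two elements outside `{1, z}` differ by an
element of `{1, z}` -/
theorem four_group_coset {P : Type*} [Group P] (R : Subgroup P) (hR : Nat.card R = 2 ^ 2)
    (z : P) (hzR : z ∈ R) (hz : orderOf z = 2) (t r : P) (htR : t ∈ R) (hrR : r ∈ R)
    (ht1 : t ≠ 1) (htz : t ≠ z) (hr1 : r ≠ 1) (hrz : r ≠ z) : r = t ∨ r = t * z := by
  have hfin : Finite R := Nat.finite_of_card_ne_zero (by rw [hR]; norm_num)
  have hZle : Subgroup.zpowers z ≤ R := (Subgroup.zpowers_le).mpr hzR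
  have hmemZ : ∀ x : P, x ∈ Subgroup.zpowers z ↔ x = 1 ∨ x = z := by
    intro x
    constructor
    · intro hx
      obtain ⟨k, rfl⟩ := Subgroup.mem_zpowers_iff.mp hx
      rw [← zpow_mod_orderOf, hz]
      rcases Int.emod_two_eq_zero_or_one k with h0 | h1
      · left; rw [show k % ((2 : ℕ) : ℤ) = 0 from h0, zpow_zero]
      · right; rw [show k % ((2 : ℕ) : ℤ) = 1 from h1, zpow_one]
    · rintro (rfl | rfl)
      · exact Subgroup.one_mem _
      · exact Subgroup.mem_zpowers _
  have hcardZ : Nat.card ((Subgroup.zpowers z).subgroupOf R) = 2 := by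
    rw [Nat.card_congr (Subgroup.subgroupOfEquivOfLe hZle).toEquiv, Nat.card_zpowers, hz]
  have hidx : ((Subgroup.zpowers z).subgroupOf R).index = 2 := by
    have h1 := Subgroup.card_mul_index ((Subgroup.zpowers z).subgroupOf R)
    rw [hcardZ, hR] at h1
    omega
  have hmul := Subgroup.mul_mem_iff_of_index_two hidx
    (a := (⟨t⁻¹, R.inv_mem htR⟩ : R)) (b := (⟨r, hrR⟩ : R))
  have hta : (⟨t⁻¹, R.inv_mem htR⟩ : R) ∉ (Subgroup.zpowers z).subgroupOf R := by
    rw [Subgroup.mem_subgroupOf]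
    intro hmem
    have := (hmemZ t).mp (by simpa using (Subgroup.zpowers z).inv_mem hmem)
    rcases this with h1 | h2
    · exact ht1 h1
    · exact htz h2
  have hrb : (⟨r, hrR⟩ : R) ∉ (Subgroup.zpowers z).subgroupOf R := by
    rw [Subgroup.mem_subgroupOf]
    intro hmem
    rcases (hmemZ r).mp hmem with h1 | h2
    · exact hr1 h1
    · exact hrz h2
  have hprod : (⟨t⁻¹, R.inv_mem htR⟩ : R) * ⟨r, hrR⟩ ∈ (Subgroup.zpowers z).subgroupOf R :=
    hmul.mpr ⟨fun h => absurd h hta, fun h => absurd h hrb⟩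
  rw [Subgroup.mem_subgroupOf] at hprod
  rcases (hmemZ _).mp hprod with h1 | h2
  · left
    have : t⁻¹ * r = 1 := h1
    exact (inv_mul_eq_one.mp this).symm
  · right
    have : t⁻¹ * r = z := h2
    rw [← this, mul_inv_cancel_left]

variable {q : ℕ} {X V : Type*} [Group X] [Finite X] [CommGroup V] [Finite V]
  [MulDistribMulAction X V]

/-- [C6A] the Sylow `2`-subgroup has no normal four-group -/
theorem no_normal_four (h : CoreHyp q X V) (S : Sylow 2 X) (R : Subgroup ↥(S : Subgroup X))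
    [R.Normal] (hR : Nat.card R = 2 ^ 2) (hR2 : ∀ r ∈ R, r ^ 2 = 1) : False := by
  have hfact : Fact (Nat.Prime 2) := ⟨Nat.prime_two⟩
  have hnil : Group.IsNilpotent ↥(S : Subgroup X) := S.isPGroup'.isNilpotent
  have hRne : R ≠ ⊥ := by
    intro hb
    rw [hb, Subgroup.card_bot] at hR
    norm_num at hR
  have hne := Cfsg.Agent.S0065.result R hRne
  obtain ⟨⟨z', hz'mem⟩, hz'1⟩ := (Subgroup.ne_bot_iff_exists_ne_one).mp hne
  have hz'R : z' ∈ R := hz'mem.1
  have hz'Z : z' ∈ Subgroup.center ↥(S : Subgroup X) := hz'mem.2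
  have hz'ne : z' ≠ 1 := fun h1 => hz'1 (Subtype.ext h1)
  have hz'o : orderOf z' = 2 := orderOf_eq_prime (hR2 z' hz'R) hz'ne
  -- the involution `z'` viewed in `X`
  have hzo : orderOf (z' : X) = 2 := (Subgroup.orderOf_coe z').trans hz'o
  have hzS : (z' : X) ∈ S := z'.2
  have hzcomm : ∀ s ∈ S, s * (z' : X) = (z' : X) * s := by
    intro s hs
    have := Subgroup.mem_center_iff.mp hz'Z ⟨s, hs⟩
    exact congrArg Subtype.val this
  have hzc : (z' : X) ∈ Subgroup.center X :=
    Cfsg.Agent.Lib.Helper66.QBaer.mem_center_of_mem_center_sylow h S (z' : X) hzo hzS hzcomm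
  have hzinv : ∀ v : V, (z' : X) • v = v⁻¹ :=
    Cfsg.Agent.Lib.Helper51.QBaer.smul_eq_inv_of_central_involution h (z' : X) hzo hzc
  -- pick `t ∈ R \ {1, z'}`
  obtain ⟨t, htR, ht1, htz⟩ : ∃ t ∈ R, t ≠ 1 ∧ t ≠ z' := by
    by_contra hcon
    push Not at hcon
    have hsub : (R : Set ↥(S : Subgroup X)) ⊆ {1, z'} := by
      intro r hr
      by_cases hr1 : r = 1
      · exact Or.inl hr1
      · exact Or.inr (hcon r hr hr1)
    have hle : Nat.card R ≤ 2 := by
      have h1 : Nat.card R = (R : Set ↥(S : Subgroup X)).ncard :=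
        Nat.card_coe_set_eq (R : Set ↥(S : Subgroup X))
      rw [h1]
      calc (R : Set ↥(S : Subgroup X)).ncard ≤ ({1, z'} : Set ↥(S : Subgroup X)).ncard :=
            Set.ncard_le_ncard hsub (Set.toFinite _)
        _ ≤ 2 := Set.ncard_insert_le _ _ |>.trans (by rw [Set.ncard_singleton])
    rw [hR] at hle
    norm_num at hle
  have hto : orderOf t = 2 := orderOf_eq_prime (hR2 t htR) ht1
  have htoX : orderOf (t : X) = 2 := (Subgroup.orderOf_coe t).trans hto
  have htS : (t : X) ∈ S := t.2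
  have hneX : (t : X) ≠ (z' : X) := fun he => htz (Subtype.ext he)
  have hconj : ∀ s ∈ S, s * (t : X) * s⁻¹ = (t : X) ∨ s * (t : X) * s⁻¹ = (t : X) * (z' : X) := by
    intro s hs
    set s' : ↥(S : Subgroup X) := ⟨s, hs⟩ with hs'
    have hrR : s' * t * s'⁻¹ ∈ R := ‹R.Normal›.conj_mem t htR s'
    have hr1 : s' * t * s'⁻¹ ≠ 1 := by
      intro he
      apply ht1
      have : t = s'⁻¹ * (s' * t * s'⁻¹) * s' := by group
      rw [this, he]; group
    have hrz : s' * t * s'⁻¹ ≠ z' := by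
      intro he
      apply htz
      have h2 : t = s'⁻¹ * (s' * t * s'⁻¹) * s' := by group
      rw [h2, he, mul_assoc, ← Subgroup.mem_center_iff.mp hz'Z s', inv_mul_cancel_left]
    rcases four_group_coset R hR z' hz'R hz'o t (s' * t * s'⁻¹) htR hrR ht1 htz hr1 hrz with h1 | h2
    · left
      exact congrArg Subtype.val h1
    · right
      exact congrArg Subtype.val h2
  exact Cfsg.Agent.Lib.Helper51.QBaer.no_almost_central_involution h S (z' : X) (t : X) hzo hzc
    hzinv htoX htS hneX hconj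

end Cfsg.Agent.Lib.Helper76.QBaer
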