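import Mathlib
import Cfsg.Agent.Lib.Helper76.AbCentCaseIOf
import Cfsg.Agent.Lib.Helper32.AbCentFTriv
import Cfsg.Agent.Lib.Helper47.AbCentI124
import Cfsg.Agent.Lib.Helper47.AbCentI5
import Cfsg.Agent.Lib.Helper47.AbCentI6
import Cfsg.Agent.Lib.Helper47.AbCentI7

set_option autoImplicit false

/-!
# S2202 module [I-9] (helper32, AbCentSPINE.md): case (I) is impossible
-/

namespace Cfsg.Agent.Lib.Helper76.AbCent

open Cfsg Cfsg.Agent.Lib.Helper32.AbCent

variable {G : Type*} [Group G] [Finite G] {H M : Subgroup G}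

/-- MODULE [I-9] -/
theorem caseI_false (h : TIData H M) (hne : ∃ x ∈ M, x ^ 2 ≠ 1) : False := by
  have h3 : FTriv H M := fTriv h
  have h4 : DInv H := Cfsg.Agent.Lib.Helper47.AbCent.dInv h h3
  have h5 : Frob H M := Cfsg.Agent.Lib.Helper47.AbCent.frob h h3 h4
  have h6 : Fix2 H := Cfsg.Agent.Lib.Helper47.AbCent.fix2 h h3 h4 h5
  have h7 := Cfsg.Agent.Lib.Helper47.AbCent.card_quot_and_trans h h3 h4 h5 h6
  exact caseI_false_of h hne h3 h4 h6 h7

end Cfsg.Agent.Lib.Helper76.AbCent
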