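import Mathlib
import Cfsg.Agent.Lib.Helper80.Berger.CliffSum

/-!
# S0889-[FIELD-ALG]: the operator algebra of a homogeneous abelian normal subgroup is a field
-/

set_option autoImplicit false

namespace Cfsg.Agent.Lib.Helper76.BergerFieldAlg

open Cfsg.Agent.Lib.Helper80.Wolf
open scoped commutatorElement

universe u v

variable {K : Type v} [Field K] {V : Type v} [AddCommGroup V] [Module K V] {X : Type u} [Group X]

theorem rho_mem_opAlg (ρ : X →* (V ≃ₗ[K] V)) (A : Subgroup X) {x : X} (hx : x ∈ A) :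
    ((ρ x).toLinearMap : Module.End K V) ∈ opAlg ρ A :=
  Algebra.subset_adjoin ⟨x, hx, rfl⟩

theorem opAlg_comm (ρ : X →* (V ≃ₗ[K] V)) (A : Subgroup X)
    (hab : ∀ a ∈ A, ∀ b ∈ A, a * b = b * a) :
    ∀ f ∈ opAlg ρ A, ∀ g ∈ opAlg ρ A, f * g = g * f := by
  have hgen : ∀ f ∈ ((fun x : X => ((ρ x).toLinearMap : Module.End K V)) '' (A : Set X)),
      ∀ g ∈ ((fun x : X => ((ρ x).toLinearMap : Module.End K V)) '' (A : Set X)),
      f * g = g * f := by
    rintro _ ⟨x, hx, rfl⟩ _ ⟨y, hy, rfl⟩
    apply LinearMap.ext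
    intro w
    show ρ x (ρ y w) = ρ y (ρ x w)
    rw [← LinearEquiv.mul_apply, ← LinearEquiv.mul_apply, ← map_mul, ← map_mul, hab x hx y hy]
  intro f hf g hg
  have h := (isMulCommutative_iff.mp (Algebra.isMulCommutative_adjoin K hgen)) ⟨f, hf⟩ ⟨g, hg⟩
  exact congrArg Subtype.val h

theorem opAlg_map_mem (ρ : X →* (V ≃ₗ[K] V)) (A : Subgroup X) (W : Submodule K V)
    (hW : Inv ρ A W) {b : Module.End K V} (hb : b ∈ opAlg ρ A) : ∀ w ∈ W, b w ∈ W := by
  induction hb using Algebra.adjoin_induction with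
  | mem x hx =>
    obtain ⟨y, hy, rfl⟩ := hx
    intro w hw
    exact hW y hy w hw
  | algebraMap r =>
    intro w hw
    rw [Module.algebraMap_end_apply]
    exact W.smul_mem r hw
  | add x y hx hy ihx ihy =>
    intro w hw
    exact W.add_mem (ihx w hw) (ihy w hw)
  | mul x y hx hy ihx ihy =>
    intro w hw
    exact ihx _ (ihy w hw)

theorem opAlg_intertwine (ρ : X →* (V ≃ₗ[K] V)) (A : Subgroup X) (W W' : Submodule K V)
    (hW : Inv ρ A W) (f : W ≃ₗ[K] W')
    (hf : ∀ x ∈ A, ∀ (w : W) (hw : ρ x (w : V) ∈ W),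
      ((f ⟨ρ x (w : V), hw⟩ : W') : V) = ρ x ((f w : W') : V))
    {b : Module.End K V} (hb : b ∈ opAlg ρ A) :
    ∀ (w : W) (hw : b (w : V) ∈ W), ((f ⟨b (w : V), hw⟩ : W') : V) = b ((f w : W') : V) := by
  induction hb using Algebra.adjoin_induction with
  | mem x hx =>
    obtain ⟨y, hy, rfl⟩ := hx
    intro w hw
    exact hf y hy w hw
  | algebraMap r =>
    intro w hw
    have h1 : (⟨(algebraMap K (Module.End K V) r) (w : V), hw⟩ : W) = r • w := by
      apply Subtype.ext
      show (algebraMap K (Module.End K V) r) (w : V) = r • (w : V)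
      rw [Module.algebraMap_end_apply]
    rw [h1, map_smul, Module.algebraMap_end_apply]
    rfl
  | add x y hx hy ihx ihy =>
    intro w hw
    have hxw : x (w : V) ∈ W := opAlg_map_mem ρ A W hW hx _ w.2
    have hyw : y (w : V) ∈ W := opAlg_map_mem ρ A W hW hy _ w.2
    have h1 : (⟨(x + y) (w : V), hw⟩ : W) = ⟨x (w : V), hxw⟩ + ⟨y (w : V), hyw⟩ := by
      apply Subtype.ext
      rfl
    rw [h1, map_add]
    show ((f ⟨x (w : V), hxw⟩ : W') : V) + ((f ⟨y (w : V), hyw⟩ : W') : V) = _
    rw [ihx w hxw, ihy w hyw]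
    rfl
  | mul x y hx hy ihx ihy =>
    intro w hw
    have hyw : y (w : V) ∈ W := opAlg_map_mem ρ A W hW hy _ w.2
    have h2 := ihx ⟨y (w : V), hyw⟩ hw
    show ((f ⟨x (y (w : V)), hw⟩ : W') : V) = x (y ((f w : W') : V))
    rw [← ihy w hyw]
    exact h2

/-- a nonzero element of the operator algebra is injective -/
theorem opAlg_injective [Finite V] (ρ : X →* (V ≃ₗ[K] V)) (hirr : Irr ρ) (A : Subgroup X)
    [A.Normal] (hab : ∀ a ∈ A, ∀ b ∈ A, a * b = b * a) (hh : Homog ρ A)
    (a : Module.End K V) (ha : a ∈ opAlg ρ A) (ha0 : a ≠ 0) : Function.Injective a := by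
  rw [← LinearMap.ker_eq_bot]
  by_contra hker
  have hcomm := opAlg_comm ρ A hab
  have hinv : Inv ρ A (LinearMap.ker a) := by
    intro x hx w hw
    rw [LinearMap.mem_ker] at hw ⊢
    have h1 := hcomm a ha _ (rho_mem_opAlg ρ A hx)
    have h2 : a (ρ x w) = ρ x (a w) := by
      have := congrArg (fun g : Module.End K V => g w) h1
      exact this
    rw [h2, hw, map_zero]
  obtain ⟨W₀, hW₀le, hW₀⟩ := exists_irrSub ρ A _ hker hinv
  have hall : ∀ x : X, W₀.map (ρ x).toLinearMap ≤ LinearMap.ker a := by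
    intro x
    have hW₁ := irrSub_map ρ A W₀ hW₀ x
    obtain ⟨f, hf⟩ := hh W₀ _ hW₀ hW₁
    intro w₁ hw₁
    rw [LinearMap.mem_ker]
    obtain ⟨w₀, hw₀⟩ : ∃ w₀ : W₀, f w₀ = ⟨w₁, hw₁⟩ := f.surjective _
    have haw : a (w₀ : V) ∈ W₀ := opAlg_map_mem ρ A W₀ hW₀.2.1 ha _ w₀.2
    have h1 := opAlg_intertwine ρ A W₀ _ hW₀.2.1 f hf ha w₀ haw
    have h2 : a (w₀ : V) = 0 := by
      have := hW₀le w₀.2
      rwa [LinearMap.mem_ker] at this
    have h3 : (⟨a (w₀ : V), haw⟩ : W₀) = 0 := by
      apply Subtype.ext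
      exact h2
    rw [h3, map_zero, hw₀] at h1
    exact h1.symm
  have htop : (⊤ : Submodule K V) ≤ LinearMap.ker a := by
    rw [← iSup_map_eq_top ρ hirr A W₀ hW₀]
    exact iSup_le hall
  apply ha0
  apply LinearMap.ext
  intro w
  have := htop (Submodule.mem_top (x := w))
  rwa [LinearMap.mem_ker] at this

theorem isField_opAlg [Finite V] (ρ : X →* (V ≃ₗ[K] V)) (hirr : Irr ρ) (A : Subgroup X) [A.Normal]
    (hab : ∀ a ∈ A, ∀ b ∈ A, a * b = b * a) (hh : Homog ρ A) : IsField (opAlg ρ A) := by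
  have hcomm := opAlg_comm ρ A hab
  have hfinE : Finite (Module.End K V) :=
    Finite.of_injective (fun f : Module.End K V => (f : V → V)) DFunLike.coe_injective
  have hfinA : Finite (opAlg ρ A) := inferInstance
  have hne : (1 : Module.End K V) ≠ 0 := by
    intro h
    apply hirr.1
    rw [eq_bot_iff]
    intro w _
    have := congrArg (fun g : Module.End K V => g w) h
    simpa using this
  refine ⟨⟨0, 1, ?_⟩, ?_, ?_⟩
  · intro h
    apply hne
    exact (congrArg Subtype.val h).symm
  · intro a b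
    apply Subtype.ext
    exact hcomm a.1 a.2 b.1 b.2
  · intro a ha
    have ha0 : (a : Module.End K V) ≠ 0 := by
      intro h
      apply ha
      apply Subtype.ext
      exact h
    have hinj := opAlg_injective ρ hirr A hab hh a.1 a.2 ha0
    have hinj' : Function.Injective (fun b : opAlg ρ A => a * b) := by
      intro b c hbc
      apply Subtype.ext
      apply LinearMap.ext
      intro w
      apply hinj
      have := congrArg (fun g : opAlg ρ A => (g : Module.End K V) w) hbc
      exact this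
    obtain ⟨b, hb⟩ := (Finite.injective_iff_surjective.mp hinj') 1
    exact ⟨b, hb⟩

/-- a finite-dimensional algebra that is a field has at most `finrank` algebra endomorphisms -/
theorem card_algHom_le_of_isField {F : Type*} [Field F] {R : Type*} [Ring R] [Algebra F R]
    [FiniteDimensional F R] (h : IsField R) : Nat.card (R →ₐ[F] R) ≤ Module.finrank F R := by
  let _i : Field R := h.toField
  have := @AlgHom.card_le F R _ h.toField _ _
  rw [← Nat.card_eq_fintype_card] at this
  exact this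

theorem index_centralizer_le [Finite V] [Finite X] (ρ : X →* (V ≃ₗ[K] V)) (hρ : Function.Injective ρ)
    (A : Subgroup X) [hA : A.Normal] (hF : IsField (opAlg ρ A)) :
    (Subgroup.centralizer (A : Set X)).index ≤ Module.finrank K (opAlg ρ A) := by
  classical
  have hMF : Module.Finite K V := Module.Finite.of_finite
  -- conjugation maps the operator algebra into itself
  have hconj : ∀ x : X, ∀ b : opAlg ρ A,
      ((ρ x).conjAlgEquiv K).toAlgHom.comp (opAlg ρ A).val b ∈ opAlg ρ A := by
    intro x b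
    have hle : opAlg ρ A ≤ (opAlg ρ A).comap ((ρ x).conjAlgEquiv K).toAlgHom := by
      apply Algebra.adjoin_le
      rintro _ ⟨y, hy, rfl⟩
      show ((ρ x).conjAlgEquiv K) ((ρ y).toLinearMap : Module.End K V) ∈ opAlg ρ A
      have h1 : ((ρ x).conjAlgEquiv K) ((ρ y).toLinearMap : Module.End K V)
          = ((ρ (x * y * x⁻¹)).toLinearMap : Module.End K V) := by
        apply LinearMap.ext
        intro w
        rw [LinearEquiv.conjAlgEquiv_apply, map_mul, map_mul, map_inv]
        rfl
      rw [h1]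
      exact rho_mem_opAlg ρ A (hA.conj_mem y hy x)
    exact hle b.2
  let Φ : X → (opAlg ρ A →ₐ[K] opAlg ρ A) := fun x =>
    (((ρ x).conjAlgEquiv K).toAlgHom.comp (opAlg ρ A).val).codRestrict (opAlg ρ A) (hconj x)
  have hΦ : ∀ x y : X, Φ x = Φ y → x⁻¹ * y ∈ Subgroup.centralizer (A : Set X) := by
    intro x y hxy
    rw [Subgroup.mem_centralizer_iff]
    intro a ha
    have h1 := congrArg (fun φ : opAlg ρ A →ₐ[K] opAlg ρ A =>
      ((φ ⟨_, rho_mem_opAlg ρ A ha⟩ : opAlg ρ A) : Module.End K V)) hxy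
    have h2 : ((ρ x).conjAlgEquiv K) ((ρ a).toLinearMap : Module.End K V)
        = ((ρ y).conjAlgEquiv K) ((ρ a).toLinearMap : Module.End K V) := h1
    have h3 : ∀ z : X, ((ρ z).conjAlgEquiv K) ((ρ a).toLinearMap : Module.End K V)
          = ((ρ (z * a * z⁻¹)).toLinearMap : Module.End K V) := by
      intro z
      apply LinearMap.ext
      intro w
      rw [LinearEquiv.conjAlgEquiv_apply, map_mul, map_mul, map_inv]
      rfl
    rw [h3, h3] at h2
    have h4 : ρ (x * a * x⁻¹) = ρ (y * a * y⁻¹) := LinearEquiv.toLinearMap_injective h2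
    have h5 := hρ h4
    -- x a x⁻¹ = y a y⁻¹
    calc a * (x⁻¹ * y) = x⁻¹ * (x * a * x⁻¹) * y := by group
      _ = x⁻¹ * (y * a * y⁻¹) * y := by rw [h5]
      _ = x⁻¹ * y * a := by group
  have hFD : FiniteDimensional K (opAlg ρ A) := inferInstance
  have hfinE : Finite (Module.End K V) :=
    Finite.of_injective (fun f : Module.End K V => (f : V → V)) DFunLike.coe_injective
  have hfinA : Finite (opAlg ρ A) := inferInstance
  have hfin : Finite (opAlg ρ A →ₐ[K] opAlg ρ A) :=
    Finite.of_injective (fun φ : opAlg ρ A →ₐ[K] opAlg ρ A => (φ : opAlg ρ A → opAlg ρ A))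
      DFunLike.coe_injective
  have hinj : Function.Injective
      (fun q : X ⧸ Subgroup.centralizer (A : Set X) => Φ q.out) := by
    intro q q' hqq
    have := hΦ _ _ hqq
    rw [← QuotientGroup.out_eq' q, ← QuotientGroup.out_eq' q']
    exact QuotientGroup.eq.mpr this
  calc (Subgroup.centralizer (A : Set X)).index
      = Nat.card (X ⧸ Subgroup.centralizer (A : Set X)) := rfl
    _ ≤ Nat.card (opAlg ρ A →ₐ[K] opAlg ρ A) := Nat.card_le_card_of_injective _ hinj
    _ ≤ Module.finrank K (opAlg ρ A) := card_algHom_le_of_isField hF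

theorem two_le_finrank_opAlg [Finite V] (ρ : X →* (V ≃ₗ[K] V)) (A : Subgroup X)
    (hns : ∃ a ∈ A, ¬ IsScalar ρ a) : 2 ≤ Module.finrank K (opAlg ρ A) := by
  obtain ⟨a, haA, hsc⟩ := hns
  have hMF : Module.Finite K V := Module.Finite.of_finite
  have hne : (1 : opAlg ρ A) ≠ 0 := by
    intro h
    apply hsc
    refine ⟨1, fun w => ?_⟩
    have h1 : (1 : Module.End K V) = 0 := congrArg Subtype.val h
    have h2 : ∀ v : V, v = 0 := fun v => by
      have := congrArg (fun g : Module.End K V => g v) h1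
      simpa using this
    rw [h2 (ρ a w), h2 w, smul_zero]
  have hli : LinearIndependent K ![(1 : opAlg ρ A), ⟨_, rho_mem_opAlg ρ A haA⟩] := by
    rw [LinearIndependent.pair_iff' hne]
    intro c hc
    apply hsc
    refine ⟨c, fun w => ?_⟩
    have h1 : (c • (1 : Module.End K V)) = ((ρ a).toLinearMap : Module.End K V) :=
      congrArg Subtype.val hc
    have := congrArg (fun g : Module.End K V => g w) h1
    simpa using this.symm
  have := hli.fintype_card_le_finrank
  simpa using this

end Cfsg.Agent.Lib.Helper76.BergerFieldAlg
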