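import Mathlib
import Cfsg.Agent.Lib.Helper80.Berger.CliffSum
import Cfsg.Agent.Lib.Helper76.BergerFieldAlg

/-!
# S0889-[FIELD-IND]: the Wolf bound when some abelian normal subgroup is not scalar
-/

set_option autoImplicit false

namespace Cfsg.Agent.Lib.Helper76.BergerFieldInd

open Cfsg.Agent.Lib.Helper80.Wolf
open scoped commutatorElement

universe u v

/-- restriction of a representation to a subgroup `C` commuting with an `E`-structure and to a
`C`-invariant `E`-subspace -/
noncomputable def restrictRep {K : Type*} [Field K] {E : Type*} [Field E] {V : Type*}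
    [AddCommGroup V] [Module K V] [Module E V] {X : Type*} [Group X]
    (ρ : X →* (V ≃ₗ[K] V)) (C : Subgroup X) (W : Submodule E V)
    (hlin : ∀ c ∈ C, ∀ (e : E) (w : V), ρ c (e • w) = e • ρ c w)
    (hinv : ∀ c ∈ C, ∀ w ∈ W, ρ c w ∈ W) : C →* (W ≃ₗ[E] W) where
  toFun c :=
    { toFun := fun w => ⟨ρ (c : X) (w : V), hinv c c.2 w w.2⟩
      invFun := fun w => ⟨ρ ((c : X)⁻¹) (w : V), hinv _ (inv_mem c.2) w w.2⟩
      map_add' := fun a b => Subtype.ext (by simp)
      map_smul' := fun e a => Subtype.ext (by simpa using hlin c c.2 e a)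
      left_inv := fun w => Subtype.ext (by
        show ρ ((c : X)⁻¹) (ρ (c : X) (w : V)) = (w : V)
        rw [← LinearEquiv.mul_apply, ← map_mul, inv_mul_cancel, map_one]
        rfl)
      right_inv := fun w => Subtype.ext (by
        show ρ (c : X) (ρ ((c : X)⁻¹) (w : V)) = (w : V)
        rw [← LinearEquiv.mul_apply, ← map_mul, mul_inv_cancel, map_one]
        rfl) }
  map_one' := by
    apply LinearEquiv.ext
    intro w
    apply Subtype.ext
    show ρ ((1 : C) : X) (w : V) = (w : V)
    rw [Subgroup.coe_one, map_one]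
    rfl
  map_mul' := fun a b => by
    apply LinearEquiv.ext
    intro w
    apply Subtype.ext
    show ρ ((a * b : C) : X) (w : V) = ρ (a : X) (ρ (b : X) (w : V))
    rw [Subgroup.coe_mul, map_mul]
    rfl

theorem restrictRep_apply {K : Type*} [Field K] {E : Type*} [Field E] {V : Type*}
    [AddCommGroup V] [Module K V] [Module E V] {X : Type*} [Group X]
    (ρ : X →* (V ≃ₗ[K] V)) (C : Subgroup X) (W : Submodule E V)
    (hlin : ∀ c ∈ C, ∀ (e : E) (w : V), ρ c (e • w) = e • ρ c w)
    (hinv : ∀ c ∈ C, ∀ w ∈ W, ρ c w ∈ W) (c : C) (w : W) :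
    ((restrictRep ρ C W hlin hinv c w : W) : V) = ρ (c : X) (w : V) := rfl

/-- The inductive step over an extension field `E` commuting with a normal subgroup `C` of small
index. -/
theorem bound_of_ext (p : ℕ) [Fact p.Prime] (d : ℕ) (IH : ∀ d' < d, Bound.{u, v} p d')
    {K V : Type v} {X : Type u} [Field K] [Finite K] [CharP K p] [AddCommGroup V] [Module K V]
    [Finite V] [Group X] [Finite X] [Group.IsSolvable X] (ρ : X →* (V ≃ₗ[K] V))
    (hρ : Function.Injective ρ) (hirr : Irr ρ) (hd : Module.finrank K V = d)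
    (C : Subgroup X) [C.Normal] (hhomC : Homog ρ C)
    {E : Type v} [Field E] [Finite E] [CharP E p] [Module E V]
    (m : ℕ) (hm2 : 2 ≤ m) (hcard : Nat.card E = Nat.card K ^ m)
    (hKE : ∀ k : K, ∃ e : E, ∀ w : V, k • w = e • w)
    (hCm : C.index ≤ m)
    (hlin : ∀ c ∈ C, ∀ (e : E) (w : V), ρ c (e • w) = e • ρ c w) :
    p ^ (Nat.card X).factorization p * Nat.card K ≤ Nat.card V := by
  classical
  have hp : p.Prime := Fact.out
  have hVne : (⊤ : Submodule K V) ≠ ⊥ := hirr.1
  obtain ⟨v₀, hv₀⟩ : ∃ v : V, v ≠ 0 := by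
    by_contra hcon
    push Not at hcon
    apply hVne
    rw [eq_bot_iff]
    intro w _
    rw [hcon w]
    exact Submodule.zero_mem _
  have hMFK : Module.Finite K V := Module.Finite.of_finite
  have hMFE : Module.Finite E V := Module.Finite.of_finite
  -- a minimal nonzero `C`-invariant `E`-subspace
  have hfinS : Finite (Submodule E V) :=
    Finite.of_injective (fun W : Submodule E V => (W : Set V)) SetLike.coe_injective
  obtain ⟨W, ⟨hWne, hWinv⟩, hWmin⟩ := Set.Finite.exists_minimal
    (Set.toFinite {W : Submodule E V | W ≠ ⊥ ∧ ∀ c ∈ C, ∀ w ∈ W, ρ c w ∈ W})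
    ⟨⊤, by
      intro h
      apply hv₀
      have : v₀ ∈ (⊤ : Submodule E V) := Submodule.mem_top
      rw [h] at this
      exact (Submodule.mem_bot E).mp this, fun _ _ _ _ => Submodule.mem_top⟩
  obtain ⟨w₁, hw₁W, hw₁0⟩ : ∃ w ∈ W, w ≠ 0 := Submodule.exists_mem_ne_zero_of_ne_bot hWne
  -- the restricted representation
  obtain ⟨ρ', hρ'⟩ : ∃ ρ' : C →* (W ≃ₗ[E] W), ρ' = restrictRep ρ C W hlin hWinv := ⟨_, rfl⟩
  have hρ'app : ∀ (c : C) (w : W), ((ρ' c w : W) : V) = ρ (c : X) (w : V) := by
    intro c w
    rw [hρ']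
    rfl
  -- irreducible
  have hirr' : Irr ρ' := by
    refine ⟨?_, fun _ _ _ _ => Submodule.mem_top, ?_⟩
    · intro h
      apply hw₁0
      have : (⟨w₁, hw₁W⟩ : W) ∈ (⊤ : Submodule E W) := Submodule.mem_top
      rw [h] at this
      exact congrArg Subtype.val ((Submodule.mem_bot E).mp this)
    · intro U _ hUinv
      by_cases hU : U = ⊥
      · left; exact hU
      right
      have hU'mem : U.map W.subtype ∈
          {W : Submodule E V | W ≠ ⊥ ∧ ∀ c ∈ C, ∀ w ∈ W, ρ c w ∈ W} := by
        refine ⟨?_, ?_⟩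
        · intro h
          apply hU
          exact Submodule.map_injective_of_injective W.injective_subtype
            (h.trans (Submodule.map_bot _).symm)
        · rintro c hc _ ⟨u, hu, rfl⟩
          refine ⟨ρ' ⟨c, hc⟩ u, hUinv ⟨c, hc⟩ (Subgroup.mem_top _) u hu, ?_⟩
          exact hρ'app ⟨c, hc⟩ u
      have hle : W ≤ U.map W.subtype := hWmin hU'mem (Submodule.map_subtype_le W U)
      rw [eq_top_iff]
      intro w _
      obtain ⟨u, hu, huw⟩ := hle w.2
      have : u = w := Subtype.ext huw
      rw [← this]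
      exact hu
  -- faithful
  have hinj' : Function.Injective ρ' := by
    rw [injective_iff_map_eq_one]
    intro c hc
    have hcW : ∀ w ∈ W, ρ (c : X) w = w := by
      intro w hw
      have h1 := hρ'app c ⟨w, hw⟩
      rw [hc] at h1
      exact h1.symm
    -- `W` as a `K`-subspace
    let WK : Submodule K V :=
      { carrier := W
        add_mem' := fun ha hb => W.add_mem ha hb
        zero_mem' := W.zero_mem
        smul_mem' := fun k w hw => by
          obtain ⟨e, he⟩ := hKE k
          show k • w ∈ W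
          rw [he]
          exact W.smul_mem e hw }
    have hWKne : WK ≠ ⊥ := by
      intro h
      apply hw₁0
      have : w₁ ∈ WK := hw₁W
      rw [h] at this
      exact (Submodule.mem_bot K).mp this
    have hWKinv : Inv ρ C WK := fun x hx w hw => hWinv x hx w hw
    obtain ⟨W₀, hW₀le, hW₀⟩ := exists_irrSub ρ C WK hWKne hWKinv
    have hall : ∀ x : X, W₀.map (ρ x).toLinearMap ≤
        LinearMap.eqLocus (ρ (c : X)).toLinearMap LinearMap.id := by
      intro x
      have hW₁ := irrSub_map ρ C W₀ hW₀ x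
      obtain ⟨f, hf⟩ := hhomC W₀ _ hW₀ hW₁
      intro w hw
      rw [LinearMap.mem_eqLocus]
      show ρ (c : X) w = w
      obtain ⟨w₀, hw₀⟩ : ∃ w₀ : W₀, f w₀ = ⟨w, hw⟩ := f.surjective _
      have h0 : ρ (c : X) (w₀ : V) = (w₀ : V) := hcW _ (hW₀le w₀.2)
      have h0' : ρ (c : X) (w₀ : V) ∈ W₀ := by rw [h0]; exact w₀.2
      have h1 := hf c c.2 w₀ h0'
      have h2 : (⟨ρ (c : X) (w₀ : V), h0'⟩ : W₀) = w₀ := Subtype.ext h0
      rw [h2, hw₀] at h1
      exact h1.symm
    have htop : (⊤ : Submodule K V) ≤ LinearMap.eqLocus (ρ (c : X)).toLinearMap LinearMap.id := by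
      rw [← iSup_map_eq_top ρ hirr C W₀ hW₀]
      exact iSup_le hall
    have h1 : ρ (c : X) = 1 := by
      apply LinearEquiv.ext
      intro w
      have := htop (Submodule.mem_top (x := w))
      rw [LinearMap.mem_eqLocus] at this
      exact this
    have h2 : (c : X) = 1 := hρ (by rw [h1, map_one])
    exact Subtype.ext h2
  -- dimensions
  obtain ⟨q, hq⟩ : ∃ q, q = Nat.card K := ⟨_, rfl⟩
  have hq2 : 2 ≤ q := by
    rw [hq]
    exact Finite.one_lt_card
  have hcV : Nat.card V = q ^ d := by
    rw [hq, ← hd]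
    exact Module.natCard_eq_pow_finrank
  have hcVE : Nat.card V = q ^ (m * Module.finrank E V) := by
    rw [pow_mul, hq, ← hcard]
    exact Module.natCard_eq_pow_finrank
  have hdm : d = m * Module.finrank E V := by
    have := hcV.symm.trans hcVE
    exact Nat.pow_right_injective hq2 this
  have hEVpos : 0 < Module.finrank E V := by
    have : Nontrivial V := ⟨⟨v₀, 0, hv₀⟩⟩
    exact Module.finrank_pos
  have hd'le : Module.finrank E W ≤ Module.finrank E V := Submodule.finrank_le W
  have hlt : Module.finrank E W < d := by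
    rw [hdm]
    nlinarith
  have hB : Bound.{u, v} p (Module.finrank E W) := IH _ hlt
  have hmain : p ^ (Nat.card C).factorization p * Nat.card E ≤ Nat.card W :=
    hB ρ' hinj' hirr' rfl
  -- arithmetic
  have hWV : Nat.card W ≤ Nat.card V := Nat.card_le_card_of_injective _ Subtype.val_injective
  have hidx0 : C.index ≠ 0 := Subgroup.index_ne_zero_of_finite
  have hC0 : Nat.card C ≠ 0 := Nat.card_pos.ne'
  have hXeq : Nat.card X = C.index * Nat.card C := (Subgroup.index_mul_card C).symm
  have hfac : (Nat.card X).factorization p =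
      C.index.factorization p + (Nat.card C).factorization p := by
    rw [hXeq, Nat.factorization_mul hidx0 hC0]
    rfl
  have h1 : p ^ C.index.factorization p ≤ m := (Nat.ordProj_le p hidx0).trans hCm
  have h2 : m ≤ q ^ (m - 1) := by
    have h3 : m - 1 < 2 ^ (m - 1) := Nat.lt_two_pow_self
    have h4 : 2 ^ (m - 1) ≤ q ^ (m - 1) := Nat.pow_le_pow_left hq2 _
    omega
  have h5 : q ^ m = q ^ (m - 1) * q := by
    rw [← pow_succ]
    congr 1
    omega
  rw [hfac, pow_add, ← hq]
  rw [hcard, ← hq, h5] at hmain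
  calc p ^ C.index.factorization p * p ^ (Nat.card C).factorization p * q
      ≤ q ^ (m - 1) * p ^ (Nat.card C).factorization p * q := by
        apply Nat.mul_le_mul_right
        apply Nat.mul_le_mul_right
        exact h1.trans h2
    _ = p ^ (Nat.card C).factorization p * (q ^ (m - 1) * q) := by ring
    _ ≤ Nat.card W := hmain
    _ ≤ Nat.card V := hWV

open Cfsg.Agent.Lib.Helper76.BergerFieldAlg in
theorem bound_of_field (p : ℕ) [Fact p.Prime] (d : ℕ) (IH : ∀ d' < d, Bound.{u, v} p d')
    {K V : Type v} {X : Type u} [Field K] [Finite K] [CharP K p] [AddCommGroup V] [Module K V]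
    [Finite V] [Group X] [Finite X] [Group.IsSolvable X] (ρ : X →* (V ≃ₗ[K] V))
    (hρ : Function.Injective ρ) (hirr : Irr ρ) (hd : Module.finrank K V = d)
    (hhom : ∀ N : Subgroup X, N.Normal → Homog ρ N)
    (A : Subgroup X) [A.Normal] (hab : ∀ a ∈ A, ∀ b ∈ A, a * b = b * a)
    (hns : ∃ a ∈ A, ¬ IsScalar ρ a) :
    p ^ (Nat.card X).factorization p * Nat.card K ≤ Nat.card V := by
  have hF : IsField (opAlg ρ A) := isField_opAlg ρ hirr A hab (hhom A inferInstance)
  have hm2 := two_le_finrank_opAlg ρ A hns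
  have hidx := index_centralizer_le ρ hρ A hF
  have hCn : (Subgroup.centralizer (A : Set X)).Normal := inferInstance
  have hfinE : Finite (Module.End K V) :=
    Finite.of_injective (fun f : Module.End K V => (f : V → V)) DFunLike.coe_injective
  have hfinA : Finite (opAlg ρ A) := inferInstance
  have hMF : Module.Finite K V := Module.Finite.of_finite
  have hcard : Nat.card (opAlg ρ A) = Nat.card K ^ Module.finrank K (opAlg ρ A) :=
    Module.natCard_eq_pow_finrank
  have hnt : Nontrivial (opAlg ρ A) := hF.nontrivial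
  have hchar : CharP (opAlg ρ A) p :=
    charP_of_injective_algebraMap (algebraMap K (opAlg ρ A)).injective p
  have hKE : ∀ k : K, ∃ e : opAlg ρ A, ∀ w : V, k • w = e • w := by
    intro k
    refine ⟨algebraMap K (opAlg ρ A) k, fun w => ?_⟩
    show k • w = (algebraMap K (Module.End K V) k) w
    rw [Module.algebraMap_end_apply]
  have hlin : ∀ c ∈ Subgroup.centralizer (A : Set X), ∀ (e : opAlg ρ A) (w : V),
      ρ c (e • w) = e • ρ c w := by
    intro c hc e w
    have hle : opAlg ρ A ≤ Subalgebra.centralizer K {((ρ c).toLinearMap : Module.End K V)} := by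
      apply Algebra.adjoin_le
      rintro _ ⟨y, hy, rfl⟩
      rw [SetLike.mem_coe, Subalgebra.mem_centralizer_iff]
      intro g hg
      rw [Set.mem_singleton_iff] at hg
      subst hg
      apply LinearMap.ext
      intro w
      show ρ c (ρ y w) = ρ y (ρ c w)
      rw [← LinearEquiv.mul_apply, ← LinearEquiv.mul_apply, ← map_mul, ← map_mul]
      rw [Subgroup.mem_centralizer_iff] at hc
      rw [hc y hy]
    have h1 := hle e.2
    rw [Subalgebra.mem_centralizer_iff] at h1
    have h2 := h1 _ (Set.mem_singleton _)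
    have := congrArg (fun g : Module.End K V => g w) h2
    exact this
  exact @bound_of_ext p _ d IH K V X _ _ _ _ _ _ _ _ _ ρ hρ hirr hd
    (Subgroup.centralizer (A : Set X)) hCn (hhom _ hCn) (opAlg ρ A) hF.toField hfinA hchar
    (Subalgebra.moduleLeft _) (Module.finrank K (opAlg ρ A)) hm2 hcard hKE hidx hlin

end Cfsg.Agent.Lib.Helper76.BergerFieldInd
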