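import Mathlib
import Cfsg.Agent.Lib.Helper80.Berger.WolfDefs
import Cfsg.Agent.Lib.Helper15.BergerTower
import Cfsg.Agent.Lib.Helper54.BergerIndep
import Cfsg.Agent.Lib.Helper23.BergerSpInd
import Cfsg.Agent.Lib.Helper99.BergerAR

/-!
# S0889-[SCALAR]: the Wolf bound when all abelian normal subgroups act by scalars
-/

set_option autoImplicit false

namespace Cfsg.Agent.Lib.Helper76.BergerScalar

open Cfsg.Agent.Lib.Helper80.Wolf
open scoped commutatorElement

universe u v

/-- the statement of module [SP-IND] for given `p`, `q` -/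
def SpIndStmt (p q : ℕ) : Prop :=
  ∀ (n : ℕ) {E : Type u} [Group E] [Finite E] {P : Type u} [Group P] [Finite P]
      (φ : P →* MulAut E), Nat.card E = n → IsCyclic (Subgroup.center E) →
      Nat.card (Subgroup.center E) ∣ q - 1 →
      (∀ a b : E, ⁅a, b⁆ ∈ Subgroup.center E) →
      (∀ a : E, ∃ s : ℕ, Squarefree s ∧ a ^ s ∈ Subgroup.center E) →
      IsPGroup p P → Function.Injective φ →
      (∀ x : P, ∀ z ∈ Subgroup.center E, φ x z = z) →
      ∃ e : ℕ, e * e = (Subgroup.center E).index ∧ Nat.card P ≤ q ^ (e - 1)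

section

variable {K : Type v} [Field K] {V : Type v} [AddCommGroup V] [Module K V] {X : Type u} [Group X]

/-- the scalar of a scalar element is nonzero -/
theorem scalar_ne_zero [Nontrivial V] (ρ : X →* (V ≃ₗ[K] V)) (x : X) (c : K)
    (hc : ∀ w : V, ρ x w = c • w) : c ≠ 0 := by
  intro h
  obtain ⟨w, hw⟩ := exists_ne (0 : V)
  apply hw
  have h1 := hc w
  rw [h, zero_smul] at h1
  exact (LinearEquiv.map_eq_zero_iff (ρ x)).mp h1

/-- the subgroup of elements acting as scalars -/
def scalarSubgroup [Nontrivial V] (ρ : X →* (V ≃ₗ[K] V)) : Subgroup X where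
  carrier := {x | IsScalar ρ x}
  one_mem' := ⟨1, fun w => by rw [map_one, one_smul]; rfl⟩
  mul_mem' := by
    rintro a b ⟨c, hc⟩ ⟨c', hc'⟩
    refine ⟨c * c', fun w => ?_⟩
    rw [map_mul, LinearEquiv.mul_apply, hc', map_smul, hc, smul_smul, mul_comm]
  inv_mem' := by
    rintro a ⟨c, hc⟩
    have hc0 := scalar_ne_zero ρ a c hc
    refine ⟨c⁻¹, fun w => ?_⟩
    apply (ρ a).injective
    have h1 : ρ a (ρ a⁻¹ w) = w := by
      rw [← LinearEquiv.mul_apply, ← map_mul, mul_inv_cancel, map_one]
      rfl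
    have h2 : ρ a (c⁻¹ • w) = w := by
      rw [hc, smul_smul, mul_inv_cancel₀ hc0, one_smul]
    rw [h1, h2]

theorem mem_scalarSubgroup [Nontrivial V] (ρ : X →* (V ≃ₗ[K] V)) (x : X) :
    x ∈ scalarSubgroup ρ ↔ IsScalar ρ x := Iff.rfl

theorem scalarSubgroup_le_center [Nontrivial V] (ρ : X →* (V ≃ₗ[K] V))
    (hρ : Function.Injective ρ) : scalarSubgroup ρ ≤ Subgroup.center X := by
  rintro z ⟨c, hc⟩
  rw [Subgroup.mem_center_iff]
  intro x
  apply hρ
  apply LinearEquiv.ext
  intro w
  rw [map_mul, map_mul, LinearEquiv.mul_apply, LinearEquiv.mul_apply, hc, hc, map_smul]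

/-- the scalar by which an element of the scalar subgroup acts, as a homomorphism to `Kˣ` -/
noncomputable def scalarHom [Nontrivial V] (ρ : X →* (V ≃ₗ[K] V)) : scalarSubgroup ρ →* Kˣ :=
  MonoidHom.mk' (fun z => Units.mk0 (Classical.choose z.2)
      (scalar_ne_zero ρ z _ (Classical.choose_spec z.2))) (by
    intro a b
    apply Units.ext
    show Classical.choose (a * b).2 = Classical.choose a.2 * Classical.choose b.2
    obtain ⟨w, hw⟩ := exists_ne (0 : V)
    have h1 : ρ ((a : X) * (b : X)) w = Classical.choose (a * b).2 • w :=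
      Classical.choose_spec (a * b).2 w
    have h2 := Classical.choose_spec a.2
    have h3 := Classical.choose_spec b.2 w
    rw [map_mul, LinearEquiv.mul_apply, h3, map_smul, h2, smul_smul] at h1
    have h4 := smul_left_injective K hw h1
    rw [← h4, mul_comm])

theorem scalarHom_spec [Nontrivial V] (ρ : X →* (V ≃ₗ[K] V)) (z : scalarSubgroup ρ) (w : V) :
    ρ (z : X) w = ((scalarHom ρ z : Kˣ) : K) • w :=
  Classical.choose_spec z.2 w

theorem scalarHom_injective [Nontrivial V] (ρ : X →* (V ≃ₗ[K] V)) (hρ : Function.Injective ρ) :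
    Function.Injective (scalarHom ρ) := by
  rw [injective_iff_map_eq_one]
  intro z hz
  apply Subtype.ext
  apply hρ
  apply LinearEquiv.ext
  intro w
  rw [scalarHom_spec, hz, Subgroup.coe_one, map_one, Units.val_one, one_smul]
  rfl

end

/-- **S0889-[SCALAR]** with [SP-IND] as a hypothesis. -/
theorem bound_of_scalar_of (p : ℕ) [Fact p.Prime]
    (hsp : ∀ q f : ℕ, 0 < f → q = p ^ f → SpIndStmt.{u} p q)
    {K V : Type v} {X : Type u} [Field K] [Finite K] [CharP K p] [AddCommGroup V] [Module K V]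
    [Finite V] [Nontrivial V] [Group X] [Finite X] [Group.IsSolvable X] (ρ : X →* (V ≃ₗ[K] V))
    (hρ : Function.Injective ρ)
    (hsc : ∀ A : Subgroup X, A.Normal → (∀ a ∈ A, ∀ b ∈ A, a * b = b * a) → ∀ a ∈ A, IsScalar ρ a) :
    p ^ (Nat.card X).factorization p * Nat.card K ≤ Nat.card V := by
  classical
  have hp : p.Prime := Fact.out
  -- q = p ^ f
  obtain ⟨q, hq⟩ : ∃ q, q = Nat.card K := ⟨_, rfl⟩
  obtain ⟨f, hf, hqf⟩ : ∃ f : ℕ, 0 < f ∧ q = p ^ f := by
    have : Fintype K := Fintype.ofFinite K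
    obtain ⟨n, _, hn⟩ := FiniteField.card K p
    refine ⟨n, n.pos, ?_⟩
    rw [hq, Nat.card_eq_fintype_card, hn]
  have hq1 : 1 ≤ q := by rw [hqf]; exact Nat.one_le_pow _ _ hp.pos
  -- the scalar subgroup
  obtain ⟨Z, hZ⟩ : ∃ Z : Subgroup X, Z = scalarSubgroup ρ := ⟨_, rfl⟩
  have hZc : Z ≤ Subgroup.center X := by rw [hZ]; exact scalarSubgroup_le_center ρ hρ
  have hZcard : Nat.card Z ∣ q - 1 := by
    rw [hZ, hq, ← Nat.card_units]
    exact Subgroup.card_dvd_of_injective _ (scalarHom_injective ρ hρ)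
  have hZcyc : IsCyclic Z := by
    rw [hZ]
    apply isCyclic_of_injective_ringHom ((Units.coeHom K).comp (scalarHom ρ))
    intro a b hab
    apply scalarHom_injective ρ hρ
    exact Units.ext hab
  have hZcop : (Nat.card Z).Coprime p := by
    have h1 := Helper23.BergerSpInd.coprime_pred_pow p f hp hf
    rw [← hqf] at h1
    exact Nat.Coprime.coprime_dvd_left hZcard h1
  have hab : ∀ A : Subgroup X, A.Normal → (∀ a ∈ A, ∀ b ∈ A, a * b = b * a) → A ≤ Z := by
    intro A hA hAab a ha
    rw [hZ]
    exact hsc A hA hAab a ha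
  obtain ⟨E, hEn, hZE, hEE, hCE, hEsq⟩ := Helper15.Berger.exists_tower Z hZc hab
  -- the centre of `E`
  have hcomm_mem : ∀ a ∈ E, ∀ b ∈ E, ⁅a, b⁆ ∈ Z := fun a ha b hb =>
    hEE (Subgroup.commutator_mem_commutator ha hb)
  have hZcent : Z ≤ Subgroup.centralizer (E : Set X) := by
    intro z hz
    rw [Subgroup.mem_centralizer_iff]
    intro e _
    exact (Subgroup.mem_center_iff.mp (hZc hz) e)
  have hcenter : Subgroup.center E = Z.subgroupOf E := by
    ext y
    rw [Subgroup.mem_center_iff, Subgroup.mem_subgroupOf]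
    constructor
    · intro h
      apply hCE
      rw [Subgroup.mem_centralizer_iff]
      intro e he
      have := h ⟨e, he⟩
      exact congrArg Subtype.val this
    · intro h g
      apply Subtype.ext
      exact (Subgroup.mem_center_iff.mp (hZc h) (g : X))
  have hcyc' : IsCyclic (Subgroup.center E) := by
    rw [hcenter]
    exact isCyclic_of_surjective (Subgroup.subgroupOfEquivOfLe hZE).symm
      (Subgroup.subgroupOfEquivOfLe hZE).symm.surjective
  have hcard' : Nat.card (Subgroup.center E) ∣ q - 1 := by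
    rw [hcenter, Nat.card_congr (Subgroup.subgroupOfEquivOfLe hZE).toEquiv]
    exact hZcard
  have hcl' : ∀ a b : E, ⁅a, b⁆ ∈ Subgroup.center E := by
    intro a b
    rw [hcenter, Subgroup.mem_subgroupOf]
    exact hcomm_mem _ a.2 _ b.2
  have hsq' : ∀ a : E, ∃ s : ℕ, Squarefree s ∧ a ^ s ∈ Subgroup.center E := by
    intro a
    obtain ⟨s, hs, hs'⟩ := hEsq a a.2
    refine ⟨s, hs, ?_⟩
    rw [hcenter, Subgroup.mem_subgroupOf]
    exact hs'
  -- a Sylow `p`-subgroup acting on `E`
  obtain ⟨P⟩ : Nonempty (Sylow p X) := inferInstance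
  obtain ⟨φ, hφ⟩ : ∃ φ : (P : Subgroup X) →* MulAut E,
      φ = (MulAut.conjNormal (H := E)).comp (P : Subgroup X).subtype := ⟨_, rfl⟩
  have hφapp : ∀ (x : (P : Subgroup X)) (g : E), ((φ x g : E) : X) = (x : X) * g * (x : X)⁻¹ := by
    intro x g
    rw [hφ]
    rfl
  have hPp : IsPGroup p (P : Subgroup X) := P.isPGroup'
  have hφinj : Function.Injective φ := by
    rw [injective_iff_map_eq_one]
    intro x hx
    have h1 : (x : X) ∈ Z := by
      apply hCE
      rw [Subgroup.mem_centralizer_iff]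
      intro e he
      have h2 := hφapp x ⟨e, he⟩
      rw [hx] at h2
      have h3 : e = (x : X) * e * (x : X)⁻¹ := h2
      calc e * (x : X) = (x : X) * e * (x : X)⁻¹ * (x : X) := by rw [← h3]
        _ = (x : X) * e := by group
    -- order of x is a p-power dividing |Z|
    obtain ⟨k, hk⟩ := hPp x
    have h4 : orderOf (x : X) ∣ p ^ k := by
      apply orderOf_dvd_of_pow_eq_one
      have := congrArg Subtype.val hk
      simpa using this
    have h5 : orderOf (x : X) ∣ Nat.card Z := by
      have h6 : orderOf (⟨(x : X), h1⟩ : Z) ∣ Nat.card Z := orderOf_dvd_natCard _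
      rwa [← Subgroup.orderOf_coe] at h6
    have h7 : orderOf (x : X) = 1 := by
      have h8 : (orderOf (x : X)).Coprime (orderOf (x : X)) :=
        Nat.Coprime.coprime_dvd_left h5 (Nat.Coprime.coprime_dvd_right h4
          (Nat.Coprime.pow_right k hZcop))
      exact (Nat.coprime_self _).mp h8
    apply Subtype.ext
    exact orderOf_eq_one_iff.mp h7
  have hfix : ∀ x : (P : Subgroup X), ∀ z ∈ Subgroup.center E, φ x z = z := by
    intro x z hz
    rw [hcenter, Subgroup.mem_subgroupOf] at hz
    apply Subtype.ext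
    rw [hφapp]
    have := Subgroup.mem_center_iff.mp (hZc hz) (x : X)
    rw [this]
    group
  obtain ⟨e, hee, hPle⟩ := hsp q f hf hqf (Nat.card E) φ rfl hcyc' hcard' hcl' hsq' hPp hφinj hfix
  -- [INDEP]
  have hinf : E ⊓ Subgroup.centralizer (E : Set X) = Z := by
    apply le_antisymm
    · exact inf_le_right.trans hCE
    · exact le_inf hZE hZcent
  have hindep := Helper54.BergerIndep.relIndex_center_le_sq ρ hρ E
    (fun a ha b hb c _ => (Subgroup.mem_center_iff.mp (hZc (hcomm_mem a ha b hb)) c).symm)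
    (fun z hz hze => by
      have : z ∈ Z := by
        apply hCE
        rw [Subgroup.mem_centralizer_iff]
        intro e he
        exact (hze e he).symm
      rw [hZ] at this
      exact this)
  rw [hinf] at hindep
  have hidx : (Subgroup.center E).index = Z.relIndex E := by
    rw [hcenter]
    rfl
  rw [hidx] at hee
  have hed : e ≤ Module.finrank K V := by
    have h1 : e * e ≤ Module.finrank K V ^ 2 := hee ▸ hindep
    nlinarith
  have he1 : 1 ≤ e := by
    rcases Nat.eq_zero_or_pos e with h | h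
    · exfalso
      rw [h] at hee
      have : (Z.subgroupOf E).index ≠ 0 := Subgroup.index_ne_zero_of_finite
      exact this hee.symm
    · exact h
  have hMF : Module.Finite K V := Module.Finite.of_finite
  have hcV : Nat.card V = q ^ Module.finrank K V := by
    rw [hq]
    exact Module.natCard_eq_pow_finrank
  have hPcard : Nat.card (P : Subgroup X) = p ^ (Nat.card X).factorization p :=
    P.card_eq_multiplicity
  rw [← hPcard, ← hq, hcV]
  calc Nat.card (P : Subgroup X) * q ≤ q ^ (e - 1) * q := Nat.mul_le_mul_right _ hPle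
    _ = q ^ e := by
        rw [← pow_succ]
        congr 1
        omega
    _ ≤ q ^ Module.finrank K V := Nat.pow_le_pow_right hq1 hed

/-- **S0889-[SCALAR]** with [SP-STEP] as a hypothesis. -/
theorem bound_of_scalar_of_step (p : ℕ) [Fact p.Prime]
    (hstep : Helper23.BergerSpInd.SpStepStmt.{u} p)
    {K V : Type v} {X : Type u} [Field K] [Finite K] [CharP K p] [AddCommGroup V] [Module K V]
    [Finite V] [Nontrivial V] [Group X] [Finite X] [Group.IsSolvable X] (ρ : X →* (V ≃ₗ[K] V))
    (hρ : Function.Injective ρ)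
    (hsc : ∀ A : Subgroup X, A.Normal → (∀ a ∈ A, ∀ b ∈ A, a * b = b * a) → ∀ a ∈ A, IsScalar ρ a) :
    p ^ (Nat.card X).factorization p * Nat.card K ≤ Nat.card V := by
  have hp : p.Prime := Fact.out
  refine bound_of_scalar_of p ?_ ρ hρ hsc
  intro q f hf hq
  exact Helper23.BergerSpInd.sp_bound_of p q f hf hq hstep
    (fun r hr hpr hrq t => Helper99.BergerAR.ar_bound p r hp hr hpr q f hf hq hrq t)

end Cfsg.Agent.Lib.Helper76.BergerScalar
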