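import Mathlib
import Cfsg.Agent.Lib.Helper76.BergerScalar
import Cfsg.Agent.Lib.Helper99.BergerSPStep

/-!
# S0889-[SCALAR]: exact sheet statement `bound_of_scalar`
-/

set_option autoImplicit false

namespace Cfsg.Agent.Lib.Helper76.BergerScalar

open Cfsg.Agent.Lib.Helper80.Wolf
open scoped commutatorElement

universe u v

/-- **S0889-[SCALAR]** (exact sheet statement). -/
theorem bound_of_scalar (p : ℕ) [Fact p.Prime]
    {K V : Type v} {X : Type u} [Field K] [Finite K] [CharP K p] [AddCommGroup V] [Module K V]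
    [Finite V] [Nontrivial V] [Group X] [Finite X] [Group.IsSolvable X] (ρ : X →* (V ≃ₗ[K] V))
    (hρ : Function.Injective ρ)
    (hsc : ∀ A : Subgroup X, A.Normal → (∀ a ∈ A, ∀ b ∈ A, a * b = b * a) → ∀ a ∈ A, IsScalar ρ a) :
    p ^ (Nat.card X).factorization p * Nat.card K ≤ Nat.card V :=
  bound_of_scalar_of_step p
    (fun φ hcyc hcop hcl hsq hP hφ hfix hne =>
      Helper99.BergerSP.sp_step p φ hcyc hcop hcl hsq hP hφ hfix hne) ρ hρ hsc

end Cfsg.Agent.Lib.Helper76.BergerScalar
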