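import Mathlib
import Cfsg.Agent.Lib.Helper94.Blk.Ex

set_option autoImplicit false
set_option linter.unusedSectionVars false

/-! helper76: local copies of [BLK-2A], [BLK-2A'] (used by Blk2B3 / Blk2B2). -/

namespace Cfsg.Agent.Lib.Helper76.Blk2ALoc

open Cfsg.Agent.Lib.Helper94 Cfsg.Agent.Lib.Helper94.SympData Cfsg.Agent.Lib.Helper94.Blk

variable {K V : Type*} [Field K] [AddCommGroup V] [Module K V] [FiniteDimensional K V]
  {t m : ℕ} {D : Fin t → Submodule K V}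

/-- [BLK-2A] centre in one member -/
theorem cross_of_center_mem (hD : LDecomp m D) (hm : 2 ≤ m) {M : Subgroup (V ≃ₗ[K] V)}
    (hNM : stabDec D ⊓ SLe K V ≤ M) {f : Module.Dual K V} {v : V} (h : TvIn M f v) {i j : Fin t}
    (hij : i ≠ j) (hv : v ∈ D i) (hv0 : v ≠ 0) {x : V} (hx : x ∈ D j) (hfx : f x ≠ 0) :
    CrossIn D M i j := by
  obtain ⟨φ', hφ', hφ'x, w, hw, hφ'w⟩ := exists_suppOn_ker hD hm j x
  have β : TvIn M φ' x := (hD.blockTv_mem hx hφ' hφ'x).mono hNM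
  have hz : φ' v = 0 := hφ' i hij v hv
  refine ⟨f x • φ', v, h.comm_left β hz, hv, hv0, hφ'.smul _, ?_⟩
  intro h0
  have := congrArg (fun g : Module.Dual K V => g w) h0
  simp only [LinearMap.smul_apply, hφ'w, smul_eq_mul, mul_one, LinearMap.zero_apply] at this
  exact hfx this

/-- [BLK-2A'] functional supported on one member -/
theorem cross_of_suppOn (hD : LDecomp m D) (hm : 2 ≤ m) {M : Subgroup (V ≃ₗ[K] V)}
    (hNM : stabDec D ⊓ SLe K V ≤ M) {f : Module.Dual K V} {v : V} (h : TvIn M f v) {i j : Fin t}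
    (hij : i ≠ j) (hf : SuppOn D f j) (hf0 : f ≠ 0) (hv : hD.pr i v ≠ 0) :
    CrossIn D M i j := by
  obtain ⟨φ', hφ', hφ'v⟩ := exists_suppOn_eq_one hD hv
  obtain ⟨u', hu', hu'0, hφ'u'⟩ := exists_mem_ker hD hm i φ'
  have β : TvIn M φ' u' := (hD.blockTv_mem hu' hφ' hφ'u').mono hNM
  have hz : f u' = 0 := hf i hij u' hu'
  have h1 := h.comm_right β hz
  rw [hφ'v] at h1
  refine ⟨-(1 : K) • f, u', h1, hu', hu'0, hf.smul _, ?_⟩
  intro h0
  apply hf0
  have : f = -((-(1 : K)) • f) := by module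
  rw [this, h0, neg_zero]

end Cfsg.Agent.Lib.Helper76.Blk2ALoc
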