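import Mathlib
import Cfsg.Agent.Lib.Helper94.Blk.Ex
import Cfsg.Agent.Lib.Helper76.Blk2ALoc

set_option autoImplicit false
set_option linter.unusedSectionVars false

namespace Cfsg.Agent.Lib.Helper76.Blk2B3

open Cfsg.Agent.Lib.Helper94 Cfsg.Agent.Lib.Helper94.SympData Cfsg.Agent.Lib.Helper94.Blk
open Cfsg.Agent.Lib.Helper76.Blk2ALoc

variable {K V : Type*} [Field K] [AddCommGroup V] [Module K V] [FiniteDimensional K V]
  {t m : ℕ} {D : Fin t → Submodule K V}

/-- the case "centre in one member" (shared with [BLK-2B2] (a)) -/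
theorem cross_of_mem (hD : LDecomp m D) (hm : 2 ≤ m) {M : Subgroup (V ≃ₗ[K] V)}
    (hNM : stabDec D ⊓ SLe K V ≤ M) {f : Module.Dual K V} {v : V} (h : TvIn M f v)
    (hv : v ≠ 0) (hnb : ¬ IsBlock D f v) {i : Fin t} (hvi : v ∈ D i) :
    ∃ i j, i ≠ j ∧ CrossIn D M i j := by
  have hns : ¬ SuppOn D f i := fun hs => hnb ⟨i, hvi, hs⟩
  unfold SuppOn at hns
  push Not at hns
  obtain ⟨l, hli, x, hx, hfx⟩ := hns
  exact ⟨i, l, fun h' => hli h'.symm,
    cross_of_center_mem hD hm hNM h (fun h' => hli h'.symm) hvi hv hx hfx⟩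

/-- a vector outside `D i` has a non-zero component at some other index -/
theorem exists_pr_ne_zero_of_not_mem (hD : LDecomp m D) {v : V} {i : Fin t} (hv : v ∉ D i) :
    ∃ i', i' ≠ i ∧ hD.pr i' v ≠ 0 := by
  by_contra hcon
  push Not at hcon
  exact hv (mem_of_pr_eq_zero hD hcon)

/-- **[BLK-2B3]** the case `m ≥ 3` -/
theorem exists_cross_of_three_le (hD : LDecomp m D) (hm : 3 ≤ m) {M : Subgroup (V ≃ₗ[K] V)}
    (hNM : stabDec D ⊓ SLe K V ≤ M) {f : Module.Dual K V} {v : V} (h : TvIn M f v)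
    (hf : f ≠ 0) (hv : v ≠ 0) (hnb : ¬ IsBlock D f v) : ∃ i j, i ≠ j ∧ CrossIn D M i j := by
  have hm2 : 2 ≤ m := by omega
  by_cases hmem : ∃ i, v ∈ D i
  · obtain ⟨i, hvi⟩ := hmem
    exact cross_of_mem hD hm2 hNM h hv hnb hvi
  · push Not at hmem
    obtain ⟨i, w, hw, hfw⟩ := exists_mem_apply_ne_zero hD hf
    obtain ⟨φ', hφ', hφ'w, hφ'v, w', hw', hφ'w'⟩ := exists_suppOn_ker_pair hD hm i w v
    have β : TvIn M φ' w := (hD.blockTv_mem hw hφ' hφ'w).mono hNM
    have h1 : TvIn M (f w • φ') v := h.comm_left β hφ'v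
    have h1ne : f w • φ' ≠ 0 := by
      intro h0
      have := congrArg (fun g : Module.Dual K V => g w') h0
      simp only [LinearMap.smul_apply, hφ'w', smul_eq_mul, mul_one, LinearMap.zero_apply] at this
      exact hfw this
    obtain ⟨i', hi'i, hi'v⟩ := exists_pr_ne_zero_of_not_mem hD (hmem i)
    exact ⟨i', i, hi'i, cross_of_suppOn hD hm2 hNM h1 hi'i (hφ'.smul _) h1ne hi'v⟩

end Cfsg.Agent.Lib.Helper76.Blk2B3
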