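import Mathlib
import Cfsg.Agent.Lib.Helper94.Blk.Ex
import Cfsg.Agent.Lib.Helper76.Blk2ALoc
import Cfsg.Agent.Lib.Helper76.Blk2B3

set_option autoImplicit false
set_option linter.unusedSectionVars false

namespace Cfsg.Agent.Lib.Helper76.Blk2B2

open Cfsg.Agent.Lib.Helper94 Cfsg.Agent.Lib.Helper94.SympData Cfsg.Agent.Lib.Helper94.Blk
open Cfsg.Agent.Lib.Helper76.Blk2ALoc Cfsg.Agent.Lib.Helper76.Blk2B3

variable {K V : Type*} [Field K] [AddCommGroup V] [Module K V] [FiniteDimensional K V]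
  {t m : ℕ} {D : Fin t → Submodule K V}

/-- case (b-ii): a non-zero component `v_j` with `f` vanishing on `D j` (also used by [BLK-2C]) -/
theorem cross_of_comp_ker (hD : LDecomp m D) (hm : 2 ≤ m) {M : Subgroup (V ≃ₗ[K] V)}
    (hNM : stabDec D ⊓ SLe K V ≤ M) {f : Module.Dual K V} {v : V} (h : TvIn M f v)
    (hf : f ≠ 0) {j : Fin t} (hvj : hD.pr j v ≠ 0) (hfj : ∀ x ∈ D j, f x = 0) :
    ∃ i j, i ≠ j ∧ CrossIn D M i j := by
  obtain ⟨φ', hφ', hφ'v⟩ := exists_suppOn_eq_one hD hvj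
  obtain ⟨u', hu', hu'0, hφ'u'⟩ := exists_mem_ker hD hm j φ'
  have β : TvIn M φ' u' := (hD.blockTv_mem hu' hφ' hφ'u').mono hNM
  have h1 := h.comm_right β (hfj u' hu')
  rw [hφ'v] at h1
  obtain ⟨j', x, hx, hfx⟩ := exists_mem_apply_ne_zero hD hf
  have hj'j : j' ≠ j := by
    rintro rfl
    exact hfx (hfj x hx)
  refine ⟨j, j', fun h' => hj'j h'.symm,
    cross_of_center_mem hD hm hNM h1 (fun h' => hj'j h'.symm) hu' hu'0 hx ?_⟩
  rw [LinearMap.smul_apply, smul_eq_mul, neg_one_mul, neg_ne_zero]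
  exact hfx

/-- **[BLK-2B2]** the easy cases for any `m ≥ 2` -/
theorem exists_cross_of_easy (hD : LDecomp m D) (hm : 2 ≤ m) {M : Subgroup (V ≃ₗ[K] V)}
    (hNM : stabDec D ⊓ SLe K V ≤ M) {f : Module.Dual K V} {v : V} (h : TvIn M f v)
    (hf : f ≠ 0) (hv : v ≠ 0) (hnb : ¬ IsBlock D f v)
    (hcase : (∃ i, v ∈ D i) ∨ (∃ j, SuppOn D f j) ∨
      (∃ i, (∃ x ∈ D i, f x ≠ 0) ∧ hD.pr i v = 0) ∨
      (∃ j, hD.pr j v ≠ 0 ∧ ∀ x ∈ D j, f x = 0) ∨
      (∃ i, f (hD.pr i v) ≠ 0)) : ∃ i j, i ≠ j ∧ CrossIn D M i j := by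
  rcases hcase with ⟨i, hvi⟩ | ⟨j, hfj⟩ | ⟨i, ⟨x, hx, hfx⟩, hvi0⟩ | ⟨j, hvj, hfj⟩ | ⟨i, hfvi⟩
  · -- (a)
    exact cross_of_mem hD hm hNM h hv hnb hvi
  · -- (a')
    have hvj : v ∉ D j := fun hvj => hnb ⟨j, hvj, hfj⟩
    obtain ⟨i, hij, hiv⟩ := exists_pr_ne_zero_of_not_mem hD hvj
    exact ⟨i, j, hij, cross_of_suppOn hD hm hNM h hij hfj hf hiv⟩
  · -- (b-i)
    obtain ⟨φ', hφ', hφ'x, w, hw, hφ'w⟩ := exists_suppOn_ker hD hm i x
    have hφ'v : φ' v = 0 := by rw [hD.apply_eq_of_suppOn hφ' v, hvi0, map_zero]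
    have β : TvIn M φ' x := (hD.blockTv_mem hx hφ' hφ'x).mono hNM
    have h1 : TvIn M (f x • φ') v := h.comm_left β hφ'v
    have h1ne : f x • φ' ≠ 0 := by
      intro h0
      have := congrArg (fun g : Module.Dual K V => g w) h0
      simp only [LinearMap.smul_apply, hφ'w, smul_eq_mul, mul_one, LinearMap.zero_apply] at this
      exact hfx this
    obtain ⟨i', hi'v⟩ := exists_pr_ne_zero hD hv
    have hi'i : i' ≠ i := by
      rintro rfl
      exact hi'v hvi0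
    exact ⟨i', i, hi'i, cross_of_suppOn hD hm hNM h1 hi'i (hφ'.smul _) h1ne hi'v⟩
  · -- (b-ii)
    exact cross_of_comp_ker hD hm hNM h hf hvj hfj
  · -- (b-iii-1)
    obtain ⟨φ', hφ', hφ'vi, w, hw, hφ'w⟩ := exists_suppOn_ker hD hm i (hD.pr i v)
    have hφ'v : φ' v = 0 := by rw [hD.apply_eq_of_suppOn hφ' v, hφ'vi]
    have β : TvIn M φ' (hD.pr i v) := (hD.blockTv_mem (hD.pr_mem i v) hφ' hφ'vi).mono hNM
    have h1 : TvIn M (f (hD.pr i v) • φ') v := h.comm_left β hφ'v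
    have h1ne : f (hD.pr i v) • φ' ≠ 0 := by
      intro h0
      have := congrArg (fun g : Module.Dual K V => g w) h0
      simp only [LinearMap.smul_apply, hφ'w, smul_eq_mul, mul_one, LinearMap.zero_apply] at this
      exact hfvi this
    by_cases hvi : v ∈ D i
    · exact cross_of_mem hD hm hNM h hv hnb hvi
    · obtain ⟨i', hi'i, hi'v⟩ := exists_pr_ne_zero_of_not_mem hD hvi
      exact ⟨i', i, hi'i, cross_of_suppOn hD hm hNM h1 hi'i (hφ'.smul _) h1ne hi'v⟩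

end Cfsg.Agent.Lib.Helper76.Blk2B2
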