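import Mathlib
import Cfsg.Agent.Lib.Helper94.Blk.Core

set_option autoImplicit false
set_option linter.unusedSectionVars false

namespace Cfsg.Agent.Lib.Helper76.Blk3D

open Cfsg.Agent.Lib.Helper94 Cfsg.Agent.Lib.Helper94.SympData Cfsg.Agent.Lib.Helper94.Blk

variable {K V : Type*} [Field K] [AddCommGroup V] [Module K V] [FiniteDimensional K V]
  {t m : ℕ} {D : Fin t → Submodule K V}

/-- a functional with value one at a given non-zero vector -/
theorem exists_dual_eq_one {w : V} (hw : w ≠ 0) : ∃ ψ : Module.Dual K V, ψ w = 1 := by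
  have hw' : w ∉ (⊥ : Submodule K V) := by simpa using hw
  obtain ⟨f, hf, -⟩ := Submodule.exists_dual_map_eq_bot_of_notMem hw' inferInstance
  refine ⟨(f w)⁻¹ • f, ?_⟩
  rw [LinearMap.smul_apply, smul_eq_mul, inv_mul_cancel₀ hf]

/-- X2 (local copy) -/
theorem exists_suppOn_eq_one (hD : LDecomp m D) {i : Fin t} {u : V} (hu : hD.pr i u ≠ 0) :
    ∃ f : Module.Dual K V, SuppOn D f i ∧ f u = 1 := by
  obtain ⟨ψ, hψ⟩ := exists_dual_eq_one (K := K) hu
  exact ⟨ψ ∘ₗ hD.pr i, hD.suppOn_comp_pr ψ i, by rw [LinearMap.comp_apply, hψ]⟩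

/-- Step 1: centres inside one member -/
theorem tv_of_mem (hD : LDecomp m D) {M : Subgroup (V ≃ₗ[K] V)}
    (hNM : stabDec D ⊓ SLe K V ≤ M)
    (hall : ∀ i j, i ≠ j → ∀ v ∈ D i, ∀ f : Module.Dual K V, SuppOn D f j → TvIn M f v)
    {i : Fin t} {v : V} (hv : v ∈ D i) (f : Module.Dual K V) (hfv : f v = 0) : TvIn M f v := by
  classical
  have hl : ∀ l, TvIn M (f ∘ₗ hD.pr l) v := by
    intro l
    by_cases hli : l = i
    · subst hli
      apply TvIn.mono hNM
      apply hD.blockTv_mem hv (hD.suppOn_comp_pr f l)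
      rw [hD.comp_pr_apply_of_mem f hv, hfv]
    · exact hall i l (fun h => hli h.symm) v hv _ (hD.suppOn_comp_pr f l)
  have hS : ∀ S : Finset (Fin t), TvIn M (∑ l ∈ S, f ∘ₗ hD.pr l) v := by
    intro S
    induction S using Finset.induction_on with
    | empty => rw [Finset.sum_empty]; exact TvIn.zero_left M v
    | insert a S ha ih => rw [Finset.sum_insert ha]; exact (hl a).add_left ih
  have := hS Finset.univ
  rwa [hD.sum_comp_pr f] at this

/-- **[BLK-3D]** -/
theorem all_tv_of_cross_all (hD : LDecomp m D) {M : Subgroup (V ≃ₗ[K] V)}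
    (hNM : stabDec D ⊓ SLe K V ≤ M)
    (hall : ∀ i j, i ≠ j → ∀ v ∈ D i, ∀ f : Module.Dual K V, SuppOn D f j → TvIn M f v) :
    ∀ (f : Module.Dual K V) (v : V), f v = 0 → TvIn M f v := by
  classical
  intro f v hfv
  by_cases hv0 : v = 0
  · rw [hv0]; exact TvIn.zero_right M f
  -- a non-zero component
  obtain ⟨i, hi⟩ : ∃ i, hD.pr i v ≠ 0 := by
    by_contra hcon
    push Not at hcon
    exact hv0 (hD.eq_zero_of_pr hcon)
  obtain ⟨φ, hφ, hφv⟩ := exists_suppOn_eq_one hD hi
  have hφvi : φ (hD.pr i v) = 1 := by rw [← hD.apply_eq_of_suppOn hφ v, hφv]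
  -- the transvection with functional `φ` and centre `w = v_i - v`
  have hw : TvIn M φ (hD.pr i v - v) := by
    have hsum : hD.pr i v - v = ∑ l ∈ Finset.univ.erase i, -(hD.pr l v) := by
      have h1 := Finset.add_sum_erase Finset.univ (fun l => hD.pr l v) (Finset.mem_univ i)
      rw [hD.sum_pr v] at h1
      rw [Finset.sum_neg_distrib]
      have h2 : ∑ l ∈ Finset.univ.erase i, hD.pr l v = v - hD.pr i v :=
        eq_sub_of_add_eq' h1
      rw [h2]; abel
    rw [hsum]
    have hS : ∀ S : Finset (Fin t), (∀ l ∈ S, l ≠ i) → TvIn M φ (∑ l ∈ S, -(hD.pr l v)) := by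
      intro S
      induction S using Finset.induction_on with
      | empty => intro _; rw [Finset.sum_empty]; exact TvIn.zero_right M φ
      | insert a S ha ih =>
        intro hne
        rw [Finset.sum_insert ha]
        apply TvIn.add_right
        · exact hall a i (hne a (Finset.mem_insert_self a S)) _
            ((D a).neg_mem (hD.pr_mem a v)) φ hφ
        · exact ih (fun l hl => hne l (Finset.mem_insert_of_mem hl))
    exact hS _ (fun l hl => Finset.ne_of_mem_erase hl)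
  -- the element `g = h⁻¹` of `M` maps `v_i` to `v`
  obtain ⟨hφw, hmem⟩ := hw
  obtain ⟨g, hg⟩ : ∃ g : V ≃ₗ[K] V, g = (LinearEquiv.transvection hφw)⁻¹ := ⟨_, rfl⟩
  have hgM : g ∈ M := by rw [hg]; exact M.inv_mem hmem
  have hgvi : g (hD.pr i v) = v := by
    rw [hg, tv_inv_apply, hφvi, one_smul]; abel
  have h1 : TvIn M (f ∘ₗ ((g : V ≃ₗ[K] V) : V →ₗ[K] V)) (hD.pr i v) := by
    apply tv_of_mem hD hNM hall (hD.pr_mem i v)
    rw [LinearMap.comp_apply, LinearEquiv.coe_coe, hgvi, hfv]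
  have h2 := h1.conj hgM
  have hcomp : (f ∘ₗ ((g : V ≃ₗ[K] V) : V →ₗ[K] V)) ∘ₗ ((g⁻¹ : V ≃ₗ[K] V) : V →ₗ[K] V) = f := by
    apply LinearMap.ext
    intro x
    rw [LinearMap.comp_apply, LinearMap.comp_apply, LinearEquiv.coe_coe, LinearEquiv.coe_coe,
      ← LinearEquiv.mul_apply, mul_inv_cancel]
    rfl
  rw [hcomp, hgvi] at h2
  exact h2

end Cfsg.Agent.Lib.Helper76.Blk3D
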