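import Mathlib

/-!
# The commutator homomorphism `a ↦ [x,a]` on an abelian normal subgroup

For `A` an abelian normal subgroup of `G` and `x : G`, `a ↦ x a x⁻¹ a⁻¹` is a homomorphism `A →* G`.
If `G = A⟨x⟩` its range is the derived subgroup of `G`.
-/

namespace Cfsg.Agent.Lib.Helper76

open Subgroup

variable {G : Type*} [Group G]

/-- For `A` an abelian normal subgroup and `x : G`, the map `a ↦ x a x⁻¹ a⁻¹`, as a hom `A →* G`. -/
def commHom (A : Subgroup G) [hn : A.Normal] (hA : ∀ a ∈ A, ∀ b ∈ A, a * b = b * a) (x : G) :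
    A →* G where
  toFun a := x * a * x⁻¹ * (a : G)⁻¹
  map_one' := by simp
  map_mul' a b := by
    have h2 : x * b * x⁻¹ ∈ A := hn.conj_mem b b.2 x
    have h3 : (a : G)⁻¹ * (x * b * x⁻¹) = (x * b * x⁻¹) * (a : G)⁻¹ :=
      hA _ (A.inv_mem a.2) _ h2
    have h4 : (a : G) * b = b * a := hA _ a.2 _ b.2
    have h5 : ((a : G) * b)⁻¹ = (a : G)⁻¹ * (b : G)⁻¹ := by rw [h4, mul_inv_rev]
    calc x * ((a * b : A) : G) * x⁻¹ * ((a * b : A) : G)⁻¹
        = x * a * x⁻¹ * ((x * b * x⁻¹) * (a : G)⁻¹) * (b : G)⁻¹ := by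
          rw [Subgroup.coe_mul, h5]; group
      _ = x * a * x⁻¹ * ((a : G)⁻¹ * (x * b * x⁻¹)) * (b : G)⁻¹ := by rw [h3]
      _ = x * a * x⁻¹ * (a : G)⁻¹ * (x * b * x⁻¹ * (b : G)⁻¹) := by group

@[simp] theorem commHom_apply (A : Subgroup G) [A.Normal] (hA : ∀ a ∈ A, ∀ b ∈ A, a * b = b * a)
    (x : G) (a : A) : commHom A hA x a = x * a * x⁻¹ * (a : G)⁻¹ := rfl

theorem commHom_mem (A : Subgroup G) [hn : A.Normal] (hA : ∀ a ∈ A, ∀ b ∈ A, a * b = b * a)
    (x : G) (a : A) : commHom A hA x a ∈ A :=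
  A.mul_mem (hn.conj_mem a a.2 x) (A.inv_mem a.2)

theorem range_commHom_le (A : Subgroup G) [A.Normal] (hA : ∀ a ∈ A, ∀ b ∈ A, a * b = b * a)
    (x : G) : (commHom A hA x).range ≤ A := by
  rintro _ ⟨a, rfl⟩
  exact commHom_mem A hA x a

theorem mem_ker_commHom (A : Subgroup G) [A.Normal] (hA : ∀ a ∈ A, ∀ b ∈ A, a * b = b * a)
    (x : G) (a : A) : a ∈ (commHom A hA x).ker ↔ x * a = a * x := by
  rw [MonoidHom.mem_ker, commHom_apply]
  constructor
  · intro h
    have : x * a * x⁻¹ = a := by rwa [mul_inv_eq_one] at h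
    calc x * (a : G) = (x * a * x⁻¹) * x := by group
      _ = a * x := by rw [this]
  · intro h
    rw [h]; group

theorem range_commHom_normal (A : Subgroup G) [hn : A.Normal]
    (hA : ∀ a ∈ A, ∀ b ∈ A, a * b = b * a) (x : G) (hx : A ⊔ zpowers x = ⊤) :
    (commHom A hA x).range.Normal := by
  set R := (commHom A hA x).range with hR
  have hRA : R ≤ A := range_commHom_le A hA x
  have h1 : A ≤ normalizer (R : Set G) := by
    intro g hg
    rw [mem_normalizer_iff]
    intro h
    by_cases hh : h ∈ A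
    · have : g * h * g⁻¹ = h := by
        rw [hA g hg h hh]; group
      rw [this]
    · constructor
      · intro h'; exact absurd (hRA h') hh
      · intro h'
        exfalso; apply hh
        have h2 := hn.conj_mem _ (hRA h') g⁻¹
        have : g⁻¹ * (g * h * g⁻¹) * g⁻¹⁻¹ = h := by group
        rwa [this] at h2
  have key : ∀ a : A, x * (commHom A hA x a) * x⁻¹ ∈ R := by
    intro a
    refine ⟨⟨x * a * x⁻¹, hn.conj_mem a a.2 x⟩, ?_⟩
    simp only [commHom_apply]
    group
  have key' : ∀ a : A, x⁻¹ * (commHom A hA x a) * x ∈ R := by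
    intro a
    refine ⟨⟨x⁻¹ * a * x, by simpa using hn.conj_mem a a.2 x⁻¹⟩, ?_⟩
    simp only [commHom_apply]
    group
  have h2 : x ∈ normalizer (R : Set G) := by
    rw [mem_normalizer_iff]
    intro h
    constructor
    · rintro ⟨a, rfl⟩; exact key a
    · rintro ⟨a, ha⟩
      have := key' a
      rw [ha] at this
      have e : x⁻¹ * (x * h * x⁻¹) * x = h := by group
      rwa [e] at this
  have h3 : normalizer (R : Set G) = ⊤ := by
    rw [eq_top_iff, ← hx]
    exact sup_le h1 (by rw [zpowers_le]; exact h2)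
  exact normalizer_eq_top_iff.mp h3

/-- If `G = A⟨x⟩` with `A` abelian normal, then `G' = {[x,a] : a ∈ A}`. -/
theorem range_commHom (A : Subgroup G) [hn : A.Normal]
    (hA : ∀ a ∈ A, ∀ b ∈ A, a * b = b * a) (x : G) (hx : A ⊔ zpowers x = ⊤) :
    (commHom A hA x).range = commutator G := by
  apply le_antisymm
  · rintro _ ⟨a, rfl⟩
    rw [commHom_apply, ← commutatorElement_def, commutator_def]
    exact commutator_mem_commutator (mem_top x) (mem_top _)
  · have := range_commHom_normal A hA x hx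
    set R := (commHom A hA x).range with hR
    rw [← Subgroup.Normal.quotient_commutative_iff_commutator_le]
    -- the quotient is generated by commuting elements
    let k : Set (G ⧸ R) := (QuotientGroup.mk' R) '' ((A : Set G) ∪ {x})
    have hk : closure k = ⊤ := by
      rw [← MonoidHom.map_closure, Subgroup.closure_union, closure_eq, ← zpowers_eq_closure, hx,
        ← MonoidHom.range_eq_map, MonoidHom.range_eq_top]
      exact QuotientGroup.mk'_surjective R
    have hxa : ∀ a ∈ A, (QuotientGroup.mk' R x) * (QuotientGroup.mk' R a)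
        = (QuotientGroup.mk' R a) * (QuotientGroup.mk' R x) := by
      intro a ha
      rw [← commutatorElement_eq_one_iff_mul_comm, ← map_commutatorElement,
        QuotientGroup.mk'_apply, QuotientGroup.eq_one_iff, commutatorElement_def]
      exact ⟨⟨a, ha⟩, rfl⟩
    have hcomm : ∀ u ∈ k, ∀ v ∈ k, u * v = v * u := by
      rintro _ ⟨u, hu, rfl⟩ _ ⟨v, hv, rfl⟩
      rcases hu with hu | hu <;> rcases hv with hv | hv
      · rw [← map_mul, ← map_mul, hA u hu v hv]
      · rw [Set.mem_singleton_iff] at hv; subst hv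
        exact (hxa u hu).symm
      · rw [Set.mem_singleton_iff] at hu; subst hu
        exact hxa v hv
      · rw [Set.mem_singleton_iff] at hu hv; subst hu; subst hv; rfl
    have hc := isMulCommutative_closure hcomm
    refine ⟨⟨fun u v => ?_⟩⟩
    have hu : u ∈ closure k := by rw [hk]; exact mem_top u
    have hv : v ∈ closure k := by rw [hk]; exact mem_top v
    have := hc.is_comm.comm ⟨u, hu⟩ ⟨v, hv⟩
    exact congrArg Subtype.val this

/-- If `G = A⟨x⟩` is finite with `A` abelian normal, then `|G'| · |C_A(x)| = |A|`. -/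
theorem card_commutator_mul_card_ker (A : Subgroup G) [Finite G] [hn : A.Normal]
    (hA : ∀ a ∈ A, ∀ b ∈ A, a * b = b * a) (x : G) (hx : A ⊔ zpowers x = ⊤) :
    Nat.card (commutator G) * Nat.card (commHom A hA x).ker = Nat.card A := by
  rw [← range_commHom A hA x hx, ← Subgroup.index_ker, mul_comm]
  exact Subgroup.card_mul_index _

end Cfsg.Agent.Lib.Helper76
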