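import Mathlib
import Cfsg.Agent.Lib.Helper46.DihOrdDefs
import Cfsg.Agent.Lib.Helper1.Fitting
import Cfsg.Agent.S0514

/-!
# Module `S4482-[CZ]` (helper76, for helper46's S4482 project, board #4033)

`C_G(z) = O(C_G(z)) : P` for the central involution `z` of a dihedral Sylow 2-subgroup `P`.
-/

set_option autoImplicit false
open Cfsg Cfsg.Agent.Lib.Helper46.DihOrd

namespace Cfsg.Agent.Lib.Helper76.DihOrd

/-- a normal subgroup of odd order and `2`-power index is the `2'`-core -/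
theorem pPrimeCore_two_eq {H : Type*} [Group H] [Finite H] (M : Subgroup H) [M.Normal]
    (hodd : Odd (Nat.card M)) (hidx : ∃ k : ℕ, M.index = 2 ^ k) : pPrimeCore 2 H = M := by
  apply le_antisymm
  · intro q hq
    have hcop : (Nat.card (pPrimeCore 2 H)).Coprime 2 :=
      Cfsg.Agent.Lib.Helper1.pPrimeCore_card_coprime 2
    obtain ⟨k, hk⟩ := hidx
    have h1 : orderOf (QuotientGroup.mk q : H ⧸ M) ∣ 2 ^ k := by
      rw [← hk]; exact orderOf_dvd_natCard _
    have h2 : orderOf (QuotientGroup.mk q : H ⧸ M) ∣ Nat.card (pPrimeCore 2 H) := by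
      have h3 : orderOf (QuotientGroup.mk q : H ⧸ M) ∣ orderOf q :=
        orderOf_map_dvd (QuotientGroup.mk' M) q
      have h4 := orderOf_dvd_natCard (⟨q, hq⟩ : pPrimeCore 2 H)
      rw [Subgroup.orderOf_mk] at h4
      exact h3.trans h4
    have h5 : orderOf (QuotientGroup.mk q : H ⧸ M) = 1 :=
      Nat.eq_one_of_dvd_coprimes (Nat.Coprime.pow_right k hcop) h2 h1
    exact (QuotientGroup.eq_one_iff q).mp (orderOf_eq_one_iff.mp h5)
  · exact Cfsg.Agent.Lib.Helper1.le_pPrimeCore inferInstance (Nat.coprime_two_right.mpr hodd)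

variable {G : Type*} [Group G]

theorem zz_mul_self {n : ℕ} {σ : G} (hn : 3 ≤ n) (hσo : orderOf σ = 2 ^ (n - 1)) :
    zz n σ * zz n σ = 1 := by
  unfold zz
  rw [← pow_add]
  have : 2 ^ (n - 2) + 2 ^ (n - 2) = 2 ^ (n - 1) := by
    have e : n - 1 = (n - 2) + 1 := by omega
    rw [e, pow_succ]; ring
  rw [this, ← hσo, pow_orderOf_eq_one]

theorem zz_ne_one {n : ℕ} {σ : G} (hn : 3 ≤ n) (hσo : orderOf σ = 2 ^ (n - 1)) :
    zz n σ ≠ 1 := by
  unfold zz
  apply pow_ne_one_of_lt_orderOf (by positivity)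
  rw [hσo]
  exact Nat.pow_lt_pow_right (by norm_num) (by omega)

theorem orderOf_zz {n : ℕ} {σ : G} (hn : 3 ≤ n) (hσo : orderOf σ = 2 ^ (n - 1)) :
    orderOf (zz n σ) = 2 := by
  have : Fact (Nat.Prime 2) := ⟨Nat.prime_two⟩
  apply orderOf_eq_prime
  · rw [pow_two]; exact zz_mul_self hn hσo
  · exact zz_ne_one hn hσo

theorem closure_le_centralizer_zz {n : ℕ} {σ τ : G} (hn : 3 ≤ n)
    (hσo : orderOf σ = 2 ^ (n - 1)) (hrel : τ * σ * τ⁻¹ = σ⁻¹) :
    Subgroup.closure ({σ, τ} : Set G) ≤ Subgroup.centralizer ({zz n σ} : Set G) := by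
  rw [Subgroup.closure_le]
  intro g hg
  rw [SetLike.mem_coe, Subgroup.mem_centralizer_iff]
  intro y hy
  rw [Set.mem_singleton_iff] at hy
  rw [hy]
  rcases hg with hg | hg
  · rw [hg]; unfold zz
    exact (pow_mul_comm' σ _).symm ▸ rfl
  · rw [Set.mem_singleton_iff] at hg
    rw [hg]
    have h1 : τ * zz n σ * τ⁻¹ = (zz n σ)⁻¹ := by
      unfold zz
      rw [← conj_pow, hrel, inv_pow]
    have h2 : (zz n σ)⁻¹ = zz n σ := by
      rw [inv_eq_iff_mul_eq_one]; exact zz_mul_self hn hσo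
    rw [h2] at h1
    calc zz n σ * τ = τ * zz n σ * τ⁻¹ * τ := by rw [h1]
      _ = τ * zz n σ := by group

theorem cz_facts_of [Finite G] {n : ℕ} {P : Sylow 2 G} {σ τ : G} (h : Ctx n P σ τ)
    (hiso : Nonempty ((P : Subgroup G) ≃* DihedralGroup (2 ^ (n - 1)))) :
    (P : Subgroup G) ≤ Subgroup.centralizer ({zz n σ} : Set G) ∧
    (∀ g ∈ Subgroup.centralizer ({zz n σ} : Set G), ∀ k ∈ centralizerPPrimeCore 2 (zz n σ),
      g * k * g⁻¹ ∈ centralizerPPrimeCore 2 (zz n σ)) ∧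
    Odd (Nat.card (centralizerPPrimeCore 2 (zz n σ))) ∧
    Nat.card (Subgroup.centralizer ({zz n σ} : Set G)) =
      2 ^ n * Nat.card (centralizerPPrimeCore 2 (zz n σ)) ∧
    (∀ g ∈ Subgroup.centralizer ({zz n σ} : Set G), ∃ k ∈ centralizerPPrimeCore 2 (zz n σ),
      ∃ q ∈ (P : Subgroup G), g = k * q) ∧
    (pPrimeCore 2 (Subgroup.centralizer ({zz n σ} : Set G))).index = 2 ^ n := by
  have hn := h.hn
  have hPz : (P : Subgroup G) ≤ Subgroup.centralizer ({zz n σ} : Set G) := by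
    rw [← h.hgen]; exact closure_le_centralizer_zz hn h.hσo h.hrel
  have hzo := orderOf_zz hn h.hσo
  have hn2 : 2 ≤ 2 ^ (n - 1) := by
    calc 2 = 2 ^ 1 := (pow_one 2).symm
      _ ≤ 2 ^ (n - 1) := Nat.pow_le_pow_right (by norm_num) (by omega)
  obtain ⟨N, hNn, hNodd, k, hk⟩ := Cfsg.Agent.S0514.result P (2 ^ (n - 1)) hn2 hiso (zz n σ) hzo
  have := hNn
  have hcore : pPrimeCore 2 (Subgroup.centralizer ({zz n σ} : Set G)) = N :=
    pPrimeCore_two_eq N hNodd ⟨k, hk⟩
  -- `|P| = 2 ^ n`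
  have hPcard : Nat.card (P : Subgroup G) = 2 ^ n := by
    obtain ⟨e⟩ := hiso
    rw [Nat.card_congr e.toEquiv, DihedralGroup.nat_card]
    have e1 : n = (n - 1) + 1 := by omega
    conv_rhs => rw [e1, pow_succ]
    ring
  have hCcard : Nat.card N * 2 ^ k = Nat.card (Subgroup.centralizer ({zz n σ} : Set G)) := by
    rw [← hk]; exact Subgroup.card_mul_index N
  have hNcop : (Nat.card N).Coprime 2 := Nat.coprime_two_right.mpr hNodd
  -- `k = n`
  have hkn : k = n := by
    apply le_antisymm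
    · have h1 : 2 ^ k ∣ Nat.card G := by
        have h2 : 2 ^ k ∣ Nat.card (Subgroup.centralizer ({zz n σ} : Set G)) :=
          Dvd.intro_left _ hCcard
        exact h2.trans (Subgroup.card_subgroup_dvd_card _)
      have h3 : Nat.card (P : Subgroup G) = 2 ^ (Nat.card G).factorization 2 :=
        P.card_eq_multiplicity
      rw [hPcard] at h3
      have h4 : n = (Nat.card G).factorization 2 := Nat.pow_right_injective (le_refl 2) h3
      rw [h4]
      exact (Nat.prime_two.pow_dvd_iff_le_factorization Nat.card_pos.ne').mp h1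
    · have h1 : 2 ^ n ∣ Nat.card N * 2 ^ k := by
        rw [hCcard, ← hPcard]; exact Subgroup.card_dvd_of_le hPz
      have h2 : 2 ^ n ∣ 2 ^ k :=
        (Nat.Coprime.pow_left n hNcop.symm).dvd_of_dvd_mul_left h1
      exact (Nat.pow_dvd_pow_iff_le_right (le_refl 2)).mp h2
  rw [hkn] at hk hCcard
  have hmapcard : Nat.card (centralizerPPrimeCore 2 (zz n σ)) = Nat.card N := by
    unfold centralizerPPrimeCore
    rw [hcore]
    exact Nat.card_congr (N.equivMapOfInjective _ (Subgroup.subtype_injective _)).symm.toEquiv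
  have hmem : ∀ g : G, g ∈ centralizerPPrimeCore 2 (zz n σ) ↔
      ∃ hg : g ∈ Subgroup.centralizer ({zz n σ} : Set G), (⟨g, hg⟩ : Subgroup.centralizer ({zz n σ} : Set G)) ∈ N := by
    intro g
    unfold centralizerPPrimeCore
    rw [hcore, Subgroup.mem_map]
    constructor
    · rintro ⟨x, hx, rfl⟩
      exact ⟨x.2, hx⟩
    · rintro ⟨hg, hx⟩
      exact ⟨⟨g, hg⟩, hx, rfl⟩
  refine ⟨hPz, ?_, ?_, ?_, ?_, ?_⟩
  · intro g hg c hc
    obtain ⟨hcC, hcN⟩ := (hmem c).mp hc
    rw [hmem]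
    refine ⟨Subgroup.mul_mem _ (Subgroup.mul_mem _ hg hcC) (Subgroup.inv_mem _ hg), ?_⟩
    exact hNn.conj_mem _ hcN ⟨g, hg⟩
  · rw [hmapcard]; exact hNodd
  · rw [hmapcard, ← hCcard, mul_comm]
  · intro g hg
    set P' : Subgroup (Subgroup.centralizer ({zz n σ} : Set G)) :=
      (P : Subgroup G).subgroupOf (Subgroup.centralizer ({zz n σ} : Set G)) with hP'
    have hP'card : Nat.card P' = 2 ^ n := by
      rw [← hPcard]
      exact Nat.card_congr (Subgroup.subgroupOfEquivOfLe hPz).toEquiv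
    have hcompl : Subgroup.IsComplement' N P' := by
      apply Subgroup.isComplement'_of_coprime
      · rw [hP'card]; exact hCcard
      · rw [hP'card]; exact Nat.Coprime.pow_right n hNcop
    obtain ⟨⟨a, b⟩, hab⟩ := hcompl.2 (⟨g, hg⟩ : Subgroup.centralizer ({zz n σ} : Set G))
    have hab' : ((a : Subgroup.centralizer ({zz n σ} : Set G)) : G) *
        ((b : Subgroup.centralizer ({zz n σ} : Set G)) : G) = g := by
      have := congrArg Subtype.val hab
      simpa using this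
    refine ⟨_, (hmem _).mpr ⟨(a : Subgroup.centralizer ({zz n σ} : Set G)).2, a.2⟩, _, ?_, hab'.symm⟩
    have hb : (b : Subgroup.centralizer ({zz n σ} : Set G)) ∈
        (P : Subgroup G).subgroupOf (Subgroup.centralizer ({zz n σ} : Set G)) := b.2
    exact Subgroup.mem_subgroupOf.mp hb
  · rw [hcore]; exact hk

end Cfsg.Agent.Lib.Helper76.DihOrd
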