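import Mathlib
import Cfsg.Agent.Lib.Helper46.DihOrdDefs
import Cfsg.Agent.Lib.Helper76.DihOrdCZ
import Cfsg.Agent.Lib.Helper55.DihOrdDih

/-!
# Module `S4482-[CS]` (helper76, for helper46's S4482 project, board #4033)

`C_G(σ) = (O(C_G(z)) ∩ C_G(σ)) : ⟨σ⟩` and `O(C_G(σ)) = O(C_G(z)) ∩ C_G(σ)`.
-/

set_option autoImplicit false
open Cfsg Cfsg.Agent.Lib.Helper46.DihOrd

namespace Cfsg.Agent.Lib.Helper76.DihOrd

variable {G : Type*} [Group G]

theorem centralizer_le_centralizer_zz (n : ℕ) (σ : G) :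
    Subgroup.centralizer ({σ} : Set G) ≤ Subgroup.centralizer ({zz n σ} : Set G) := by
  intro g hg
  rw [Subgroup.mem_centralizer_iff] at hg ⊢
  intro y hy
  rw [Set.mem_singleton_iff] at hy
  rw [hy]
  have h1 : σ * g = g * σ := hg σ rfl
  unfold zz
  exact (Commute.pow_left (show Commute σ g from h1) _).eq

theorem cs_facts_of [Finite G] {n : ℕ} {P : Sylow 2 G} {σ τ : G} (h : Ctx n P σ τ)
    (hiso : Nonempty ((P : Subgroup G) ≃* DihedralGroup (2 ^ (n - 1))))
    (hP : ∀ g ∈ (P : Subgroup G), ∃ i : ℕ, g = σ ^ i ∨ g = σ ^ i * τ) :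
    (pPrimeCore 2 (Subgroup.centralizer ({σ} : Set G))).index = 2 ^ (n - 1) ∧
    centralizerPPrimeCore 2 σ =
      centralizerPPrimeCore 2 (zz n σ) ⊓ Subgroup.centralizer ({σ} : Set G) := by
  obtain ⟨hPz, hKn, hKodd, _, hfac, _⟩ := cz_facts_of h hiso
  have hn := h.hn
  have hCC := centralizer_le_centralizer_zz n σ
  have hσσ : σ ∈ Subgroup.centralizer ({σ} : Set G) := by
    rw [Subgroup.mem_centralizer_iff]
    intro y hy
    rw [Set.mem_singleton_iff] at hy
    rw [hy]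
  have hσz : σ ∈ Subgroup.centralizer ({zz n σ} : Set G) := hCC hσσ
  have hcomm : ∀ g ∈ Subgroup.centralizer ({σ} : Set G), σ * g = g * σ := by
    intro g hg
    exact (Subgroup.mem_centralizer_iff.mp hg) σ rfl
  -- `K ∩ P = 1`
  have hKP : ∀ c : G, c ∈ centralizerPPrimeCore 2 (zz n σ) → c ∈ (P : Subgroup G) → c = 1 := by
    intro c hcK hcP
    have h1 : orderOf c ∣ Nat.card (centralizerPPrimeCore 2 (zz n σ)) := by
      have := orderOf_dvd_natCard (⟨c, hcK⟩ : centralizerPPrimeCore 2 (zz n σ))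
      rwa [Subgroup.orderOf_mk] at this
    obtain ⟨j, hj⟩ := P.isPGroup' ⟨c, hcP⟩
    have h2 : orderOf c ∣ 2 ^ j := by
      apply orderOf_dvd_of_pow_eq_one
      have := congrArg Subtype.val hj
      simpa using this
    have h3 : orderOf c = 1 :=
      Nat.eq_one_of_dvd_coprimes (Nat.Coprime.pow_right j (Nat.coprime_two_right.mpr hKodd)) h1 h2
    exact orderOf_eq_one_iff.mp h3
  -- `σ² ≠ 1`
  have hσ2 : σ * σ ≠ 1 := by
    intro h1
    have h2 : orderOf σ ∣ 2 := orderOf_dvd_of_pow_eq_one (by rw [pow_two]; exact h1)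
    rw [h.hσo] at h2
    have h3 : 2 ^ (n - 1) ≤ 2 := Nat.le_of_dvd (by norm_num) h2
    have h4 : 2 ^ 2 ≤ 2 ^ (n - 1) := Nat.pow_le_pow_right (by norm_num) (by omega)
    omega
  -- factorization of `C(σ)`
  have hfacσ : ∀ g ∈ Subgroup.centralizer ({σ} : Set G),
      ∃ m ∈ centralizerPPrimeCore 2 (zz n σ) ⊓ Subgroup.centralizer ({σ} : Set G),
        ∃ i : ℕ, g = m * σ ^ i := by
    intro g hg
    obtain ⟨k, hk, q, hq, rfl⟩ := hfac g (hCC hg)
    -- `q` commutes with `σ`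
    have hc1 : q * σ * q⁻¹ * σ⁻¹ ∈ centralizerPPrimeCore 2 (zz n σ) := by
      have e : q * σ * q⁻¹ * σ⁻¹ = k⁻¹ * (σ * k * σ⁻¹) := by
        have h1 := hcomm _ hg
        -- σ * (k * q) = k * q * σ
        have h2 : q * σ * q⁻¹ = k⁻¹ * σ * k := by
          calc q * σ * q⁻¹ = k⁻¹ * (k * q * σ) * q⁻¹ := by group
            _ = k⁻¹ * (σ * (k * q)) * q⁻¹ := by rw [h1]
            _ = k⁻¹ * σ * k := by group
        rw [h2]; group
      rw [e]
      exact Subgroup.mul_mem _ (Subgroup.inv_mem _ hk) (hKn σ hσz k hk)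
    have hc2 : q * σ * q⁻¹ * σ⁻¹ ∈ (P : Subgroup G) :=
      Subgroup.mul_mem _ (Subgroup.mul_mem _ (Subgroup.mul_mem _ hq h.hσ) (Subgroup.inv_mem _ hq))
        (Subgroup.inv_mem _ h.hσ)
    have hc3 := hKP _ hc1 hc2
    have hqσ : q * σ = σ * q := by
      calc q * σ = q * σ * q⁻¹ * σ⁻¹ * (σ * q) := by group
        _ = σ * q := by rw [hc3, one_mul]
    obtain ⟨i, hi | hi⟩ := hP q hq
    · -- `q = σ ^ i`
      refine ⟨k, ⟨hk, ?_⟩, i, by rw [hi]⟩
      have hqC : q ∈ Subgroup.centralizer ({σ} : Set G) := by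
        rw [hi]; exact Subgroup.pow_mem _ hσσ i
      have : k = k * q * q⁻¹ := by group
      rw [this]
      exact Subgroup.mul_mem _ hg (Subgroup.inv_mem _ hqC)
    · -- `q = σ ^ i * τ` impossible
      exfalso
      rw [hi] at hqσ
      have h1 : τ * σ = σ * τ := by
        have h2 : σ ^ i * (τ * σ) = σ ^ i * (σ * τ) := by
          calc σ ^ i * (τ * σ) = σ ^ i * τ * σ := by group
            _ = σ * (σ ^ i * τ) := hqσ
            _ = σ ^ i * (σ * τ) := by
              rw [← mul_assoc, ← mul_assoc, ← pow_succ', ← pow_succ]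
        exact mul_left_cancel h2
      have h3 : σ = σ⁻¹ := by
        calc σ = σ * τ * τ⁻¹ := by group
          _ = τ * σ * τ⁻¹ := by rw [h1]
          _ = σ⁻¹ := h.hrel
      apply hσ2
      calc σ * σ = σ * σ⁻¹ := by rw [← h3]
        _ = 1 := mul_inv_cancel σ
  -- the subgroups of `C(σ)`
  set M : Subgroup G := centralizerPPrimeCore 2 (zz n σ) ⊓ Subgroup.centralizer ({σ} : Set G)
    with hM
  set M' : Subgroup (Subgroup.centralizer ({σ} : Set G)) :=
    M.subgroupOf (Subgroup.centralizer ({σ} : Set G)) with hM'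
  set A' : Subgroup (Subgroup.centralizer ({σ} : Set G)) :=
    (Subgroup.zpowers σ).subgroupOf (Subgroup.centralizer ({σ} : Set G)) with hA'
  have hAle : Subgroup.zpowers σ ≤ Subgroup.centralizer ({σ} : Set G) := by
    rw [Subgroup.zpowers_le]; exact hσσ
  have hM'n : M'.Normal := by
    refine ⟨fun m hm g => ?_⟩
    rw [hM', Subgroup.mem_subgroupOf] at hm ⊢
    rw [hM] at hm ⊢
    refine ⟨?_, ?_⟩
    · exact hKn g (hCC g.2) m hm.1
    · exact (g * m * g⁻¹).2
  have hM'card : Nat.card M' = Nat.card M :=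
    Nat.card_congr (Subgroup.subgroupOfEquivOfLe (inf_le_right : M ≤ _)).toEquiv
  have hModd : Odd (Nat.card M') := by
    rw [hM'card]
    have hdvd : Nat.card M ∣ Nat.card (centralizerPPrimeCore 2 (zz n σ)) :=
      Subgroup.card_dvd_of_le inf_le_left
    exact hKodd.of_dvd_nat hdvd
  have hA'card : Nat.card A' = 2 ^ (n - 1) := by
    rw [Nat.card_congr (Subgroup.subgroupOfEquivOfLe hAle).toEquiv, Nat.card_zpowers, h.hσo]
  have hcompl : Subgroup.IsComplement' A' M' := by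
    apply Subgroup.IsComplement'.symm
    apply Subgroup.isComplement'_of_disjoint_and_mul_eq_univ
    · rw [Subgroup.disjoint_def]
      intro c hcM hcA
      rw [hM', Subgroup.mem_subgroupOf, hM] at hcM
      rw [hA', Subgroup.mem_subgroupOf] at hcA
      have hcP : (c : G) ∈ (P : Subgroup G) := by
        obtain ⟨j, hj⟩ := Subgroup.mem_zpowers_iff.mp hcA
        rw [← hj]; exact Subgroup.zpow_mem _ h.hσ j
      exact Subtype.ext (hKP _ hcM.1 hcP)
    · rw [Set.eq_univ_iff_forall]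
      intro g
      obtain ⟨m, hm, i, hgi⟩ := hfacσ g g.2
      refine ⟨⟨m, hm.2⟩, ?_, ⟨σ ^ i, Subgroup.pow_mem _ hσσ i⟩, ?_, ?_⟩
      · change (⟨m, hm.2⟩ : Subgroup.centralizer ({σ} : Set G)) ∈ M'
        rw [hM', Subgroup.mem_subgroupOf]; exact hm
      · change (⟨σ ^ i, Subgroup.pow_mem _ hσσ i⟩ : Subgroup.centralizer ({σ} : Set G)) ∈ A'
        rw [hA', Subgroup.mem_subgroupOf]
        exact Subgroup.pow_mem _ (Subgroup.mem_zpowers σ) i
      · apply Subtype.ext
        simpa using hgi.symm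
  have hidx : M'.index = 2 ^ (n - 1) := by
    rw [hcompl.index_eq_card, hA'card]
  have hcore : pPrimeCore 2 (Subgroup.centralizer ({σ} : Set G)) = M' := by
    have := hM'n
    exact pPrimeCore_two_eq M' hModd ⟨n - 1, hidx⟩
  refine ⟨by rw [hcore]; exact hidx, ?_⟩
  unfold centralizerPPrimeCore at hM ⊢
  rw [hcore, hM', Subgroup.subgroupOf_map_subtype, hM]
  rw [inf_assoc, inf_idem]

/-! ## The hypothesis-free forms (exact #4033 statements), via helper55's `[DIH]` -/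

theorem cz_facts [Fintype G] [Finite G] {n : ℕ} {P : Sylow 2 G} {σ τ : G} (h : Ctx n P σ τ) :
    (P : Subgroup G) ≤ Subgroup.centralizer ({zz n σ} : Set G) ∧
    (∀ g ∈ Subgroup.centralizer ({zz n σ} : Set G), ∀ k ∈ centralizerPPrimeCore 2 (zz n σ),
      g * k * g⁻¹ ∈ centralizerPPrimeCore 2 (zz n σ)) ∧
    Odd (Nat.card (centralizerPPrimeCore 2 (zz n σ))) ∧
    Nat.card (Subgroup.centralizer ({zz n σ} : Set G)) =
      2 ^ n * Nat.card (centralizerPPrimeCore 2 (zz n σ)) ∧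
    (∀ g ∈ Subgroup.centralizer ({zz n σ} : Set G), ∃ k ∈ centralizerPPrimeCore 2 (zz n σ),
      ∃ q ∈ (P : Subgroup G), g = k * q) ∧
    (pPrimeCore 2 (Subgroup.centralizer ({zz n σ} : Set G))).index = 2 ^ n :=
  cz_facts_of h (Cfsg.Agent.Lib.Helper55.DihOrd.dih_facts h).2.2.2.2.2

theorem cs_facts [Fintype G] [Finite G] {n : ℕ} {P : Sylow 2 G} {σ τ : G} (h : Ctx n P σ τ) :
    (pPrimeCore 2 (Subgroup.centralizer ({σ} : Set G))).index = 2 ^ (n - 1) ∧
    centralizerPPrimeCore 2 σ =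
      centralizerPPrimeCore 2 (zz n σ) ⊓ Subgroup.centralizer ({σ} : Set G) :=
  cs_facts_of h (Cfsg.Agent.Lib.Helper55.DihOrd.dih_facts h).2.2.2.2.2
    (Cfsg.Agent.Lib.Helper55.DihOrd.dih_facts h).2.1

end Cfsg.Agent.Lib.Helper76.DihOrd
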