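import Mathlib
import Cfsg.Agent.Lib.Helper46.DihOrdDefs

/-!
# Module `S4482-[EQUI]` (helper76, for helper46's S4482 project, board #4033)

`K` acts by conjugation on the pairs of involutions `(u, v)` with `u v ∈ σ K`; every orbit meets the
pairs with `u v ∈ σ C_K(σ)`, and `#{k ∈ K | k·(u,v) has this property} = |C_K(σ)|`. Hence
`#{pairs, u v ∈ σ C_K(σ)} * |K| = #{pairs, u v ∈ σ K} * |C_K(σ)|`.

The "every orbit meets" part is obtained by averaging (double counting twice), the uniqueness part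
by the power trick `(σ c) ^ e = σ` for `c ∈ C_K(σ)`, `e ≡ 1 mod |σ|`, `e ≡ 0 mod |K|`.
-/

set_option autoImplicit false
open Cfsg Cfsg.Agent.Lib.Helper46.DihOrd

namespace Cfsg.Agent.Lib.Helper76.DihOrd

open Classical in
/-- double counting for an invertible action of a symmetric finite set of group elements -/
theorem sum_card_filter_act {Ω : Type*} {G : Type*} [Group G]
    (Kf : Finset G) (hK1 : ∀ k ∈ Kf, k⁻¹ ∈ Kf) (act : G → Ω → Ω)
    (hact : ∀ k x, act k⁻¹ (act k x) = x) (hact' : ∀ k x, act k (act k⁻¹ x) = x)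
    (X Y : Finset Ω) (hYX : Y ⊆ X) (hX : ∀ k ∈ Kf, ∀ x ∈ X, act k x ∈ X) :
    ∑ x ∈ X, (Kf.filter (fun k => act k x ∈ Y)).card = Kf.card * Y.card := by
  have h1 : ∀ x ∈ X, (Kf.filter (fun k => act k x ∈ Y)).card =
      ∑ k ∈ Kf, if act k x ∈ Y then 1 else 0 := by
    intro x _; rw [Finset.card_filter]
  rw [Finset.sum_congr rfl h1, Finset.sum_comm]
  have h2 : ∀ k ∈ Kf, (∑ x ∈ X, if act k x ∈ Y then 1 else 0) = Y.card := by
    intro k hk
    rw [← Finset.card_filter]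
    apply Finset.card_bij (fun x _ => act k x)
    · intro x hx; exact (Finset.mem_filter.mp hx).2
    · intro x₁ _ x₂ _ he
      have := congrArg (act k⁻¹) he
      rwa [hact, hact] at this
    · intro y hy
      refine ⟨act k⁻¹ y, ?_, hact' k y⟩
      rw [Finset.mem_filter]
      exact ⟨hX k⁻¹ (hK1 k hk) y (hYX hy), by rw [hact']; exact hy⟩
  rw [Finset.sum_congr rfl h2, Finset.sum_const, smul_eq_mul]

/-- the power trick -/
theorem exists_pow_eq {G : Type*} [Group G] [Finite G] {σ : G} {m : ℕ}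
    (hσo : orderOf σ = 2 ^ m) (K : Subgroup G) (hKodd : Odd (Nat.card K)) :
    ∃ e : ℕ, ∀ c ∈ K, σ * c = c * σ → (σ * c) ^ e = σ := by
  have hcop : Nat.Coprime (2 ^ m) (Nat.card K) :=
    Nat.Coprime.pow_left m (Nat.coprime_two_left.mpr hKodd)
  obtain ⟨e, he1, he2⟩ := Nat.chineseRemainder hcop 1 0
  refine ⟨e, fun c hc hcomm => ?_⟩
  rw [(show Commute σ c from hcomm).mul_pow]
  have h1 : σ ^ e = σ := by
    have : σ ^ e = σ ^ 1 := pow_eq_pow_iff_modEq.mpr (by rw [hσo]; exact he1)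
    rwa [pow_one] at this
  have h2 : c ^ e = 1 := by
    have hd : Nat.card K ∣ e := (Nat.modEq_zero_iff_dvd).mp he2
    obtain ⟨t, rfl⟩ := hd
    rw [pow_mul]
    have h3 : ((⟨c, hc⟩ : K) ^ Nat.card K : K) = 1 := pow_card_eq_one'
    have hc' : c ^ Nat.card K = 1 := by
      have h4 := congrArg (fun t : K => (t : G)) h3
      simp only [Subgroup.coe_pow, Subgroup.coe_one] at h4
      exact h4
    rw [hc', one_pow]
  rw [h1, h2, mul_one]

variable {G : Type*} [Group G] [Fintype G]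

open Classical in
/-- **[EQUI]** (helper46, board #4033). -/
theorem loc_equi {n : ℕ} {σ τ : G} {C K : Subgroup G} (h : LocCtx n σ τ C K) :
    (Finset.univ.filter (fun uv : G × G => IsInvPair uv ∧
        σ⁻¹ * (uv.1 * uv.2) ∈ K ⊓ Subgroup.centralizer ({σ} : Set G))).card * Nat.card K =
    (Finset.univ.filter (fun uv : G × G => IsInvPair uv ∧ σ⁻¹ * (uv.1 * uv.2) ∈ K)).card *
      Nat.card ↥(K ⊓ Subgroup.centralizer ({σ} : Set G)) := by
  have hσK : ∀ k ∈ K, σ * k * σ⁻¹ ∈ K := fun k hk => h.hKn σ h.hσC k hk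
  have hσK' : ∀ k ∈ K, σ⁻¹ * k * σ ∈ K := fun k hk => by
    simpa using h.hKn σ⁻¹ (C.inv_mem h.hσC) k hk
  obtain ⟨D, hD⟩ : ∃ D : Subgroup G, D = K ⊓ Subgroup.centralizer ({σ} : Set G) := ⟨_, rfl⟩
  have hDmem : ∀ c : G, c ∈ D ↔ c ∈ K ∧ σ * c = c * σ := by
    intro c
    rw [hD, Subgroup.mem_inf, Subgroup.mem_centralizer_iff]
    constructor
    · rintro ⟨h1, h2⟩; exact ⟨h1, h2 σ rfl⟩
    · rintro ⟨h1, h2⟩
      refine ⟨h1, fun y hy => ?_⟩
      rw [Set.mem_singleton_iff] at hy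
      rw [hy]; exact h2
  rw [← hD]
  obtain ⟨e, he⟩ := exists_pow_eq h.hσo K h.hKodd
  -- finsets
  obtain ⟨Kf, hKfdef⟩ : ∃ Kf : Finset G, Kf = Finset.univ.filter (fun g => g ∈ K) := ⟨_, rfl⟩
  obtain ⟨Df, hDfdef⟩ : ∃ Df : Finset G, Df = Finset.univ.filter (fun g => g ∈ D) := ⟨_, rfl⟩
  have hKfmem : ∀ g, g ∈ Kf ↔ g ∈ K := by intro g; rw [hKfdef]; simp
  have hDfmem : ∀ g, g ∈ Df ↔ g ∈ D := by intro g; rw [hDfdef]; simp
  have hKfcard : Kf.card = Nat.card K := by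
    rw [hKfdef, Nat.card_eq_fintype_card, Fintype.card_subtype]
  have hDfcard : Df.card = Nat.card D := by
    rw [hDfdef, Nat.card_eq_fintype_card, Fintype.card_subtype]
  have hKinv : ∀ k ∈ Kf, k⁻¹ ∈ Kf := fun k hk => (hKfmem _).mpr (K.inv_mem ((hKfmem _).mp hk))
  -- the `w`-level
  obtain ⟨Xw, hXwdef⟩ : ∃ Xw : Finset G, Xw = Finset.univ.filter (fun w => σ⁻¹ * w ∈ K) := ⟨_, rfl⟩
  obtain ⟨Yw, hYwdef⟩ : ∃ Yw : Finset G, Yw = Finset.univ.filter (fun w => σ⁻¹ * w ∈ D) := ⟨_, rfl⟩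
  have hXwmem : ∀ w, w ∈ Xw ↔ σ⁻¹ * w ∈ K := by intro w; rw [hXwdef]; simp
  have hYwmem : ∀ w, w ∈ Yw ↔ σ⁻¹ * w ∈ D := by intro w; rw [hYwdef]; simp
  have hYXw : Yw ⊆ Xw := by
    intro w hw
    rw [hXwmem]; rw [hYwmem, hDmem] at hw; exact hw.1
  have hXwinv : ∀ k ∈ Kf, ∀ w ∈ Xw, k * w * k⁻¹ ∈ Xw := by
    intro k hk w hw
    rw [hKfmem] at hk
    rw [hXwmem] at hw ⊢
    have e1 : σ⁻¹ * (k * w * k⁻¹) = (σ⁻¹ * k * σ) * (σ⁻¹ * w) * k⁻¹ := by group
    rw [e1]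
    exact K.mul_mem (K.mul_mem (hσK' k hk) hw) (K.inv_mem hk)
  have hXwcard : Xw.card = Kf.card := by
    apply Finset.card_bij (fun w _ => σ⁻¹ * w)
    · intro w hw; rw [hKfmem]; exact (hXwmem w).mp hw
    · intro w₁ _ w₂ _ he; exact mul_left_cancel he
    · intro k hk
      refine ⟨σ * k, ?_, by group⟩
      rw [hXwmem]
      have : σ⁻¹ * (σ * k) = k := by group
      rw [this]; exact (hKfmem k).mp hk
  have hYwcard : Yw.card = Df.card := by
    apply Finset.card_bij (fun w _ => σ⁻¹ * w)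
    · intro w hw; rw [hDfmem]; exact (hYwmem w).mp hw
    · intro w₁ _ w₂ _ he; exact mul_left_cancel he
    · intro k hk
      refine ⟨σ * k, ?_, by group⟩
      rw [hYwmem]
      have : σ⁻¹ * (σ * k) = k := by group
      rw [this]; exact (hDfmem k).mp hk
  have hsumw := sum_card_filter_act Kf hKinv (fun k w => k * w * k⁻¹)
    (fun k w => by group) (fun k w => by group) Xw Yw hYXw hXwinv
  -- (E1): each fibre has at most `|D|` elements
  have hle : ∀ w ∈ Xw, (Kf.filter (fun k => k * w * k⁻¹ ∈ Yw)).card ≤ Df.card := by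
    intro w _
    by_cases hne : (Kf.filter (fun k => k * w * k⁻¹ ∈ Yw)).Nonempty
    · obtain ⟨k₁, hk₁⟩ := hne
      rw [Finset.mem_filter, hKfmem, hYwmem, hDmem] at hk₁
      obtain ⟨hk₁K, hc₁K, hc₁σ⟩ := hk₁
      apply Finset.card_le_card_of_injOn (fun k => k * k₁⁻¹)
      · intro k hk
        rw [Finset.mem_coe, Finset.mem_filter, hKfmem, hYwmem, hDmem] at hk
        obtain ⟨hkK, hc₂K, hc₂σ⟩ := hk
        rw [Finset.mem_coe, hDfmem, hDmem]
        refine ⟨K.mul_mem hkK (K.inv_mem hk₁K), ?_⟩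
        -- `w₁ ^ e = σ = w₂ ^ e`
        have hw₁ : (k₁ * w * k₁⁻¹) ^ e = σ := by
          have := he _ hc₁K hc₁σ
          rwa [mul_inv_cancel_left] at this
        have hw₂ : (k * w * k⁻¹) ^ e = σ := by
          have := he _ hc₂K hc₂σ
          rwa [mul_inv_cancel_left] at this
        have hconj : k * w * k⁻¹ = (k * k₁⁻¹) * (k₁ * w * k₁⁻¹) * (k * k₁⁻¹)⁻¹ := by group
        rw [hconj, conj_pow, hw₁] at hw₂
        -- (k k₁⁻¹) σ (k k₁⁻¹)⁻¹ = σ
        calc σ * (k * k₁⁻¹) = (k * k₁⁻¹) * σ * (k * k₁⁻¹)⁻¹ * (k * k₁⁻¹) := by rw [hw₂]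
          _ = (k * k₁⁻¹) * σ := by group
      · intro a _ b _ hab
        exact mul_right_cancel hab
    · rw [Finset.not_nonempty_iff_eq_empty] at hne
      rw [hne, Finset.card_empty]; exact Nat.zero_le _
  -- hence each fibre has exactly `|D|` elements
  have heq : ∀ w ∈ Xw, (Kf.filter (fun k => k * w * k⁻¹ ∈ Yw)).card = Df.card := by
    have hs : ∑ w ∈ Xw, (Kf.filter (fun k => k * w * k⁻¹ ∈ Yw)).card = ∑ _w ∈ Xw, Df.card := by
      rw [hsumw, Finset.sum_const, smul_eq_mul, hXwcard, hYwcard]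
    exact (Finset.sum_eq_sum_iff_of_le hle).mp hs
  -- the pair level
  obtain ⟨X, hXdef⟩ : ∃ X : Finset (G × G), X = Finset.univ.filter
      (fun uv : G × G => IsInvPair uv ∧ σ⁻¹ * (uv.1 * uv.2) ∈ K) := ⟨_, rfl⟩
  obtain ⟨Y, hYdef⟩ : ∃ Y : Finset (G × G), Y = Finset.univ.filter
      (fun uv : G × G => IsInvPair uv ∧ σ⁻¹ * (uv.1 * uv.2) ∈ D) := ⟨_, rfl⟩
  rw [← hXdef, ← hYdef]
  have hXmem : ∀ uv, uv ∈ X ↔ IsInvPair uv ∧ σ⁻¹ * (uv.1 * uv.2) ∈ K := by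
    intro uv; rw [hXdef]; simp
  have hYmem : ∀ uv, uv ∈ Y ↔ IsInvPair uv ∧ σ⁻¹ * (uv.1 * uv.2) ∈ D := by
    intro uv; rw [hYdef]; simp
  have hinvpair : ∀ (k : G) (uv : G × G),
      IsInvPair (k * uv.1 * k⁻¹, k * uv.2 * k⁻¹) ↔ IsInvPair uv := by
    intro k uv
    unfold IsInvPair
    have e1 : ∀ u : G, k * u * k⁻¹ * (k * u * k⁻¹) = 1 ↔ u * u = 1 := by
      intro u
      have : k * u * k⁻¹ * (k * u * k⁻¹) = k * (u * u) * k⁻¹ := by group
      rw [this]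
      constructor
      · intro h1
        have h2 : u * u = k⁻¹ * (k * (u * u) * k⁻¹) * k := by group
        rw [h2, h1]; group
      · intro h1; rw [h1]; group
    have e2 : ∀ u : G, k * u * k⁻¹ ≠ 1 ↔ u ≠ 1 := by
      intro u
      rw [not_iff_not]
      constructor
      · intro h1
        have h2 : u = k⁻¹ * (k * u * k⁻¹) * k := by group
        rw [h2, h1]; group
      · intro h1; rw [h1]; group
    simp only [e1, e2]
  have hprod : ∀ (k : G) (uv : G × G),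
      (k * uv.1 * k⁻¹) * (k * uv.2 * k⁻¹) = k * (uv.1 * uv.2) * k⁻¹ := by
    intro k uv; group
  have hYX : Y ⊆ X := by
    intro uv huv
    rw [hXmem]; rw [hYmem, hDmem] at huv; exact ⟨huv.1, huv.2.1⟩
  have hXinv : ∀ k ∈ Kf, ∀ uv ∈ X, (k * uv.1 * k⁻¹, k * uv.2 * k⁻¹) ∈ X := by
    intro k hk uv huv
    rw [hXmem] at huv ⊢
    refine ⟨(hinvpair k uv).mpr huv.1, ?_⟩
    change σ⁻¹ * ((k * uv.1 * k⁻¹) * (k * uv.2 * k⁻¹)) ∈ K
    rw [hprod]
    have := hXwinv k hk (uv.1 * uv.2) ((hXwmem _).mpr huv.2)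
    exact (hXwmem _).mp this
  have hsum := sum_card_filter_act Kf hKinv
    (fun (k : G) (uv : G × G) => (k * uv.1 * k⁻¹, k * uv.2 * k⁻¹))
    (fun k uv => by
      apply Prod.ext
      · change k⁻¹ * (k * uv.1 * k⁻¹) * k⁻¹⁻¹ = uv.1; group
      · change k⁻¹ * (k * uv.2 * k⁻¹) * k⁻¹⁻¹ = uv.2; group)
    (fun k uv => by
      apply Prod.ext
      · change k * (k⁻¹ * uv.1 * k⁻¹⁻¹) * k⁻¹ = uv.1; group
      · change k * (k⁻¹ * uv.2 * k⁻¹⁻¹) * k⁻¹ = uv.2; group)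
    X Y hYX hXinv
  have hterm : ∀ uv ∈ X,
      (Kf.filter (fun k => ((k * uv.1 * k⁻¹, k * uv.2 * k⁻¹) : G × G) ∈ Y)).card = Df.card := by
    intro uv huv
    rw [hXmem] at huv
    rw [← heq (uv.1 * uv.2) ((hXwmem _).mpr huv.2)]
    congr 1
    apply Finset.filter_congr
    intro k _
    rw [hYmem, hYwmem]
    change IsInvPair (k * uv.1 * k⁻¹, k * uv.2 * k⁻¹) ∧
      σ⁻¹ * ((k * uv.1 * k⁻¹) * (k * uv.2 * k⁻¹)) ∈ D ↔ _
    rw [hprod, hinvpair]
    exact ⟨fun h1 => h1.2, fun h1 => ⟨huv.1, h1⟩⟩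
  have hsum2 : ∑ _x ∈ X, Df.card = Kf.card * Y.card := by
    rw [← hsum]
    apply Finset.sum_congr rfl
    intro uv huv
    rw [← hterm uv huv]
    congr
  rw [Finset.sum_const, smul_eq_mul, hKfcard, hDfcard] at hsum2
  rw [mul_comm, ← hsum2]

end Cfsg.Agent.Lib.Helper76.DihOrd
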