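import Mathlib
import Cfsg.Agent.Lib.Helper48.Generation
import Cfsg.Agent.Lib.Helper64.MinNormal

/-!
# General lemmas for Ward's theorem (helper76)

Representation-theoretic and group-theoretic preliminaries used in the key lemma:
summing operator over a subgroup, minimal invariant subspaces, common eigenvectors,
independence of weight vectors, and a Sylow-type stabilizer lemma.
-/

set_option autoImplicit false

namespace Cfsg.Agent.Lib.Helper76.WardKey

open scoped commutatorElement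

variable {X : Type*} [Group X] {𝔽 : Type*} [Field 𝔽] {E : Type*} [AddCommGroup E] [Module 𝔽 E]

section Basic

variable (ρ : X →* Module.End 𝔽 E)

theorem rho_mul (g h : X) (w : E) : ρ (g * h) w = ρ g (ρ h w) := by
  rw [map_mul]; rfl

theorem rho_one (w : E) : ρ 1 w = w := by
  rw [map_one]; rfl

theorem rho_inv_rho (g : X) (w : E) : ρ g⁻¹ (ρ g w) = w := by
  rw [← rho_mul, inv_mul_cancel, rho_one]

theorem rho_rho_inv (g : X) (w : E) : ρ g (ρ g⁻¹ w) = w := by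
  rw [← rho_mul, mul_inv_cancel, rho_one]

theorem rho_injective (g : X) : Function.Injective (ρ g) := by
  intro a b h
  have := congrArg (ρ g⁻¹) h
  rwa [rho_inv_rho, rho_inv_rho] at this

theorem rho_pow (g : X) (n : ℕ) (w : E) : ρ (g ^ n) w = (ρ g)^[n] w := by
  induction n generalizing w with
  | zero => simp
  | succ n ih => rw [pow_succ, rho_mul, ih, Function.iterate_succ_apply]

end Basic

/-! ### The sum operator over a subgroup -/

section SumOp

variable [Finite X] (ρ : X →* Module.End 𝔽 E)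

/-- The operator `∑_{n ∈ N} ρ n`. -/
noncomputable def sumOp (N : Subgroup X) : Module.End 𝔽 E :=
  letI := Fintype.ofFinite N
  ∑ n : N, ρ (n : X)

theorem sumOp_apply (N : Subgroup X) (w : E) :
    sumOp ρ N w = letI := Fintype.ofFinite N; ∑ n : N, ρ (n : X) w := by
  unfold sumOp
  simp [LinearMap.sum_apply]

theorem rho_sumOp_of_mem (N : Subgroup X) {n : X} (hn : n ∈ N) (w : E) :
    ρ n (sumOp ρ N w) = sumOp ρ N w := by
  let _ := Fintype.ofFinite N
  rw [sumOp_apply, map_sum]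
  simp only [← rho_mul]
  exact Equiv.sum_comp (Equiv.mulLeft (⟨n, hn⟩ : N)) (fun m : N => ρ (m : X) w)

theorem sumOp_of_fixed (N : Subgroup X) (w : E) (hw : ∀ n ∈ N, ρ n w = w) :
    sumOp ρ N w = (Nat.card N : 𝔽) • w := by
  let _ := Fintype.ofFinite N
  rw [sumOp_apply]
  rw [Finset.sum_congr rfl (fun (n : N) _ => hw (n : X) n.2)]
  simp [Nat.card_eq_fintype_card, Nat.cast_smul_eq_nsmul]

theorem rho_sumOp_comm (N : Subgroup X) {g : X} (hg : g ∈ Subgroup.normalizer (N : Set X))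
    (w : E) : ρ g (sumOp ρ N w) = sumOp ρ N (ρ g w) := by
  let _ := Fintype.ofFinite N
  rw [sumOp_apply, sumOp_apply, map_sum]
  have hg' : ∀ n : N, g * n * g⁻¹ ∈ N := fun n => (Subgroup.mem_normalizer_iff.mp hg n).mp n.2
  have hg'' : ∀ n : N, g⁻¹ * n * g ∈ N := fun n => by
    have := (Subgroup.mem_normalizer_iff.mp (Subgroup.inv_mem _ hg) n).mp n.2
    simpa using this
  let σ : N ≃ N :=
    { toFun := fun n => ⟨g * n * g⁻¹, hg' n⟩
      invFun := fun n => ⟨g⁻¹ * n * g, hg'' n⟩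
      left_inv := fun n => by apply Subtype.ext; simp [mul_assoc]
      right_inv := fun n => by apply Subtype.ext; simp [mul_assoc] }
  rw [← Equiv.sum_comp σ (fun m : N => ρ (m : X) (ρ g w))]
  refine Finset.sum_congr rfl fun n _ => ?_
  show ρ g (ρ (n : X) w) = ρ (g * n * g⁻¹) (ρ g w)
  rw [← rho_mul, ← rho_mul]
  congr 2
  group

end SumOp


/-! ### Minimal invariant subspaces and common eigenvectors -/

section Invariant

variable (ρ : X →* Module.End 𝔽 E)

theorem exists_minimal_invariant [FiniteDimensional 𝔽 E] (S : Set X) (U₁ : Submodule 𝔽 E)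
    (h1 : U₁ ≠ ⊥) (hinv : ∀ g ∈ S, ∀ w ∈ U₁, ρ g w ∈ U₁) :
    ∃ U : Submodule 𝔽 E, U ≤ U₁ ∧ U ≠ ⊥ ∧ (∀ g ∈ S, ∀ w ∈ U, ρ g w ∈ U) ∧
      ∀ U' : Submodule 𝔽 E, U' ≤ U → (∀ g ∈ S, ∀ w ∈ U', ρ g w ∈ U') → U' = ⊥ ∨ U' = U := by
  let 𝒮 : Set (Submodule 𝔽 E) := {U | U ≤ U₁ ∧ U ≠ ⊥ ∧ ∀ g ∈ S, ∀ w ∈ U, ρ g w ∈ U}
  have h𝒮 : 𝒮.Nonempty := ⟨U₁, le_rfl, h1, hinv⟩
  obtain ⟨U, hU, hmin⟩ := (wellFounded_lt (α := Submodule 𝔽 E)).has_min 𝒮 h𝒮
  refine ⟨U, hU.1, hU.2.1, hU.2.2, ?_⟩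
  intro U' hU' hinv'
  by_cases h0 : U' = ⊥
  · exact Or.inl h0
  · right
    have hmem : U' ∈ 𝒮 := ⟨hU'.trans hU.1, h0, hinv'⟩
    exact (eq_or_lt_of_le hU').resolve_right (hmin U' hmem)

/-- A family of operators `ρ z`, `z ∈ Z`, preserving a nonzero subspace `U` and commuting on it
has a common eigenvector in `U`. -/
theorem exists_common_eigenvector [IsAlgClosed 𝔽] [FiniteDimensional 𝔽 E] (Z : Set X)
    (U : Submodule 𝔽 E) (hU : U ≠ ⊥) (hinv : ∀ z ∈ Z, ∀ w ∈ U, ρ z w ∈ U)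
    (hcomm : ∀ z ∈ Z, ∀ z' ∈ Z, ∀ w ∈ U, ρ z (ρ z' w) = ρ z' (ρ z w)) :
    ∃ w ∈ U, w ≠ 0 ∧ ∀ z ∈ Z, ∃ c : 𝔽, ρ z w = c • w := by
  obtain ⟨U₀, hU₀U, hU₀0, hU₀inv, hU₀min⟩ := exists_minimal_invariant ρ Z U hU hinv
  obtain ⟨w, hw, hw0⟩ := (Submodule.ne_bot_iff _).mp hU₀0
  refine ⟨w, hU₀U hw, hw0, ?_⟩
  intro z hz
  -- an eigenvalue of `ρ z` on `U₀`
  have : Nontrivial U₀ := (Submodule.nontrivial_iff_ne_bot).mpr hU₀0
  obtain ⟨c, hc⟩ := Module.End.exists_eigenvalue ((ρ z).restrict (hU₀inv z hz))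
  obtain ⟨v, hv⟩ := hc.exists_hasEigenvector
  have hv1 : ρ z (v : E) = c • (v : E) := by
    have := hv.apply_eq_smul
    have h2 := congrArg Subtype.val this
    simpa using h2
  have hv0 : (v : E) ≠ 0 := fun h => hv.2 (Subtype.ext h)
  -- the eigenspace inside `U₀`
  let U₁ : Submodule 𝔽 E :=
    { carrier := {x | x ∈ U₀ ∧ ρ z x = c • x}
      zero_mem' := ⟨U₀.zero_mem, by simp⟩
      add_mem' := by
        rintro a b ⟨ha, ha'⟩ ⟨hb, hb'⟩
        exact ⟨U₀.add_mem ha hb, by rw [map_add, ha', hb', smul_add]⟩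
      smul_mem' := by
        rintro k a ⟨ha, ha'⟩
        exact ⟨U₀.smul_mem k ha, by rw [map_smul, ha', smul_comm]⟩ }
  have hU₁le : U₁ ≤ U₀ := fun x hx => hx.1
  have hU₁inv : ∀ g ∈ Z, ∀ x ∈ U₁, ρ g x ∈ U₁ := by
    rintro g hg x ⟨hx, hx'⟩
    refine ⟨hU₀inv g hg x hx, ?_⟩
    rw [hcomm z hz g hg x (hU₀U hx), hx', map_smul]
  have hU₁0 : U₁ ≠ ⊥ := by
    intro h
    have : (v : E) ∈ U₁ := ⟨v.2, hv1⟩
    rw [h, Submodule.mem_bot] at this
    exact hv0 this
  rcases hU₀min U₁ hU₁le hU₁inv with h | h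
  · exact absurd h hU₁0
  · have : w ∈ U₁ := h ▸ hw
    exact ⟨c, this.2⟩

/-- Vectors of pairwise distinct weights for `Z` are linearly independent (in the form: a vanishing
sum has vanishing terms). -/
theorem wt_indep (Z : Set X) (n : ℕ) (ν : ℕ → X → 𝔽) :
    ∀ c : ℕ → E, (∀ i < n, ∀ z ∈ Z, ρ z (c i) = ν i z • c i) →
    (∀ i < n, ∀ j < n, i ≠ j → ∃ z ∈ Z, ν i z ≠ ν j z) →
    (∑ i ∈ Finset.range n, c i = 0) → ∀ i < n, c i = 0 := by
  induction n with
  | zero => intro c _ _ _ i hi; omega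
  | succ n ih =>
    intro c hc hν hsum
    have key : ∀ i < n, c i = 0 := by
      intro i hi
      obtain ⟨z, hz, hne⟩ := hν i (by omega) n (by omega) (by omega)
      have h1 : ∑ j ∈ Finset.range n, (ν j z - ν n z) • c j = 0 := by
        have h2 := congrArg (ρ z) hsum
        rw [map_sum, map_zero, Finset.sum_range_succ] at h2
        rw [Finset.sum_range_succ] at hsum
        have h3 : ∑ j ∈ Finset.range n, ρ z (c j) = ∑ j ∈ Finset.range n, ν j z • c j :=
          Finset.sum_congr rfl fun j hj => hc j (by have := Finset.mem_range.mp hj; omega) z hz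
        rw [h3, hc n (by omega) z hz] at h2
        have h4 : c n = - ∑ j ∈ Finset.range n, c j := eq_neg_of_add_eq_zero_right hsum
        rw [h4] at h2
        simp only [sub_smul, Finset.sum_sub_distrib, ← Finset.smul_sum]
        rw [smul_neg] at h2
        rw [sub_eq_add_neg]; exact h2
      have h5 := ih (fun j => (ν j z - ν n z) • c j)
        (fun j hj z' hz' => by
          rw [map_smul, hc j (by omega) z' hz', smul_comm])
        (fun a ha b hb hab => hν a (by omega) b (by omega) hab) h1 i hi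
      rcases smul_eq_zero.mp h5 with h6 | h6
      · exact absurd (sub_eq_zero.mp h6) hne
      · exact h6
    intro i hi
    rcases Nat.lt_succ_iff_lt_or_eq.mp hi with h | h
    · exact key i h
    · subst h
      rw [Finset.sum_range_succ, Finset.sum_eq_zero (fun j hj => key j (Finset.mem_range.mp hj)),
        zero_add] at hsum
      exact hsum

end Invariant


/-! ### Group-theoretic lemmas -/

section GroupLemmas

open scoped Pointwise

theorem elemAb_le_of_mem [Finite X] {r : ℕ} [Fact r.Prime] (A : Subgroup X)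
    (hAexp : ∀ x ∈ A, x ^ r = 1) (hAcard : Nat.card A = r ^ 2)
    {u b : X} (hu : u ∈ A) (hu1 : u ≠ 1) (hb : b ∈ A) (hbu : b ∉ Subgroup.zpowers u)
    (H : Subgroup X) (huH : u ∈ H) (hbH : b ∈ H) : A ≤ H := by
  have hr : r.Prime := Fact.out
  set L : Subgroup X := Subgroup.zpowers u ⊔ Subgroup.zpowers b with hL
  have hLA : L ≤ A := sup_le (by rwa [Subgroup.zpowers_le]) (by rwa [Subgroup.zpowers_le])
  have hLH : L ≤ H := sup_le (by rwa [Subgroup.zpowers_le]) (by rwa [Subgroup.zpowers_le])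
  have hcu : Nat.card (Subgroup.zpowers u) = r := by
    rw [Nat.card_zpowers]; exact orderOf_eq_prime (hAexp u hu) hu1
  have hlt : Subgroup.zpowers u < L := by
    refine lt_of_le_of_ne le_sup_left (fun e => hbu ?_)
    rw [e]; exact le_sup_right (a := Subgroup.zpowers u) (Subgroup.mem_zpowers b)
  have h1 : r < Nat.card L := by
    have := Cfsg.Agent.Lib.Helper48.card_lt_card_of_lt' hlt
    omega
  have h2 : Nat.card L ∣ r ^ 2 := hAcard ▸ Subgroup.card_dvd_of_le hLA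
  obtain ⟨k, hk, hk'⟩ := (Nat.dvd_prime_pow hr).mp h2
  have hk2 : k = 2 := by
    interval_cases k
    · rw [hk'] at h1; simp at h1; have := hr.one_lt; omega
    · rw [hk'] at h1; simp at h1
    · rfl
  have h3 : L = A := Subgroup.eq_of_le_of_card_ge hLA (by rw [hk', hk2, hAcard])
  exact h3 ▸ hLH

theorem exists_conj_le_stab {Y : Type*} [Group Y] [Finite Y] {r : ℕ} [Fact r.Prime]
    (T A S : Subgroup Y) [T.Normal]
    (hTr : ¬ r ∣ Nat.card T) (hAcard : Nat.card A = r ^ 2)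
    (hAcomm : ∀ x ∈ A, ∀ y ∈ A, x * y = y * x) (hsup : A ⊔ T = ⊤)
    (b₀ b₁ g : Y) (hb₁ : b₁ ∈ A) (hgen : ∀ H : Subgroup Y, b₀ ∈ H → b₁ ∈ H → A ≤ H)
    (h0 : b₀ ∈ S) (h1 : g⁻¹ * b₁ * g ∈ S) :
    ∃ h : Y, ∀ a ∈ A, h * a * h⁻¹ ∈ S := by
  have hr : r.Prime := Fact.out
  -- decomposition of `g`
  have hg : g ∈ A ⊔ T := hsup ▸ Subgroup.mem_top g
  rw [← SetLike.mem_coe, Subgroup.mul_normal] at hg
  obtain ⟨a, ha, t, ht, rfl⟩ := hg
  have ha : a ∈ A := ha
  have ht : t ∈ T := ht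
  -- `b₁ ∈ S ⊔ T`
  have hb₁ST : b₁ ∈ S ⊔ T := by
    have e : b₁ = ((a * t)⁻¹ * b₁ * (a * t)) * (t⁻¹ * (b₁⁻¹ * t * b₁)) := by
      have hc : a⁻¹ * b₁ * a = b₁ := by
        rw [mul_assoc, hAcomm b₁ hb₁ a ha, ← mul_assoc, inv_mul_cancel, one_mul]
      have e1 : (a * t)⁻¹ * b₁ * (a * t) = t⁻¹ * (a⁻¹ * b₁ * a) * t := by group
      rw [e1, hc]; group
    rw [e]
    apply Subgroup.mul_mem _ (Subgroup.mem_sup_left h1) (Subgroup.mem_sup_right _)
    apply T.mul_mem (T.inv_mem ht)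
    have := (inferInstance : T.Normal).conj_mem t ht b₁⁻¹
    simpa using this
  have hAST : A ≤ S ⊔ T := hgen _ (Subgroup.mem_sup_left h0) hb₁ST
  have hST : S ⊔ T = ⊤ := by
    rw [eq_top_iff, ← hsup]
    exact sup_le hAST le_sup_right
  -- `A ⊓ T = ⊥`
  have hAT : T ⊓ A = ⊥ := by
    rw [eq_bot_iff]
    intro x hx
    rw [Subgroup.mem_bot]
    have h2 : orderOf x ∣ Nat.card T := (Subgroup.orderOf_dvd_natCard T hx.1)
    have h3 : orderOf x ∣ r ^ 2 := hAcard ▸ (Subgroup.orderOf_dvd_natCard A hx.2)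
    have h4 : Nat.Coprime (Nat.card T) (r ^ 2) :=
      Nat.Coprime.pow_right 2 ((Nat.Prime.coprime_iff_not_dvd hr).mpr hTr).symm
    have := Nat.eq_one_of_dvd_coprimes h4 h2 h3
    exact orderOf_eq_one_iff.mp this
  have hcY : Nat.card Y = Nat.card T * r ^ 2 := by
    have := Cfsg.Agent.Lib.Helper64.card_sup_mul_card_inf T A
    rw [hAT, sup_comm, hsup, Subgroup.card_top, Subgroup.card_bot, mul_one, hAcard] at this
    exact this
  have hdvd : r ^ 2 ∣ Nat.card S := by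
    have := Cfsg.Agent.Lib.Helper64.card_sup_mul_card_inf T S
    rw [sup_comm, hST, Subgroup.card_top, hcY] at this
    have hpos : 0 < Nat.card T := Nat.card_pos
    have h5 : r ^ 2 * Nat.card (T ⊓ S : Subgroup Y) = Nat.card S := by
      apply Nat.eq_of_mul_eq_mul_left hpos
      rw [← this]; ring
    exact Dvd.intro _ h5
  obtain ⟨K, hK⟩ := Sylow.exists_subgroup_card_pow_prime r hdvd
  set P : Subgroup Y := K.map S.subtype with hP
  have hPS : P ≤ S := Subgroup.map_subtype_le K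
  have hPcard : Nat.card P = r ^ 2 := by
    rw [hP, Subgroup.card_map_of_injective S.subtype_injective, hK]
  have hPidx : ¬ r ∣ P.index := by
    have := P.card_mul_index
    rw [hPcard, hcY] at this
    have h6 : P.index = Nat.card T := by
      apply Nat.eq_of_mul_eq_mul_left (pow_pos hr.pos 2)
      rw [this]; ring
    rw [h6]; exact hTr
  have hAidx : ¬ r ∣ A.index := by
    have := A.card_mul_index
    rw [hAcard, hcY] at this
    have h6 : A.index = Nat.card T := by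
      apply Nat.eq_of_mul_eq_mul_left (pow_pos hr.pos 2)
      rw [this]; ring
    rw [h6]; exact hTr
  have hAp : IsPGroup r A := IsPGroup.of_card hAcard
  obtain ⟨h, hh⟩ := Cfsg.Agent.Lib.Helper64.exists_conj_le_of_not_dvd_index (hAp.toSylow hAidx) P hPidx
  refine ⟨h⁻¹, fun a ha => ?_⟩
  have h7 : a ∈ MulAut.conj h • P := hh ha
  rw [Subgroup.mem_pointwise_smul_iff_inv_smul_mem] at h7
  have h8 : h⁻¹ * a * h ∈ P := by simpa [MulAut.conj_inv_apply] using h7
  simpa using hPS h8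

theorem exists_conj_le_stab' [Finite X] {r : ℕ} [Fact r.Prime] (T A S : Subgroup X)
    (hAT : A ≤ Subgroup.normalizer (T : Set X))
    (hTr : ¬ r ∣ Nat.card T) (hAcard : Nat.card A = r ^ 2)
    (hAcomm : ∀ x ∈ A, ∀ y ∈ A, x * y = y * x)
    (b₀ b₁ g : X) (hb₀ : b₀ ∈ A) (hb₁ : b₁ ∈ A) (hg : g ∈ A ⊔ T)
    (hgen : ∀ H : Subgroup X, b₀ ∈ H → b₁ ∈ H → A ≤ H)
    (h0 : b₀ ∈ S) (h1 : g⁻¹ * b₁ * g ∈ S) :
    ∃ h ∈ A ⊔ T, ∀ a ∈ A, h * a * h⁻¹ ∈ S := by
  set Y : Subgroup X := A ⊔ T with hY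
  have hAY : A ≤ Y := le_sup_left
  have hTY : T ≤ Y := le_sup_right
  have hTn : (T.subgroupOf Y).Normal := Subgroup.normal_subgroupOf_sup_of_le_normalizer hAT
  have hcardT : Nat.card (T.subgroupOf Y) = Nat.card T :=
    Nat.card_congr (Subgroup.subgroupOfEquivOfLe hTY).toEquiv
  have hcardA : Nat.card (A.subgroupOf Y) = Nat.card A :=
    Nat.card_congr (Subgroup.subgroupOfEquivOfLe hAY).toEquiv
  have hsup : A.subgroupOf Y ⊔ T.subgroupOf Y = ⊤ := by
    rw [← Subgroup.subgroupOf_sup hAY hTY, Subgroup.subgroupOf_self]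
  obtain ⟨h, hh⟩ := exists_conj_le_stab (T.subgroupOf Y) (A.subgroupOf Y) (S.subgroupOf Y)
    (by rwa [hcardT]) (by rw [hcardA, hAcard])
    (fun x hx y hy => Subtype.ext (hAcomm x (Subgroup.mem_subgroupOf.mp hx) y
      (Subgroup.mem_subgroupOf.mp hy))) hsup
    ⟨b₀, hAY hb₀⟩ ⟨b₁, hAY hb₁⟩ ⟨g, hg⟩ (Subgroup.mem_subgroupOf.mpr hb₁)
    (fun H hH0 hH1 => by
      have h2 : A ≤ H.map Y.subtype := hgen _ ⟨_, hH0, rfl⟩ ⟨_, hH1, rfl⟩
      intro x hx
      obtain ⟨y, hy, hyx⟩ := h2 (Subgroup.mem_subgroupOf.mp hx)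
      have : y = x := Subtype.ext hyx
      exact this ▸ hy)
    (Subgroup.mem_subgroupOf.mpr h0) (Subgroup.mem_subgroupOf.mpr (by simpa using h1))
  refine ⟨h, h.2, fun a ha => ?_⟩
  have := hh ⟨a, hAY ha⟩ (Subgroup.mem_subgroupOf.mpr ha)
  simpa [Subgroup.mem_subgroupOf] using this

end GroupLemmas

end Cfsg.Agent.Lib.Helper76.WardKey
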