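import Mathlib
import Cfsg.Agent.Lib.Helper76.WardKeyA
import Cfsg.Agent.Lib.Helper48.Coprime

/-!
# Weight spaces for Ward's key lemma (helper76)
-/

set_option autoImplicit false
set_option linter.unusedSectionVars false
set_option linter.unusedVariables false

namespace Cfsg.Agent.Lib.Helper76.WardKey

open scoped commutatorElement

variable {X : Type*} [Group X] {𝔽 : Type*} [Field 𝔽] {E : Type*} [AddCommGroup E] [Module 𝔽 E]

section Weights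

variable (ρ : X →* Module.End 𝔽 E)

/-- The weight space of `μ` for `Z` inside `U`. -/
def wtSpace (Z : Subgroup X) (U : Submodule 𝔽 E) (μ : X → 𝔽) : Submodule 𝔽 E where
  carrier := {w | w ∈ U ∧ ∀ z ∈ Z, ρ z w = μ z • w}
  zero_mem' := ⟨U.zero_mem, fun z _ => by simp⟩
  add_mem' := by
    rintro a b ⟨ha, ha'⟩ ⟨hb, hb'⟩
    exact ⟨U.add_mem ha hb, fun z hz => by rw [map_add, ha' z hz, hb' z hz, smul_add]⟩
  smul_mem' := by
    rintro k a ⟨ha, ha'⟩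
    exact ⟨U.smul_mem k ha, fun z hz => by rw [map_smul, ha' z hz, smul_comm]⟩

theorem mem_wtSpace {Z : Subgroup X} {U : Submodule 𝔽 E} {μ : X → 𝔽} {w : E} :
    w ∈ wtSpace ρ Z U μ ↔ w ∈ U ∧ ∀ z ∈ Z, ρ z w = μ z • w := Iff.rfl

theorem wtSpace_le (Z : Subgroup X) (U : Submodule 𝔽 E) (μ : X → 𝔽) : wtSpace ρ Z U μ ≤ U :=
  fun _ h => h.1

/-- The conjugate weight `z ↦ μ (g⁻¹ z g)`. -/
def conjWt (g : X) (μ : X → 𝔽) : X → 𝔽 := fun z => μ (g⁻¹ * z * g)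

theorem conjWt_apply (g : X) (μ : X → 𝔽) (z : X) : conjWt g μ z = μ (g⁻¹ * z * g) := rfl

theorem conjWt_mul (g h : X) (μ : X → 𝔽) : conjWt (g * h) μ = conjWt g (conjWt h μ) := by
  funext z
  simp only [conjWt_apply]
  congr 1
  group

theorem conjWt_one (μ : X → 𝔽) : conjWt 1 μ = μ := by
  funext z
  simp [conjWt_apply]

theorem conj_mem_of_mem_normalizer {Z : Subgroup X} {g : X}
    (hg : g ∈ Subgroup.normalizer (Z : Set X)) {z : X} (hz : z ∈ Z) : g⁻¹ * z * g ∈ Z := by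
  have := (Subgroup.mem_normalizer_iff.mp (Subgroup.inv_mem _ hg) z).mp hz
  simpa using this

theorem conj_mem_of_mem_normalizer' {Z : Subgroup X} {g : X}
    (hg : g ∈ Subgroup.normalizer (Z : Set X)) {z : X} (hz : z ∈ Z) : g * z * g⁻¹ ∈ Z :=
  (Subgroup.mem_normalizer_iff.mp hg z).mp hz

theorem rho_mem_wtSpace_conjWt {Z : Subgroup X} {U : Submodule 𝔽 E} {μ : X → 𝔽} {g : X}
    (hg : g ∈ Subgroup.normalizer (Z : Set X)) (hgU : ∀ w ∈ U, ρ g w ∈ U) {w : E}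
    (hw : w ∈ wtSpace ρ Z U μ) : ρ g w ∈ wtSpace ρ Z U (conjWt g μ) := by
  refine ⟨hgU w hw.1, fun z hz => ?_⟩
  have h1 : z * g = g * (g⁻¹ * z * g) := by group
  rw [← rho_mul, h1, rho_mul, hw.2 _ (conj_mem_of_mem_normalizer hg hz), map_smul, conjWt_apply]

/-- The subgroup of elements preserving `U` (together with their inverses). -/
def stabU (U : Submodule 𝔽 E) : Subgroup X where
  carrier := {g | (∀ w ∈ U, ρ g w ∈ U) ∧ ∀ w ∈ U, ρ g⁻¹ w ∈ U}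
  one_mem' := ⟨fun w hw => by rwa [rho_one], fun w hw => by rwa [inv_one, rho_one]⟩
  mul_mem' := by
    rintro a b ⟨ha, ha'⟩ ⟨hb, hb'⟩
    refine ⟨fun w hw => ?_, fun w hw => ?_⟩
    · rw [rho_mul]; exact ha _ (hb w hw)
    · rw [mul_inv_rev, rho_mul]; exact hb' _ (ha' w hw)
  inv_mem' := by
    rintro a ⟨ha, ha'⟩
    exact ⟨ha', by rwa [inv_inv]⟩

theorem le_stabU {H : Subgroup X} {U : Submodule 𝔽 E} (h : ∀ g ∈ H, ∀ w ∈ U, ρ g w ∈ U) :
    H ≤ stabU ρ U := fun g hg => ⟨h g hg, h g⁻¹ (H.inv_mem hg)⟩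


theorem wtSpace_congr {Z : Subgroup X} {U : Submodule 𝔽 E} {μ μ' : X → 𝔽}
    (h : ∀ z ∈ Z, μ z = μ' z) : wtSpace ρ Z U μ = wtSpace ρ Z U μ' := by
  ext w
  simp only [mem_wtSpace]
  constructor
  · rintro ⟨h1, h2⟩; exact ⟨h1, fun z hz => by rw [h2 z hz, h z hz]⟩
  · rintro ⟨h1, h2⟩; exact ⟨h1, fun z hz => by rw [h2 z hz, h z hz]⟩

/-- The stabilizer of a weight (as a function on `Z`) in the normalizer of `Z`. -/
def stabWt (Z : Subgroup X) (ν : X → 𝔽) : Subgroup X where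
  carrier := {a | a ∈ Subgroup.normalizer (Z : Set X) ∧ ∀ z ∈ Z, ν (a⁻¹ * z * a) = ν z}
  one_mem' := ⟨Subgroup.one_mem _, fun z _ => by simp⟩
  mul_mem' := by
    rintro a b ⟨ha, ha'⟩ ⟨hb, hb'⟩
    refine ⟨Subgroup.mul_mem _ ha hb, fun z hz => ?_⟩
    have e : (a * b)⁻¹ * z * (a * b) = b⁻¹ * (a⁻¹ * z * a) * b := by group
    rw [e, hb' _ (conj_mem_of_mem_normalizer ha hz), ha' z hz]
  inv_mem' := by
    rintro a ⟨ha, ha'⟩
    refine ⟨Subgroup.inv_mem _ ha, fun z hz => ?_⟩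
    have h1 := ha' _ (conj_mem_of_mem_normalizer' ha hz)
    have e : a⁻¹ * (a * z * a⁻¹) * a = z := by group
    rw [e] at h1
    rw [inv_inv]; exact h1.symm

theorem mem_stabWt {Z : Subgroup X} {ν : X → 𝔽} {a : X} :
    a ∈ stabWt Z ν ↔ a ∈ Subgroup.normalizer (Z : Set X) ∧ ∀ z ∈ Z, ν (a⁻¹ * z * a) = ν z :=
  Iff.rfl

theorem mem_stabWt_conjWt_of_comm {Z : Subgroup X} {ν : X → 𝔽} {g u : X}
    (hg : g ∈ Subgroup.normalizer (Z : Set X)) (hgu : g * u = u * g) (hu : u ∈ stabWt Z ν) :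
    u ∈ stabWt Z (conjWt g ν) := by
  refine ⟨hu.1, fun z hz => ?_⟩
  simp only [conjWt_apply]
  have e : g⁻¹ * (u⁻¹ * z * u) * g = u⁻¹ * (g⁻¹ * z * g) * u := by
    have h1 : g⁻¹ * u⁻¹ = u⁻¹ * g⁻¹ := by
      rw [← mul_inv_rev, ← mul_inv_rev, hgu]
    have h2 : u * g = g * u := hgu.symm
    calc g⁻¹ * (u⁻¹ * z * u) * g = (g⁻¹ * u⁻¹) * z * (u * g) := by group
      _ = (u⁻¹ * g⁻¹) * z * (g * u) := by rw [h1, h2]
      _ = u⁻¹ * (g⁻¹ * z * g) * u := by group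
  rw [e, hu.2 _ (conj_mem_of_mem_normalizer hg hz)]

/-- Elements preserving `W` (with their inverses) and commuting with `ρ x` on `W`. -/
def commOn (W : Submodule 𝔽 E) (x : X) : Subgroup X where
  carrier := {b | (∀ w ∈ W, ρ b w ∈ W) ∧ (∀ w ∈ W, ρ b⁻¹ w ∈ W) ∧
    ∀ w ∈ W, ρ b (ρ x w) = ρ x (ρ b w)}
  one_mem' := ⟨fun w hw => by rwa [rho_one], fun w hw => by rwa [inv_one, rho_one],
    fun w _ => by rw [rho_one, rho_one]⟩
  mul_mem' := by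
    rintro a b ⟨ha, ha', ha''⟩ ⟨hb, hb', hb''⟩
    refine ⟨fun w hw => ?_, fun w hw => ?_, fun w hw => ?_⟩
    · rw [rho_mul]; exact ha _ (hb w hw)
    · rw [mul_inv_rev, rho_mul]; exact hb' _ (ha' w hw)
    · rw [rho_mul, rho_mul, hb'' w hw, ha'' _ (hb w hw)]
  inv_mem' := by
    rintro a ⟨ha, ha', ha''⟩
    refine ⟨ha', by rwa [inv_inv], fun w hw => ?_⟩
    have h1 := ha'' _ (ha' w hw)
    rw [rho_rho_inv] at h1
    have h2 := congrArg (ρ a⁻¹) h1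
    rw [rho_inv_rho] at h2
    exact h2.symm

theorem mem_commOn {W : Submodule 𝔽 E} {x b : X} :
    b ∈ commOn ρ W x ↔ (∀ w ∈ W, ρ b w ∈ W) ∧ (∀ w ∈ W, ρ b⁻¹ w ∈ W) ∧
      ∀ w ∈ W, ρ b (ρ x w) = ρ x (ρ b w) := Iff.rfl

/-- The pointwise fixer of a subspace. -/
def fixer (W : Submodule 𝔽 E) : Subgroup X where
  carrier := {g | ∀ w ∈ W, ρ g w = w}
  one_mem' := fun w _ => rho_one ρ w
  mul_mem' := by
    intro a b ha hb w hw
    rw [rho_mul, hb w hw, ha w hw]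
  inv_mem' := by
    intro a ha w hw
    have := congrArg (ρ a⁻¹) (ha w hw)
    rw [rho_inv_rho] at this
    exact this.symm

theorem mem_fixer {W : Submodule 𝔽 E} {g : X} : g ∈ fixer ρ W ↔ ∀ w ∈ W, ρ g w = w := Iff.rfl

theorem rho_commutator_of_comm {x y : X} {w : E}
    (h : ρ x (ρ y (ρ x⁻¹ (ρ y⁻¹ w))) = ρ y (ρ x (ρ x⁻¹ (ρ y⁻¹ w)))) : ρ ⁅x, y⁆ w = w := by
  rw [commutatorElement_def, rho_mul, rho_mul, rho_mul, h, rho_rho_inv, rho_rho_inv]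

end Weights

end Cfsg.Agent.Lib.Helper76.WardKey
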