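import Mathlib
import Cfsg.Agent.Lib.Helper76.WardKeyB

/-!
# Core of Ward's key lemma (helper76)

Setting: a finite group `X` acting on a finite-dimensional space `E` over an algebraically closed
field; `A ≤ X` elementary abelian of order `r ^ 2` normalizing a `q`-group `Q` and a `t`-group `T`,
`T` normalizing `Q`.
-/

set_option autoImplicit false
set_option linter.unusedSectionVars false
set_option linter.unusedVariables false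

namespace Cfsg.Agent.Lib.Helper76.WardKey

open scoped commutatorElement

variable {X : Type*} [Group X] [Finite X] {𝔽 : Type*} [Field 𝔽]
  {E : Type*} [AddCommGroup E] [Module 𝔽 E]

/-- Hypotheses of the key lemma (with a distinguished `uT ∈ A` centralized by `T`). -/
structure Setup (ρ : X →* Module.End 𝔽 E) (r q t : ℕ) (A Q T : Subgroup X) (uT : X) : Prop where
  hrq : r ≠ q
  hrt : r ≠ t
  hq𝔽 : (q : 𝔽) ≠ 0
  hAcomm : ∀ x ∈ A, ∀ y ∈ A, x * y = y * x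
  hAexp : ∀ x ∈ A, x ^ r = 1
  hAcard : Nat.card A = r ^ 2
  hQ : IsPGroup q Q
  hT : IsPGroup t T
  hAQ : A ≤ Subgroup.normalizer (Q : Set X)
  hAT : A ≤ Subgroup.normalizer (T : Set X)
  hTQ : T ≤ Subgroup.normalizer (Q : Set X)
  hQA : Q ⊓ Subgroup.centralizer (A : Set X) = ⊥
  hTA : T ⊓ Subgroup.centralizer (A : Set X) = ⊥
  hα : ∀ u ∈ A, u ≠ 1 → ∀ g ∈ Q, g * u = u * g → ∀ w : E, ρ u w = w → ρ g w = w
  hβ : ∀ u ∈ A, u ≠ 1 → ∀ g ∈ Q, g * u = u * g → ∀ h ∈ T, h * u = u * h → g * h = h * g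
  huT : uT ∈ A
  huT1 : uT ≠ 1
  hTu : ∀ y ∈ T, y * uT = uT * y

/-- An irreducible subspace `U` and a subgroup `Z ≤ Q` acting on `U` by operators commuting
with `Q`. -/
structure Setup2 (ρ : X →* Module.End 𝔽 E) (A Q T : Subgroup X) (U : Submodule 𝔽 E)
    (Z : Subgroup X) : Prop where
  hU0 : U ≠ ⊥
  hUQ : ∀ g ∈ Q, ∀ w ∈ U, ρ g w ∈ U
  hUT : ∀ g ∈ T, ∀ w ∈ U, ρ g w ∈ U
  hUA : ∀ g ∈ A, ∀ w ∈ U, ρ g w ∈ U
  hirr : ∀ U' : Submodule 𝔽 E, U' ≤ U → (∀ g ∈ Q, ∀ w ∈ U', ρ g w ∈ U') →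
    (∀ g ∈ T, ∀ w ∈ U', ρ g w ∈ U') → (∀ g ∈ A, ∀ w ∈ U', ρ g w ∈ U') → U' = ⊥ ∨ U' = U
  hUN : ∀ w ∈ U, (∀ x ∈ Q, ∀ y ∈ T, ρ ⁅x, y⁆ w = w) → w = 0
  hZQ : Z ≤ Q
  hQZ : Q ≤ Subgroup.normalizer (Z : Set X)
  hTZ : T ≤ Subgroup.normalizer (Z : Set X)
  hAZ : A ≤ Subgroup.normalizer (Z : Set X)
  hZnt : ¬ ∀ z ∈ Z, ∀ w ∈ U, ρ z w = w
  hZcomm : ∀ z ∈ Z, ∀ x ∈ Q, ∀ w ∈ U, ρ z (ρ x w) = ρ x (ρ z w)

section Core

variable {ρ : X →* Module.End 𝔽 E} {r q t : ℕ} [Fact r.Prime] [Fact q.Prime] [Fact t.Prime]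
  {A Q T : Subgroup X} {uT : X} {U : Submodule 𝔽 E} {Z : Subgroup X}

theorem Setup2.hUY (h2 : Setup2 ρ A Q T U Z) : ∀ g ∈ T ⊔ A, ∀ w ∈ U, ρ g w ∈ U := fun g hg =>
  ((sup_le (le_stabU ρ h2.hUT) (le_stabU ρ h2.hUA)) hg).1

theorem Setup2.hYZ (h2 : Setup2 ρ A Q T U Z) : T ⊔ A ≤ Subgroup.normalizer (Z : Set X) :=
  sup_le h2.hTZ h2.hAZ

/-- (W5) `C_U(Z) = 0`. -/
theorem Setup2.fixed_eq_zero (h2 : Setup2 ρ A Q T U Z) :
    ∀ w ∈ U, (∀ z ∈ Z, ρ z w = w) → w = 0 := by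
  intro w hw hfix
  have key : ∀ g, g ∈ Subgroup.normalizer (Z : Set X) → (∀ w ∈ U, ρ g w ∈ U) →
      ∀ w ∈ wtSpace ρ Z U (fun _ => (1 : 𝔽)), ρ g w ∈ wtSpace ρ Z U (fun _ => (1 : 𝔽)) := by
    intro g hg hgU w hw
    exact rho_mem_wtSpace_conjWt ρ hg hgU hw
  rcases h2.hirr _ (wtSpace_le ρ Z U _) (fun g hg => key g (h2.hQZ hg) (h2.hUQ g hg))
    (fun g hg => key g (h2.hTZ hg) (h2.hUT g hg))
    (fun g hg => key g (h2.hAZ hg) (h2.hUA g hg)) with h | h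
  · have : w ∈ wtSpace ρ Z U (fun _ => (1 : 𝔽)) := ⟨hw, fun z hz => by rw [hfix z hz, one_smul]⟩
    rw [h, Submodule.mem_bot] at this
    exact this
  · exfalso
    apply h2.hZnt
    intro z hz w hw
    have : w ∈ wtSpace ρ Z U (fun _ => (1 : 𝔽)) := by rw [h]; exact hw
    rw [this.2 z hz, one_smul]

/-- (W3) `Q` preserves each weight space. -/
theorem Setup2.wt_inv_Q (h2 : Setup2 ρ A Q T U Z) {μ : X → 𝔽} {x : X} (hx : x ∈ Q) {w : E}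
    (hw : w ∈ wtSpace ρ Z U μ) : ρ x w ∈ wtSpace ρ Z U μ :=
  ⟨h2.hUQ x hx w hw.1, fun z hz => by rw [h2.hZcomm z hz x hx w hw.1, hw.2 z hz, map_smul]⟩

/-- (W4) `U` is the sum of the weight spaces of the `T ⊔ A`-conjugates of a weight. -/
theorem Setup2.U_le_iSup (h2 : Setup2 ρ A Q T U Z) {μ₀ : X → 𝔽} {w₁ : E}
    (hw₁ : w₁ ∈ wtSpace ρ Z U μ₀) (hw₁0 : w₁ ≠ 0) :
    U ≤ ⨆ g : (T ⊔ A : Subgroup X), wtSpace ρ Z U (conjWt (g : X) μ₀) := by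
  set S₀ : Submodule 𝔽 E := ⨆ g : (T ⊔ A : Subgroup X), wtSpace ρ Z U (conjWt (g : X) μ₀) with hS₀
  have hle : S₀ ≤ U := iSup_le fun g => wtSpace_le ρ Z U _
  have hY : ∀ h ∈ T ⊔ A, ∀ w ∈ S₀, ρ h w ∈ S₀ := by
    intro h hh w hw
    refine Submodule.iSup_induction _ (motive := fun w => ρ h w ∈ S₀) hw ?_ ?_ ?_
    · intro g w hw
      have h1 := rho_mem_wtSpace_conjWt ρ (h2.hYZ hh) (h2.hUY h hh) hw
      rw [← conjWt_mul] at h1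
      exact Submodule.mem_iSup_of_mem (⟨h * g, Subgroup.mul_mem _ hh g.2⟩ : (T ⊔ A : Subgroup X)) h1
    · rw [map_zero]; exact S₀.zero_mem
    · intro a b ha hb
      rw [map_add]; exact S₀.add_mem ha hb
  have hQ : ∀ x ∈ Q, ∀ w ∈ S₀, ρ x w ∈ S₀ := by
    intro x hx w hw
    refine Submodule.iSup_induction _ (motive := fun w => ρ x w ∈ S₀) hw ?_ ?_ ?_
    · intro g w hw
      exact Submodule.mem_iSup_of_mem g (h2.wt_inv_Q hx hw)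
    · rw [map_zero]; exact S₀.zero_mem
    · intro a b ha hb
      rw [map_add]; exact S₀.add_mem ha hb
  rcases h2.hirr S₀ hle hQ (fun g hg => hY g (Subgroup.mem_sup_left hg))
    (fun g hg => hY g (Subgroup.mem_sup_right hg)) with h | h
  · exfalso
    have : w₁ ∈ S₀ := by
      refine Submodule.mem_iSup_of_mem (1 : (T ⊔ A : Subgroup X)) ?_
      simpa [conjWt_one] using hw₁
    rw [h, Submodule.mem_bot] at this
    exact hw₁0 this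
  · exact h.ge

theorem Setup2.forall_U_of_forall_wt (h2 : Setup2 ρ A Q T U Z) {μ₀ : X → 𝔽} {w₁ : E}
    (hw₁ : w₁ ∈ wtSpace ρ Z U μ₀) (hw₁0 : w₁ ≠ 0) (P : Submodule 𝔽 E)
    (hP : ∀ g ∈ T ⊔ A, wtSpace ρ Z U (conjWt g μ₀) ≤ P) : U ≤ P :=
  (h2.U_le_iSup hw₁ hw₁0).trans (iSup_le fun g => hP g g.2)

/-- conjugate weight spaces are nonzero -/
theorem Setup2.conj_wtSpace_ne_bot (h2 : Setup2 ρ A Q T U Z) {μ₀ : X → 𝔽} {w₁ : E}
    (hw₁ : w₁ ∈ wtSpace ρ Z U μ₀) (hw₁0 : w₁ ≠ 0) {g : X} (hg : g ∈ T ⊔ A) :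
    wtSpace ρ Z U (conjWt g μ₀) ≠ ⊥ := by
  intro h
  have h1 := rho_mem_wtSpace_conjWt ρ (h2.hYZ hg) (h2.hUY g hg) hw₁
  rw [h, Submodule.mem_bot] at h1
  apply hw₁0
  have := congrArg (ρ g⁻¹) h1
  rwa [rho_inv_rho, map_zero] at this

/-- (L9) If `Q` and `T` commute on `U` we have a contradiction. -/
theorem Setup2.false_of_comm (h2 : Setup2 ρ A Q T U Z)
    (h : ∀ x ∈ Q, ∀ y ∈ T, ∀ w ∈ U, ρ x (ρ y w) = ρ y (ρ x w)) : False := by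
  obtain ⟨w, hw, hw0⟩ := (Submodule.ne_bot_iff _).mp h2.hU0
  apply hw0
  apply h2.hUN w hw
  intro x hx y hy
  apply rho_commutator_of_comm
  apply h x hx y hy
  exact h2.hUQ _ (Q.inv_mem hx) _ (h2.hUT _ (T.inv_mem hy) _ hw)

end Core

end Cfsg.Agent.Lib.Helper76.WardKey
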