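import Mathlib
import Cfsg.Agent.Lib.Helper76.WardKeyC

/-!
# Stabilizers of weights in Ward's key lemma (helper76)
-/

set_option autoImplicit false
set_option linter.unusedSectionVars false
set_option linter.unusedVariables false

namespace Cfsg.Agent.Lib.Helper76.WardKey

open scoped commutatorElement
open Cfsg.Agent.Lib.Helper48

variable {X : Type*} [Group X] [Finite X] {𝔽 : Type*} [Field 𝔽]
  {E : Type*} [AddCommGroup E] [Module 𝔽 E]

section Core

variable {ρ : X →* Module.End 𝔽 E} {r q t : ℕ} [Fact r.Prime] [Fact q.Prime] [Fact t.Prime]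
  {A Q T : Subgroup X} {uT : X} {U : Submodule 𝔽 E} {Z : Subgroup X}

theorem Setup.hAp (h1 : Setup ρ r q t A Q T uT) : IsPGroup r A := IsPGroup.of_card h1.hAcard

theorem Setup.not_dvd_card_of_le_Q (h1 : Setup ρ r q t A Q T uT) {K : Subgroup X} (hK : K ≤ Q) :
    ¬ r ∣ Nat.card K := by
  intro h
  obtain ⟨n, hn⟩ := IsPGroup.iff_card.mp (h1.hQ.to_le hK)
  rw [hn] at h
  have := (Nat.prime_dvd_prime_iff_eq (Fact.out : r.Prime) (Fact.out : q.Prime)).mp
    ((Fact.out : r.Prime).dvd_of_dvd_pow h)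
  exact h1.hrq this

theorem Setup.not_dvd_card_of_le_T (h1 : Setup ρ r q t A Q T uT) {K : Subgroup X} (hK : K ≤ T) :
    ¬ r ∣ Nat.card K := by
  intro h
  obtain ⟨n, hn⟩ := IsPGroup.iff_card.mp (h1.hT.to_le hK)
  rw [hn] at h
  have := (Nat.prime_dvd_prime_iff_eq (Fact.out : r.Prime) (Fact.out : t.Prime)).mp
    ((Fact.out : r.Prime).dvd_of_dvd_pow h)
  exact h1.hrt this

/-- (iv-a) no weight is `A`-invariant. -/
theorem wtSpace_eq_bot_of_A_inv (h1 : Setup ρ r q t A Q T uT) (h2 : Setup2 ρ A Q T U Z)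
    (ν : X → 𝔽) (hν : ∀ a ∈ A, ∀ z ∈ Z, ν (a⁻¹ * z * a) = ν z) : wtSpace ρ Z U ν = ⊥ := by
  have hK : ⁅Z, A⁆ ≤ fixer ρ (wtSpace ρ Z U ν) := by
    rw [Subgroup.commutator_le]
    intro z hz a ha w hw
    have e : ⁅z, a⁆ = z * (a * z⁻¹ * a⁻¹) := by rw [commutatorElement_def]; group
    have hz' : a * z⁻¹ * a⁻¹ ∈ Z := conj_mem_of_mem_normalizer' (h2.hAZ ha) (Z.inv_mem hz)
    have h3 : ν (a * z⁻¹ * a⁻¹) = ν z⁻¹ := by
      have := hν a⁻¹ (A.inv_mem ha) z⁻¹ (Z.inv_mem hz)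
      rwa [inv_inv] at this
    rw [e, rho_mul, hw.2 _ hz', map_smul, hw.2 z hz, h3]
    have h4 : ρ z⁻¹ (ρ z w) = w := rho_inv_rho ρ z w
    rw [hw.2 z hz, map_smul, hw.2 _ (Z.inv_mem hz), smul_comm] at h4
    exact h4
  have hZ : Z ≤ fixer ρ (wtSpace ρ Z U ν) := by
    intro z hz
    obtain ⟨c, hc, d, hd, rfl⟩ := exists_centralizer_mul_commutator h1.hAp
      (h1.not_dvd_card_of_le_Q h2.hZQ) h2.hAZ hz
    have hc1 : c = 1 := by
      have : c ∈ Q ⊓ Subgroup.centralizer (A : Set X) := ⟨h2.hZQ hc.1, hc.2⟩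
      rw [h1.hQA, Subgroup.mem_bot] at this
      exact this
    rw [hc1, one_mul]
    exact hK hd
  rw [eq_bot_iff]
  intro w hw
  rw [Submodule.mem_bot]
  exact h2.fixed_eq_zero w hw.1 (fun z hz => hZ hz w hw)

/-- (iv-b) the diagonal argument. -/
theorem diag (h1 : Setup ρ r q t A Q T uT) (h2 : Setup2 ρ A Q T U Z) (ν : X → 𝔽) {u : X}
    (hu : u ∈ A) (hne : u ∉ stabWt Z ν) {g : X} (hg : g ∈ Q) (hgu : g * u = u * g) {w : E}
    (hw : w ∈ wtSpace ρ Z U ν) : ρ g w = w := by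
  have hr : r.Prime := Fact.out
  have hu1 : u ≠ 1 := by rintro rfl; exact hne (Subgroup.one_mem _)
  have hur : u ^ r = 1 := h1.hAexp u hu
  have hord : orderOf u = r := orderOf_eq_prime hur hu1
  have hpowA : ∀ k : ℕ, u ^ k ∈ A := fun k => A.pow_mem hu k
  have hpow : ∀ k, 0 < k → k < r → u ^ k ∉ stabWt Z ν := by
    intro k hk0 hkr hmem
    have hcop : Nat.Coprime k (orderOf u) := by
      rw [hord]; exact (Nat.coprime_of_lt_prime (by omega) hkr hr).symm
    obtain ⟨m, hm⟩ := exists_pow_eq_self_of_coprime hcop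
    exact hne (hm ▸ Subgroup.pow_mem _ hmem m)
  have hlt : ∀ i j, i < j → j < r → ¬ ∀ z ∈ Z, conjWt (u ^ i) ν z = conjWt (u ^ j) ν z := by
    intro i j hij hjr hall
    apply hpow (j - i) (by omega) (by omega)
    refine ⟨h2.hAZ (hpowA _), fun z hz => ?_⟩
    have hz' : u ^ i * z * (u ^ i)⁻¹ ∈ Z := conj_mem_of_mem_normalizer' (h2.hAZ (hpowA i)) hz
    have h3 := hall _ hz'
    simp only [conjWt_apply] at h3
    have e1 : (u ^ i)⁻¹ * (u ^ i * z * (u ^ i)⁻¹) * u ^ i = z := by group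
    have e2 : (u ^ j)⁻¹ * (u ^ i * z * (u ^ i)⁻¹) * u ^ j = (u ^ (j - i))⁻¹ * z * u ^ (j - i) := by
      have e : u ^ j = u ^ i * u ^ (j - i) := by rw [← pow_add]; congr 1; omega
      rw [e]; group
    rw [e1, e2] at h3
    exact h3.symm
  have hdist : ∀ i < r, ∀ j < r, i ≠ j →
      ∃ z ∈ Z, conjWt (u ^ i) ν z ≠ conjWt (u ^ j) ν z := by
    intro i hi j hj hij
    by_contra hcon
    push Not at hcon
    rcases lt_or_gt_of_ne hij with h | h
    · exact hlt i j h hj hcon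
    · exact hlt j i h hi (fun z hz => (hcon z hz).symm)
  -- the vectors
  have hwi : ∀ i, ρ (u ^ i) w ∈ wtSpace ρ Z U (conjWt (u ^ i) ν) := fun i =>
    rho_mem_wtSpace_conjWt ρ (h2.hAZ (hpowA i)) (h2.hUA _ (hpowA i)) hw
  have hci : ∀ i, ρ g (ρ (u ^ i) w) - ρ (u ^ i) w ∈ wtSpace ρ Z U (conjWt (u ^ i) ν) := fun i =>
    Submodule.sub_mem _ (h2.wt_inv_Q hg (hwi i)) (hwi i)
  -- the fixed vector
  set w' : E := ∑ i ∈ Finset.range r, ρ (u ^ i) w with hw'
  have hfix : ρ u w' = w' := by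
    rw [hw', map_sum]
    have h3 : ∀ i, ρ u (ρ (u ^ i) w) = ρ (u ^ (i + 1)) w := fun i => by
      rw [← rho_mul, ← pow_succ']
    simp only [h3]
    have h4 := Finset.sum_range_succ' (fun i => ρ (u ^ i) w) r
    have h5 := Finset.sum_range_succ (fun i => ρ (u ^ i) w) r
    rw [h5] at h4
    simp only [hur, pow_zero] at h4
    exact (add_right_cancel h4).symm
  have hgw' : ρ g w' = w' := h1.hα u hu hu1 g hg hgu w' hfix
  have hsum : ∑ i ∈ Finset.range r, (ρ g (ρ (u ^ i) w) - ρ (u ^ i) w) = 0 := by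
    rw [Finset.sum_sub_distrib, ← map_sum, ← hw', hgw', sub_self]
  have := wt_indep ρ (Z : Set X) r (fun i => conjWt (u ^ i) ν)
    (fun i => ρ g (ρ (u ^ i) w) - ρ (u ^ i) w) (fun i _ z hz => (hci i).2 z hz) hdist hsum 0 hr.pos
  simp only [pow_zero, rho_one] at this
  exact sub_eq_zero.mp this

theorem mem_centralizer_singleton_iff {g u : X} :
    g ∈ Subgroup.centralizer ({u} : Set X) ↔ g * u = u * g := by
  rw [Subgroup.mem_centralizer_iff]
  constructor
  · intro h; exact (h u rfl).symm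
  · rintro h _ rfl; exact h.symm

/-- (iv-c) the stabilizer in `A` of a weight is nontrivial. -/
theorem exists_mem_stabWt (h1 : Setup ρ r q t A Q T uT) (h2 : Setup2 ρ A Q T U Z) (ν : X → 𝔽)
    (hν : wtSpace ρ Z U ν ≠ ⊥) : ∃ u ∈ A, u ≠ 1 ∧ u ∈ stabWt Z ν := by
  by_contra hcon
  push Not at hcon
  apply hν
  have hQ : Q ≤ fixer ρ (wtSpace ρ Z U ν) := by
    apply elemAb_generation A h1.hAcomm h1.hAexp (le_of_eq h1.hAcard.symm) Q _
      (h1.not_dvd_card_of_le_Q le_rfl) h1.hAQ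
    intro u hu hu1 g hg w hw
    exact diag h1 h2 ν hu (hcon u hu hu1) hg.1 (mem_centralizer_singleton_iff.mp hg.2) hw
  rw [eq_bot_iff]
  intro w hw
  rw [Submodule.mem_bot]
  exact h2.fixed_eq_zero w hw.1 (fun z hz => hQ (h2.hZQ hz) w hw)

theorem mem_zpowers_symm {u b : X} (hur : u ^ r = 1) (hb : b ∈ Subgroup.zpowers u) (hb1 : b ≠ 1) :
    u ∈ Subgroup.zpowers b := by
  have hr : r.Prime := Fact.out
  have hu1 : u ≠ 1 := by
    rintro rfl
    rw [Subgroup.zpowers_one_eq_bot, Subgroup.mem_bot] at hb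
    exact hb1 hb
  have hbr : b ^ r = 1 := by
    obtain ⟨k, rfl⟩ := Subgroup.mem_zpowers_iff.mp hb
    rw [← zpow_natCast, ← zpow_mul, mul_comm, zpow_mul, zpow_natCast, hur, one_zpow]
  have h1 : Subgroup.zpowers b ≤ Subgroup.zpowers u := by rwa [Subgroup.zpowers_le]
  have h2 : Subgroup.zpowers b = Subgroup.zpowers u := by
    apply Subgroup.eq_of_le_of_card_ge h1
    rw [Nat.card_zpowers, Nat.card_zpowers, orderOf_eq_prime hur hu1, orderOf_eq_prime hbr hb1]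
  rw [h2]; exact Subgroup.mem_zpowers u

/-- (iv-d) on a weight space, `Q` commutes with the stabilizer of the weight in `A`. -/
theorem comm_on_wtSpace (h1 : Setup ρ r q t A Q T uT) (h2 : Setup2 ρ A Q T U Z) (ν : X → 𝔽)
    (hν : wtSpace ρ Z U ν ≠ ⊥) {b : X} (hb : b ∈ A) (hbs : b ∈ stabWt Z ν) {x : X} (hx : x ∈ Q)
    {w : E} (hw : w ∈ wtSpace ρ Z U ν) : ρ x (ρ b w) = ρ b (ρ x w) := by
  have hbW : ∀ w ∈ wtSpace ρ Z U ν, ρ b w ∈ wtSpace ρ Z U ν := by
    intro w hw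
    have := rho_mem_wtSpace_conjWt ρ (h2.hAZ hb) (h2.hUA b hb) hw
    have e : wtSpace ρ Z U (conjWt b ν) = wtSpace ρ Z U ν :=
      wtSpace_congr ρ (fun z hz => hbs.2 z hz)
    rwa [e] at this
  have hQ : Q ≤ commOn ρ (wtSpace ρ Z U ν) b := by
    apply elemAb_generation A h1.hAcomm h1.hAexp (le_of_eq h1.hAcard.symm) Q _
      (h1.not_dvd_card_of_le_Q le_rfl) h1.hAQ
    intro u hu hu1 g hg
    have hgu : g * u = u * g := mem_centralizer_singleton_iff.mp hg.2
    by_cases hus : u ∈ stabWt Z ν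
    · -- then `b` is a power of `u`
      have hbu : b ∈ Subgroup.zpowers u := by
        by_contra hbu
        have hle : A ≤ stabWt Z ν := elemAb_le_of_mem A h1.hAexp h1.hAcard hu hu1 hb hbu _ hus hbs
        exact hν (wtSpace_eq_bot_of_A_inv h1 h2 ν (fun a ha => (hle ha).2))
      obtain ⟨k, rfl⟩ := Subgroup.mem_zpowers_iff.mp hbu
      have hcomm : g * u ^ k = u ^ k * g := by
        have : Commute g u := hgu
        exact (this.zpow_right k).eq
      refine ⟨fun w hw => h2.wt_inv_Q hg.1 hw, fun w hw => h2.wt_inv_Q (Q.inv_mem hg.1) hw,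
        fun w _ => ?_⟩
      rw [← rho_mul, ← rho_mul, hcomm]
    · -- then `g` fixes the weight space pointwise
      have hfix : ∀ w ∈ wtSpace ρ Z U ν, ρ g w = w := fun w hw => diag h1 h2 ν hu hus hg.1 hgu hw
      have hfix' : ∀ w ∈ wtSpace ρ Z U ν, ρ g⁻¹ w = w := fun w hw => by
        have := congrArg (ρ g⁻¹) (hfix w hw)
        rw [rho_inv_rho] at this
        exact this.symm
      refine ⟨fun w hw => by rw [hfix w hw]; exact hw, fun w hw => by rw [hfix' w hw]; exact hw,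
        fun w hw => ?_⟩
      rw [hfix w hw, hfix _ (hbW w hw)]
  exact ((hQ hx).2.2 w hw)

end Core

end Cfsg.Agent.Lib.Helper76.WardKey
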