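import Mathlib
import Cfsg.Agent.Lib.Helper76.WardKeyD

/-!
# The two final cases of Ward's key lemma (helper76)
-/

set_option autoImplicit false
set_option linter.unusedSectionVars false
set_option linter.unusedVariables false

namespace Cfsg.Agent.Lib.Helper76.WardKey

open scoped commutatorElement
open Cfsg.Agent.Lib.Helper48

variable {X : Type*} [Group X] [Finite X] {𝔽 : Type*} [Field 𝔽]
  {E : Type*} [AddCommGroup E] [Module 𝔽 E]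

section Core

variable {ρ : X →* Module.End 𝔽 E} {r q t : ℕ} [Fact r.Prime] [Fact q.Prime] [Fact t.Prime]
  {A Q T : Subgroup X} {uT : X} {U : Submodule 𝔽 E} {Z : Subgroup X}

/-- Extending commutation from the weight spaces to `U`. -/
theorem comm_on_U (h1 : Setup ρ r q t A Q T uT) (h2 : Setup2 ρ A Q T U Z)
    {μ₀ : X → 𝔽} {w₁ : E} (hw₁ : w₁ ∈ wtSpace ρ Z U μ₀) (hw₁0 : w₁ ≠ 0) {b : X} (hb : b ∈ A)
    (hall : ∀ g ∈ T ⊔ A, b ∈ stabWt Z (conjWt g μ₀)) :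
    ∀ x ∈ Q, ∀ w ∈ U, ρ x (ρ b w) = ρ b (ρ x w) := by
  intro x hx
  have := h2.forall_U_of_forall_wt hw₁ hw₁0 (LinearMap.eqLocus (ρ x * ρ b) (ρ b * ρ x)) ?_
  · intro w hw; exact this hw
  · intro g hg w hw
    exact comm_on_wtSpace h1 h2 _ (h2.conj_wtSpace_ne_bot hw₁ hw₁0 hg) hb (hall g hg) hx hw

/-- Case "All": `uT` stabilizes every weight. -/
theorem case_all (h1 : Setup ρ r q t A Q T uT) (h2 : Setup2 ρ A Q T U Z)
    {μ₀ : X → 𝔽} {w₁ : E} (hw₁ : w₁ ∈ wtSpace ρ Z U μ₀) (hw₁0 : w₁ ≠ 0)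
    (hall : ∀ g ∈ T ⊔ A, uT ∈ stabWt Z (conjWt g μ₀)) : False := by
  have hcomm := comm_on_U h1 h2 hw₁ hw₁0 h1.huT hall
  have hmem : ∀ x ∈ Q, Subgroup.zpowers uT ≤ commOn ρ U x := by
    intro x hx
    rw [Subgroup.zpowers_le]
    exact ⟨h2.hUA uT h1.huT, h2.hUA _ (A.inv_mem h1.huT), fun w hw => (hcomm x hx w hw).symm⟩
  have hD : ⁅Q, Subgroup.zpowers uT⁆ ≤ fixer ρ U := by
    rw [Subgroup.commutator_le]
    intro x hx b hb w hw
    have hb' := hmem x hx hb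
    apply rho_commutator_of_comm
    exact (hb'.2.2 _ (h2.hUQ _ (Q.inv_mem hx) _ (hb'.2.1 w hw))).symm
  apply h2.false_of_comm
  intro x hx y hy w hw
  obtain ⟨c, hc, d, hd, rfl⟩ := exists_centralizer_mul_commutator
    (isPGroup_zpowers_of_pow_eq_one (h1.hAexp uT h1.huT))
    (h1.not_dvd_card_of_le_Q le_rfl) ((Subgroup.zpowers_le).mpr (h1.hAQ h1.huT)) hx
  have hcu : c * uT = uT * c :=
    ((Subgroup.mem_centralizer_iff.mp hc.2) uT (Subgroup.mem_zpowers uT)).symm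
  have hcy : c * y = y * c := h1.hβ uT h1.huT h1.huT1 c hc.1 hcu y hy (h1.hTu y hy)
  have hd' := hD hd
  rw [rho_mul, rho_mul, hd' w hw, hd' _ (h2.hUT y hy w hw), ← rho_mul, hcy, rho_mul]

/-- `T` normalizes the "centralizer of `Q` on `U`". -/
theorem conj_mem_commOn (h1 : Setup ρ r q t A Q T uT) (h2 : Setup2 ρ A Q T U Z) {y g : X}
    (hy : y ∈ T) (hg : ∀ x ∈ Q, g ∈ commOn ρ U x) : ∀ x ∈ Q, y * g * y⁻¹ ∈ commOn ρ U x := by
  intro x hx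
  have hyU := h2.hUT y hy
  have hyU' := h2.hUT _ (T.inv_mem hy)
  have hg1 := hg 1 (Q.one_mem)
  refine ⟨fun w hw => ?_, fun w hw => ?_, fun w hw => ?_⟩
  · rw [rho_mul, rho_mul]; exact hyU _ (hg1.1 _ (hyU' w hw))
  · have e : (y * g * y⁻¹)⁻¹ = y * g⁻¹ * y⁻¹ := by group
    rw [e, rho_mul, rho_mul]; exact hyU _ (hg1.2.1 _ (hyU' w hw))
  · have hx' : y⁻¹ * x * y ∈ Q := conj_mem_of_mem_normalizer (h1.hTQ hy) hx
    have hgx' := (hg _ hx').2.2 _ (hyU' w hw)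
    have e1 : ρ (y⁻¹ * x) w = ρ (y⁻¹ * x * y) (ρ y⁻¹ w) := by
      rw [← rho_mul]; congr 2; group
    have e2 : y * (y⁻¹ * x * y) = x * y := by group
    calc ρ (y * g * y⁻¹) (ρ x w) = ρ y (ρ g (ρ (y⁻¹ * x) w)) := by
          rw [rho_mul, rho_mul, rho_mul]
      _ = ρ y (ρ g (ρ (y⁻¹ * x * y) (ρ y⁻¹ w))) := by rw [e1]
      _ = ρ y (ρ (y⁻¹ * x * y) (ρ g (ρ y⁻¹ w))) := by rw [hgx']
      _ = ρ (x * y) (ρ g (ρ y⁻¹ w)) := by rw [← rho_mul, e2]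
      _ = ρ x (ρ (y * g * y⁻¹) w) := by rw [rho_mul, rho_mul, rho_mul]

/-- Case "None": `uT` stabilizes no weight. -/
theorem case_none (h1 : Setup ρ r q t A Q T uT) (h2 : Setup2 ρ A Q T U Z)
    {μ₀ : X → 𝔽} {w₁ : E} (hw₁ : w₁ ∈ wtSpace ρ Z U μ₀) (hw₁0 : w₁ ≠ 0)
    (hnone : ∀ g ∈ T ⊔ A, uT ∉ stabWt Z (conjWt g μ₀)) : False := by
  have hμ₀ne : wtSpace ρ Z U μ₀ ≠ ⊥ := by
    intro h; rw [h, Submodule.mem_bot] at hw₁; exact hw₁0 hw₁
  obtain ⟨b₀, hb₀A, hb₀1, hb₀s⟩ := exists_mem_stabWt h1 h2 μ₀ hμ₀ne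
  have hclaim : ∀ g ∈ T ⊔ A, b₀ ∈ stabWt Z (conjWt g μ₀) := by
    intro g hg
    by_contra hcon
    obtain ⟨b₁, hb₁A, hb₁1, hb₁s⟩ := exists_mem_stabWt h1 h2 _ (h2.conj_wtSpace_ne_bot hw₁ hw₁0 hg)
    have hb₀b₁ : b₀ ∉ Subgroup.zpowers b₁ := fun h => hcon ((Subgroup.zpowers_le.mpr hb₁s) h)
    have hgen : ∀ H : Subgroup X, b₀ ∈ H → b₁ ∈ H → A ≤ H := fun H h0 h1' =>
      elemAb_le_of_mem A h1.hAexp h1.hAcard hb₁A hb₁1 hb₀A hb₀b₁ H h1' h0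
    have hg' : g ∈ A ⊔ T := by rwa [sup_comm]
    have hgZ : g ∈ Subgroup.normalizer (Z : Set X) := h2.hYZ hg
    have hconj : g⁻¹ * b₁ * g ∈ stabWt Z μ₀ := by
      refine ⟨Subgroup.mul_mem _ (Subgroup.mul_mem _ (Subgroup.inv_mem _ hgZ) (h2.hAZ hb₁A)) hgZ,
        fun z hz => ?_⟩
      have hz' : g * z * g⁻¹ ∈ Z := conj_mem_of_mem_normalizer' hgZ hz
      have := hb₁s.2 _ hz'
      simp only [conjWt_apply] at this
      have e1 : g⁻¹ * (b₁⁻¹ * (g * z * g⁻¹) * b₁) * g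
          = (g⁻¹ * b₁ * g)⁻¹ * z * (g⁻¹ * b₁ * g) := by group
      have e2 : g⁻¹ * (g * z * g⁻¹) * g = z := by group
      rw [e1, e2] at this; exact this
    obtain ⟨h, hh, hhA⟩ := exists_conj_le_stab' T A (stabWt Z μ₀) h1.hAT
      (h1.not_dvd_card_of_le_T le_rfl) h1.hAcard h1.hAcomm b₀ b₁ g hb₀A hb₁A hg' hgen hb₀s hconj
    have hhY : h ∈ T ⊔ A := by rw [sup_comm]; exact hh
    have hh' : h⁻¹ ∈ T ⊔ A := Subgroup.inv_mem _ hhY
    have hhZ : h ∈ Subgroup.normalizer (Z : Set X) := h2.hYZ hhY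
    have hbot := wtSpace_eq_bot_of_A_inv h1 h2 (conjWt h⁻¹ μ₀) (fun a ha z hz => by
      simp only [conjWt_apply, inv_inv]
      have := (hhA a ha).2 _ (conj_mem_of_mem_normalizer' hhZ hz)
      have e : (h * a * h⁻¹)⁻¹ * (h * z * h⁻¹) * (h * a * h⁻¹) = h * (a⁻¹ * z * a) * h⁻¹ := by
        group
      rw [e] at this; exact this)
    exact h2.conj_wtSpace_ne_bot hw₁ hw₁0 hh' hbot
  have hcomm := comm_on_U h1 h2 hw₁ hw₁0 hb₀A hclaim
  -- `b₀` lies in the "centralizer of `Q` on `U`"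
  have hb₀C : ∀ x ∈ Q, Subgroup.zpowers b₀ ≤ commOn ρ U x := by
    intro x hx
    rw [Subgroup.zpowers_le]
    exact ⟨h2.hUA b₀ hb₀A, h2.hUA _ (A.inv_mem hb₀A), fun w hw => (hcomm x hx w hw).symm⟩
  have hcomC : ∀ d ∈ ⁅T, Subgroup.zpowers b₀⁆, ∀ x ∈ Q, d ∈ commOn ρ U x := by
    intro d hd x hx
    have : ⁅T, Subgroup.zpowers b₀⁆ ≤ commOn ρ U x := by
      rw [Subgroup.commutator_le]
      intro y hy b hb
      have e : ⁅y, b⁆ = (y * b * y⁻¹) * b⁻¹ := by rw [commutatorElement_def]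
      rw [e]
      exact Subgroup.mul_mem _ (conj_mem_commOn h1 h2 hy (fun x' hx' => hb₀C x' hx' hb) x hx)
        (Subgroup.inv_mem _ (hb₀C x hx hb))
    exact this hd
  have hb₀uT : b₀ ∉ Subgroup.zpowers uT := by
    intro h
    have h3 : uT ∈ Subgroup.zpowers b₀ := mem_zpowers_symm (r := r) (h1.hAexp uT h1.huT) h hb₀1
    have h4 : uT ∈ stabWt Z μ₀ := (Subgroup.zpowers_le.mpr hb₀s) h3
    apply hnone 1 (Subgroup.one_mem _)
    rwa [conjWt_one]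
  apply h2.false_of_comm
  intro x hx y hy w hw
  obtain ⟨c, hc, d, hd, rfl⟩ := exists_centralizer_mul_commutator
    (isPGroup_zpowers_of_pow_eq_one (h1.hAexp b₀ hb₀A))
    (h1.not_dvd_card_of_le_T le_rfl) ((Subgroup.zpowers_le).mpr (h1.hAT hb₀A)) hy
  have hc1 : c = 1 := by
    have hle : A ≤ Subgroup.centralizer ({c} : Set X) :=
      elemAb_le_of_mem A h1.hAexp h1.hAcard h1.huT h1.huT1 hb₀A hb₀uT _
        (mem_centralizer_singleton_iff.mpr (h1.hTu c hc.1).symm)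
        (mem_centralizer_singleton_iff.mpr
          ((Subgroup.mem_centralizer_iff.mp hc.2) b₀ (Subgroup.mem_zpowers b₀)))
    have : c ∈ T ⊓ Subgroup.centralizer (A : Set X) := by
      refine Subgroup.mem_inf.mpr ⟨hc.1, ?_⟩
      rw [Subgroup.mem_centralizer_iff]
      intro a ha
      exact mem_centralizer_singleton_iff.mp (hle ha)
    rw [h1.hTA, Subgroup.mem_bot] at this
    exact this
  rw [hc1, one_mul]
  exact ((hcomC d hd x hx).2.2 w hw).symm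

end Core

end Cfsg.Agent.Lib.Helper76.WardKey
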