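import Mathlib
import Cfsg.Agent.Lib.Helper76.WardKeyE

/-!
# Ward's key lemma (helper76)
-/

set_option autoImplicit false
set_option linter.unusedSectionVars false
set_option linter.unusedVariables false

namespace Cfsg.Agent.Lib.Helper76.WardKey

open scoped commutatorElement
open Cfsg.Agent.Lib.Helper48

variable {X : Type*} [Group X] [Finite X] {𝔽 : Type*} [Field 𝔽]
  {E : Type*} [AddCommGroup E] [Module 𝔽 E]

/-- The stabilizer of a vector. -/
def vecStab (ρ : X →* Module.End 𝔽 E) (w : E) : Subgroup X where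
  carrier := {g | ρ g w = w}
  one_mem' := rho_one ρ w
  mul_mem' := by
    intro a b ha hb
    show ρ (a * b) w = w
    rw [rho_mul, hb, ha]
  inv_mem' := by
    intro a ha
    show ρ a⁻¹ w = w
    have := congrArg (ρ a⁻¹) ha
    rw [rho_inv_rho] at this
    exact this.symm

section Core

variable [IsAlgClosed 𝔽] [FiniteDimensional 𝔽 E]
variable {ρ : X →* Module.End 𝔽 E} {r q t : ℕ} [Fact r.Prime] [Fact q.Prime] [Fact t.Prime]
  {A Q T : Subgroup X} {uT : X}

/-- The core statement: `Q` and `T` commute on `E` when `T` centralizes some `uT ∈ A`. -/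
theorem key_core (h1 : Setup ρ r q t A Q T uT) :
    ∀ x ∈ Q, ∀ y ∈ T, ∀ w : E, ρ x (ρ y w) = ρ y (ρ x w) := by
  by_contra hcon
  push Not at hcon
  obtain ⟨x₀, hx₀, y₀, hy₀, w₀, hne⟩ := hcon
  set N : Subgroup X := ⁅Q, T⁆ with hN
  have hNQ : N ≤ Q := commutator_le_of_le_normalizer h1.hTQ
  have hQN : Q ≤ Subgroup.normalizer (N : Set X) := Subgroup.normalizer_commutator_ge_left Q T
  have hTN : T ≤ Subgroup.normalizer (N : Set X) := Subgroup.normalizer_commutator_ge_right Q T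
  have hAN : A ≤ Subgroup.normalizer (N : Set X) := fun a ha =>
    normalizer_inf_le_normalizer_commutator Q T ⟨h1.hAQ ha, h1.hAT ha⟩
  have hNcard : (Nat.card N : 𝔽) ≠ 0 := by
    obtain ⟨n, hn⟩ := IsPGroup.iff_card.mp (h1.hQ.to_le hNQ)
    rw [hn, Nat.cast_pow]; exact pow_ne_zero _ h1.hq𝔽
  set E₁ : Submodule 𝔽 E := LinearMap.ker (sumOp ρ N) with hE₁
  have hE₁inv : ∀ g, g ∈ Subgroup.normalizer (N : Set X) → ∀ w ∈ E₁, ρ g w ∈ E₁ := by
    intro g hg w hw
    rw [hE₁, LinearMap.mem_ker] at hw ⊢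
    rw [← rho_sumOp_comm ρ N hg, hw, map_zero]
  have hE₁fix : ∀ w ∈ E₁, (∀ n ∈ N, ρ n w = w) → w = 0 := by
    intro w hw hfix
    rw [hE₁, LinearMap.mem_ker, sumOp_of_fixed ρ N w hfix] at hw
    exact (smul_eq_zero.mp hw).resolve_left hNcard
  have hE₁0 : E₁ ≠ ⊥ := by
    intro hbot
    have hall : ∀ w : E, ∀ n ∈ N, ρ n w = w := by
      intro w n hn
      have hmem : (Nat.card N : 𝔽) • w - sumOp ρ N w ∈ E₁ := by
        rw [hE₁, LinearMap.mem_ker, map_sub, map_smul,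
          sumOp_of_fixed ρ N (sumOp ρ N w) (fun n hn => rho_sumOp_of_mem ρ N hn w), sub_self]
      rw [hbot, Submodule.mem_bot, sub_eq_zero] at hmem
      have h3 : ρ n ((Nat.card N : 𝔽) • w) = (Nat.card N : 𝔽) • w := by
        rw [hmem]; exact rho_sumOp_of_mem ρ N hn w
      rw [map_smul] at h3
      exact smul_right_injective E hNcard h3
    apply hne
    have := hall (ρ y₀ (ρ x₀ w₀)) ⁅x₀, y₀⁆ (Subgroup.commutator_mem_commutator hx₀ hy₀)
    rw [commutatorElement_def, rho_mul, rho_mul, rho_mul, rho_inv_rho, rho_inv_rho] at this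
    exact this
  -- the irreducible subspace
  obtain ⟨U, hUE₁, hU0, hUinv, hUmin⟩ := exists_minimal_invariant ρ
    {g | g ∈ Q ∨ g ∈ T ∨ g ∈ A} E₁ hE₁0 (fun g hg => by
      rcases hg with h | h | h
      · exact hE₁inv g (hQN h)
      · exact hE₁inv g (hTN h)
      · exact hE₁inv g (hAN h))
  have hUQ : ∀ g ∈ Q, ∀ w ∈ U, ρ g w ∈ U := fun g hg => hUinv g (Or.inl hg)
  have hUT : ∀ g ∈ T, ∀ w ∈ U, ρ g w ∈ U := fun g hg => hUinv g (Or.inr (Or.inl hg))
  have hUA : ∀ g ∈ A, ∀ w ∈ U, ρ g w ∈ U := fun g hg => hUinv g (Or.inr (Or.inr hg))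
  have hUN : ∀ w ∈ U, (∀ x ∈ Q, ∀ y ∈ T, ρ ⁅x, y⁆ w = w) → w = 0 := by
    intro w hw hfix
    apply hE₁fix w (hUE₁ hw)
    have : N ≤ vecStab ρ w := by
      rw [hN, Subgroup.commutator_le]
      exact fun x hx y hy => hfix x hx y hy
    exact fun n hn => this hn
  -- the subgroup `Z`
  let 𝒵 : Set (Subgroup X) := {K | K ≤ Q ∧ Q ≤ Subgroup.normalizer (K : Set X) ∧
    T ≤ Subgroup.normalizer (K : Set X) ∧ A ≤ Subgroup.normalizer (K : Set X) ∧
    ¬ ∀ z ∈ K, ∀ w ∈ U, ρ z w = w}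
  have hQ𝒵 : Q ∈ 𝒵 := by
    refine ⟨le_rfl, Subgroup.le_normalizer, h1.hTQ, h1.hAQ, fun hfix => ?_⟩
    obtain ⟨w, hw, hw0⟩ := (Submodule.ne_bot_iff _).mp hU0
    exact hw0 (hUN w hw (fun x hx y hy =>
      hfix _ (hNQ (Subgroup.commutator_mem_commutator hx hy)) w hw))
  obtain ⟨Z, hZmem, hZmin⟩ := (wellFounded_lt (α := Subgroup X)).has_min 𝒵 ⟨Q, hQ𝒵⟩
  obtain ⟨hZQ, hQZ, hTZ, hAZ, hZnt⟩ := hZmem
  have hDZ : ⁅Z, Q⁆ ≤ Z := commutator_le_of_le_normalizer hQZ
  have hDne : ⁅Z, Q⁆ ≠ Z := by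
    intro h
    have hbot := eq_bot_of_commutator_eq_of_isNilpotent h1.hQ.isNilpotent hZQ h
    apply hZnt
    intro z hz w _
    rw [hbot, Subgroup.mem_bot] at hz
    rw [hz, rho_one]
  have hDfix : ∀ d ∈ ⁅Z, Q⁆, ∀ w ∈ U, ρ d w = w := by
    by_contra hcon
    have hmem : ⁅Z, Q⁆ ∈ 𝒵 :=
      ⟨hDZ.trans hZQ,
        fun g hg => normalizer_inf_le_normalizer_commutator Z Q ⟨hQZ hg, Subgroup.le_normalizer hg⟩,
        fun g hg => normalizer_inf_le_normalizer_commutator Z Q ⟨hTZ hg, h1.hTQ hg⟩,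
        fun g hg => normalizer_inf_le_normalizer_commutator Z Q ⟨hAZ hg, h1.hAQ hg⟩, hcon⟩
    exact hZmin _ hmem (lt_of_le_of_ne hDZ hDne)
  have hZcomm : ∀ z ∈ Z, ∀ x ∈ Q, ∀ w ∈ U, ρ z (ρ x w) = ρ x (ρ z w) := by
    intro z hz x hx w hw
    have e : z * x = ⁅z, x⁆ * (x * z) := by rw [commutatorElement_def]; group
    rw [← rho_mul, e, rho_mul, rho_mul,
      hDfix _ (Subgroup.commutator_mem_commutator hz hx) _ (hUQ x hx _ (hUQ z (hZQ hz) w hw))]
  have h2 : Setup2 ρ A Q T U Z :=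
    { hU0 := hU0
      hUQ := hUQ
      hUT := hUT
      hUA := hUA
      hirr := fun U' hle hq ht ha => hUmin U' hle (fun g hg => by
        rcases hg with h | h | h
        · exact hq g h
        · exact ht g h
        · exact ha g h)
      hUN := hUN
      hZQ := hZQ
      hQZ := hQZ
      hTZ := hTZ
      hAZ := hAZ
      hZnt := hZnt
      hZcomm := hZcomm }
  -- a weight
  obtain ⟨w₁, hw₁U, hw₁0, hev⟩ := exists_common_eigenvector ρ (Z : Set X) U hU0
    (fun z hz => hUQ z (hZQ hz)) (fun z hz z' hz' w hw => hZcomm z hz z' (hZQ hz') w hw)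
  choose! μ₀ hμ₀ using hev
  have hw₁ : w₁ ∈ wtSpace ρ Z U μ₀ := ⟨hw₁U, hμ₀⟩
  have hYu : ∀ g ∈ T ⊔ A, g * uT = uT * g := by
    intro g hg
    have : T ⊔ A ≤ Subgroup.centralizer ({uT} : Set X) :=
      sup_le (fun y hy => mem_centralizer_singleton_iff.mpr (h1.hTu y hy))
        (fun a ha => mem_centralizer_singleton_iff.mpr (h1.hAcomm a ha uT h1.huT))
    exact mem_centralizer_singleton_iff.mp (this hg)
  by_cases huTs : uT ∈ stabWt Z μ₀
  · exact case_all h1 h2 hw₁ hw₁0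
      (fun g hg => mem_stabWt_conjWt_of_comm (h2.hYZ hg) (hYu g hg) huTs)
  · refine case_none h1 h2 hw₁ hw₁0 (fun g hg hmem => huTs ?_)
    have hg' : g⁻¹ ∈ T ⊔ A := Subgroup.inv_mem _ hg
    have := mem_stabWt_conjWt_of_comm (h2.hYZ hg') (hYu _ hg') hmem
    rwa [← conjWt_mul, inv_mul_cancel, conjWt_one] at this


/-- **Key lemma for Ward's theorem.** `A` elementary abelian of order `r ^ 2` normalizing a
`q`-group `Q` and a `t`-group `T` with `T` normalizing `Q`; if `A` has no fixed points on `Q`, `T`,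
if for every `u ∈ A#` the centralizer of `u` in `Q` commutes with that in `T` and acts trivially on
the `u`-fixed vectors, then `Q` and `T` commute on `E`. -/
theorem ward_key (ρ : X →* Module.End 𝔽 E) (hrq : r ≠ q) (hrt : r ≠ t) (hq𝔽 : (q : 𝔽) ≠ 0)
    (A Q T : Subgroup X)
    (hAcomm : ∀ x ∈ A, ∀ y ∈ A, x * y = y * x) (hAexp : ∀ x ∈ A, x ^ r = 1)
    (hAcard : Nat.card A = r ^ 2) (hQ : IsPGroup q Q) (hT : IsPGroup t T)
    (hAQ : A ≤ Subgroup.normalizer (Q : Set X)) (hAT : A ≤ Subgroup.normalizer (T : Set X))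
    (hTQ : T ≤ Subgroup.normalizer (Q : Set X))
    (hQA : Q ⊓ Subgroup.centralizer (A : Set X) = ⊥)
    (hTA : T ⊓ Subgroup.centralizer (A : Set X) = ⊥)
    (hα : ∀ u ∈ A, u ≠ 1 → ∀ g ∈ Q, g * u = u * g → ∀ w : E, ρ u w = w → ρ g w = w)
    (hβ : ∀ u ∈ A, u ≠ 1 → ∀ g ∈ Q, g * u = u * g → ∀ h ∈ T, h * u = u * h → g * h = h * g) :
    ∀ x ∈ Q, ∀ y ∈ T, ∀ w : E, ρ x (ρ y w) = ρ y (ρ x w) := by
  have hrT : ¬ r ∣ Nat.card T := by
    intro h
    obtain ⟨n, hn⟩ := IsPGroup.iff_card.mp hT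
    rw [hn] at h
    exact hrt ((Nat.prime_dvd_prime_iff_eq (Fact.out : r.Prime) (Fact.out : t.Prime)).mp
      ((Fact.out : r.Prime).dvd_of_dvd_pow h))
  have hle : T ≤ ⨅ x : Q, commOn ρ ⊤ (x : X) := by
    apply elemAb_generation A hAcomm hAexp (le_of_eq hAcard.symm) T _ hrT hAT
    intro u hu hu1
    have hAT₁ : A ≤ Subgroup.normalizer ((T ⊓ Subgroup.centralizer ({u} : Set X) : Subgroup X) : Set X) := by
      intro a ha
      have h3 : a ∈ Subgroup.normalizer ((Subgroup.centralizer ({u} : Set X) : Subgroup X) : Set X) :=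
        Subgroup.le_normalizer (mem_centralizer_singleton_iff.mpr (hAcomm a ha u hu))
      rw [Subgroup.mem_normalizer_iff] at h3 ⊢
      have h4 := Subgroup.mem_normalizer_iff.mp (hAT ha)
      intro n
      rw [Subgroup.mem_inf, Subgroup.mem_inf, h3 n, h4 n]
    have h1 : Setup ρ r q t A Q (T ⊓ Subgroup.centralizer ({u} : Set X)) u :=
      { hrq := hrq
        hrt := hrt
        hq𝔽 := hq𝔽
        hAcomm := hAcomm
        hAexp := hAexp
        hAcard := hAcard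
        hQ := hQ
        hT := hT.to_le inf_le_left
        hAQ := hAQ
        hAT := hAT₁
        hTQ := inf_le_left.trans hTQ
        hQA := hQA
        hTA := by
          rw [eq_bot_iff, ← hTA]
          exact inf_le_inf_right _ inf_le_left
        hα := hα
        hβ := fun u' hu' hu1' g hg hgu h hh hhu => hβ u' hu' hu1' g hg hgu h hh.1 hhu
        huT := hu
        huT1 := hu1
        hTu := fun y hy => mem_centralizer_singleton_iff.mp hy.2 }
    intro y hy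
    rw [Subgroup.mem_iInf]
    intro x
    exact ⟨fun _ _ => Submodule.mem_top, fun _ _ => Submodule.mem_top,
      fun w _ => (key_core h1 x x.2 y hy w).symm⟩
  intro x hx y hy w
  have := (Subgroup.mem_iInf.mp (hle hy) ⟨x, hx⟩).2.2 w Submodule.mem_top
  exact this.symm

end Core

end Cfsg.Agent.Lib.Helper76.WardKey
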