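import Mathlib
import Cfsg.Agent.Lib.Helper76.WardKeyF

/-!
# Tools for the key lemma on fixed-point-free Frobenius groups of order `r * s` (helper76)
-/

set_option autoImplicit false
set_option linter.unusedSectionVars false
set_option linter.unusedVariables false

namespace Cfsg.Agent.Lib.Helper76.FrobKey

open scoped commutatorElement
open Cfsg.Agent.Lib.Helper48 Cfsg.Agent.Lib.Helper76.WardKey

section Grp

variable {X : Type*} [Group X]

/-- In a Frobenius group all elements of the coset `F h` are `F`-conjugate to `h`. -/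
theorem exists_conj_eq_mul {r : ℕ} (hr : r.Prime) (f h : X)
    (hf : f ^ r = 1) (hnorm : h * f * h⁻¹ ∈ Subgroup.zpowers f) (hncomm : h * f ≠ f * h) :
    ∀ c ∈ Subgroup.zpowers f, ∃ b ∈ Subgroup.zpowers f, b⁻¹ * h * b = c * h := by
  classical
  have : Fact r.Prime := ⟨hr⟩
  have hf1 : f ≠ 1 := by
    rintro rfl
    exact hncomm (by rw [mul_one, one_mul])
  have hord : orderOf f = r := orderOf_eq_prime hf hf1
  have hcard : Nat.card (Subgroup.zpowers f) = r := by rw [Nat.card_zpowers, hord]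
  have hfin : Finite (Subgroup.zpowers f) := Nat.finite_of_card_ne_zero (by rw [hcard]; exact hr.ne_zero)
  -- conjugation by `h` preserves `zpowers f`
  have hconj : ∀ b ∈ Subgroup.zpowers f, h * b * h⁻¹ ∈ Subgroup.zpowers f := by
    intro b hb
    obtain ⟨k, rfl⟩ := Subgroup.mem_zpowers_iff.mp hb
    have : h * f ^ k * h⁻¹ = (h * f * h⁻¹) ^ k := by
      rw [conj_zpow]
    rw [this]
    exact Subgroup.zpow_mem _ hnorm k
  have hcomm : ∀ a ∈ Subgroup.zpowers f, ∀ b ∈ Subgroup.zpowers f, a * b = b * a := by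
    intro a ha b hb
    obtain ⟨k, rfl⟩ := Subgroup.mem_zpowers_iff.mp ha
    obtain ⟨l, rfl⟩ := Subgroup.mem_zpowers_iff.mp hb
    rw [← zpow_add, ← zpow_add, add_comm]
  -- the map `b ↦ b⁻¹ * (h * b * h⁻¹)` on `zpowers f`
  let φ : Subgroup.zpowers f → Subgroup.zpowers f := fun b =>
    ⟨(b : X)⁻¹ * (h * b * h⁻¹), Subgroup.mul_mem _ (Subgroup.inv_mem _ b.2) (hconj b b.2)⟩
  have hinj : Function.Injective φ := by
    intro a b hab
    have h1 : (a : X)⁻¹ * (h * a * h⁻¹) = (b : X)⁻¹ * (h * b * h⁻¹) := congrArg Subtype.val hab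
    -- `d = b * a⁻¹` commutes with `h`
    obtain ⟨d, hd⟩ : ∃ d : X, d = (b : X) * (a : X)⁻¹ := ⟨_, rfl⟩
    have hdmem : d ∈ Subgroup.zpowers f := by
      rw [hd]; exact Subgroup.mul_mem _ b.2 (Subgroup.inv_mem _ a.2)
    have hdh : h * d * h⁻¹ = d := by
      have e1 : h * d * h⁻¹ = (h * b * h⁻¹) * (h * a * h⁻¹)⁻¹ := by rw [hd]; group
      have e2 : h * (b : X) * h⁻¹ = (b : X) * ((a : X)⁻¹ * (h * a * h⁻¹)) := by
        rw [h1]; group
      rw [e1, e2, hd]; group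
    -- so `d = 1`
    by_contra hne
    have hd1 : d ≠ 1 := by
      intro h0
      apply hne
      apply Subtype.ext
      have : (b : X) = a := by
        have := congrArg (· * (a : X)) h0
        simpa [hd] using this
      exact this.symm
    -- `d` generates `zpowers f`
    have hgen : f ∈ Subgroup.zpowers d := by
      have hle : Subgroup.zpowers d ≤ Subgroup.zpowers f := by rwa [Subgroup.zpowers_le]
      have hcd : Nat.card (Subgroup.zpowers d) ∣ r := by
        rw [← hcard]; exact Subgroup.card_dvd_of_le hle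
      rcases (Nat.dvd_prime hr).mp hcd with h1' | h1'
      · exfalso
        rw [Nat.card_zpowers, orderOf_eq_one_iff] at h1'
        exact hd1 h1'
      · have : Subgroup.zpowers d = Subgroup.zpowers f :=
          Subgroup.eq_of_le_of_card_ge hle (by rw [h1', hcard])
        rw [this]; exact Subgroup.mem_zpowers f
    obtain ⟨k, hk⟩ := Subgroup.mem_zpowers_iff.mp hgen
    apply hncomm
    have : h * f * h⁻¹ = f := by
      rw [← hk, ← conj_zpow, hdh]
    calc h * f = h * f * h⁻¹ * h := by group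
      _ = f * h := by rw [this]
  have hsurj : Function.Surjective φ := Finite.injective_iff_surjective.mp hinj
  intro c hc
  obtain ⟨b, hb⟩ := hsurj ⟨c, hc⟩
  refine ⟨b, b.2, ?_⟩
  have h1 : (b : X)⁻¹ * (h * b * h⁻¹) = c := congrArg Subtype.val hb
  rw [← h1]; group

/-- A fixed-point-free automorphism `y ↦ h y h⁻¹` of a finite subgroup: every element is of the
form `y⁻¹ * (h * y * h⁻¹)`. -/
theorem exists_eq_inv_mul_conj [Finite X] (T₀ : Subgroup X) (h : X)
    (hT₀ : h ∈ Subgroup.normalizer (T₀ : Set X)) (hfix : ∀ y ∈ T₀, y * h = h * y → y = 1) :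
    ∀ y₁ ∈ T₀, ∃ y ∈ T₀, y₁ = y⁻¹ * (h * y * h⁻¹) := by
  let φ : T₀ → T₀ := fun y =>
    ⟨(y : X)⁻¹ * (h * y * h⁻¹), T₀.mul_mem (T₀.inv_mem y.2) (conj_mem_of_mem_normalizer' hT₀ y.2)⟩
  have hinj : Function.Injective φ := by
    intro a b hab
    have h1 : (a : X)⁻¹ * (h * a * h⁻¹) = (b : X)⁻¹ * (h * b * h⁻¹) := congrArg Subtype.val hab
    obtain ⟨d, hd⟩ : ∃ d : X, d = (b : X) * (a : X)⁻¹ := ⟨_, rfl⟩
    have hdh : h * d * h⁻¹ = d := by
      have e1 : h * d * h⁻¹ = (h * b * h⁻¹) * (h * a * h⁻¹)⁻¹ := by rw [hd]; group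
      have e2 : h * (b : X) * h⁻¹ = (b : X) * ((a : X)⁻¹ * (h * a * h⁻¹)) := by
        rw [h1]; group
      rw [e1, e2, hd]; group
    have hd1 : d = 1 := by
      apply hfix d (by rw [hd]; exact T₀.mul_mem b.2 (T₀.inv_mem a.2))
      calc d * h = (h * d * h⁻¹)⁻¹⁻¹ * h := by rw [hdh, inv_inv]
        _ = h * d := by group
    apply Subtype.ext
    have : (b : X) = a := by
      have := congrArg (· * (a : X)) hd1
      simpa [hd] using this
    exact this.symm
  have hsurj : Function.Surjective φ := Finite.injective_iff_surjective.mp hinj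
  intro y₁ hy₁
  obtain ⟨y, hy⟩ := hsurj ⟨y₁, hy₁⟩
  exact ⟨y, y.2, (congrArg Subtype.val hy).symm⟩

end Grp

section Rep

variable {X : Type*} [Group X] {𝔽 : Type*} [Field 𝔽] {E : Type*} [AddCommGroup E] [Module 𝔽 E]
variable (ρ : X →* Module.End 𝔽 E)

/-- Vectors of pairwise distinct weights are independent (finset form). -/
theorem wt_indep_finset {ι : Type*} [DecidableEq ι] (Z : Set X) (ν : ι → X → 𝔽) (s : Finset ι) :
    ∀ c : ι → E, (∀ i ∈ s, ∀ z ∈ Z, ρ z (c i) = ν i z • c i) →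
    (∀ i ∈ s, ∀ j ∈ s, i ≠ j → ∃ z ∈ Z, ν i z ≠ ν j z) →
    (∑ i ∈ s, c i = 0) → ∀ i ∈ s, c i = 0 := by
  induction s using Finset.induction_on with
  | empty => intro c _ _ _ i hi; simp at hi
  | insert a s ha ih =>
    intro c hc hν hsum
    have key : ∀ i ∈ s, c i = 0 := by
      intro i hi
      have hia : i ≠ a := fun e => ha (e ▸ hi)
      obtain ⟨z, hz, hne⟩ := hν i (Finset.mem_insert_of_mem hi) a (Finset.mem_insert_self a s) hia
      have h1 : ∑ j ∈ s, (ν j z - ν a z) • c j = 0 := by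
        have h2 := congrArg (ρ z) hsum
        rw [map_sum, map_zero, Finset.sum_insert ha] at h2
        rw [Finset.sum_insert ha] at hsum
        have h3 : ∑ j ∈ s, ρ z (c j) = ∑ j ∈ s, ν j z • c j :=
          Finset.sum_congr rfl fun j hj => hc j (Finset.mem_insert_of_mem hj) z hz
        rw [h3, hc a (Finset.mem_insert_self a s) z hz] at h2
        have h4 : c a = - ∑ j ∈ s, c j := eq_neg_of_add_eq_zero_left hsum
        rw [h4] at h2
        simp only [sub_smul, Finset.sum_sub_distrib, ← Finset.smul_sum]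
        rw [smul_neg] at h2
        rw [sub_eq_add_neg, add_comm]; exact h2
      have h5 : (ν i z - ν a z) • c i = 0 := ih (fun j => (ν j z - ν a z) • c j)
        (fun j hj z' hz' => by
          show ρ z' ((ν j z - ν a z) • c j) = ν j z' • ((ν j z - ν a z) • c j)
          rw [map_smul, hc j (Finset.mem_insert_of_mem hj) z' hz', smul_comm])
        (fun j hj k hk hjk => hν j (Finset.mem_insert_of_mem hj) k (Finset.mem_insert_of_mem hk) hjk)
        h1 i hi
      rcases smul_eq_zero.mp h5 with h6 | h6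
      · exact absurd (sub_eq_zero.mp h6) hne
      · exact h6
    intro i hi
    rcases Finset.mem_insert.mp hi with rfl | hi'
    · rw [Finset.sum_insert ha, Finset.sum_eq_zero key, add_zero] at hsum
      exact hsum
    · exact key i hi'

/-- The elements normalizing `Q`, preserving `U` and commuting with `Q` on `U`. -/
def kerAct (Q : Subgroup X) (U : Submodule 𝔽 E) : Subgroup X :=
  Subgroup.normalizer (Q : Set X) ⊓ ⨅ x : Q, commOn ρ U (x : X)

theorem mem_kerAct {Q : Subgroup X} {U : Submodule 𝔽 E} {g : X} :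
    g ∈ kerAct ρ Q U ↔ g ∈ Subgroup.normalizer (Q : Set X) ∧ (∀ w ∈ U, ρ g w ∈ U) ∧
      (∀ w ∈ U, ρ g⁻¹ w ∈ U) ∧ ∀ x ∈ Q, ∀ w ∈ U, ρ g (ρ x w) = ρ x (ρ g w) := by
  unfold kerAct
  rw [Subgroup.mem_inf, Subgroup.mem_iInf]
  constructor
  · rintro ⟨h1, h2⟩
    refine ⟨h1, ?_, ?_, fun x hx => (mem_commOn ρ).mp (h2 ⟨x, hx⟩) |>.2.2⟩
    · exact ((mem_commOn ρ).mp (h2 ⟨1, Q.one_mem⟩)).1
    · exact ((mem_commOn ρ).mp (h2 ⟨1, Q.one_mem⟩)).2.1
  · rintro ⟨h1, h2, h3, h4⟩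
    exact ⟨h1, fun x => (mem_commOn ρ).mpr ⟨h2, h3, h4 x x.2⟩⟩

/-- `kerAct` is normalized by the elements normalizing `Q` and preserving `U`. -/
theorem conj_mem_kerAct {Q : Subgroup X} {U : Submodule 𝔽 E} {g y : X} (hg : g ∈ kerAct ρ Q U)
    (hyQ : y ∈ Subgroup.normalizer (Q : Set X)) (hyU : y ∈ stabU ρ U) :
    y * g * y⁻¹ ∈ kerAct ρ Q U := by
  obtain ⟨h1, h2, h3, h4⟩ := (mem_kerAct ρ).mp hg
  have hyU' : y⁻¹ ∈ stabU ρ U := Subgroup.inv_mem _ hyU
  rw [mem_kerAct]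
  refine ⟨Subgroup.mul_mem _ (Subgroup.mul_mem _ hyQ h1) (Subgroup.inv_mem _ hyQ), ?_, ?_, ?_⟩
  · intro w hw
    rw [rho_mul, rho_mul]
    exact hyU.1 _ (h2 _ (hyU'.1 w hw))
  · intro w hw
    have e : (y * g * y⁻¹)⁻¹ = y * g⁻¹ * y⁻¹ := by group
    rw [e, rho_mul, rho_mul]
    exact hyU.1 _ (h3 _ (hyU'.1 w hw))
  · intro x hx w hw
    have hx' : y⁻¹ * x * y ∈ Q := conj_mem_of_mem_normalizer hyQ hx
    have e1 : ρ y⁻¹ (ρ x w) = ρ (y⁻¹ * x * y) (ρ y⁻¹ w) := by
      rw [← rho_mul, ← rho_mul]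
      have : y⁻¹ * x = y⁻¹ * x * y * y⁻¹ := by group
      rw [← this]
    have e2 : ρ y (ρ (y⁻¹ * x * y) (ρ g (ρ y⁻¹ w))) = ρ x (ρ y (ρ g (ρ y⁻¹ w))) := by
      rw [← rho_mul ρ y, ← rho_mul ρ x]
      have : y * (y⁻¹ * x * y) = x * y := by group
      rw [this]
    calc ρ (y * g * y⁻¹) (ρ x w) = ρ y (ρ g (ρ y⁻¹ (ρ x w))) := by
          rw [rho_mul, rho_mul]
      _ = ρ y (ρ g (ρ (y⁻¹ * x * y) (ρ y⁻¹ w))) := by rw [e1]
      _ = ρ y (ρ (y⁻¹ * x * y) (ρ g (ρ y⁻¹ w))) := by rw [h4 _ hx' _ (hyU'.1 w hw)]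
      _ = ρ x (ρ y (ρ g (ρ y⁻¹ w))) := e2
      _ = ρ x (ρ (y * g * y⁻¹) w) := by rw [rho_mul, rho_mul]

theorem comm_of_le_kerAct {Q T : Subgroup X} {U : Submodule 𝔽 E} (h : T ≤ kerAct ρ Q U) :
    ∀ x ∈ Q, ∀ y ∈ T, ∀ w ∈ U, ρ x (ρ y w) = ρ y (ρ x w) := fun x hx y hy w hw =>
  (((mem_kerAct ρ).mp (h hy)).2.2.2 x hx w hw).symm

end Rep

end Cfsg.Agent.Lib.Helper76.FrobKey
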