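import Mathlib
import Cfsg.Agent.Lib.Helper76.FrobKeyA

/-!
# Setup for the key lemma on fixed-point-free Frobenius groups of order `r * s` (helper76)
-/

set_option autoImplicit false
set_option linter.unusedSectionVars false
set_option linter.unusedVariables false

namespace Cfsg.Agent.Lib.Helper76.FrobKey

open scoped commutatorElement
open Cfsg.Agent.Lib.Helper48 Cfsg.Agent.Lib.Helper76.WardKey

variable {X : Type*} [Group X] [Finite X] {𝔽 : Type*} [Field 𝔽]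
  {E : Type*} [AddCommGroup E] [Module 𝔽 E]

/-- Hypotheses of the key lemma: `f` of order `r`, `h` of order `s` normalizing `⟨f⟩`
non-trivially, acting on a `q`-group `Q` and a `t`-group `T`. -/
structure FSetup (ρ : X →* Module.End 𝔽 E) (r s q t : ℕ) (f h : X) (Q T : Subgroup X) : Prop where
  hqt : q ≠ t
  hrq : r ≠ q
  hrt : r ≠ t
  hsq : s ≠ q
  hst : s ≠ t
  hrs : r ≠ s
  hq𝔽 : (q : 𝔽) ≠ 0
  hs𝔽 : (s : 𝔽) ≠ 0
  hr𝔽 : (r : 𝔽) ≠ 0
  hf : f ^ r = 1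
  hf1 : f ≠ 1
  hh : h ^ s = 1
  hh1 : h ≠ 1
  hnorm : h * f * h⁻¹ ∈ Subgroup.zpowers f
  hncomm : h * f ≠ f * h
  hQ : IsPGroup q Q
  hT : IsPGroup t T
  hfQ : f ∈ Subgroup.normalizer (Q : Set X)
  hhQ : h ∈ Subgroup.normalizer (Q : Set X)
  hfT : f ∈ Subgroup.normalizer (T : Set X)
  hhT : h ∈ Subgroup.normalizer (T : Set X)
  hTQ : T ≤ Subgroup.normalizer (Q : Set X)
  hQfix : ∀ g ∈ Q, g * f = f * g → g * h = h * g → g = 1
  hTfix : ∀ g ∈ T, g * f = f * g → g * h = h * g → g = 1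
  hδ : ∀ w : E, ρ f w = w → ρ h w = w → w = 0
  hα : ∀ g ∈ Q, g * f = f * g → ∀ w : E, ρ f w = w → ρ g w = w
  hβ : ∀ g ∈ Q, g * f = f * g → ∀ y ∈ T, y * f = f * y → g * y = y * g

/-- The group `⟨f⟩ ⊔ ⟨h⟩`. -/
def AA (f h : X) : Subgroup X := Subgroup.zpowers f ⊔ Subgroup.zpowers h

theorem f_mem_AA (f h : X) : f ∈ AA f h := Subgroup.mem_sup_left (Subgroup.mem_zpowers f)

theorem h_mem_AA (f h : X) : h ∈ AA f h := Subgroup.mem_sup_right (Subgroup.mem_zpowers h)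

theorem AA_le {f h : X} {K : Subgroup X} (hf : f ∈ K) (hh : h ∈ K) : AA f h ≤ K :=
  sup_le (by rwa [Subgroup.zpowers_le]) (by rwa [Subgroup.zpowers_le])

section Basic

variable {ρ : X →* Module.End 𝔽 E} {r s q t : ℕ} [Fact r.Prime] [Fact s.Prime] [Fact q.Prime]
  [Fact t.Prime] {f h : X} {Q T : Subgroup X}

theorem FSetup.hAQ (h1 : FSetup ρ r s q t f h Q T) : AA f h ≤ Subgroup.normalizer (Q : Set X) :=
  AA_le h1.hfQ h1.hhQ

theorem FSetup.hAT (h1 : FSetup ρ r s q t f h Q T) : AA f h ≤ Subgroup.normalizer (T : Set X) :=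
  AA_le h1.hfT h1.hhT

theorem FSetup.hFp (h1 : FSetup ρ r s q t f h Q T) : IsPGroup r (Subgroup.zpowers f) := by
  apply IsPGroup.of_card (n := 1)
  rw [Nat.card_zpowers, orderOf_eq_prime h1.hf h1.hf1, pow_one]

theorem FSetup.hHp (h1 : FSetup ρ r s q t f h Q T) : IsPGroup s (Subgroup.zpowers h) := by
  apply IsPGroup.of_card (n := 1)
  rw [Nat.card_zpowers, orderOf_eq_prime h1.hh h1.hh1, pow_one]

theorem not_dvd_card_of_isPGroup {p p' : ℕ} [Fact p.Prime] [Fact p'.Prime] (hpp : p' ≠ p)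
    {K : Subgroup X} (hK : IsPGroup p K) : ¬ p' ∣ Nat.card K := by
  obtain ⟨n, hn⟩ := IsPGroup.iff_card.mp hK
  rw [hn]
  intro hd
  exact hpp ((Nat.prime_dvd_prime_iff_eq (Fact.out : p'.Prime) (Fact.out : p.Prime)).mp
    ((Fact.out : p'.Prime).dvd_of_dvd_pow hd))

theorem FSetup.r_not_dvd_Q (h1 : FSetup ρ r s q t f h Q T) {K : Subgroup X} (hK : K ≤ Q) :
    ¬ r ∣ Nat.card K := not_dvd_card_of_isPGroup h1.hrq (h1.hQ.to_le hK)

theorem FSetup.r_not_dvd_T (h1 : FSetup ρ r s q t f h Q T) {K : Subgroup X} (hK : K ≤ T) :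
    ¬ r ∣ Nat.card K := not_dvd_card_of_isPGroup h1.hrt (h1.hT.to_le hK)

theorem FSetup.s_not_dvd_Q (h1 : FSetup ρ r s q t f h Q T) {K : Subgroup X} (hK : K ≤ Q) :
    ¬ s ∣ Nat.card K := not_dvd_card_of_isPGroup h1.hsq (h1.hQ.to_le hK)

theorem FSetup.s_not_dvd_T (h1 : FSetup ρ r s q t f h Q T) {K : Subgroup X} (hK : K ≤ T) :
    ¬ s ∣ Nat.card K := not_dvd_card_of_isPGroup h1.hst (h1.hT.to_le hK)

theorem FSetup.hnormH (h1 : FSetup ρ r s q t f h Q T) :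
    Subgroup.zpowers h ≤ Subgroup.normalizer ((Subgroup.zpowers f : Subgroup X) : Set X) := by
  rw [Subgroup.zpowers_le]
  rw [Subgroup.mem_normalizer_iff_map_conj_eq]
  have hle : (Subgroup.zpowers f).map (MulAut.conj h).toMonoidHom ≤ Subgroup.zpowers f := by
    rw [MonoidHom.map_zpowers, Subgroup.zpowers_le]
    exact h1.hnorm
  apply Subgroup.eq_of_le_of_card_ge hle
  rw [Subgroup.card_map_of_injective (MulAut.conj h).injective]

end Basic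

section Construct

variable [IsAlgClosed 𝔽] [FiniteDimensional 𝔽 E]
variable {ρ : X →* Module.End 𝔽 E} {r s q t : ℕ} [Fact r.Prime] [Fact s.Prime] [Fact q.Prime]
  [Fact t.Prime] {f h : X} {Q T : Subgroup X}

/-- Data produced from a counterexample: an irreducible `U`, a minimal `Z`, a weight. -/
structure Setup3 (ρ : X →* Module.End 𝔽 E) (A Q T : Subgroup X) (U : Submodule 𝔽 E)
    (Z : Subgroup X) (μ₀ : X → 𝔽) (w₁ : E) : Prop where
  h2 : Setup2 ρ A Q T U Z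
  hZmin : ∀ K : Subgroup X, K ≤ Z → Q ≤ Subgroup.normalizer (K : Set X) →
    T ≤ Subgroup.normalizer (K : Set X) → A ≤ Subgroup.normalizer (K : Set X) →
    (¬ ∀ z ∈ K, ∀ w ∈ U, ρ z w = w) → K = Z
  hDfix : ∀ d ∈ ⁅Z, Q⁆, ∀ w ∈ U, ρ d w = w
  hw₁ : w₁ ∈ wtSpace ρ Z U μ₀
  hw₁0 : w₁ ≠ 0

theorem exists_setup3 (h1 : FSetup ρ r s q t f h Q T)
    (hcon : ¬ ∀ x ∈ Q, ∀ y ∈ T, ∀ w : E, ρ x (ρ y w) = ρ y (ρ x w)) :
    ∃ (U : Submodule 𝔽 E) (Z : Subgroup X) (μ₀ : X → 𝔽) (w₁ : E),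
      Setup3 ρ (AA f h) Q T U Z μ₀ w₁ := by
  push Not at hcon
  obtain ⟨x₀, hx₀, y₀, hy₀, w₀, hne⟩ := hcon
  set A : Subgroup X := AA f h with hA
  set N : Subgroup X := ⁅Q, T⁆ with hN
  have hNQ : N ≤ Q := commutator_le_of_le_normalizer h1.hTQ
  have hQN : Q ≤ Subgroup.normalizer (N : Set X) := Subgroup.normalizer_commutator_ge_left Q T
  have hTN : T ≤ Subgroup.normalizer (N : Set X) := Subgroup.normalizer_commutator_ge_right Q T
  have hAN : A ≤ Subgroup.normalizer (N : Set X) := fun a ha =>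
    normalizer_inf_le_normalizer_commutator Q T ⟨h1.hAQ ha, h1.hAT ha⟩
  have hNcard : (Nat.card N : 𝔽) ≠ 0 := by
    obtain ⟨n, hn⟩ := IsPGroup.iff_card.mp (h1.hQ.to_le hNQ)
    rw [hn, Nat.cast_pow]; exact pow_ne_zero _ h1.hq𝔽
  set E₁ : Submodule 𝔽 E := LinearMap.ker (sumOp ρ N) with hE₁
  have hE₁inv : ∀ g, g ∈ Subgroup.normalizer (N : Set X) → ∀ w ∈ E₁, ρ g w ∈ E₁ := by
    intro g hg w hw
    rw [hE₁, LinearMap.mem_ker] at hw ⊢
    rw [← rho_sumOp_comm ρ N hg, hw, map_zero]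
  have hE₁fix : ∀ w ∈ E₁, (∀ n ∈ N, ρ n w = w) → w = 0 := by
    intro w hw hfix
    rw [hE₁, LinearMap.mem_ker, sumOp_of_fixed ρ N w hfix] at hw
    exact (smul_eq_zero.mp hw).resolve_left hNcard
  have hE₁0 : E₁ ≠ ⊥ := by
    intro hbot
    have hall : ∀ w : E, ∀ n ∈ N, ρ n w = w := by
      intro w n hn
      have hmem : (Nat.card N : 𝔽) • w - sumOp ρ N w ∈ E₁ := by
        rw [hE₁, LinearMap.mem_ker, map_sub, map_smul,
          sumOp_of_fixed ρ N (sumOp ρ N w) (fun n hn => rho_sumOp_of_mem ρ N hn w), sub_self]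
      rw [hbot, Submodule.mem_bot, sub_eq_zero] at hmem
      have h3 : ρ n ((Nat.card N : 𝔽) • w) = (Nat.card N : 𝔽) • w := by
        rw [hmem]; exact rho_sumOp_of_mem ρ N hn w
      rw [map_smul] at h3
      exact smul_right_injective E hNcard h3
    apply hne
    have := hall (ρ y₀ (ρ x₀ w₀)) ⁅x₀, y₀⁆ (Subgroup.commutator_mem_commutator hx₀ hy₀)
    rw [commutatorElement_def, rho_mul, rho_mul, rho_mul, rho_inv_rho, rho_inv_rho] at this
    exact this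
  obtain ⟨U, hUE₁, hU0, hUinv, hUmin⟩ := exists_minimal_invariant ρ
    {g | g ∈ Q ∨ g ∈ T ∨ g ∈ A} E₁ hE₁0 (fun g hg => by
      rcases hg with h | h | h
      · exact hE₁inv g (hQN h)
      · exact hE₁inv g (hTN h)
      · exact hE₁inv g (hAN h))
  have hUQ : ∀ g ∈ Q, ∀ w ∈ U, ρ g w ∈ U := fun g hg => hUinv g (Or.inl hg)
  have hUT : ∀ g ∈ T, ∀ w ∈ U, ρ g w ∈ U := fun g hg => hUinv g (Or.inr (Or.inl hg))
  have hUA : ∀ g ∈ A, ∀ w ∈ U, ρ g w ∈ U := fun g hg => hUinv g (Or.inr (Or.inr hg))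
  have hUN : ∀ w ∈ U, (∀ x ∈ Q, ∀ y ∈ T, ρ ⁅x, y⁆ w = w) → w = 0 := by
    intro w hw hfix
    apply hE₁fix w (hUE₁ hw)
    have : N ≤ vecStab ρ w := by
      rw [hN, Subgroup.commutator_le]
      exact fun x hx y hy => hfix x hx y hy
    exact fun n hn => this hn
  let 𝒵 : Set (Subgroup X) := {K | K ≤ Q ∧ Q ≤ Subgroup.normalizer (K : Set X) ∧
    T ≤ Subgroup.normalizer (K : Set X) ∧ A ≤ Subgroup.normalizer (K : Set X) ∧
    ¬ ∀ z ∈ K, ∀ w ∈ U, ρ z w = w}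
  have hQ𝒵 : Q ∈ 𝒵 := by
    refine ⟨le_rfl, Subgroup.le_normalizer, h1.hTQ, h1.hAQ, fun hfix => ?_⟩
    obtain ⟨w, hw, hw0⟩ := (Submodule.ne_bot_iff _).mp hU0
    exact hw0 (hUN w hw (fun x hx y hy =>
      hfix _ (hNQ (Subgroup.commutator_mem_commutator hx hy)) w hw))
  obtain ⟨Z, hZmem, hZmin⟩ := (wellFounded_lt (α := Subgroup X)).has_min 𝒵 ⟨Q, hQ𝒵⟩
  obtain ⟨hZQ, hQZ, hTZ, hAZ, hZnt⟩ := hZmem
  have hDZ : ⁅Z, Q⁆ ≤ Z := commutator_le_of_le_normalizer hQZ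
  have hDne : ⁅Z, Q⁆ ≠ Z := by
    intro h
    have hbot := eq_bot_of_commutator_eq_of_isNilpotent h1.hQ.isNilpotent hZQ h
    apply hZnt
    intro z hz w _
    rw [hbot, Subgroup.mem_bot] at hz
    rw [hz, rho_one]
  have hDfix : ∀ d ∈ ⁅Z, Q⁆, ∀ w ∈ U, ρ d w = w := by
    by_contra hcon
    have hmem : ⁅Z, Q⁆ ∈ 𝒵 :=
      ⟨hDZ.trans hZQ,
        fun g hg => normalizer_inf_le_normalizer_commutator Z Q ⟨hQZ hg, Subgroup.le_normalizer hg⟩,
        fun g hg => normalizer_inf_le_normalizer_commutator Z Q ⟨hTZ hg, h1.hTQ hg⟩,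
        fun g hg => normalizer_inf_le_normalizer_commutator Z Q ⟨hAZ hg, h1.hAQ hg⟩, hcon⟩
    exact hZmin _ hmem (lt_of_le_of_ne hDZ hDne)
  have hZcomm : ∀ z ∈ Z, ∀ x ∈ Q, ∀ w ∈ U, ρ z (ρ x w) = ρ x (ρ z w) := by
    intro z hz x hx w hw
    have e : z * x = ⁅z, x⁆ * (x * z) := by rw [commutatorElement_def]; group
    rw [← rho_mul, e, rho_mul, rho_mul,
      hDfix _ (Subgroup.commutator_mem_commutator hz hx) _ (hUQ x hx _ (hUQ z (hZQ hz) w hw))]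
  have h2 : Setup2 ρ A Q T U Z :=
    { hU0 := hU0
      hUQ := hUQ
      hUT := hUT
      hUA := hUA
      hirr := fun U' hle hq ht ha => hUmin U' hle (fun g hg => by
        rcases hg with h | h | h
        · exact hq g h
        · exact ht g h
        · exact ha g h)
      hUN := hUN
      hZQ := hZQ
      hQZ := hQZ
      hTZ := hTZ
      hAZ := hAZ
      hZnt := hZnt
      hZcomm := hZcomm }
  obtain ⟨w₁, hw₁U, hw₁0, hev⟩ := exists_common_eigenvector ρ (Z : Set X) U hU0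
    (fun z hz => hUQ z (hZQ hz)) (fun z hz z' hz' w hw => hZcomm z hz z' (hZQ hz') w hw)
  choose! μ₀ hμ₀ using hev
  refine ⟨U, Z, μ₀, w₁, h2, ?_, hDfix, ⟨hw₁U, hμ₀⟩, hw₁0⟩
  intro K hKZ hQK hTK hAK hKnt
  by_contra hne'
  exact hZmin K ⟨hKZ.trans hZQ, hQK, hTK, hAK, hKnt⟩ (lt_of_le_of_ne hKZ hne')

end Construct

end Cfsg.Agent.Lib.Helper76.FrobKey
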