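import Mathlib
import Cfsg.Agent.Lib.Helper76.FrobKeyB

/-!
# Weight lemmas for the Frobenius key lemma (helper76)
-/

set_option autoImplicit false
set_option linter.unusedSectionVars false
set_option linter.unusedVariables false

namespace Cfsg.Agent.Lib.Helper76.FrobKey

open scoped commutatorElement Pointwise
open Cfsg.Agent.Lib.Helper48 Cfsg.Agent.Lib.Helper76.WardKey

variable {X : Type*} [Group X] [Finite X] {𝔽 : Type*} [Field 𝔽]
  {E : Type*} [AddCommGroup E] [Module 𝔽 E]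

section General

variable {Z : Subgroup X} {ν : X → 𝔽}

theorem conj_mem_stabWt {g b : X} (hg : g ∈ stabWt Z ν)
    (hb : b ∈ Subgroup.normalizer (Z : Set X)) : b * g * b⁻¹ ∈ stabWt Z (conjWt b ν) := by
  refine ⟨Subgroup.mul_mem _ (Subgroup.mul_mem _ hb hg.1) (Subgroup.inv_mem _ hb), fun z hz => ?_⟩
  simp only [conjWt_apply]
  have e : b⁻¹ * ((b * g * b⁻¹)⁻¹ * z * (b * g * b⁻¹)) * b = g⁻¹ * (b⁻¹ * z * b) * g := by group
  rw [e, hg.2 _ (conj_mem_of_mem_normalizer hb hz)]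

theorem mem_stabWt_of_conjWt_eq {a a' : X} (ha : a ∈ Subgroup.normalizer (Z : Set X))
    (ha' : a' ∈ Subgroup.normalizer (Z : Set X))
    (h : ∀ z ∈ Z, conjWt a ν z = conjWt a' ν z) : a⁻¹ * a' ∈ stabWt Z ν := by
  refine ⟨Subgroup.mul_mem _ (Subgroup.inv_mem _ ha) ha', fun z hz => ?_⟩
  have hz' : a * z * a⁻¹ ∈ Z := conj_mem_of_mem_normalizer' ha hz
  have h3 := h _ hz'
  simp only [conjWt_apply] at h3
  have e1 : a⁻¹ * (a * z * a⁻¹) * a = z := by group
  have e2 : a'⁻¹ * (a * z * a⁻¹) * a' = (a⁻¹ * a')⁻¹ * z * (a⁻¹ * a') := by group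
  rw [e1, e2] at h3
  exact h3.symm

theorem stabWt_conjWt_iff {g b : X} (hb : b ∈ Subgroup.normalizer (Z : Set X)) :
    g ∈ stabWt Z (conjWt b ν) ↔ b⁻¹ * g * b ∈ stabWt Z ν := by
  constructor
  · intro hg
    have := conj_mem_stabWt hg (Subgroup.inv_mem _ hb)
    rw [← conjWt_mul, inv_mul_cancel, conjWt_one, inv_inv] at this
    exact this
  · intro hg
    have := conj_mem_stabWt hg hb
    have e : b * (b⁻¹ * g * b) * b⁻¹ = g := by group
    rwa [e] at this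

/-- If `f` of prime order does not fix the weight `ν`, the `⟨f⟩`-conjugates of `ν` are pairwise
distinct. -/
theorem conjWt_ne_of_mem_zpowers {r : ℕ} [Fact r.Prime] {f : X} (hf : f ^ r = 1)
    (hfZ : f ∈ Subgroup.normalizer (Z : Set X)) (hne : f ∉ stabWt Z ν) :
    ∀ a ∈ Subgroup.zpowers f, ∀ a' ∈ Subgroup.zpowers f, a ≠ a' →
      ∃ z ∈ Z, conjWt a ν z ≠ conjWt a' ν z := by
  intro a ha a' ha' hne'
  by_contra hcon
  push Not at hcon
  have hle : Subgroup.zpowers f ≤ Subgroup.normalizer (Z : Set X) := by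
    rwa [Subgroup.zpowers_le]
  have h1 := mem_stabWt_of_conjWt_eq (hle ha) (hle ha') hcon
  have h2 : a⁻¹ * a' ∈ Subgroup.zpowers f := Subgroup.mul_mem _ (Subgroup.inv_mem _ ha) ha'
  have h3 : a⁻¹ * a' ≠ 1 := by
    intro h0
    apply hne'
    have := congrArg (a * ·) h0
    simpa using this.symm
  have h4 : f ∈ Subgroup.zpowers (a⁻¹ * a') := mem_zpowers_symm hf h2 h3
  apply hne
  have : Subgroup.zpowers (a⁻¹ * a') ≤ stabWt Z ν := by rwa [Subgroup.zpowers_le]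
  exact this h4

end General

section Weights

variable {ρ : X →* Module.End 𝔽 E} {A Q T : Subgroup X} {U : Submodule 𝔽 E} {Z : Subgroup X}

/-- The weights are multiplicative on `Z`. -/
theorem wt_mul (h2 : Setup2 ρ A Q T U Z) {ν : X → 𝔽} (hν : wtSpace ρ Z U ν ≠ ⊥) {z z' : X}
    (hz : z ∈ Z) (hz' : z' ∈ Z) : ν (z * z') = ν z * ν z' := by
  obtain ⟨w, hw, hw0⟩ := (Submodule.ne_bot_iff _).mp hν
  have h3 : ρ (z * z') w = (ν z * ν z') • w := by
    rw [rho_mul, hw.2 z' hz', map_smul, hw.2 z hz, smul_smul, mul_comm]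
  rw [hw.2 _ (Z.mul_mem hz hz')] at h3
  by_contra hne
  have : (ν (z * z') - ν z * ν z') • w = 0 := by rw [sub_smul, h3, sub_self]
  rcases smul_eq_zero.mp this with h4 | h4
  · exact hne (sub_eq_zero.mp h4)
  · exact hw0 h4

theorem wt_one (h2 : Setup2 ρ A Q T U Z) {ν : X → 𝔽} (hν : wtSpace ρ Z U ν ≠ ⊥) : ν 1 = 1 := by
  obtain ⟨w, hw, hw0⟩ := (Submodule.ne_bot_iff _).mp hν
  have h3 := hw.2 1 Z.one_mem
  rw [rho_one] at h3
  by_contra hne
  have : (ν 1 - 1) • w = 0 := by rw [sub_smul, ← h3, one_smul, sub_self]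
  rcases smul_eq_zero.mp this with h4 | h4
  · exact hne (sub_eq_zero.mp h4)
  · exact hw0 h4

theorem wt_pow (h2 : Setup2 ρ A Q T U Z) {ν : X → 𝔽} (hν : wtSpace ρ Z U ν ≠ ⊥) {z : X}
    (hz : z ∈ Z) (n : ℕ) : ν (z ^ n) = ν z ^ n := by
  induction n with
  | zero => rw [pow_zero, pow_zero]; exact wt_one h2 hν
  | succ n ih => rw [pow_succ, pow_succ, wt_mul h2 hν (Z.pow_mem hz n) hz, ih]

theorem wt_inv (h2 : Setup2 ρ A Q T U Z) {ν : X → 𝔽} (hν : wtSpace ρ Z U ν ≠ ⊥) {z : X}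
    (hz : z ∈ Z) : ν z⁻¹ = (ν z)⁻¹ := by
  have h3 := wt_mul h2 hν hz (Z.inv_mem hz)
  rw [mul_inv_cancel, wt_one h2 hν] at h3
  exact eq_inv_of_mul_eq_one_right h3.symm

/-- A weight which is trivial on `Z` does not occur. -/
theorem wt_nontrivial (h2 : Setup2 ρ A Q T U Z) {ν : X → 𝔽} (hν : wtSpace ρ Z U ν ≠ ⊥) :
    ¬ ∀ z ∈ Z, ν z = 1 := by
  intro h
  obtain ⟨w, hw, hw0⟩ := (Submodule.ne_bot_iff _).mp hν
  exact hw0 (h2.fixed_eq_zero w hw.1 (fun z hz => by rw [hw.2 z hz, h z hz, one_smul]))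

end Weights

section Frob

variable [IsAlgClosed 𝔽] [FiniteDimensional 𝔽 E]
variable {ρ : X →* Module.End 𝔽 E} {r s q t : ℕ} [Fact r.Prime] [Fact s.Prime] [Fact q.Prime]
  [Fact t.Prime] {f h : X} {Q T : Subgroup X} {U : Submodule 𝔽 E} {Z : Subgroup X}

/-- The diagonal argument: `C_Q(f)` fixes pointwise the weight spaces of the weights moved by
`f`. -/
theorem diag_f (h1 : FSetup ρ r s q t f h Q T) (h2 : Setup2 ρ (AA f h) Q T U Z) (ν : X → 𝔽)
    (hne : f ∉ stabWt Z ν) {g : X} (hg : g ∈ Q) (hgf : g * f = f * g) {w : E}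
    (hw : w ∈ wtSpace ρ Z U ν) : ρ g w = w := by
  classical
  set F : Subgroup X := Subgroup.zpowers f with hF
  have hFA : F ≤ AA f h := le_sup_left
  have hfZ : f ∈ Subgroup.normalizer (Z : Set X) := h2.hAZ (f_mem_AA f h)
  let _ := Fintype.ofFinite F
  have hwi : ∀ a : F, ρ (a : X) w ∈ wtSpace ρ Z U (conjWt (a : X) ν) := fun a =>
    rho_mem_wtSpace_conjWt ρ (h2.hAZ (hFA a.2)) (h2.hUA _ (hFA a.2)) hw
  have hci : ∀ a : F, ρ g (ρ (a : X) w) - ρ (a : X) w ∈ wtSpace ρ Z U (conjWt (a : X) ν) :=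
    fun a => Submodule.sub_mem _ (h2.wt_inv_Q hg (hwi a)) (hwi a)
  have hfix : ρ f (sumOp ρ F w) = sumOp ρ F w := rho_sumOp_of_mem ρ F (Subgroup.mem_zpowers f) w
  have hgw : ρ g (sumOp ρ F w) = sumOp ρ F w := h1.hα g hg hgf _ hfix
  have hsum : ∑ a : F, (ρ g (ρ (a : X) w) - ρ (a : X) w) = 0 := by
    rw [Finset.sum_sub_distrib, ← map_sum]
    have e : ∑ a : F, ρ (a : X) w = sumOp ρ F w := by
      rw [sumOp_apply]
    rw [e, hgw, sub_self]
  have := wt_indep_finset ρ (Z : Set X) (fun a : F => conjWt (a : X) ν) Finset.univ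
    (fun a : F => ρ g (ρ (a : X) w) - ρ (a : X) w) (fun a _ z hz => (hci a).2 z hz)
    (fun a _ a' _ haa' => conjWt_ne_of_mem_zpowers h1.hf hfZ hne a a.2 a' a'.2
      (fun e => haa' (Subtype.ext e))) hsum 1 (Finset.mem_univ _)
  simp only [Subgroup.coe_one, rho_one] at this
  exact sub_eq_zero.mp this

/-- A weight moved by `f` is fixed by an `⟨f⟩`-conjugate of `h`: otherwise the sum over
`⟨f⟩ ⊔ ⟨h⟩` of a weight vector would be a nonzero fixed vector. -/
theorem exists_conj_h_mem_stabWt (h1 : FSetup ρ r s q t f h Q T)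
    (h2 : Setup2 ρ (AA f h) Q T U Z) (ν : X → 𝔽) (hν : wtSpace ρ Z U ν ≠ ⊥)
    (hne : f ∉ stabWt Z ν) : ∃ b ∈ Subgroup.zpowers f, h ∈ stabWt Z (conjWt b ν) := by
  classical
  obtain ⟨v, hv, hv0⟩ := (Submodule.ne_bot_iff _).mp hν
  set A : Subgroup X := AA f h with hA
  let _ := Fintype.ofFinite A
  have hfZ : f ∈ Subgroup.normalizer (Z : Set X) := h2.hAZ (f_mem_AA f h)
  -- two elements of `A` with the same conjugate weight
  have hex : ∃ a ∈ A, ∃ a' ∈ A, a ≠ a' ∧ ∀ z ∈ Z, conjWt a ν z = conjWt a' ν z := by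
    by_contra hcon
    push Not at hcon
    have hw0 : sumOp ρ A v = 0 :=
      h1.hδ _ (rho_sumOp_of_mem ρ A (f_mem_AA f h) v) (rho_sumOp_of_mem ρ A (h_mem_AA f h) v)
    have hsum : ∑ a : A, ρ (a : X) v = 0 := by
      rw [← hw0, sumOp_apply]
    have := wt_indep_finset ρ (Z : Set X) (fun a : A => conjWt (a : X) ν) Finset.univ
      (fun a : A => ρ (a : X) v)
      (fun a _ z hz => (rho_mem_wtSpace_conjWt ρ (h2.hAZ a.2) (h2.hUA _ a.2) hv).2 z hz)
      (fun a _ a' _ haa' => by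
        obtain ⟨z, hz, hz'⟩ := hcon a a.2 a' a'.2 (fun e => haa' (Subtype.ext e))
        exact ⟨z, hz, hz'⟩) hsum 1 (Finset.mem_univ _)
    simp only [Subgroup.coe_one, rho_one] at this
    exact hv0 this
  obtain ⟨a, ha, a', ha', haa', heq⟩ := hex
  have hg : a⁻¹ * a' ∈ stabWt Z ν := mem_stabWt_of_conjWt_eq (h2.hAZ ha) (h2.hAZ ha') heq
  have hgA : a⁻¹ * a' ∈ A := A.mul_mem (A.inv_mem ha) ha'
  have hg1 : a⁻¹ * a' ≠ 1 := by
    intro h0
    apply haa'
    have := congrArg (a * ·) h0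
    simpa using this.symm
  -- decompose
  have hset : ((Subgroup.zpowers f ⊔ Subgroup.zpowers h : Subgroup X) : Set X) =
      (Subgroup.zpowers f : Set X) * (Subgroup.zpowers h : Set X) :=
    Subgroup.coe_mul_of_right_le_normalizer_left _ _ h1.hnormH
  have hmem : a⁻¹ * a' ∈ (Subgroup.zpowers f : Set X) * (Subgroup.zpowers h : Set X) := by
    rw [← hset]; exact hgA
  obtain ⟨c, hc, h', hh', hch⟩ := Set.mem_mul.mp hmem
  have hc' : c ∈ Subgroup.zpowers f := hc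
  have hh'' : h' ∈ Subgroup.zpowers h := hh'
  have hh'1 : h' ≠ 1 := by
    rintro rfl
    rw [mul_one] at hch
    have hc1 : c ≠ 1 := by rw [hch]; exact hg1
    have h4 : f ∈ Subgroup.zpowers c := mem_zpowers_symm h1.hf hc' hc1
    apply hne
    have : Subgroup.zpowers c ≤ stabWt Z ν := by
      rw [Subgroup.zpowers_le, hch]; exact hg
    exact this h4
  have hhz : h ∈ Subgroup.zpowers h' := mem_zpowers_symm h1.hh hh'' hh'1
  have hnorm' : h' * f * h'⁻¹ ∈ Subgroup.zpowers f :=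
    conj_mem_of_mem_normalizer' (h1.hnormH hh'') (Subgroup.mem_zpowers f)
  have hncomm' : h' * f ≠ f * h' := by
    intro hcomm
    apply h1.hncomm
    obtain ⟨k, rfl⟩ := Subgroup.mem_zpowers_iff.mp hhz
    have : Commute h' f := hcomm
    exact (this.zpow_left k).eq
  obtain ⟨b, hb, hbeq⟩ := exists_conj_eq_mul (Fact.out : r.Prime) f h' h1.hf hnorm' hncomm' c hc'
  refine ⟨b, hb, ?_⟩
  have hbZ : b ∈ Subgroup.normalizer (Z : Set X) := by
    have : Subgroup.zpowers f ≤ Subgroup.normalizer (Z : Set X) := by rwa [Subgroup.zpowers_le]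
    exact this hb
  have h5 : h' ∈ stabWt Z (conjWt b ν) := by
    rw [stabWt_conjWt_iff hbZ, hbeq, hch]; exact hg
  have : Subgroup.zpowers h' ≤ stabWt Z (conjWt b ν) := by rwa [Subgroup.zpowers_le]
  exact this hhz

end Frob

end Cfsg.Agent.Lib.Helper76.FrobKey
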