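import Mathlib
import Cfsg.Agent.Lib.Helper76.FrobKeyC

/-!
# Step A1 of the Frobenius key lemma: `C_T(f)` fixes all weights (helper76)
-/

set_option autoImplicit false
set_option linter.unusedSectionVars false
set_option linter.unusedVariables false

namespace Cfsg.Agent.Lib.Helper76.FrobKey

open scoped commutatorElement Pointwise
open Cfsg.Agent.Lib.Helper48 Cfsg.Agent.Lib.Helper76.WardKey

variable {X : Type*} [Group X] [Finite X] {𝔽 : Type*} [Field 𝔽]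
  {E : Type*} [AddCommGroup E] [Module 𝔽 E]

section General

variable (ρ : X →* Module.End 𝔽 E)

/-- The subgroup of elements fixing every weight of `Z` on `U`. -/
def fixAll (Z : Subgroup X) (U : Submodule 𝔽 E) : Subgroup X :=
  ⨅ ν : {ν : X → 𝔽 // wtSpace ρ Z U ν ≠ ⊥}, stabWt Z ν.1

theorem mem_fixAll {Z : Subgroup X} {U : Submodule 𝔽 E} {y : X} :
    y ∈ fixAll ρ Z U ↔ ∀ ν : X → 𝔽, wtSpace ρ Z U ν ≠ ⊥ → y ∈ stabWt Z ν := by
  unfold fixAll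
  rw [Subgroup.mem_iInf]
  exact ⟨fun h ν hν => h ⟨ν, hν⟩, fun h ν => h ν.1 ν.2⟩

theorem conj_wtSpace_ne_bot' {Z : Subgroup X} {U : Submodule 𝔽 E} {ν : X → 𝔽}
    (hν : wtSpace ρ Z U ν ≠ ⊥) {g : X} (hgZ : g ∈ Subgroup.normalizer (Z : Set X))
    (hgU : ∀ w ∈ U, ρ g w ∈ U) : wtSpace ρ Z U (conjWt g ν) ≠ ⊥ := by
  obtain ⟨w, hw, hw0⟩ := (Submodule.ne_bot_iff _).mp hν
  intro h
  have h1 := rho_mem_wtSpace_conjWt ρ hgZ hgU hw
  rw [h, Submodule.mem_bot] at h1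
  apply hw0
  have := congrArg (ρ g⁻¹) h1
  rwa [rho_inv_rho, map_zero] at this

/-- Elements normalizing `Z` and preserving `U` normalize `fixAll`. -/
theorem conj_mem_fixAll {Z : Subgroup X} {U : Submodule 𝔽 E} {g y : X} (hy : y ∈ fixAll ρ Z U)
    (hgZ : g ∈ Subgroup.normalizer (Z : Set X)) (hgU : g ∈ stabU ρ U) :
    g * y * g⁻¹ ∈ fixAll ρ Z U := by
  rw [mem_fixAll] at hy ⊢
  intro ν hν
  have h1 : wtSpace ρ Z U (conjWt g⁻¹ ν) ≠ ⊥ :=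
    conj_wtSpace_ne_bot' ρ hν (Subgroup.inv_mem _ hgZ) (Subgroup.inv_mem _ hgU).1
  have h2 := conj_mem_stabWt (hy _ h1) hgZ
  rwa [← conjWt_mul, mul_inv_cancel, conjWt_one] at h2

end General

section Weights

variable {ρ : X →* Module.End 𝔽 E} {A Q T : Subgroup X} {U : Submodule 𝔽 E} {Z : Subgroup X}

/-- An element fixing all weights commutes with `Z` on `U`. -/
theorem comm_of_mem_fixAll (h2 : Setup2 ρ A Q T U Z) {μ₀ : X → 𝔽} {w₁ : E}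
    (hw₁ : w₁ ∈ wtSpace ρ Z U μ₀) (hw₁0 : w₁ ≠ 0) {y : X} (hyZ : y ∈ Subgroup.normalizer (Z : Set X))
    (hyU : ∀ w ∈ U, ρ y w ∈ U) (hy : y ∈ fixAll ρ Z U) :
    ∀ z ∈ Z, ∀ w ∈ U, ρ y (ρ z w) = ρ z (ρ y w) := by
  intro z hz
  let P : Submodule 𝔽 E := LinearMap.ker (ρ y * ρ z - ρ z * ρ y)
  have hP : ∀ w, w ∈ P ↔ ρ y (ρ z w) = ρ z (ρ y w) := by
    intro w
    show (ρ y * ρ z - ρ z * ρ y) w = 0 ↔ _
    rw [LinearMap.sub_apply, sub_eq_zero]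
    rfl
  have hν0 : wtSpace ρ Z U μ₀ ≠ ⊥ := fun h => hw₁0 (by rw [h, Submodule.mem_bot] at hw₁; exact hw₁)
  have hle : U ≤ P := by
    apply h2.forall_U_of_forall_wt hw₁ hw₁0
    intro g hg w hw
    rw [hP]
    have hν : wtSpace ρ Z U (conjWt g μ₀) ≠ ⊥ :=
      conj_wtSpace_ne_bot' ρ hν0 (h2.hYZ hg) (h2.hUY g hg)
    have hys := (mem_fixAll ρ).mp hy _ hν
    have h3 := rho_mem_wtSpace_conjWt ρ hyZ hyU hw
    have e : wtSpace ρ Z U (conjWt y (conjWt g μ₀)) = wtSpace ρ Z U (conjWt g μ₀) :=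
      wtSpace_congr ρ (fun z hz => hys.2 z hz)
    rw [e] at h3
    rw [hw.2 z hz, map_smul, h3.2 z hz]
  intro w hw
  exact (hP w).mp (hle hw)

/-- An element commuting with `Z` on `U` fixes all weights. -/
theorem mem_fixAll_of_comm {y : X} (hyZ : y ∈ Subgroup.normalizer (Z : Set X))
    (hyU : ∀ w ∈ U, ρ y w ∈ U) (hcomm : ∀ z ∈ Z, ∀ w ∈ U, ρ y (ρ z w) = ρ z (ρ y w)) :
    y ∈ fixAll ρ Z U := by
  rw [mem_fixAll]
  intro ν hν
  obtain ⟨w, hw, hw0⟩ := (Submodule.ne_bot_iff _).mp hν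
  refine ⟨hyZ, fun z hz => ?_⟩
  have h3 := rho_mem_wtSpace_conjWt ρ hyZ hyU hw
  have h4 : ρ z (ρ y w) = conjWt y ν z • ρ y w := h3.2 z hz
  rw [← hcomm z hz w hw.1, hw.2 z hz, map_smul] at h4
  have h5 : ρ y w ≠ 0 := fun h0 => hw0 (rho_injective ρ y (by rw [h0, map_zero]))
  by_contra hne
  have : (ν z - conjWt y ν z) • ρ y w = 0 := by rw [sub_smul, h4, sub_self]
  rcases smul_eq_zero.mp this with h6 | h6
  · exact hne (sub_eq_zero.mp h6).symm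
  · exact h5 h6

/-- The kernel of a weight. -/
def wtKer (h2 : Setup2 ρ A Q T U Z) {ν : X → 𝔽} (hν : wtSpace ρ Z U ν ≠ ⊥) : Subgroup X where
  carrier := {z | z ∈ Z ∧ ν z = 1}
  one_mem' := ⟨Z.one_mem, wt_one h2 hν⟩
  mul_mem' := by
    rintro a b ⟨ha, ha'⟩ ⟨hb, hb'⟩
    exact ⟨Z.mul_mem ha hb, by rw [wt_mul h2 hν ha hb, ha', hb', one_mul]⟩
  inv_mem' := by
    rintro a ⟨ha, ha'⟩
    exact ⟨Z.inv_mem ha, by rw [wt_inv h2 hν ha, ha', inv_one]⟩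

theorem mem_wtKer (h2 : Setup2 ρ A Q T U Z) {ν : X → 𝔽} (hν : wtSpace ρ Z U ν ≠ ⊥) {z : X} :
    z ∈ wtKer h2 hν ↔ z ∈ Z ∧ ν z = 1 := Iff.rfl

/-- A weight fixed by a subgroup `B` is trivial on `[Z, B]`. -/
theorem commutator_le_wtKer (h2 : Setup2 ρ A Q T U Z) {ν : X → 𝔽} (hν : wtSpace ρ Z U ν ≠ ⊥)
    {B : Subgroup X} (hBZ : B ≤ Subgroup.normalizer (Z : Set X)) (hB : B ≤ stabWt Z ν) :
    ⁅Z, B⁆ ≤ wtKer h2 hν := by
  rw [Subgroup.commutator_le]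
  intro z hz a ha
  have e : ⁅z, a⁆ = z * (a * z⁻¹ * a⁻¹) := by rw [commutatorElement_def]; group
  have hz' : a * z⁻¹ * a⁻¹ ∈ Z := conj_mem_of_mem_normalizer' (hBZ ha) (Z.inv_mem hz)
  refine ⟨by rw [e]; exact Z.mul_mem hz hz', ?_⟩
  have h3 : ν (a * z⁻¹ * a⁻¹) = ν z⁻¹ := by
    have := (hB (B.inv_mem ha)).2 z⁻¹ (Z.inv_mem hz)
    rwa [inv_inv] at this
  rw [e, wt_mul h2 hν hz hz', h3, wt_inv h2 hν hz, mul_inv_cancel₀]
  intro h0
  have := wt_mul h2 hν hz (Z.inv_mem hz)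
  rw [mul_inv_cancel, wt_one h2 hν, h0, zero_mul] at this
  exact one_ne_zero this

end Weights

section GroupLemma

/-- If `y * c ∈ S` with `c ∈ ⟨f⟩` commuting with the `t`-element `y`, and `f ∉ S`, then `y ∈ S`. -/
theorem mem_of_mul_mem {r t : ℕ} [Fact r.Prime] [Fact t.Prime] (hrt : r ≠ t) {f : X}
    (hf : f ^ r = 1) (S : Subgroup X) (hfS : f ∉ S) {y c : X} (hc : c ∈ Subgroup.zpowers f)
    (hyc : y * c = c * y) {a : ℕ} (hy : y ^ (t ^ a) = 1) (hmem : y * c ∈ S) : y ∈ S := by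
  by_cases hc1 : c = 1
  · rw [hc1, mul_one] at hmem; exact hmem
  exfalso
  have hcomm : Commute y c := hyc
  have h1 : (y * c) ^ (t ^ a) = c ^ (t ^ a) := by rw [hcomm.mul_pow, hy, one_mul]
  have h2 : c ^ (t ^ a) ∈ S := h1 ▸ S.pow_mem hmem _
  have hcr : c ^ r = 1 := by
    obtain ⟨k, rfl⟩ := Subgroup.mem_zpowers_iff.mp hc
    rw [← zpow_natCast, ← zpow_mul, mul_comm, zpow_mul, zpow_natCast, hf, one_zpow]
  have hord : orderOf c = r := orderOf_eq_prime hcr hc1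
  have h3 : c ^ (t ^ a) ≠ 1 := by
    intro h0
    have hd : r ∣ t ^ a := hord ▸ orderOf_dvd_of_pow_eq_one h0
    exact hrt ((Nat.prime_dvd_prime_iff_eq (Fact.out : r.Prime) (Fact.out : t.Prime)).mp
      ((Fact.out : r.Prime).dvd_of_dvd_pow hd))
  have h4 : f ∈ Subgroup.zpowers (c ^ (t ^ a)) :=
    mem_zpowers_symm hf (Subgroup.pow_mem _ hc _) h3
  have : Subgroup.zpowers (c ^ (t ^ a)) ≤ S := by rwa [Subgroup.zpowers_le]
  exact hfS (this h4)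

end GroupLemma

section StepA1

variable [IsAlgClosed 𝔽] [FiniteDimensional 𝔽 E]
variable {ρ : X →* Module.End 𝔽 E} {r s q t : ℕ} [Fact r.Prime] [Fact s.Prime] [Fact q.Prime]
  [Fact t.Prime] {f h : X} {Q T : Subgroup X} {U : Submodule 𝔽 E} {Z : Subgroup X}

/-- `T₀ = C_T(⟨f⟩)`. -/
def T0 (T : Subgroup X) (f : X) : Subgroup X :=
  T ⊓ Subgroup.centralizer ((Subgroup.zpowers f : Subgroup X) : Set X)

theorem mem_T0 {T : Subgroup X} {f y : X} : y ∈ T0 T f ↔ y ∈ T ∧ y * f = f * y := by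
  unfold T0
  rw [Subgroup.mem_inf, Subgroup.mem_centralizer_iff]
  constructor
  · rintro ⟨h1, h2⟩
    exact ⟨h1, (h2 f (Subgroup.mem_zpowers f)).symm⟩
  · rintro ⟨h1, h2⟩
    refine ⟨h1, fun a ha => ?_⟩
    obtain ⟨k, rfl⟩ := Subgroup.mem_zpowers_iff.mp ha
    have : Commute y f := h2
    exact (this.zpow_right k).eq.symm

theorem T0_comm {T : Subgroup X} {f y c : X} (hy : y ∈ T0 T f) (hc : c ∈ Subgroup.zpowers f) :
    y * c = c * y := by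
  have := (Subgroup.mem_centralizer_iff.mp hy.2) c hc
  exact this.symm

theorem FSetup.h_normalizes_T0 (h1 : FSetup ρ r s q t f h Q T) :
    h ∈ Subgroup.normalizer ((T0 T f : Subgroup X) : Set X) := by
  have hle : ∀ g, g ∈ Subgroup.zpowers h → ∀ y ∈ T0 T f, g * y * g⁻¹ ∈ T0 T f := by
    intro g hg y hy
    have hgF : g ∈ Subgroup.normalizer ((Subgroup.zpowers f : Subgroup X) : Set X) := h1.hnormH hg
    have hgT : g ∈ Subgroup.normalizer (T : Set X) := by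
      have : Subgroup.zpowers h ≤ Subgroup.normalizer (T : Set X) := by
        rw [Subgroup.zpowers_le]; exact h1.hhT
      exact this hg
    refine ⟨conj_mem_of_mem_normalizer' hgT hy.1, ?_⟩
    apply Subgroup.mem_centralizer_iff.mpr
    intro a ha
    have ha' : g⁻¹ * a * g ∈ Subgroup.zpowers f := conj_mem_of_mem_normalizer hgF ha
    have h3 := T0_comm hy ha'
    calc a * (g * y * g⁻¹) = g * ((g⁻¹ * a * g) * y) * g⁻¹ := by group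
      _ = g * (y * (g⁻¹ * a * g)) * g⁻¹ := by rw [h3]
      _ = g * y * g⁻¹ * a := by group
  rw [Subgroup.mem_normalizer_iff]
  intro y
  constructor
  · exact fun hy => hle h (Subgroup.mem_zpowers h) y hy
  · intro hy
    have := hle h⁻¹ (Subgroup.inv_mem _ (Subgroup.mem_zpowers h)) _ hy
    have e : h⁻¹ * (h * y * h⁻¹) * h⁻¹⁻¹ = y := by group
    rwa [e] at this

/-- **Step A1**: `C_T(f)` fixes all weights. -/
theorem T0_le_fixAll (h1 : FSetup ρ r s q t f h Q T) (h2 : Setup2 ρ (AA f h) Q T U Z) :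
    T0 T f ≤ fixAll ρ Z U := by
  intro y hy
  rw [mem_fixAll]
  intro ν hν
  set F : Subgroup X := Subgroup.zpowers f with hF
  have hfZ : f ∈ Subgroup.normalizer (Z : Set X) := h2.hAZ (f_mem_AA f h)
  have hFZ : F ≤ Subgroup.normalizer (Z : Set X) := by rwa [hF, Subgroup.zpowers_le]
  have hyT : y ∈ T := hy.1
  have hyf : y * f = f * y := (mem_T0.mp hy).2
  have hyZ : y ∈ Subgroup.normalizer (Z : Set X) := h2.hTZ hyT
  by_cases hfs : f ∈ stabWt Z ν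
  · -- the weight is fixed by `f`
    have hFs : F ≤ stabWt Z ν := by rwa [hF, Subgroup.zpowers_le]
    have hker := commutator_le_wtKer h2 hν hFZ hFs
    refine ⟨hyZ, fun z hz => ?_⟩
    obtain ⟨c, hc, d, hd, rfl⟩ := exists_centralizer_mul_commutator h1.hFp
      (h1.r_not_dvd_Q h2.hZQ) hFZ hz
    have hcf : c * f = f * c :=
      ((Subgroup.mem_centralizer_iff.mp hc.2) f (Subgroup.mem_zpowers f)).symm
    have hcy : c * y = y * c := h1.hβ c (h2.hZQ hc.1) hcf y hyT hyf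
    have hyN : y⁻¹ ∈ Subgroup.normalizer ((⁅Z, F⁆ : Subgroup X) : Set X) := by
      apply normalizer_inf_le_normalizer_commutator Z F
      refine ⟨Subgroup.inv_mem _ hyZ, Subgroup.inv_mem _ ?_⟩
      exact (Subgroup.centralizer_le_normalizer _) hy.2
    have hd' : y⁻¹ * d * y ∈ ⁅Z, F⁆ := by
      have := conj_mem_of_mem_normalizer' hyN hd
      rwa [inv_inv] at this
    have e : y⁻¹ * (c * d) * y = c * (y⁻¹ * d * y) := by
      calc y⁻¹ * (c * d) * y = y⁻¹ * (c * y) * (y⁻¹ * d * y) := by group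
        _ = y⁻¹ * (y * c) * (y⁻¹ * d * y) := by rw [hcy]
        _ = c * (y⁻¹ * d * y) := by group
    rw [e, wt_mul h2 hν hc.1 (hker hd').1, wt_mul h2 hν hc.1 (hker hd).1, (hker hd').2, (hker hd).2]
  · -- the weight is moved by `f`
    have hfix : ∀ y' ∈ T0 T f, y' * h = h * y' → y' = 1 := fun y' hy' hyh =>
      h1.hTfix y' hy'.1 (mem_T0.mp hy').2 hyh
    obtain ⟨y₂, hy₂, hyeq⟩ := exists_eq_inv_mul_conj (T0 T f) h h1.h_normalizes_T0 hfix y hy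
    have hy₂T : y₂ ∈ T := hy₂.1
    have hy₂f : y₂ * f = f * y₂ := (mem_T0.mp hy₂).2
    have hy₂Z : y₂ ∈ Subgroup.normalizer (Z : Set X) := h2.hTZ hy₂T
    have hy₃ : h * y₂ * h⁻¹ ∈ T0 T f := conj_mem_of_mem_normalizer' h1.h_normalizes_T0 hy₂
    obtain ⟨b₁, hb₁, hb₁s⟩ := exists_conj_h_mem_stabWt h1 h2 ν hν hfs
    have hν₂ : wtSpace ρ Z U (conjWt y₂ ν) ≠ ⊥ :=
      conj_wtSpace_ne_bot' ρ hν hy₂Z (h2.hUT y₂ hy₂T)
    have hfs₂ : f ∉ stabWt Z (conjWt y₂ ν) := by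
      rw [stabWt_conjWt_iff hy₂Z]
      have e : y₂⁻¹ * f * y₂ = f := by
        calc y₂⁻¹ * f * y₂ = y₂⁻¹ * (f * y₂) := by group
          _ = y₂⁻¹ * (y₂ * f) := by rw [hy₂f]
          _ = f := by group
      rw [e]; exact hfs
    obtain ⟨b₂, hb₂, hb₂s⟩ := exists_conj_h_mem_stabWt h1 h2 _ hν₂ hfs₂
    have hb₁Z : b₁ ∈ Subgroup.normalizer (Z : Set X) := hFZ hb₁
    have hb₂Z : b₂ ∈ Subgroup.normalizer (Z : Set X) := hFZ hb₂
    have hu₁ : b₁⁻¹ * h * b₁ ∈ stabWt Z ν := (stabWt_conjWt_iff hb₁Z).mp hb₁s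
    have hu₂ : (b₂ * y₂)⁻¹ * h * (b₂ * y₂) ∈ stabWt Z ν := by
      rw [← conjWt_mul] at hb₂s
      exact (stabWt_conjWt_iff (Subgroup.mul_mem _ hb₂Z hy₂Z)).mp hb₂s
    have hmem : (b₂ * y₂)⁻¹ * h * (b₂ * y₂) * (b₁⁻¹ * h * b₁)⁻¹ ∈ stabWt Z ν :=
      Subgroup.mul_mem _ hu₂ (Subgroup.inv_mem _ hu₁)
    have hc'' : b₂⁻¹ * (h * (b₂ * b₁⁻¹) * h⁻¹) * b₁ ∈ F := by
      refine F.mul_mem (F.mul_mem (F.inv_mem hb₂) ?_) hb₁
      exact conj_mem_of_mem_normalizer' (h1.hnormH (Subgroup.mem_zpowers h))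
        (F.mul_mem hb₂ (F.inv_mem hb₁))
    have e1 : b₂ * y₂ = y₂ * b₂ := (T0_comm hy₂ hb₂).symm
    have e2 : b₂⁻¹ * (h * y₂ * h⁻¹) = (h * y₂ * h⁻¹) * b₂⁻¹ :=
      (T0_comm hy₃ (F.inv_mem hb₂)).symm
    have heq : (b₂ * y₂)⁻¹ * h * (b₂ * y₂) * (b₁⁻¹ * h * b₁)⁻¹ =
        y * (b₂⁻¹ * (h * (b₂ * b₁⁻¹) * h⁻¹) * b₁) := by
      rw [hyeq]
      calc (b₂ * y₂)⁻¹ * h * (b₂ * y₂) * (b₁⁻¹ * h * b₁)⁻¹
          = y₂⁻¹ * b₂⁻¹ * h * (b₂ * y₂) * b₁⁻¹ * h⁻¹ * b₁ := by group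
        _ = y₂⁻¹ * b₂⁻¹ * h * (y₂ * b₂) * b₁⁻¹ * h⁻¹ * b₁ := by rw [e1]
        _ = y₂⁻¹ * (b₂⁻¹ * (h * y₂ * h⁻¹)) * h * b₂ * b₁⁻¹ * h⁻¹ * b₁ := by group
        _ = y₂⁻¹ * ((h * y₂ * h⁻¹) * b₂⁻¹) * h * b₂ * b₁⁻¹ * h⁻¹ * b₁ := by rw [e2]
        _ = (y₂⁻¹ * (h * y₂ * h⁻¹)) * (b₂⁻¹ * (h * (b₂ * b₁⁻¹) * h⁻¹) * b₁) := by group
    rw [heq] at hmem
    obtain ⟨a, ha⟩ := h1.hT ⟨y, hyT⟩
    have ha' : y ^ (t ^ a) = 1 := by simpa using congrArg Subtype.val ha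
    exact mem_of_mul_mem h1.hrt h1.hf (stabWt Z ν) hfs hc'' (T0_comm hy hc'') ha' hmem

end StepA1

end Cfsg.Agent.Lib.Helper76.FrobKey
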