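import Mathlib
import Cfsg.Agent.Lib.Helper76.FrobKeyD
import Cfsg.Agent.Lib.Helper87.ThompsonSub

/-!
# Step A2 of the Frobenius key lemma: `T` fixes all weights (helper76)
-/

set_option autoImplicit false
set_option linter.unusedSectionVars false
set_option linter.unusedVariables false

namespace Cfsg.Agent.Lib.Helper76.FrobKey

open scoped commutatorElement Pointwise
open Cfsg.Agent.Lib.Helper48 Cfsg.Agent.Lib.Helper76.WardKey

variable {X : Type*} [Group X] [Finite X] {𝔽 : Type*} [Field 𝔽]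
  {E : Type*} [AddCommGroup E] [Module 𝔽 E]

section General

variable (ρ : X →* Module.End 𝔽 E)

/-- Elements preserving `U` normalize its pointwise fixer. -/
theorem conj_mem_fixer {U : Submodule 𝔽 E} {g x : X} (hg : g ∈ stabU ρ U) (hx : x ∈ fixer ρ U) :
    g * x * g⁻¹ ∈ fixer ρ U := by
  intro w hw
  rw [rho_mul, rho_mul, hx _ (hg.2 w hw), rho_rho_inv]

theorem stabU_le_normalizer_fixer (U : Submodule 𝔽 E) :
    stabU ρ U ≤ Subgroup.normalizer ((fixer ρ U : Subgroup X) : Set X) := by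
  intro g hg
  rw [Subgroup.mem_normalizer_iff]
  intro x
  constructor
  · exact fun hx => conj_mem_fixer ρ hg hx
  · intro hx
    have := conj_mem_fixer ρ (Subgroup.inv_mem _ hg) hx
    have e : g⁻¹ * (g * x * g⁻¹) * g⁻¹⁻¹ = x := by group
    rwa [e] at this

/-- The commutator acts trivially iff the operators commute. -/
theorem comm_of_commutator_mem_fixer {U : Submodule 𝔽 E} {z y : X}
    (hzU : ∀ w ∈ U, ρ z w ∈ U) (hyU : ∀ w ∈ U, ρ y w ∈ U) (h : ⁅z, y⁆ ∈ fixer ρ U) :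
    ∀ w ∈ U, ρ y (ρ z w) = ρ z (ρ y w) := by
  intro w hw
  have e : z * y = ⁅z, y⁆ * (y * z) := by rw [commutatorElement_def]; group
  have h1 : ρ (z * y) w = ρ (y * z) w := by
    rw [e, rho_mul, h _ (by rw [rho_mul]; exact hyU _ (hzU w hw))]
  rw [rho_mul, rho_mul] at h1
  exact h1.symm

theorem commutator_mem_fixer_of_comm {U : Submodule 𝔽 E} {z y : X}
    (hz : z ∈ stabU ρ U) (hy : y ∈ stabU ρ U)
    (h : ∀ w ∈ U, ρ y (ρ z w) = ρ z (ρ y w)) : ⁅z, y⁆ ∈ fixer ρ U := by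
  intro w hw
  apply rho_commutator_of_comm
  exact (h _ (hz.2 _ (hy.2 w hw))).symm

end General

section Phi

variable {ρ : X →* Module.End 𝔽 E} {A Q T : Subgroup X} {U : Submodule 𝔽 E} {Z : Subgroup X}

/-- The product of the `T`-conjugates of a weight. -/
noncomputable def PhiT (T : Subgroup X) (μ : X → 𝔽) (z : X) : 𝔽 :=
  ∏ᶠ y : T, conjWt (y : X) μ z

theorem PhiT_eq_prod (T : Subgroup X) [Fintype T] (μ : X → 𝔽) (z : X) :
    PhiT T μ z = ∏ y : T, conjWt (y : X) μ z := by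
  unfold PhiT
  exact finprod_eq_prod_of_fintype _

theorem wt_eq_one_of_mem_fixer (h2 : Setup2 ρ A Q T U Z) {ν : X → 𝔽}
    (hν : wtSpace ρ Z U ν ≠ ⊥) {z : X} (hz : z ∈ Z) (hzf : z ∈ fixer ρ U) : ν z = 1 := by
  obtain ⟨w, hw, hw0⟩ := (Submodule.ne_bot_iff _).mp hν
  have h3 := hw.2 z hz
  rw [hzf w hw.1] at h3
  by_contra hne
  have : (ν z - 1) • w = 0 := by rw [sub_smul, ← h3, one_smul, sub_self]
  rcases smul_eq_zero.mp this with h4 | h4
  · exact hne (sub_eq_zero.mp h4)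
  · exact hw0 h4

theorem PhiT_mul (h2 : Setup2 ρ A Q T U Z) {μ : X → 𝔽} (hμ : wtSpace ρ Z U μ ≠ ⊥) {z z' : X}
    (hz : z ∈ Z) (hz' : z' ∈ Z) : PhiT T μ (z * z') = PhiT T μ z * PhiT T μ z' := by
  classical
  let _ := Fintype.ofFinite T
  rw [PhiT_eq_prod, PhiT_eq_prod, PhiT_eq_prod, ← Finset.prod_mul_distrib]
  apply Finset.prod_congr rfl
  intro y _
  exact wt_mul h2 (conj_wtSpace_ne_bot' ρ hμ (h2.hTZ y.2) (h2.hUT _ y.2)) hz hz'

theorem PhiT_one (h2 : Setup2 ρ A Q T U Z) {μ : X → 𝔽} (hμ : wtSpace ρ Z U μ ≠ ⊥) :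
    PhiT T μ 1 = 1 := by
  classical
  let _ := Fintype.ofFinite T
  rw [PhiT_eq_prod]
  apply Finset.prod_eq_one
  intro y _
  exact wt_one h2 (conj_wtSpace_ne_bot' ρ hμ (h2.hTZ y.2) (h2.hUT _ y.2))

theorem PhiT_inv (h2 : Setup2 ρ A Q T U Z) {μ : X → 𝔽} (hμ : wtSpace ρ Z U μ ≠ ⊥) {z : X}
    (hz : z ∈ Z) : PhiT T μ z⁻¹ = (PhiT T μ z)⁻¹ := by
  have h3 := PhiT_mul h2 hμ hz (Z.inv_mem hz)
  rw [mul_inv_cancel, PhiT_one h2 hμ] at h3
  exact eq_inv_of_mul_eq_one_right h3.symm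

theorem PhiT_conj (μ : X → 𝔽) {y₀ : X} (hy₀ : y₀ ∈ T) (z : X) :
    PhiT T μ (y₀ * z * y₀⁻¹) = PhiT T μ z := by
  classical
  let _ := Fintype.ofFinite T
  rw [PhiT_eq_prod, PhiT_eq_prod]
  apply Fintype.prod_equiv (Equiv.mulLeft (⟨y₀, hy₀⟩ : T)⁻¹)
  intro y
  simp only [conjWt_apply, Equiv.coe_mulLeft, Subgroup.coe_mul, Subgroup.coe_inv]
  congr 1
  group

theorem PhiT_fixer (h2 : Setup2 ρ A Q T U Z) {μ : X → 𝔽} (hμ : wtSpace ρ Z U μ ≠ ⊥) {z : X}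
    (hz : z ∈ Z) (hzf : z ∈ fixer ρ U) : PhiT T μ z = 1 := by
  classical
  let _ := Fintype.ofFinite T
  rw [PhiT_eq_prod]
  apply Finset.prod_eq_one
  intro y _
  exact wt_eq_one_of_mem_fixer h2 (conj_wtSpace_ne_bot' ρ hμ (h2.hTZ y.2) (h2.hUT _ y.2)) hz hzf

/-- The kernel of `PhiT` on `Z`. -/
def PhiKer (h2 : Setup2 ρ A Q T U Z) {μ : X → 𝔽} (hμ : wtSpace ρ Z U μ ≠ ⊥) : Subgroup X where
  carrier := {z | z ∈ Z ∧ PhiT T μ z = 1}
  one_mem' := ⟨Z.one_mem, PhiT_one h2 hμ⟩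
  mul_mem' := by
    rintro a b ⟨ha, ha'⟩ ⟨hb, hb'⟩
    exact ⟨Z.mul_mem ha hb, by rw [PhiT_mul h2 hμ ha hb, ha', hb', one_mul]⟩
  inv_mem' := by
    rintro a ⟨ha, ha'⟩
    exact ⟨Z.inv_mem ha, by rw [PhiT_inv h2 hμ ha, ha', inv_one]⟩

theorem commutator_le_PhiKer (h2 : Setup2 ρ A Q T U Z) {μ : X → 𝔽} (hμ : wtSpace ρ Z U μ ≠ ⊥) :
    ⁅Z, T⁆ ≤ PhiKer h2 hμ := by
  rw [Subgroup.commutator_le]
  intro z hz y hy
  have e : ⁅z, y⁆ = z * (y * z⁻¹ * y⁻¹) := by rw [commutatorElement_def]; group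
  have hz' : y * z⁻¹ * y⁻¹ ∈ Z := conj_mem_of_mem_normalizer' (h2.hTZ hy) (Z.inv_mem hz)
  refine ⟨by rw [e]; exact Z.mul_mem hz hz', ?_⟩
  rw [e, PhiT_mul h2 hμ hz hz', PhiT_conj μ hy, PhiT_inv h2 hμ hz, mul_inv_cancel₀]
  intro h0
  have := PhiT_mul h2 hμ hz (Z.inv_mem hz)
  rw [mul_inv_cancel, PhiT_one h2 hμ, h0, zero_mul] at this
  exact one_ne_zero this

theorem inf_fixer_le_PhiKer (h2 : Setup2 ρ A Q T U Z) {μ : X → 𝔽} (hμ : wtSpace ρ Z U μ ≠ ⊥) :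
    Z ⊓ fixer ρ U ≤ PhiKer h2 hμ := fun z hz => ⟨hz.1, PhiT_fixer h2 hμ hz.1 hz.2⟩

end Phi

section StepA2

variable [IsAlgClosed 𝔽] [FiniteDimensional 𝔽 E]
variable {ρ : X →* Module.End 𝔽 E} {r s q t : ℕ} [Fact r.Prime] [Fact s.Prime] [Fact q.Prime]
  [Fact t.Prime] {f h : X} {Q T : Subgroup X} {U : Submodule 𝔽 E} {Z : Subgroup X}

/-- If `f` fixes `μ` and the conjugate weight `y μ` (`y ∈ T`), then `y` fixes `μ`. -/
theorem mem_stabWt_of_f_mem (h1 : FSetup ρ r s q t f h Q T) (h2 : Setup2 ρ (AA f h) Q T U Z)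
    {μ : X → 𝔽} (hμ : wtSpace ρ Z U μ ≠ ⊥) (hfμ : f ∈ stabWt Z μ) {y : X} (hy : y ∈ T)
    (hfy : f ∈ stabWt Z (conjWt y μ)) : y ∈ stabWt Z μ := by
  have hyZ : y ∈ Subgroup.normalizer (Z : Set X) := h2.hTZ hy
  rw [stabWt_conjWt_iff hyZ] at hfy
  set S : Subgroup X := stabWt Z μ with hS
  have hfN : f ∈ Subgroup.normalizer ((T ⊓ S : Subgroup X) : Set X) :=
    Subgroup.inf_normalizer_le_normalizer_inf ⟨h1.hfT, Subgroup.le_normalizer hfμ⟩
  have hx : y⁻¹ * (f * y * f⁻¹) ∈ T ⊓ S := by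
    refine ⟨T.mul_mem (T.inv_mem hy) (conj_mem_of_mem_normalizer' h1.hfT hy), ?_⟩
    have e : y⁻¹ * (f * y * f⁻¹) = (y⁻¹ * f * y) * f⁻¹ := by group
    rw [e]
    exact S.mul_mem hfy (S.inv_mem hfμ)
  obtain ⟨n, hn, hfix⟩ := exists_fixed_in_coset_of_elem f h1.hFp (T ⊓ S)
    (h1.r_not_dvd_T inf_le_left) hfN y hx
  have hyn : y * n ∈ T0 T f := by
    rw [mem_T0]
    refine ⟨T.mul_mem hy hn.1, ?_⟩
    have := mul_inv_eq_iff_eq_mul.mp hfix
    exact this.symm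
  have h3 : y * n ∈ S := (mem_fixAll ρ).mp (T0_le_fixAll h1 h2 hyn) μ hμ
  have e : y = (y * n) * n⁻¹ := by group
  rw [e]
  exact S.mul_mem h3 (S.inv_mem hn.2)

/-- In Case 2 (`PhiT ≡ 1` on `Z`), no weight is fixed by `f`. -/
theorem false_of_PhiT_eq_one (h1 : FSetup ρ r s q t f h Q T) (h2 : Setup2 ρ (AA f h) Q T U Z)
    {μ : X → 𝔽} (hμ : wtSpace ρ Z U μ ≠ ⊥) (hfμ : f ∈ stabWt Z μ)
    (hΦ : ∀ z ∈ Z, PhiT T μ z = 1) : False := by
  classical
  let _ := Fintype.ofFinite T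
  set F : Subgroup X := Subgroup.zpowers f with hF
  have hfZ : f ∈ Subgroup.normalizer (Z : Set X) := h2.hAZ (f_mem_AA f h)
  have hFZ : F ≤ Subgroup.normalizer (Z : Set X) := by rwa [hF, Subgroup.zpowers_le]
  have hFs : F ≤ stabWt Z μ := by rwa [hF, Subgroup.zpowers_le]
  -- `μ` is trivial on `C_Z(f)`
  have hcent : ∀ z ∈ Z, z * f = f * z → μ z = 1 := by
    intro z hz hzf
    have hfac : ∀ y : T, conjWt (y : X) μ z = if (y : X) ∈ stabWt Z μ then μ z else 1 := by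
      intro y
      split_ifs with hys
      · exact hys.2 z hz
      · have hne : f ∉ stabWt Z (conjWt (y : X) μ) := fun hfy =>
          hys (mem_stabWt_of_f_mem h1 h2 hμ hfμ y.2 hfy)
        have hν := conj_wtSpace_ne_bot' ρ hμ (h2.hTZ y.2) (h2.hUT _ y.2)
        obtain ⟨w, hw, hw0⟩ := (Submodule.ne_bot_iff _).mp hν
        have h3 := diag_f h1 h2 _ hne (h2.hZQ hz) hzf hw
        rw [hw.2 z hz] at h3
        by_contra hne'
        have : (conjWt (y : X) μ z - 1) • w = 0 := by rw [sub_smul, h3, one_smul, sub_self]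
        rcases smul_eq_zero.mp this with h4 | h4
        · exact hne' (sub_eq_zero.mp h4)
        · exact hw0 h4
    have h4 := hΦ z hz
    rw [PhiT_eq_prod, Finset.prod_congr rfl (fun y _ => hfac y), Finset.prod_ite,
      Finset.prod_const, Finset.prod_const_one, mul_one] at h4
    -- the exponent divides `|T|`
    have hcard : (Finset.univ.filter (fun y : T => (y : X) ∈ stabWt Z μ)).card ∣ Nat.card T := by
      have e1 : (Finset.univ.filter (fun y : T => (y : X) ∈ stabWt Z μ)).card =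
          Nat.card ((stabWt Z μ).subgroupOf T) := by
        rw [Nat.card_eq_fintype_card, Fintype.card_subtype]
        rfl
      rw [e1]
      exact Subgroup.card_subgroup_dvd_card _
    obtain ⟨b, hb⟩ := IsPGroup.iff_card.mp h1.hT
    rw [hb] at hcard
    have h5 : μ z ^ (t ^ b) = 1 := by
      obtain ⟨k, hk⟩ := hcard
      rw [hk, pow_mul, h4, one_pow]
    obtain ⟨a, ha⟩ := h1.hQ ⟨z, h2.hZQ hz⟩
    have ha' : z ^ (q ^ a) = 1 := by simpa using congrArg Subtype.val ha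
    have h6 : μ z ^ (q ^ a) = 1 := by
      rw [← wt_pow h2 hμ hz, ha', wt_one h2 hμ]
    have h7 : orderOf (μ z) ∣ Nat.gcd (t ^ b) (q ^ a) :=
      Nat.dvd_gcd (orderOf_dvd_of_pow_eq_one h5) (orderOf_dvd_of_pow_eq_one h6)
    have h8 : Nat.Coprime (t ^ b) (q ^ a) :=
      Nat.Coprime.pow b a ((Nat.coprime_primes Fact.out Fact.out).mpr h1.hqt.symm)
    rw [h8, Nat.dvd_one] at h7
    exact orderOf_eq_one_iff.mp h7
  have hker := commutator_le_wtKer h2 hμ hFZ hFs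
  apply wt_nontrivial h2 hμ
  intro z hz
  obtain ⟨c, hc, d, hd, rfl⟩ := exists_centralizer_mul_commutator h1.hFp
    (h1.r_not_dvd_Q h2.hZQ) hFZ hz
  have hcf : c * f = f * c :=
    ((Subgroup.mem_centralizer_iff.mp hc.2) f (Subgroup.mem_zpowers f)).symm
  rw [wt_mul h2 hμ hc.1 (hker hd).1, hcent c hc.1 hcf, (hker hd).2, one_mul]

theorem mem_normalizer_of_conj_mem {K : Subgroup X} {g : X} (h1 : ∀ x ∈ K, g * x * g⁻¹ ∈ K)
    (h2 : ∀ x ∈ K, g⁻¹ * x * g ∈ K) : g ∈ Subgroup.normalizer (K : Set X) := by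
  rw [Subgroup.mem_normalizer_iff]
  intro x
  constructor
  · exact h1 x
  · intro hx
    have := h2 _ hx
    have e : g⁻¹ * (g * x * g⁻¹) * g = x := by group
    rwa [e] at this

theorem mem_normalizer_fixAll {g : X} (hgZ : g ∈ Subgroup.normalizer (Z : Set X))
    (hgU : g ∈ stabU ρ U) : g ∈ Subgroup.normalizer ((fixAll ρ Z U : Subgroup X) : Set X) := by
  apply mem_normalizer_of_conj_mem
  · intro x hx
    exact conj_mem_fixAll ρ hx hgZ hgU
  · intro x hx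
    have := conj_mem_fixAll ρ hx (Subgroup.inv_mem _ hgZ) (Subgroup.inv_mem _ hgU)
    rwa [inv_inv] at this

/-- If no weight is fixed by `f`, then `C_Z(f)` acts trivially on `U`. -/
theorem cent_le_fixer (h1 : FSetup ρ r s q t f h Q T) (h2 : Setup2 ρ (AA f h) Q T U Z)
    {μ₀ : X → 𝔽} {w₁ : E} (hw₁ : w₁ ∈ wtSpace ρ Z U μ₀) (hw₁0 : w₁ ≠ 0)
    (hno : ∀ ν : X → 𝔽, wtSpace ρ Z U ν ≠ ⊥ → f ∉ stabWt Z ν) {z : X} (hz : z ∈ Q)
    (hzf : z * f = f * z) : z ∈ fixer ρ U := by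
  let P : Submodule 𝔽 E := LinearMap.ker (ρ z - 1)
  have hP : ∀ w, w ∈ P ↔ ρ z w = w := by
    intro w
    show (ρ z - 1) w = 0 ↔ _
    rw [LinearMap.sub_apply, sub_eq_zero]
    rfl
  have hle : U ≤ P := by
    apply h2.forall_U_of_forall_wt hw₁ hw₁0
    intro g hg w hw
    rw [hP]
    exact diag_f h1 h2 _ (hno _ (h2.conj_wtSpace_ne_bot hw₁ hw₁0 hg)) hz hzf hw
  intro w hw
  exact (hP w).mp (hle hw)

theorem coprime_orderOf_of_pow' {x y : X} {p p' : ℕ} [Fact p.Prime] [Fact p'.Prime] (hpp : p ≠ p')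
    {i j : ℕ} (hx : x ^ (p ^ i) = 1) (hy : y ^ (p' ^ j) = 1) :
    Nat.Coprime (orderOf x) (orderOf y) := by
  have h1 : orderOf x ∣ p ^ i := orderOf_dvd_of_pow_eq_one hx
  have h2 : orderOf y ∣ p' ^ j := orderOf_dvd_of_pow_eq_one hy
  have h3 : Nat.Coprime (p ^ i) (p' ^ j) :=
    Nat.Coprime.pow i j ((Nat.coprime_primes Fact.out Fact.out).mpr hpp)
  exact Nat.Coprime.coprime_dvd_left h1 (Nat.Coprime.coprime_dvd_right h2 h3)

/-- The Thompson step: if no weight is fixed by `f`, then `T` fixes all weights. -/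
theorem T_le_fixAll_of_no_fixed (h1 : FSetup ρ r s q t f h Q T) (h2 : Setup2 ρ (AA f h) Q T U Z)
    {μ₀ : X → 𝔽} {w₁ : E} (hw₁ : w₁ ∈ wtSpace ρ Z U μ₀) (hw₁0 : w₁ ≠ 0)
    (hno : ∀ ν : X → 𝔽, wtSpace ρ Z U ν ≠ ⊥ → f ∉ stabWt Z ν) : T ≤ fixAll ρ Z U := by
  have hr : r.Prime := Fact.out
  set N1 : Subgroup X := Z ⊓ fixer ρ U with hN1
  set N2 : Subgroup X := T ⊓ fixAll ρ Z U with hN2
  have hZp : IsPGroup q Z := h1.hQ.to_le h2.hZQ
  have hZT : Z ⊓ T = ⊥ := (IsPGroup.disjoint_of_ne q t h1.hqt _ _ hZp h1.hT).eq_bot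
  have hZU : Z ≤ stabU ρ U := le_stabU ρ (fun g hg => h2.hUQ g (h2.hZQ hg))
  have hTU : T ≤ stabU ρ U := le_stabU ρ h2.hUT
  have hfU : f ∈ stabU ρ U := (le_stabU ρ h2.hUA) (f_mem_AA f h)
  have hfZ : f ∈ Subgroup.normalizer (Z : Set X) := h2.hAZ (f_mem_AA f h)
  have hN1norm : ∀ g, g ∈ Subgroup.normalizer (Z : Set X) → g ∈ stabU ρ U →
      g ∈ Subgroup.normalizer (N1 : Set X) := fun g hgZ hgU =>
    Subgroup.inf_normalizer_le_normalizer_inf ⟨hgZ, stabU_le_normalizer_fixer ρ U hgU⟩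
  have hN2norm : ∀ g, g ∈ Subgroup.normalizer (Z : Set X) → g ∈ Subgroup.normalizer (T : Set X) →
      g ∈ stabU ρ U → g ∈ Subgroup.normalizer (N2 : Set X) := fun g hgZ hgT hgU =>
    Subgroup.inf_normalizer_le_normalizer_inf ⟨hgT, mem_normalizer_fixAll hgZ hgU⟩
  have hTN : T ≤ Subgroup.normalizer ((N1 ⊔ N2 : Subgroup X) : Set X) := fun y hy =>
    Subgroup.normalizer_inf_normalizer_le_normalizer_sup N1 N2
      ⟨hN1norm y (h2.hTZ hy) (hTU hy), hN2norm y (h2.hTZ hy) (Subgroup.le_normalizer hy) (hTU hy)⟩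
  have hZconj : ∀ z ∈ Z, ∀ x ∈ N1 ⊔ N2, z * x * z⁻¹ ∈ N1 ⊔ N2 := by
    intro z hz x hx
    have hle : N1 ⊔ N2 ≤ (N1 ⊔ N2).comap (MulAut.conj z).toMonoidHom := by
      refine sup_le ?_ ?_
      · intro x hx
        show z * x * z⁻¹ ∈ N1 ⊔ N2
        exact Subgroup.mem_sup_left
          (conj_mem_of_mem_normalizer' (hN1norm z (Subgroup.le_normalizer hz) (hZU hz)) hx)
      · intro x hx
        show z * x * z⁻¹ ∈ N1 ⊔ N2
        have e : z * x * z⁻¹ = ⁅z, x⁆ * x := by rw [commutatorElement_def]; group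
        rw [e]
        refine Subgroup.mul_mem _ (Subgroup.mem_sup_left ⟨?_, ?_⟩) (Subgroup.mem_sup_right hx)
        · have e' : ⁅z, x⁆ = z * (x * z⁻¹ * x⁻¹) := by rw [commutatorElement_def]; group
          rw [e']
          exact Z.mul_mem hz (conj_mem_of_mem_normalizer' (h2.hTZ hx.1) (Z.inv_mem hz))
        · apply commutator_mem_fixer_of_comm ρ (hZU hz) (hTU hx.1)
          exact comm_of_mem_fixAll h2 hw₁ hw₁0 (h2.hTZ hx.1) (h2.hUT _ hx.1) hx.2 z hz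
    exact hle hx
  have hZN : Z ≤ Subgroup.normalizer ((N1 ⊔ N2 : Subgroup X) : Set X) := by
    intro z hz
    apply mem_normalizer_of_conj_mem
    · exact hZconj z hz
    · intro x hx
      have := hZconj z⁻¹ (Z.inv_mem hz) x hx
      rwa [inv_inv] at this
  have hcardL : Nat.card (Z ⊔ T : Subgroup X) = Nat.card Z * Nat.card T :=
    Cfsg.Agent.Lib.Helper54.card_sup_of_le_normalizer h2.hTZ hZT
  have hrL : ¬ r ∣ Nat.card (Z ⊔ T : Subgroup X) := by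
    rw [hcardL]
    intro hd
    rcases (Nat.Prime.dvd_mul hr).mp hd with h | h
    · exact h1.r_not_dvd_Q h2.hZQ h
    · exact h1.r_not_dvd_T le_rfl h
  have hset : ((Z ⊔ T : Subgroup X) : Set X) = (Z : Set X) * (T : Set X) :=
    Subgroup.coe_mul_of_right_le_normalizer_left _ _ h2.hTZ
  have hC : ∀ x ∈ Z ⊔ T, x * f = f * x → x ∈ N1 ⊔ N2 := by
    intro x hx hxf
    have hmem : x ∈ (Z : Set X) * (T : Set X) := by rw [← hset]; exact hx
    obtain ⟨z, hz, y, hy, rfl⟩ := Set.mem_mul.mp hmem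
    have hz' : f * z * f⁻¹ ∈ Z := conj_mem_of_mem_normalizer' hfZ hz
    have hy' : f * y * f⁻¹ ∈ T := conj_mem_of_mem_normalizer' h1.hfT hy
    have heq : (f * z * f⁻¹) * (f * y * f⁻¹) = z * y := by
      calc (f * z * f⁻¹) * (f * y * f⁻¹) = f * (z * y) * f⁻¹ := by group
        _ = z * y * f * f⁻¹ := by rw [← hxf]
        _ = z * y := by group
    have hmid : z⁻¹ * (f * z * f⁻¹) = y * (f * y * f⁻¹)⁻¹ := by
      calc z⁻¹ * (f * z * f⁻¹) = z⁻¹ * ((f * z * f⁻¹) * (f * y * f⁻¹)) * (f * y * f⁻¹)⁻¹ := by group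
        _ = z⁻¹ * (z * y) * (f * y * f⁻¹)⁻¹ := by rw [heq]
        _ = y * (f * y * f⁻¹)⁻¹ := by group
    have h3 : z⁻¹ * (f * z * f⁻¹) ∈ Z ⊓ T :=
      ⟨Z.mul_mem (Z.inv_mem hz) hz', by rw [hmid]; exact T.mul_mem hy (T.inv_mem hy')⟩
    rw [hZT, Subgroup.mem_bot] at h3
    have hzf : z * f = f * z := by
      have : f * z * f⁻¹ = z := by
        calc f * z * f⁻¹ = z * (z⁻¹ * (f * z * f⁻¹)) := by group
          _ = z := by rw [h3, mul_one]
      calc z * f = f * z * f⁻¹ * f := by rw [this]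
        _ = f * z := by group
    have hyf : y * f = f * y := by
      have h4 : y * (f * y * f⁻¹)⁻¹ = 1 := by rw [← hmid, h3]
      have : f * y * f⁻¹ = y := by
        have := mul_inv_eq_one.mp h4
        exact this.symm
      calc y * f = f * y * f⁻¹ * f := by rw [this]
        _ = f * y := by group
    refine Subgroup.mul_mem _ (Subgroup.mem_sup_left ⟨hz, ?_⟩) (Subgroup.mem_sup_right ⟨hy, ?_⟩)
    · exact cent_le_fixer h1 h2 hw₁ hw₁0 hno (h2.hZQ hz) hzf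
    · exact T0_le_fixAll h1 h2 (mem_T0.mpr ⟨hy, hyf⟩)
  have key := Cfsg.Agent.Lib.Helper87.thompson_sub hr f h1.hf (Z ⊔ T) (N1 ⊔ N2)
    (sup_le (inf_le_left.trans le_sup_left) (inf_le_left.trans le_sup_right))
    (sup_le hZN hTN)
    (Subgroup.normalizer_inf_normalizer_le_normalizer_sup Z T ⟨hfZ, h1.hfT⟩)
    (Subgroup.normalizer_inf_normalizer_le_normalizer_sup N1 N2
      ⟨hN1norm f hfZ hfU, hN2norm f hfZ h1.hfT hfU⟩) hrL hC
  -- conclusion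
  intro y hy
  apply mem_fixAll_of_comm (h2.hTZ hy) (h2.hUT y hy)
  intro z hz
  apply comm_of_commutator_mem_fixer ρ (hZU hz).1 (hTU hy).1
  obtain ⟨a, ha⟩ := h1.hQ ⟨z, h2.hZQ hz⟩
  have ha' : z ^ (q ^ a) = 1 := by simpa using congrArg Subtype.val ha
  obtain ⟨b, hb⟩ := h1.hT ⟨y, hy⟩
  have hb' : y ^ (t ^ b) = 1 := by simpa using congrArg Subtype.val hb
  have hcm := key z (Subgroup.mem_sup_left hz) y (Subgroup.mem_sup_right hy)
    (coprime_orderOf_of_pow' h1.hqt ha' hb')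
  have hcZ : ⁅z, y⁆ ∈ Z := by
    have e' : ⁅z, y⁆ = z * (y * z⁻¹ * y⁻¹) := by rw [commutatorElement_def]; group
    rw [e']
    exact Z.mul_mem hz (conj_mem_of_mem_normalizer' (h2.hTZ hy) (Z.inv_mem hz))
  have hN2N1 : N2 ≤ Subgroup.normalizer (N1 : Set X) := fun x hx =>
    hN1norm x (h2.hTZ hx.1) (hTU hx.1)
  have hsetN : ((N1 ⊔ N2 : Subgroup X) : Set X) = (N1 : Set X) * (N2 : Set X) :=
    Subgroup.coe_mul_of_right_le_normalizer_left _ _ hN2N1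
  have hmem : ⁅z, y⁆ ∈ (N1 : Set X) * (N2 : Set X) := by rw [← hsetN]; exact hcm
  obtain ⟨a₁, ha₁, b₁, hb₁, hab⟩ := Set.mem_mul.mp hmem
  have hb₁Z : b₁ ∈ Z ⊓ T := by
    refine ⟨?_, hb₁.1⟩
    have e : b₁ = a₁⁻¹ * ⁅z, y⁆ := by rw [← hab]; group
    rw [e]
    exact Z.mul_mem (Z.inv_mem ha₁.1) hcZ
  rw [hZT, Subgroup.mem_bot] at hb₁Z
  rw [← hab, hb₁Z, mul_one]
  exact ha₁.2

/-- **Step A2**: `T` fixes all weights. -/
theorem T_le_fixAll (h1 : FSetup ρ r s q t f h Q T) {μ₀ : X → 𝔽} {w₁ : E}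
    (h3 : Setup3 ρ (AA f h) Q T U Z μ₀ w₁) : T ≤ fixAll ρ Z U := by
  have h2 := h3.h2
  have hw₁ := h3.hw₁
  have hw₁0 := h3.hw₁0
  set N1 : Subgroup X := Z ⊓ fixer ρ U with hN1
  set K' : Subgroup X := ⁅Z, T⁆ ⊔ N1 with hK'
  have hZU : Z ≤ stabU ρ U := le_stabU ρ (fun g hg => h2.hUQ g (h2.hZQ hg))
  have hTU : T ≤ stabU ρ U := le_stabU ρ h2.hUT
  have hAU : AA f h ≤ stabU ρ U := le_stabU ρ h2.hUA
  have hQU : Q ≤ stabU ρ U := le_stabU ρ h2.hUQ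
  have hcomZ : ⁅Z, T⁆ ≤ Z := commutator_le_of_le_normalizer h2.hTZ
  have hK'Z : K' ≤ Z := sup_le hcomZ inf_le_left
  have hN1norm : ∀ g, g ∈ Subgroup.normalizer (Z : Set X) → g ∈ stabU ρ U →
      g ∈ Subgroup.normalizer (N1 : Set X) := fun g hgZ hgU =>
    Subgroup.inf_normalizer_le_normalizer_inf ⟨hgZ, stabU_le_normalizer_fixer ρ U hgU⟩
  have hDle : ⁅Z, Q⁆ ≤ N1 := by
    refine le_inf (commutator_le_of_le_normalizer h2.hQZ) ?_
    intro d hd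
    exact h3.hDfix d hd
  have hQconj : ∀ x ∈ Q, ∀ k ∈ K', x * k * x⁻¹ ∈ K' := by
    intro x hx k hk
    have e : x * k * x⁻¹ = (⁅k, x⁆)⁻¹ * k := by rw [commutatorElement_def]; group
    rw [e]
    refine K'.mul_mem (K'.inv_mem (Subgroup.mem_sup_right (hDle ?_))) hk
    exact Subgroup.commutator_mem_commutator (hK'Z hk) hx
  have hQK' : Q ≤ Subgroup.normalizer (K' : Set X) := by
    intro x hx
    apply mem_normalizer_of_conj_mem
    · exact hQconj x hx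
    · intro k hk
      have := hQconj x⁻¹ (Q.inv_mem hx) k hk
      rwa [inv_inv] at this
  have hTK' : T ≤ Subgroup.normalizer (K' : Set X) := fun y hy =>
    Subgroup.normalizer_inf_normalizer_le_normalizer_sup _ _
      ⟨Subgroup.normalizer_commutator_ge_right Z T hy, hN1norm y (h2.hTZ hy) (hTU hy)⟩
  have hAK' : AA f h ≤ Subgroup.normalizer (K' : Set X) := fun a ha =>
    Subgroup.normalizer_inf_normalizer_le_normalizer_sup _ _
      ⟨normalizer_inf_le_normalizer_commutator Z T ⟨h2.hAZ ha, h1.hAT ha⟩,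
        hN1norm a (h2.hAZ ha) (hAU ha)⟩
  by_cases htriv : ∀ z ∈ K', ∀ w ∈ U, ρ z w = w
  · -- Case 1
    intro y hy
    apply mem_fixAll_of_comm (h2.hTZ hy) (h2.hUT y hy)
    intro z hz
    apply comm_of_commutator_mem_fixer ρ (hZU hz).1 (hTU hy).1
    exact htriv _ (Subgroup.mem_sup_left (Subgroup.commutator_mem_commutator hz hy))
  · -- Case 2
    have hKZ : K' = Z := h3.hZmin K' hK'Z hQK' hTK' hAK' htriv
    by_cases hex : ∃ ν : X → 𝔽, wtSpace ρ Z U ν ≠ ⊥ ∧ f ∈ stabWt Z ν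
    · exfalso
      obtain ⟨ν, hν, hfν⟩ := hex
      apply false_of_PhiT_eq_one h1 h2 hν hfν
      intro z hz
      have hle : K' ≤ PhiKer h2 hν := sup_le (commutator_le_PhiKer h2 hν) (inf_fixer_le_PhiKer h2 hν)
      rw [← hKZ] at hz
      exact (hle hz).2
    · push Not at hex
      exact T_le_fixAll_of_no_fixed h1 h2 hw₁ hw₁0 hex

end StepA2

end Cfsg.Agent.Lib.Helper76.FrobKey
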