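import Mathlib
import Cfsg.Agent.Lib.Helper76.FrobKeyE
import Cfsg.Agent.Lib.Helper2.ShultGroup
import Cfsg.Agent.Lib.Helper59.FrobGens

/-!
# Step B of the Frobenius key lemma (helper76)
-/

set_option autoImplicit false
set_option linter.unusedSectionVars false
set_option linter.unusedVariables false

namespace Cfsg.Agent.Lib.Helper76.FrobKey

open scoped commutatorElement Pointwise
open Cfsg.Agent.Lib.Helper48 Cfsg.Agent.Lib.Helper76.WardKey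

variable {X : Type*} [Group X] [Finite X] {𝔽 : Type*} [Field 𝔽]
  {E : Type*} [AddCommGroup E] [Module 𝔽 E]

section General

variable (ρ : X →* Module.End 𝔽 E)

/-- The restriction of `ρ` to a subgroup `K` acting on an invariant subspace `U`. -/
def resRep (K : Subgroup X) (U : Submodule 𝔽 E) (hKU : ∀ g ∈ K, ∀ w ∈ U, ρ g w ∈ U) :
    Representation 𝔽 ↥K ↥U where
  toFun g := (ρ (g : X)).restrict (hKU g.1 g.2)
  map_one' := by
    ext w
    simp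
  map_mul' a b := by
    ext w
    simp

theorem resRep_apply (K : Subgroup X) (U : Submodule 𝔽 E) (hKU : ∀ g ∈ K, ∀ w ∈ U, ρ g w ∈ U)
    (g : K) (w : U) : ((resRep ρ K U hKU g w : U) : E) = ρ (g : X) (w : E) := rfl

variable {ρ}

/-- The generic Thompson step: if `C_Y(f)` acts trivially on `U` and `C_T(f)` commutes with `Y`
on `U`, then `[Y, T]` acts trivially on `U`. -/
theorem thompson_step {r q t : ℕ} [Fact r.Prime] [Fact q.Prime] [Fact t.Prime] {f : X}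
    (hf : f ^ r = 1) {Y T : Subgroup X} {U : Submodule 𝔽 E} (hqt : q ≠ t) (hrq : r ≠ q)
    (hrt : r ≠ t) (hY : IsPGroup q Y) (hT : IsPGroup t T)
    (hTY : T ≤ Subgroup.normalizer (Y : Set X)) (hfY : f ∈ Subgroup.normalizer (Y : Set X))
    (hfT : f ∈ Subgroup.normalizer (T : Set X)) (hYU : Y ≤ stabU ρ U) (hTU : T ≤ stabU ρ U)
    (hfU : f ∈ stabU ρ U) (hCY : ∀ x ∈ Y, x * f = f * x → x ∈ fixer ρ U)
    (hCT : ∀ y ∈ T, y * f = f * y → y ∈ kerAct ρ Y U) :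
    ∀ x ∈ Y, ∀ y ∈ T, ⁅x, y⁆ ∈ fixer ρ U := by
  have hr : r.Prime := Fact.out
  set N1 : Subgroup X := Y ⊓ fixer ρ U with hN1
  set N2 : Subgroup X := T ⊓ kerAct ρ Y U with hN2
  have hYT : Y ⊓ T = ⊥ := (IsPGroup.disjoint_of_ne q t hqt _ _ hY hT).eq_bot
  have hN1norm : ∀ g, g ∈ Subgroup.normalizer (Y : Set X) → g ∈ stabU ρ U →
      g ∈ Subgroup.normalizer (N1 : Set X) := fun g hgY hgU =>
    Subgroup.inf_normalizer_le_normalizer_inf ⟨hgY, stabU_le_normalizer_fixer ρ U hgU⟩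
  have hkernorm : ∀ g, g ∈ Subgroup.normalizer (Y : Set X) → g ∈ stabU ρ U →
      g ∈ Subgroup.normalizer ((kerAct ρ Y U : Subgroup X) : Set X) := by
    intro g hgY hgU
    apply mem_normalizer_of_conj_mem
    · intro x hx
      exact conj_mem_kerAct ρ hx hgY hgU
    · intro x hx
      have := conj_mem_kerAct ρ hx (Subgroup.inv_mem _ hgY) (Subgroup.inv_mem _ hgU)
      rwa [inv_inv] at this
  have hN2norm : ∀ g, g ∈ Subgroup.normalizer (Y : Set X) → g ∈ Subgroup.normalizer (T : Set X) →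
      g ∈ stabU ρ U → g ∈ Subgroup.normalizer (N2 : Set X) := fun g hgY hgT hgU =>
    Subgroup.inf_normalizer_le_normalizer_inf ⟨hgT, hkernorm g hgY hgU⟩
  have hTN : T ≤ Subgroup.normalizer ((N1 ⊔ N2 : Subgroup X) : Set X) := fun y hy =>
    Subgroup.normalizer_inf_normalizer_le_normalizer_sup N1 N2
      ⟨hN1norm y (hTY hy) (hTU hy), hN2norm y (hTY hy) (Subgroup.le_normalizer hy) (hTU hy)⟩
  have hYconj : ∀ z ∈ Y, ∀ x ∈ N1 ⊔ N2, z * x * z⁻¹ ∈ N1 ⊔ N2 := by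
    intro z hz x hx
    have hle : N1 ⊔ N2 ≤ (N1 ⊔ N2).comap (MulAut.conj z).toMonoidHom := by
      refine sup_le ?_ ?_
      · intro x hx
        show z * x * z⁻¹ ∈ N1 ⊔ N2
        exact Subgroup.mem_sup_left
          (conj_mem_of_mem_normalizer' (hN1norm z (Subgroup.le_normalizer hz) (hYU hz)) hx)
      · intro x hx
        show z * x * z⁻¹ ∈ N1 ⊔ N2
        have e : z * x * z⁻¹ = ⁅z, x⁆ * x := by rw [commutatorElement_def]; group
        rw [e]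
        refine Subgroup.mul_mem _ (Subgroup.mem_sup_left ⟨?_, ?_⟩) (Subgroup.mem_sup_right hx)
        · have e' : ⁅z, x⁆ = z * (x * z⁻¹ * x⁻¹) := by rw [commutatorElement_def]; group
          rw [e']
          exact Y.mul_mem hz (conj_mem_of_mem_normalizer' (hTY hx.1) (Y.inv_mem hz))
        · apply commutator_mem_fixer_of_comm ρ (hYU hz) (hTU hx.1)
          exact ((mem_kerAct ρ).mp hx.2).2.2.2 z hz
    exact hle hx
  have hYN : Y ≤ Subgroup.normalizer ((N1 ⊔ N2 : Subgroup X) : Set X) := by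
    intro z hz
    apply mem_normalizer_of_conj_mem
    · exact hYconj z hz
    · intro x hx
      have := hYconj z⁻¹ (Y.inv_mem hz) x hx
      rwa [inv_inv] at this
  have hcardL : Nat.card (Y ⊔ T : Subgroup X) = Nat.card Y * Nat.card T :=
    Cfsg.Agent.Lib.Helper54.card_sup_of_le_normalizer hTY hYT
  have hrL : ¬ r ∣ Nat.card (Y ⊔ T : Subgroup X) := by
    rw [hcardL]
    intro hd
    rcases (Nat.Prime.dvd_mul hr).mp hd with h | h
    · exact not_dvd_card_of_isPGroup hrq hY h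
    · exact not_dvd_card_of_isPGroup hrt hT h
  have hset : ((Y ⊔ T : Subgroup X) : Set X) = (Y : Set X) * (T : Set X) :=
    Subgroup.coe_mul_of_right_le_normalizer_left _ _ hTY
  have hC : ∀ x ∈ Y ⊔ T, x * f = f * x → x ∈ N1 ⊔ N2 := by
    intro x hx hxf
    have hmem : x ∈ (Y : Set X) * (T : Set X) := by rw [← hset]; exact hx
    obtain ⟨z, hz, y, hy, rfl⟩ := Set.mem_mul.mp hmem
    have hz' : f * z * f⁻¹ ∈ Y := conj_mem_of_mem_normalizer' hfY hz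
    have hy' : f * y * f⁻¹ ∈ T := conj_mem_of_mem_normalizer' hfT hy
    have heq : (f * z * f⁻¹) * (f * y * f⁻¹) = z * y := by
      calc (f * z * f⁻¹) * (f * y * f⁻¹) = f * (z * y) * f⁻¹ := by group
        _ = z * y * f * f⁻¹ := by rw [← hxf]
        _ = z * y := by group
    have hmid : z⁻¹ * (f * z * f⁻¹) = y * (f * y * f⁻¹)⁻¹ := by
      calc z⁻¹ * (f * z * f⁻¹) = z⁻¹ * ((f * z * f⁻¹) * (f * y * f⁻¹)) * (f * y * f⁻¹)⁻¹ := by group
        _ = z⁻¹ * (z * y) * (f * y * f⁻¹)⁻¹ := by rw [heq]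
        _ = y * (f * y * f⁻¹)⁻¹ := by group
    have h3 : z⁻¹ * (f * z * f⁻¹) ∈ Y ⊓ T :=
      ⟨Y.mul_mem (Y.inv_mem hz) hz', by rw [hmid]; exact T.mul_mem hy (T.inv_mem hy')⟩
    rw [hYT, Subgroup.mem_bot] at h3
    have hzf : z * f = f * z := by
      have : f * z * f⁻¹ = z := by
        calc f * z * f⁻¹ = z * (z⁻¹ * (f * z * f⁻¹)) := by group
          _ = z := by rw [h3, mul_one]
      calc z * f = f * z * f⁻¹ * f := by rw [this]
        _ = f * z := by group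
    have hyf : y * f = f * y := by
      have h4 : y * (f * y * f⁻¹)⁻¹ = 1 := by rw [← hmid, h3]
      have : f * y * f⁻¹ = y := by
        have := mul_inv_eq_one.mp h4
        exact this.symm
      calc y * f = f * y * f⁻¹ * f := by rw [this]
        _ = f * y := by group
    exact Subgroup.mul_mem _ (Subgroup.mem_sup_left ⟨hz, hCY z hz hzf⟩)
      (Subgroup.mem_sup_right ⟨hy, hCT y hy hyf⟩)
  have key := Cfsg.Agent.Lib.Helper87.thompson_sub hr f hf (Y ⊔ T) (N1 ⊔ N2)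
    (sup_le (inf_le_left.trans le_sup_left) (inf_le_left.trans le_sup_right))
    (sup_le hYN hTN)
    (Subgroup.normalizer_inf_normalizer_le_normalizer_sup Y T ⟨hfY, hfT⟩)
    (Subgroup.normalizer_inf_normalizer_le_normalizer_sup N1 N2
      ⟨hN1norm f hfY hfU, hN2norm f hfY hfT hfU⟩) hrL hC
  intro z hz y hy
  obtain ⟨a, ha⟩ := hY ⟨z, hz⟩
  have ha' : z ^ (q ^ a) = 1 := by simpa using congrArg Subtype.val ha
  obtain ⟨b, hb⟩ := hT ⟨y, hy⟩
  have hb' : y ^ (t ^ b) = 1 := by simpa using congrArg Subtype.val hb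
  have hcm := key z (Subgroup.mem_sup_left hz) y (Subgroup.mem_sup_right hy)
    (coprime_orderOf_of_pow' hqt ha' hb')
  have hcZ : ⁅z, y⁆ ∈ Y := by
    have e' : ⁅z, y⁆ = z * (y * z⁻¹ * y⁻¹) := by rw [commutatorElement_def]; group
    rw [e']
    exact Y.mul_mem hz (conj_mem_of_mem_normalizer' (hTY hy) (Y.inv_mem hz))
  have hN2N1 : N2 ≤ Subgroup.normalizer (N1 : Set X) := fun x hx =>
    hN1norm x (hTY hx.1) (hTU hx.1)
  have hsetN : ((N1 ⊔ N2 : Subgroup X) : Set X) = (N1 : Set X) * (N2 : Set X) :=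
    Subgroup.coe_mul_of_right_le_normalizer_left _ _ hN2N1
  have hmem : ⁅z, y⁆ ∈ (N1 : Set X) * (N2 : Set X) := by rw [← hsetN]; exact hcm
  obtain ⟨a₁, ha₁, b₁, hb₁, hab⟩ := Set.mem_mul.mp hmem
  have hb₁Z : b₁ ∈ Y ⊓ T := by
    refine ⟨?_, hb₁.1⟩
    have e : b₁ = a₁⁻¹ * ⁅z, y⁆ := by rw [← hab]; group
    rw [e]
    exact Y.mul_mem (Y.inv_mem ha₁.1) hcZ
  rw [hYT, Subgroup.mem_bot] at hb₁Z
  rw [← hab, hb₁Z, mul_one]
  exact ha₁.2

end General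

section Weights

variable {ρ : X →* Module.End 𝔽 E} {A Q T : Subgroup X} {U : Submodule 𝔽 E} {Z : Subgroup X}

/-- An element fixing all conjugates of `μ₀` commutes with `Z` on `U`. -/
theorem comm_of_forall_stab (h2 : Setup2 ρ A Q T U Z) {μ₀ : X → 𝔽} {w₁ : E}
    (hw₁ : w₁ ∈ wtSpace ρ Z U μ₀) (hw₁0 : w₁ ≠ 0) {y : X} (hyZ : y ∈ Subgroup.normalizer (Z : Set X))
    (hyU : ∀ w ∈ U, ρ y w ∈ U) (hy : ∀ g ∈ T ⊔ A, y ∈ stabWt Z (conjWt g μ₀)) :
    ∀ z ∈ Z, ∀ w ∈ U, ρ y (ρ z w) = ρ z (ρ y w) := by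
  intro z hz
  let P : Submodule 𝔽 E := LinearMap.ker (ρ y * ρ z - ρ z * ρ y)
  have hP : ∀ w, w ∈ P ↔ ρ y (ρ z w) = ρ z (ρ y w) := by
    intro w
    show (ρ y * ρ z - ρ z * ρ y) w = 0 ↔ _
    rw [LinearMap.sub_apply, sub_eq_zero]
    rfl
  have hle : U ≤ P := by
    apply h2.forall_U_of_forall_wt hw₁ hw₁0
    intro g hg w hw
    rw [hP]
    have hys := hy g hg
    have h3 := rho_mem_wtSpace_conjWt ρ hyZ hyU hw
    have e : wtSpace ρ Z U (conjWt y (conjWt g μ₀)) = wtSpace ρ Z U (conjWt g μ₀) :=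
      wtSpace_congr ρ (fun z hz => hys.2 z hz)
    rw [e] at h3
    rw [hw.2 z hz, map_smul, h3.2 z hz]
  intro w hw
  exact (hP w).mp (hle hw)

/-- A subgroup commuting with `Y` on `U` has `[Y, B]` acting trivially. -/
theorem commutator_le_fixer_of_le_kerAct {Y B : Subgroup X} (hYU : Y ≤ stabU ρ U)
    (hB : B ≤ kerAct ρ Y U) : ⁅Y, B⁆ ≤ fixer ρ U := by
  rw [Subgroup.commutator_le]
  intro z hz a ha
  obtain ⟨h1, h2, h3, h4⟩ := (mem_kerAct ρ).mp (hB ha)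
  exact commutator_mem_fixer_of_comm ρ (hYU hz) ⟨h2, h3⟩ (h4 z hz)

end Weights

section StepB1

variable [IsAlgClosed 𝔽] [FiniteDimensional 𝔽 E]
variable {ρ : X →* Module.End 𝔽 E} {r s q t : ℕ} [Fact r.Prime] [Fact s.Prime] [Fact q.Prime]
  [Fact t.Prime] {f h : X} {Q T : Subgroup X} {U : Submodule 𝔽 E} {Z : Subgroup X}

theorem AA_le_normalizer_F (h1 : FSetup ρ r s q t f h Q T) :
    AA f h ≤ Subgroup.normalizer ((Subgroup.zpowers f : Subgroup X) : Set X) :=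
  sup_le Subgroup.le_normalizer h1.hnormH

/-- `g⁻¹ f g ≡ a⁻¹ f a` modulo `T` for `g = y a ∈ T A`. -/
theorem conj_f_decomp (h1 : FSetup ρ r s q t f h Q T) {g : X} (hg : g ∈ T ⊔ AA f h) :
    ∃ y' ∈ T, ∃ c ∈ Subgroup.zpowers f, c ≠ 1 ∧ g⁻¹ * f * g = y' * c := by
  have hset : ((T ⊔ AA f h : Subgroup X) : Set X) = (T : Set X) * (AA f h : Set X) :=
    Subgroup.coe_mul_of_right_le_normalizer_left _ _ h1.hAT
  have hmem : g ∈ (T : Set X) * (AA f h : Set X) := by rw [← hset]; exact hg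
  obtain ⟨y, hy, a, ha, rfl⟩ := Set.mem_mul.mp hmem
  have h3 : y⁻¹ * (f * y * f⁻¹) ∈ T :=
    T.mul_mem (T.inv_mem hy) (conj_mem_of_mem_normalizer' h1.hfT hy)
  refine ⟨a⁻¹ * (y⁻¹ * (f * y * f⁻¹)) * a, conj_mem_of_mem_normalizer (h1.hAT ha) h3,
    a⁻¹ * f * a, conj_mem_of_mem_normalizer (AA_le_normalizer_F h1 ha) (Subgroup.mem_zpowers f),
    ?_, by group⟩
  intro h0
  apply h1.hf1
  have : f = a * (a⁻¹ * f * a) * a⁻¹ := by group
  rw [this, h0]; group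

/-- **Step B1**: a weight fixed by `f` leads to a contradiction. -/
theorem false_of_f_mem_stab (h1 : FSetup ρ r s q t f h Q T) (h2 : Setup2 ρ (AA f h) Q T U Z)
    {μ₀ : X → 𝔽} {w₁ : E} (hw₁ : w₁ ∈ wtSpace ρ Z U μ₀) (hw₁0 : w₁ ≠ 0)
    (hT : T ≤ fixAll ρ Z U) (hfμ : f ∈ stabWt Z μ₀) : False := by
  have hr : r.Prime := Fact.out
  have hs : s.Prime := Fact.out
  set F : Subgroup X := Subgroup.zpowers f with hF
  have hν0 : wtSpace ρ Z U μ₀ ≠ ⊥ := fun h => hw₁0 (by rw [h, Submodule.mem_bot] at hw₁; exact hw₁)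
  have hTS : T ≤ stabWt Z μ₀ := fun y hy => (mem_fixAll ρ).mp (hT hy) μ₀ hν0
  have hFS : F ≤ stabWt Z μ₀ := by rwa [hF, Subgroup.zpowers_le]
  have hfZ : f ∈ Subgroup.normalizer (Z : Set X) := h2.hAZ (f_mem_AA f h)
  have hFZ : F ≤ Subgroup.normalizer (Z : Set X) := by rwa [hF, Subgroup.zpowers_le]
  have hFQ : F ≤ Subgroup.normalizer (Q : Set X) := by rw [hF, Subgroup.zpowers_le]; exact h1.hfQ
  have hFT : F ≤ Subgroup.normalizer (T : Set X) := by rw [hF, Subgroup.zpowers_le]; exact h1.hfT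
  have hFA : F ≤ AA f h := le_sup_left
  have hZU : Z ≤ stabU ρ U := le_stabU ρ (fun g hg => h2.hUQ g (h2.hZQ hg))
  have hQU : Q ≤ stabU ρ U := le_stabU ρ h2.hUQ
  have hTU : T ≤ stabU ρ U := le_stabU ρ h2.hUT
  have hAU : AA f h ≤ stabU ρ U := le_stabU ρ h2.hUA
  have hFU : F ≤ stabU ρ U := hFA.trans hAU
  -- (1) `f` fixes all weights
  have hfall : ∀ g ∈ T ⊔ AA f h, f ∈ stabWt Z (conjWt g μ₀) := by
    intro g hg
    rw [stabWt_conjWt_iff (h2.hYZ hg)]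
    obtain ⟨y', hy', c, hc, -, heq⟩ := conj_f_decomp h1 hg
    rw [heq]
    exact Subgroup.mul_mem _ (hTS hy') (hFS hc)
  -- (2) `f` commutes with `Z` on `U`
  have hfcomm := comm_of_forall_stab h2 hw₁ hw₁0 hfZ (hFU (Subgroup.mem_zpowers f)).1 hfall
  have hfkerZ : f ∈ kerAct ρ Z U :=
    (mem_kerAct ρ).mpr ⟨hfZ, (hFU (Subgroup.mem_zpowers f)).1, (hFU (Subgroup.mem_zpowers f)).2,
      hfcomm⟩
  have hFkerZ : F ≤ kerAct ρ Z U := by rwa [hF, Subgroup.zpowers_le]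
  have hZFfix : ⁅Z, F⁆ ≤ fixer ρ U := commutator_le_fixer_of_le_kerAct hZU hFkerZ
  -- (4) `C_U(f) = 0`
  have hCU : ∀ w ∈ U, ρ f w = w → w = 0 := by
    intro w hw hfw
    apply h2.fixed_eq_zero w hw
    intro z hz
    obtain ⟨c, hc, d, hd, rfl⟩ := exists_centralizer_mul_commutator h1.hFp
      (h1.r_not_dvd_Q h2.hZQ) hFZ hz
    have hcf : c * f = f * c :=
      ((Subgroup.mem_centralizer_iff.mp hc.2) f (Subgroup.mem_zpowers f)).symm
    rw [rho_mul, hZFfix hd w hw]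
    exact h1.hα c (h2.hZQ hc.1) hcf w hfw
  -- (5) Shult
  have hFUm : ∀ g ∈ F, ∀ w ∈ U, ρ g w ∈ U := fun g hg => (hFU hg).1
  let φ : ↥F →* MulAut ↥Q := Cfsg.Agent.Lib.Helper2.ShultGroup.conjOn F Q hFQ
  let ρ' : Representation 𝔽 ↥Q ↥U := resRep ρ Q U h2.hUQ
  let τ : Representation 𝔽 ↥F ↥U := resRep ρ F U hFUm
  have hcard : Nat.card ↥F = r := by
    rw [hF, Nat.card_zpowers, orderOf_eq_prime h1.hf h1.hf1]
  have hcompat : ∀ (a : ↥F) (g : ↥Q) (v : ↥U), τ a (ρ' g v) = ρ' (φ a g) (τ a v) := by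
    intro a g v
    apply Subtype.ext
    show ρ (a : X) (ρ (g : X) (v : E)) = ρ ((a : X) * g * (a : X)⁻¹) (ρ (a : X) (v : E))
    rw [← rho_mul, ← rho_mul]
    congr 2
    group
  have hfix : ∀ v : ↥U, (∀ a : ↥F, τ a v = v) → v = 0 := by
    intro v hv
    have h3 := congrArg Subtype.val (hv ⟨f, Subgroup.mem_zpowers f⟩)
    have h4 : ρ f (v : E) = (v : E) := h3
    exact Subtype.ext (hCU _ v.2 h4)
  have hshult := Cfsg.Agent.Lib.Helper2.ShultG.main (k := 𝔽) (P := ↥Q) (H := ↥F) (V := ↥U)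
    (q := q) (r := r) h1.hQ hcard h1.hrq.symm φ ρ' τ hcompat h1.hq𝔽 h1.hr𝔽 hfix
  rcases hshult with hmain | ⟨hq2, ⟨n, hrn⟩, -⟩
  swap
  · -- the exceptional case is impossible since `s ∣ r - 1`
    have hdvd := Cfsg.Agent.Lib.Helper59.FrobGens.dvd_sub_one_of_frobenius hr hs f h h1.hf h1.hf1
      h1.hh h1.hnorm h1.hncomm
    rw [hrn, Nat.add_sub_cancel] at hdvd
    have h2' : s ∣ 2 := hs.dvd_of_dvd_pow hdvd
    have : s = 2 := (Nat.prime_dvd_prime_iff_eq hs Nat.prime_two).mp h2'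
    exact h1.hsq (this.trans hq2.symm)
  -- (6) `f` commutes with `Q` on `U`
  have hfkerQ : f ∈ kerAct ρ Q U := by
    refine (mem_kerAct ρ).mpr ⟨h1.hfQ, (hFU (Subgroup.mem_zpowers f)).1,
      (hFU (Subgroup.mem_zpowers f)).2, ?_⟩
    intro x hx w hw
    have h3 := hmain ⟨f, Subgroup.mem_zpowers f⟩ ⟨x, hx⟩
    have h4 := congrArg (fun (m : Module.End 𝔽 ↥U) => ((m ⟨ρ f w, (hFU (Subgroup.mem_zpowers f)).1 w hw⟩ : ↥U) : E)) h3
    have h5 : ρ (x⁻¹ * (f * x * f⁻¹)) (ρ f w) = ρ f w := h4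
    rw [← rho_mul] at h5
    have e : x⁻¹ * (f * x * f⁻¹) * f = x⁻¹ * (f * x) := by group
    rw [e, rho_mul] at h5
    have h6 := congrArg (ρ x) h5
    rw [rho_rho_inv, rho_mul] at h6
    exact h6
  have hFkerQ : F ≤ kerAct ρ Q U := by rwa [hF, Subgroup.zpowers_le]
  have hQFfix : ⁅Q, F⁆ ≤ fixer ρ U := commutator_le_fixer_of_le_kerAct hQU hFkerQ
  -- (8) `C_T(f)` commutes with `Q` on `U`
  have hT0ker : T0 T f ≤ kerAct ρ Q U := by
    intro y hy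
    have hyT : y ∈ T := hy.1
    have hyf : y * f = f * y := (mem_T0.mp hy).2
    refine (mem_kerAct ρ).mpr ⟨h1.hTQ hyT, (hTU hyT).1, (hTU hyT).2, ?_⟩
    intro x hx w hw
    obtain ⟨c, hc, d, hd, rfl⟩ := exists_centralizer_mul_commutator h1.hFp
      (h1.r_not_dvd_Q le_rfl) hFQ hx
    have hcf : c * f = f * c :=
      ((Subgroup.mem_centralizer_iff.mp hc.2) f (Subgroup.mem_zpowers f)).symm
    have hcy : c * y = y * c := h1.hβ c hc.1 hcf y hyT hyf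
    rw [rho_mul, rho_mul, hQFfix hd w hw, hQFfix hd _ ((hTU hyT).1 w hw), ← rho_mul, ← rho_mul,
      hcy]
  -- (9) `[T, F]` commutes with `Q` on `U`
  have hTFker : ⁅T, F⁆ ≤ kerAct ρ Q U := by
    rw [Subgroup.commutator_le]
    intro y hy a ha
    have e : ⁅y, a⁆ = (y * a * y⁻¹) * a⁻¹ := by rw [commutatorElement_def]
    rw [e]
    exact Subgroup.mul_mem _ (conj_mem_kerAct ρ (hFkerQ ha) (h1.hTQ hy) (hTU hy))
      (Subgroup.inv_mem _ (hFkerQ ha))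
  -- (10) `T` commutes with `Q` on `U`
  have hTker : T ≤ kerAct ρ Q U := by
    intro y hy
    obtain ⟨c, hc, d, hd, rfl⟩ := exists_centralizer_mul_commutator h1.hFp
      (h1.r_not_dvd_T le_rfl) hFT hy
    have hcf : c * f = f * c :=
      ((Subgroup.mem_centralizer_iff.mp hc.2) f (Subgroup.mem_zpowers f)).symm
    exact Subgroup.mul_mem _ (hT0ker (mem_T0.mpr ⟨hc.1, hcf⟩)) (hTFker hd)
  exact h2.false_of_comm (fun x hx y hy w hw => comm_of_le_kerAct ρ hTker x hx y hy w hw)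

end StepB1

section StepB2

variable [IsAlgClosed 𝔽] [FiniteDimensional 𝔽 E]
variable {ρ : X →* Module.End 𝔽 E} {r s q t : ℕ} [Fact r.Prime] [Fact s.Prime] [Fact q.Prime]
  [Fact t.Prime] {f h : X} {Q T : Subgroup X} {U : Submodule 𝔽 E} {Z : Subgroup X}

/-- The conclusion of MODULE [E] (helper38), for fixed `ρ`, `t`, `Q`, `h`. -/
def EHyp (ρ : X →* Module.End 𝔽 E) (t : ℕ) (Q : Subgroup X) (h : X) : Prop :=
  ∀ (W : Submodule 𝔽 E) (T₀ : Subgroup X), IsPGroup t T₀ →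
    h ∈ Subgroup.normalizer (T₀ : Set X) → T₀ ≤ Subgroup.normalizer (Q : Set X) →
    (∀ y ∈ T₀, y * h = h * y → y = 1) → (∀ g ∈ Q, ∀ w ∈ W, ρ g w ∈ W) →
    (∀ g ∈ T₀, ∀ w ∈ W, ρ g w ∈ W) → (∀ w ∈ W, ρ h w ∈ W) → (∀ w ∈ W, ρ h w = w → w = 0) →
    ∀ x ∈ Q, ∀ y ∈ T₀, ∀ w ∈ W, ρ ⁅x, y⁆ w = w

/-- If `T` and `h` fix `μ₀`, every conjugate weight agrees on `Z` with an `⟨f⟩`-conjugate. -/
theorem exists_F_conj (h1 : FSetup ρ r s q t f h Q T) (h2 : Setup2 ρ (AA f h) Q T U Z)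
    {μ₀ : X → 𝔽} {w₁ : E} (hw₁ : w₁ ∈ wtSpace ρ Z U μ₀) (hw₁0 : w₁ ≠ 0)
    (hT : T ≤ fixAll ρ Z U) (hhμ : h ∈ stabWt Z μ₀) {g : X} (hg : g ∈ T ⊔ AA f h) :
    ∃ c ∈ Subgroup.zpowers f, ∀ z ∈ Z, conjWt g μ₀ z = conjWt c μ₀ z := by
  have hset : ((T ⊔ AA f h : Subgroup X) : Set X) = (T : Set X) * (AA f h : Set X) :=
    Subgroup.coe_mul_of_right_le_normalizer_left _ _ h1.hAT
  have hmem : g ∈ (T : Set X) * (AA f h : Set X) := by rw [← hset]; exact hg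
  obtain ⟨y, hy, a, ha, rfl⟩ := Set.mem_mul.mp hmem
  have hsetA : ((Subgroup.zpowers f ⊔ Subgroup.zpowers h : Subgroup X) : Set X) =
      (Subgroup.zpowers f : Set X) * (Subgroup.zpowers h : Set X) :=
    Subgroup.coe_mul_of_right_le_normalizer_left _ _ h1.hnormH
  have hmemA : a ∈ (Subgroup.zpowers f : Set X) * (Subgroup.zpowers h : Set X) := by
    rw [← hsetA]; exact ha
  obtain ⟨c, hc, h', hh', rfl⟩ := Set.mem_mul.mp hmemA
  have hc' : c ∈ Subgroup.zpowers f := hc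
  have hh'' : h' ∈ Subgroup.zpowers h := hh'
  refine ⟨c, hc', fun z hz => ?_⟩
  have hν : wtSpace ρ Z U (conjWt (c * h') μ₀) ≠ ⊥ :=
    h2.conj_wtSpace_ne_bot hw₁ hw₁0 (Subgroup.mem_sup_right ha)
  have hys : y ∈ stabWt Z (conjWt (c * h') μ₀) := (mem_fixAll ρ).mp (hT hy) _ hν
  have hcZ : c ∈ Subgroup.normalizer (Z : Set X) := h2.hAZ (le_sup_left (a := Subgroup.zpowers f) hc')
  have hh's : h' ∈ stabWt Z μ₀ := by
    have : Subgroup.zpowers h ≤ stabWt Z μ₀ := by rwa [Subgroup.zpowers_le]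
    exact this hh''
  calc conjWt (y * (c * h')) μ₀ z = conjWt (c * h') μ₀ (y⁻¹ * z * y) := by
        rw [conjWt_mul]; rfl
    _ = conjWt (c * h') μ₀ z := hys.2 z hz
    _ = μ₀ (h'⁻¹ * (c⁻¹ * z * c) * h') := by rw [conjWt_mul]; rfl
    _ = μ₀ (c⁻¹ * z * c) := hh's.2 _ (conj_mem_of_mem_normalizer hcZ hz)
    _ = conjWt c μ₀ z := rfl

/-- **Step B2**: if no weight is fixed by `f`, we get a contradiction. -/
theorem false_of_no_fixed (hE : EHyp ρ t Q h) (h1 : FSetup ρ r s q t f h Q T)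
    (h2 : Setup2 ρ (AA f h) Q T U Z)
    {μ₀ : X → 𝔽} {w₁ : E} (hw₁ : w₁ ∈ wtSpace ρ Z U μ₀) (hw₁0 : w₁ ≠ 0)
    (hT : T ≤ fixAll ρ Z U) (hno : ∀ ν : X → 𝔽, wtSpace ρ Z U ν ≠ ⊥ → f ∉ stabWt Z ν)
    (hhμ : h ∈ stabWt Z μ₀) : False := by
  classical
  have hr : r.Prime := Fact.out
  set F : Subgroup X := Subgroup.zpowers f with hF
  have hν0 : wtSpace ρ Z U μ₀ ≠ ⊥ := fun h => hw₁0 (by rw [h, Submodule.mem_bot] at hw₁; exact hw₁)
  have hTS : T ≤ stabWt Z μ₀ := fun y hy => (mem_fixAll ρ).mp (hT hy) μ₀ hν0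
  have hfZ : f ∈ Subgroup.normalizer (Z : Set X) := h2.hAZ (f_mem_AA f h)
  have hFA : F ≤ AA f h := le_sup_left
  have hFZ : F ≤ Subgroup.normalizer (Z : Set X) := hFA.trans h2.hAZ
  have hFQ : F ≤ Subgroup.normalizer (Q : Set X) := hFA.trans h1.hAQ
  have hQU : Q ≤ stabU ρ U := le_stabU ρ h2.hUQ
  have hTU : T ≤ stabU ρ U := le_stabU ρ h2.hUT
  have hAU : AA f h ≤ stabU ρ U := le_stabU ρ h2.hUA
  have hFU : F ≤ stabU ρ U := hFA.trans hAU
  set U₀ : Submodule 𝔽 E := wtSpace ρ Z U μ₀ with hU₀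
  -- invariance of `U₀`
  have hstab_inv : ∀ g, g ∈ stabWt Z μ₀ → (∀ w ∈ U, ρ g w ∈ U) → ∀ w ∈ U₀, ρ g w ∈ U₀ := by
    intro g hg hgU w hw
    have h3 := rho_mem_wtSpace_conjWt ρ hg.1 hgU hw
    have e : wtSpace ρ Z U (conjWt g μ₀) = wtSpace ρ Z U μ₀ :=
      wtSpace_congr ρ (fun z hz => hg.2 z hz)
    rwa [e] at h3
  have hU₀Q : ∀ g ∈ Q, ∀ w ∈ U₀, ρ g w ∈ U₀ := fun g hg w hw => h2.wt_inv_Q hg hw
  have hU₀T : ∀ g ∈ T, ∀ w ∈ U₀, ρ g w ∈ U₀ := fun g hg => hstab_inv g (hTS hg) (h2.hUT g hg)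
  have hU₀h : ∀ w ∈ U₀, ρ h w ∈ U₀ := hstab_inv h hhμ (h2.hUA h (h_mem_AA f h))
  -- (2) `C_{U₀}(h) = 0`
  have hfixh : ∀ w ∈ U₀, ρ h w = w → w = 0 := by
    intro v hv hhv
    let _ := Fintype.ofFinite F
    have hu0 : sumOp ρ F v = 0 := by
      apply h1.hδ _ (rho_sumOp_of_mem ρ F (Subgroup.mem_zpowers f) v)
      rw [rho_sumOp_comm ρ F (h1.hnormH (Subgroup.mem_zpowers h)), hhv]
    have hsum : ∑ a : F, ρ (a : X) v = 0 := by
      rw [← hu0, sumOp_apply]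
    have := wt_indep_finset ρ (Z : Set X) (fun a : F => conjWt (a : X) μ₀) Finset.univ
      (fun a : F => ρ (a : X) v)
      (fun a _ z hz => (rho_mem_wtSpace_conjWt ρ (hFZ a.2) (hFU a.2).1 hv).2 z hz)
      (fun a _ a' _ haa' => conjWt_ne_of_mem_zpowers h1.hf hfZ (hno μ₀ hν0) a a.2 a' a'.2
        (fun e => haa' (Subtype.ext e))) hsum 1 (Finset.mem_univ _)
    simp only [Subgroup.coe_one, rho_one] at this
    exact this
  -- (5) MODULE [E] on `U₀`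
  have hT0T : T0 T f ≤ T := inf_le_left
  have hcore : ∀ x ∈ Q, ∀ y ∈ T0 T f, ∀ w ∈ U₀, ρ ⁅x, y⁆ w = w :=
    hE U₀ (T0 T f) (h1.hT.to_le hT0T) h1.h_normalizes_T0 (hT0T.trans h1.hTQ)
      (fun y hy hyh => h1.hTfix y hy.1 (mem_T0.mp hy).2 hyh) hU₀Q
      (fun g hg => hU₀T g (hT0T hg)) hU₀h hfixh
  -- (5') extend to `U`
  have hcoreU : ∀ x ∈ Q, ∀ y ∈ T0 T f, ⁅x, y⁆ ∈ fixer ρ U := by
    intro x hx y hy
    let P : Submodule 𝔽 E := LinearMap.ker (ρ ⁅x, y⁆ - 1)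
    have hP : ∀ w, w ∈ P ↔ ρ ⁅x, y⁆ w = w := by
      intro w
      show (ρ ⁅x, y⁆ - 1) w = 0 ↔ _
      rw [LinearMap.sub_apply, sub_eq_zero]
      rfl
    have hle : U ≤ P := by
      apply h2.forall_U_of_forall_wt hw₁ hw₁0
      intro g hg w hw
      rw [hP]
      obtain ⟨c, hc, hceq⟩ := exists_F_conj h1 h2 hw₁ hw₁0 hT hhμ hg
      have e : wtSpace ρ Z U (conjWt g μ₀) = wtSpace ρ Z U (conjWt c μ₀) := wtSpace_congr ρ hceq
      rw [e] at hw
      have hcZ : c ∈ Subgroup.normalizer (Z : Set X) := hFZ hc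
      have hw' : ρ c⁻¹ w ∈ U₀ := by
        have h3 := rho_mem_wtSpace_conjWt ρ (Subgroup.inv_mem _ hcZ) (hFU hc).2 hw
        rwa [← conjWt_mul, inv_mul_cancel, conjWt_one] at h3
      have hx' : c⁻¹ * x * c ∈ Q := conj_mem_of_mem_normalizer (hFQ hc) hx
      have hyc : c⁻¹ * y * c = y := by
        have := T0_comm hy hc
        calc c⁻¹ * y * c = c⁻¹ * (y * c) := by group
          _ = c⁻¹ * (c * y) := by rw [this]
          _ = y := by group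
      have hconj : c⁻¹ * ⁅x, y⁆ * c = ⁅c⁻¹ * x * c, y⁆ := by
        have : c⁻¹ * ⁅x, y⁆ * c = ⁅c⁻¹ * x * c, c⁻¹ * y * c⁆ := by
          rw [commutatorElement_def, commutatorElement_def]; group
        rw [this, hyc]
      have h4 := hcore _ hx' y hy _ hw'
      rw [← hconj, rho_mul, rho_mul, rho_rho_inv] at h4
      have h5 := congrArg (ρ c) h4
      rwa [rho_rho_inv, rho_rho_inv] at h5
    intro w hw
    exact (hP w).mp (hle hw)
  -- (6) `C_T(f)` commutes with `Q` on `U`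
  have hCT : ∀ y ∈ T, y * f = f * y → y ∈ kerAct ρ Q U := by
    intro y hy hyf
    refine (mem_kerAct ρ).mpr ⟨h1.hTQ hy, (hTU hy).1, (hTU hy).2, ?_⟩
    intro x hx
    exact comm_of_commutator_mem_fixer ρ (hQU hx).1 (hTU hy).1
      (hcoreU x hx y (mem_T0.mpr ⟨hy, hyf⟩))
  -- (3) `C_Q(f)` acts trivially on `U`
  have hCQ : ∀ x ∈ Q, x * f = f * x → x ∈ fixer ρ U := fun x hx hxf =>
    cent_le_fixer h1 h2 hw₁ hw₁0 hno hx hxf
  -- (7) Thompson
  have hfin := thompson_step (ρ := ρ) h1.hf h1.hqt h1.hrq h1.hrt h1.hQ h1.hT h1.hTQ h1.hfQ h1.hfT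
    hQU hTU (hFU (Subgroup.mem_zpowers f)) hCQ hCT
  apply h2.false_of_comm
  intro x hx y hy w hw
  exact (comm_of_commutator_mem_fixer ρ (hQU hx).1 (hTU hy).1 (hfin x hx y hy) w hw).symm

end StepB2

end Cfsg.Agent.Lib.Helper76.FrobKey
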