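import Mathlib
import Cfsg.Agent.Lib.Helper76.FrobKeyB

/-!
# The statement of the Frobenius key lemma (helper76)
-/

set_option autoImplicit false

namespace Cfsg.Agent.Lib.Helper76.FrobKey

universe u1 u2 u3

/-- The statement of the key lemma (proved in `FrobKeyG`): under `FSetup`, `Q` and `T` commute
on the module. -/
def FrobKeyStmt : Prop :=
  ∀ {X : Type u1} [Group X] [Finite X] {𝔽 : Type u2} [Field 𝔽] [IsAlgClosed 𝔽]
    {E : Type u3} [AddCommGroup E] [Module 𝔽 E] [FiniteDimensional 𝔽 E]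
    (ρ : X →* Module.End 𝔽 E) {p r s q t : ℕ} [Fact p.Prime] [CharP 𝔽 p] [Fact r.Prime]
    [Fact s.Prime] [Fact q.Prime] [Fact t.Prime] {f h : X} {Q T : Subgroup X},
    FSetup ρ r s q t f h Q T → ∀ x ∈ Q, ∀ y ∈ T, ∀ w : E, ρ x (ρ y w) = ρ y (ρ x w)

end Cfsg.Agent.Lib.Helper76.FrobKey
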