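import Mathlib
import Cfsg.Agent.Lib.Helper76.FrobKeyF
import Cfsg.Agent.Lib.Helper76.FrobKeyStmt
import Cfsg.Agent.Lib.Helper38.FrobExcG

/-!
# The Frobenius key lemma (helper76)

Under `FSetup` (a Frobenius group `⟨f, h⟩` of order `r * s` acting on a `q`-group `Q` and a
`t`-group `T` without common fixed points, on a module with `C(⟨f, h⟩) = 0`), `Q` and `T` commute
on the module.
-/

set_option autoImplicit false
set_option linter.unusedSectionVars false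
set_option linter.unusedVariables false

namespace Cfsg.Agent.Lib.Helper76.FrobKey

open scoped commutatorElement Pointwise
open Cfsg.Agent.Lib.Helper48 Cfsg.Agent.Lib.Helper76.WardKey

variable {X : Type*} [Group X] [Finite X] {𝔽 : Type*} [Field 𝔽]
  {E : Type*} [AddCommGroup E] [Module 𝔽 E] [IsAlgClosed 𝔽] [FiniteDimensional 𝔽 E]
  {ρ : X →* Module.End 𝔽 E} {r s q t : ℕ} [Fact r.Prime] [Fact s.Prime] [Fact q.Prime]
  [Fact t.Prime] {f h : X} {Q T : Subgroup X}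

theorem frob_key_aux (hE : EHyp ρ t Q h) (h1 : FSetup ρ r s q t f h Q T) :
    ∀ x ∈ Q, ∀ y ∈ T, ∀ w : E, ρ x (ρ y w) = ρ y (ρ x w) := by
  by_contra hcon
  obtain ⟨U, Z, μ₀, w₁, h3⟩ := exists_setup3 h1 hcon
  have hT := T_le_fixAll h1 h3
  have h2 := h3.h2
  by_cases hex : ∃ ν : X → 𝔽, wtSpace ρ Z U ν ≠ ⊥ ∧ f ∈ stabWt Z ν
  · obtain ⟨ν, hν, hfν⟩ := hex
    obtain ⟨w, hw, hw0⟩ := (Submodule.ne_bot_iff _).mp hν
    exact false_of_f_mem_stab h1 h2 hw hw0 hT hfν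
  · push Not at hex
    have hν0 : wtSpace ρ Z U μ₀ ≠ ⊥ := fun h =>
      h3.hw₁0 (by have := h3.hw₁; rw [h, Submodule.mem_bot] at this; exact this)
    obtain ⟨b, hb, hbs⟩ := exists_conj_h_mem_stabWt h1 h2 μ₀ hν0 (hex μ₀ hν0)
    have hbA : b ∈ AA f h := le_sup_left (a := Subgroup.zpowers f) hb
    have hw' : ρ b w₁ ∈ wtSpace ρ Z U (conjWt b μ₀) :=
      rho_mem_wtSpace_conjWt ρ (h2.hAZ hbA) (h2.hUA b hbA) h3.hw₁
    have hw'0 : ρ b w₁ ≠ 0 := fun h0 => h3.hw₁0 (rho_injective ρ b (by rw [h0, map_zero]))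
    exact false_of_no_fixed hE h1 h2 hw' hw'0 hT hex hbs

/-- **The Frobenius key lemma.** -/
theorem frob_key : FrobKeyStmt := by
  intro X _ _ 𝔽 _ _ E _ _ _ ρ p r s q t _ _ _ _ _ _ f h Q T h1
  apply frob_key_aux _ h1
  intro W T₀ hT₀ hhT₀ hT₀Q hfpf hWQ hWT hWh hfix
  exact Cfsg.Agent.Lib.Helper38.FrobExc.frob_kernel_trivial_on_quotient ρ W (p := p) h1.hqt
    h1.hsq.symm h1.hst.symm h1.hq𝔽 h1.hs𝔽 Q T₀ h h1.hQ hT₀ h1.hh h1.hhQ hhT₀ hT₀Q hfpf hWQ hWT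
    hWh hfix

end Cfsg.Agent.Lib.Helper76.FrobKey
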