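import Mathlib
import Cfsg.Agent.Lib.Helper48.Generation
import Cfsg.Agent.Lib.Helper48.Coprime

/-!
# Group-theoretic reductions for Ward's theorem (helper76)

Passing hypotheses to quotients, lifting centralizers, extracting `q`-parts.
-/

set_option autoImplicit false
set_option linter.unusedSectionVars false
set_option linter.unusedVariables false

namespace Cfsg.Agent.Lib.Helper76.WardRed

open scoped commutatorElement
open Cfsg.Agent.Lib.Helper48

variable {Γ : Type*} [Group Γ]

/-- A fixed-point-free `r`-group of operators forces `r ∤ |G|`. -/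
theorem not_dvd_card_of_fpf [Finite Γ] {r : ℕ} [Fact r.Prime] (G A : Subgroup Γ)
    (hAG : A ≤ Subgroup.normalizer (G : Set Γ)) (hA : IsPGroup r A)
    (hfpf : G ⊓ Subgroup.centralizer (A : Set Γ) = ⊥) : ¬ r ∣ Nat.card G := by
  intro hdvd
  have hr : r.Prime := Fact.out
  -- the set `G \ {1}`
  let S : Set Γ := (G : Set Γ) \ {1}
  have hS : ∀ b ∈ A, ∀ y ∈ S, b * y * b⁻¹ ∈ S := by
    rintro b hb y ⟨hy, hy1⟩
    refine ⟨(Subgroup.mem_normalizer_iff.mp (hAG hb) y).mp hy, ?_⟩
    intro h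
    apply hy1
    have h' : b * y * b⁻¹ = 1 := h
    have : y = b⁻¹ * (b * y * b⁻¹) * b := by group
    rw [this, h']; simp
  have hcard : ¬ r ∣ Nat.card S := by
    have h1 : Nat.card S + 1 = Nat.card G := by
      have h2 : Nat.card S = Nat.card (G : Set Γ) - 1 := by
        have := Set.ncard_sdiff_singleton_of_mem (s := (G : Set Γ)) (a := (1 : Γ)) G.one_mem
        rw [Nat.card_coe_set_eq, Nat.card_coe_set_eq]; exact this
      have h3 : 0 < Nat.card (G : Set Γ) := Nat.card_pos
      have h4 : Nat.card (G : Set Γ) = Nat.card G := rfl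
      omega
    intro h
    have : r ∣ 1 := by
      have h5 := (Nat.dvd_add_right h).mp (h1 ▸ hdvd)
      exact h5
    exact hr.one_lt.ne' (Nat.dvd_one.mp this)
  obtain ⟨y, hy, hfix⟩ := exists_fixed_of_conj_stable A hA S hS hcard
  have : y ∈ G ⊓ Subgroup.centralizer (A : Set Γ) := by
    refine Subgroup.mem_inf.mpr ⟨hy.1, ?_⟩
    rw [Subgroup.mem_centralizer_iff]
    intro b hb
    have := hfix b hb
    calc b * y = b * y * b⁻¹ * b := by group
      _ = y * b := by rw [this]
  rw [hfpf, Subgroup.mem_bot] at this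
  exact hy.2 this

section Quotient

variable [Finite Γ] {r : ℕ} [Fact r.Prime] (G A K : Subgroup Γ) [K.Normal]

/-- The image of `A` in `Γ ⧸ K` has the same order when `A ⊓ K = ⊥`. -/
theorem card_map_mk_of_inf_eq_bot (h : A ⊓ K = ⊥) :
    Nat.card (A.map (QuotientGroup.mk' K)) = Nat.card A := by
  have hinj : Function.Injective ((QuotientGroup.mk' K).comp A.subtype) := by
    rw [injective_iff_map_eq_one]
    intro a ha
    have h1 : (a : Γ) ∈ K := by
      have : (QuotientGroup.mk' K) (a : Γ) = 1 := ha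
      rwa [QuotientGroup.mk'_apply, QuotientGroup.eq_one_iff] at this
    have h2 : (a : Γ) ∈ A ⊓ K := Subgroup.mem_inf.mpr ⟨a.2, h1⟩
    rw [h, Subgroup.mem_bot] at h2
    exact Subtype.ext h2
  have hrange : ((QuotientGroup.mk' K).comp A.subtype).range = A.map (QuotientGroup.mk' K) := by
    rw [MonoidHom.range_comp, Subgroup.range_subtype]
  rw [← hrange]
  exact (Nat.card_congr (MonoidHom.ofInjective hinj).toEquiv).symm

/-- Fixed points lift through quotients by `r'`-subgroups. -/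
theorem fpf_quotient (hA : IsPGroup r A) (hK : ¬ r ∣ Nat.card K) (hKG : K ≤ G)
    (hfpf : G ⊓ Subgroup.centralizer (A : Set Γ) = ⊥) :
    G.map (QuotientGroup.mk' K) ⊓
      Subgroup.centralizer ((A.map (QuotientGroup.mk' K) : Subgroup (Γ ⧸ K)) : Set (Γ ⧸ K)) = ⊥ := by
  rw [eq_bot_iff]
  rintro _ ⟨⟨g, hg, rfl⟩, hcent⟩
  rw [Subgroup.mem_bot]
  have hcent' := Subgroup.mem_centralizer_iff.mp hcent
  have hx : ∀ b ∈ A, g⁻¹ * (b * g * b⁻¹) ∈ K := by
    intro b hb
    have h1 := hcent' _ (Subgroup.mem_map_of_mem (QuotientGroup.mk' K) hb)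
    rw [← QuotientGroup.eq_one_iff]
    have h2 : ((g⁻¹ * (b * g * b⁻¹) : Γ) : Γ ⧸ K)
        = ((QuotientGroup.mk' K) g)⁻¹ * ((QuotientGroup.mk' K) b * (QuotientGroup.mk' K) g *
          ((QuotientGroup.mk' K) b)⁻¹) := by
      simp [QuotientGroup.mk'_apply]
    rw [h2, h1]; group
  obtain ⟨n, hn, hfix⟩ := exists_fixed_in_coset A hA K hK
    (fun a _ => (Subgroup.normalizer_eq_top K).symm ▸ Subgroup.mem_top a) g hx
  have hgn : g * n ∈ G ⊓ Subgroup.centralizer (A : Set Γ) := by
    refine Subgroup.mem_inf.mpr ⟨G.mul_mem hg (hKG hn), ?_⟩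
    rw [Subgroup.mem_centralizer_iff]
    intro b hb
    have := hfix b hb
    calc b * (g * n) = b * (g * n) * b⁻¹ * b := by group
      _ = g * n * b := by rw [this]
  rw [hfpf, Subgroup.mem_bot] at hgn
  have : g = n⁻¹ := eq_inv_of_mul_eq_one_left hgn
  rw [QuotientGroup.mk'_apply, QuotientGroup.eq_one_iff, this]
  exact K.inv_mem hn

/-- The image of `G` in `Γ ⧸ K` is smaller than `G` when `⊥ ≠ K ≤ G`. -/
theorem card_map_mk_lt (hKG : K ≤ G) (hK : K ≠ ⊥) :
    Nat.card (G.map (QuotientGroup.mk' K)) < Nat.card G := by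
  have h1 : Nat.card (G.map (QuotientGroup.mk' K)) * Nat.card K = Nat.card G := by
    have h2 := Subgroup.card_eq_card_quotient_mul_card_subgroup (K.subgroupOf G)
    have h3 : Nat.card (K.subgroupOf G) = Nat.card K :=
      Nat.card_congr (Subgroup.subgroupOfEquivOfLe hKG).toEquiv
    have h4 : Nat.card (G ⧸ K.subgroupOf G) = Nat.card (G.map (QuotientGroup.mk' K)) := by
      have e : G ⧸ K.subgroupOf G ≃* G.map (QuotientGroup.mk' K) := by
        have hker : ((QuotientGroup.mk' K).comp G.subtype).ker = K.subgroupOf G := by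
          ext x
          simp [MonoidHom.mem_ker, Subgroup.mem_subgroupOf]
        have hrange : ((QuotientGroup.mk' K).comp G.subtype).range = G.map (QuotientGroup.mk' K) := by
          rw [MonoidHom.range_comp, Subgroup.range_subtype]
        exact ((QuotientGroup.quotientMulEquivOfEq hker.symm).trans
          (QuotientGroup.quotientKerEquivRange _)).trans (MulEquiv.subgroupCongr hrange)
      exact Nat.card_congr e.toEquiv
    rw [h2, h3, h4]
  have h5 : 1 < Nat.card K := (Subgroup.one_lt_card_iff_ne_bot K).mpr hK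
  have h6 : 0 < Nat.card (G.map (QuotientGroup.mk' K)) := Nat.card_pos
  nlinarith

end Quotient

/-- Extracting the `q`-part of a preimage of a `q`-element. -/
theorem exists_pow_isPElement [Finite Γ] {Γ' : Type*} [Group Γ'] (f : Γ →* Γ') {q : ℕ}
    [Fact q.Prime] (x : Γ) {a : ℕ} (hy : (f x) ^ (q ^ a) = 1) :
    ∃ m : ℕ, (∃ j, (x ^ m) ^ (q ^ j) = 1) ∧ f (x ^ m) = f x := by
  have hq : q.Prime := Fact.out
  obtain ⟨b, n, hn, ho⟩ := Nat.exists_eq_pow_mul_and_not_dvd (orderOf_pos x).ne' q hq.ne_one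
  have hcop : Nat.Coprime n (q ^ a) :=
    Nat.Coprime.pow_right a ((Nat.Prime.coprime_iff_not_dvd hq).mpr hn).symm
  rcases Nat.eq_or_lt_of_le (Nat.one_le_pow a q hq.pos) with h1 | h1
  · refine ⟨0, ⟨0, by simp⟩, ?_⟩
    rw [← h1, pow_one] at hy
    rw [pow_zero, map_one, hy]
  · obtain ⟨n', -, hn'⟩ := Nat.exists_mul_mod_eq_one_of_coprime hcop h1
    refine ⟨n * n', ⟨b, ?_⟩, ?_⟩
    · rw [← pow_mul]
      have e : n * n' * q ^ b = orderOf x * n' := by rw [ho]; ring
      rw [e, pow_mul, pow_orderOf_eq_one, one_pow]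
    · rw [map_pow]
      have e : n * n' = q ^ a * (n * n' / q ^ a) + 1 := by
        have := Nat.div_add_mod (n * n') (q ^ a)
        rw [hn'] at this
        exact this.symm
      rw [e, pow_succ, pow_mul, hy, one_pow, one_mul]

/-- Lifting an element of the quotient that commutes with the image of `u`. -/
theorem exists_lift_centralizer [Finite Γ] {r : ℕ} [Fact r.Prime] (G K : Subgroup Γ) [K.Normal]
    (hKG : K ≤ G) (hK : ¬ r ∣ Nat.card K) {u : Γ} (hur : u ^ r = 1) {h : Γ} (hh : h ∈ G)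
    (hcomm : (QuotientGroup.mk' K) h * (QuotientGroup.mk' K) u =
      (QuotientGroup.mk' K) u * (QuotientGroup.mk' K) h) :
    ∃ h' ∈ G, h' * u = u * h' ∧ (QuotientGroup.mk' K) h' = (QuotientGroup.mk' K) h := by
  have hx : h⁻¹ * (u * h * u⁻¹) ∈ K := by
    rw [← QuotientGroup.eq_one_iff]
    have h2 : ((h⁻¹ * (u * h * u⁻¹) : Γ) : Γ ⧸ K)
        = ((QuotientGroup.mk' K) h)⁻¹ * ((QuotientGroup.mk' K) u * (QuotientGroup.mk' K) h *
          ((QuotientGroup.mk' K) u)⁻¹) := by
      simp [QuotientGroup.mk'_apply]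
    rw [h2, ← hcomm]; group
  obtain ⟨n, hn, hfix⟩ := exists_fixed_in_coset_of_elem u (isPGroup_zpowers_of_pow_eq_one hur) K hK
    ((Subgroup.normalizer_eq_top K).symm ▸ Subgroup.mem_top u) h hx
  refine ⟨h * n, G.mul_mem hh (hKG hn), ?_, ?_⟩
  · exact (mul_inv_eq_iff_eq_mul.mp hfix).symm
  · rw [map_mul]
    have : (QuotientGroup.mk' K) n = 1 := by
      rw [QuotientGroup.mk'_apply, QuotientGroup.eq_one_iff]; exact hn
    rw [this, mul_one]

end Cfsg.Agent.Lib.Helper76.WardRed
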