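import Mathlib
import Cfsg.Agent.Lib.Helper76.WardRedA

/-!
# A nilpotency criterion (helper76)

If `H` has a normal nilpotent subgroup `N` with nilpotent quotient, and invariant Sylow subgroups
centralize the normal `q`-subgroups for the other primes, then `H` is nilpotent.
-/

set_option autoImplicit false
set_option linter.unusedSectionVars false
set_option linter.unusedVariables false

namespace Cfsg.Agent.Lib.Helper76.WardRed

open scoped commutatorElement
open Cfsg.Agent.Lib.Helper48

variable {Γ : Type*} [Group Γ] [Finite Γ]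

/-- A `t`-subgroup `P ≤ H` generating a `t`-group with a "Sylow" `t`-subgroup `T` of `H` lies in
`T`. -/
theorem le_of_isPGroup_sup {t : ℕ} [Fact t.Prime] {H T P : Subgroup Γ} (hTH : T ≤ H) (hPH : P ≤ H)
    (hTcard : Nat.card T = t ^ (Nat.card H).factorization t) (hTP : IsPGroup t (T ⊔ P : Subgroup Γ)) :
    P ≤ T := by
  have ht : t.Prime := Fact.out
  obtain ⟨j, hj⟩ := IsPGroup.iff_card.mp hTP
  have hle : T ⊔ P ≤ H := sup_le hTH hPH
  have hdvd : t ^ j ∣ Nat.card H := hj ▸ Subgroup.card_dvd_of_le hle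
  have hj' : j ≤ (Nat.card H).factorization t :=
    (Nat.Prime.pow_dvd_iff_le_factorization ht Nat.card_pos.ne').mp hdvd
  have hcard : Nat.card (T ⊔ P : Subgroup Γ) ≤ Nat.card T := by
    rw [hj, hTcard]; exact Nat.pow_le_pow_right ht.pos hj'
  have : T = T ⊔ P := Subgroup.eq_of_le_of_card_ge le_sup_left hcard
  rw [this]; exact le_sup_right

/-- Sylow subgroups of a normal nilpotent subgroup are normal in the whole group. -/
theorem exists_normal_sylow_of_nilpotent (N : Subgroup Γ) [hN : N.Normal]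
    (hnil : Group.IsNilpotent N) (q : ℕ) [Fact q.Prime] :
    ∃ R : Subgroup Γ, R ≤ N ∧ R.Normal ∧ IsPGroup q R ∧
      Nat.card R = q ^ (Nat.card N).factorization q := by
  obtain ⟨P⟩ : Nonempty (Sylow q N) := inferInstance
  have hnorm : (P : Subgroup N).Normal := inferInstance
  have hchar : (P : Subgroup N).Characteristic := P.characteristic_of_normal hnorm
  refine ⟨(P : Subgroup N).map N.subtype, Subgroup.map_subtype_le _,
    ConjAct.normal_of_characteristic_of_normal, P.isPGroup'.map _, ?_⟩
  rw [Subgroup.card_map_of_injective N.subtype_injective]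
  exact P.card_eq_multiplicity

/-- An invariant Sylow subgroup which is normalized by `N` is normal in `H`, when `H / N` is
nilpotent. -/
theorem le_normalizer_of_lcs_le {t : ℕ} [Fact t.Prime] {H N T : Subgroup Γ} (hNH : N ≤ H)
    (hTH : T ≤ H) (hTt : IsPGroup t T) (hTcard : Nat.card T = t ^ (Nat.card H).factorization t)
    (hNT : N ≤ Subgroup.normalizer (T : Set Γ)) {k : ℕ} (hk : H.lowerCentralSeries k ≤ N) :
    H ≤ Subgroup.normalizer (T : Set Γ) := by
  by_contra hcon
  set L : Subgroup Γ := H ⊓ Subgroup.normalizer (T : Set Γ) with hL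
  have hLH : L ≤ H := inf_le_left
  have hTL : T ≤ L := le_inf hTH Subgroup.le_normalizer
  have hex : ∃ i, H.lowerCentralSeries i ≤ L := ⟨k, hk.trans (le_inf hNH hNT)⟩
  classical
  set i := Nat.find hex with hi
  have hiL : H.lowerCentralSeries i ≤ L := Nat.find_spec hex
  have hi0 : i ≠ 0 := by
    intro h0
    rw [h0, Subgroup.lowerCentralSeries_zero] at hiL
    exact hcon (hiL.trans inf_le_right)
  obtain ⟨j, hj⟩ := Nat.exists_eq_succ_of_ne_zero hi0
  have hjL : ¬ H.lowerCentralSeries j ≤ L := Nat.find_min hex (by omega)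
  obtain ⟨x, hxj, hxL⟩ := SetLike.not_le_iff_exists.mp hjL
  have hxH : x ∈ H := by
    have := H.lowerCentralSeries_antitone (Nat.zero_le j) hxj
    simpa using this
  have hnorm : H.lowerCentralSeries j ≤ Subgroup.normalizer (L : Set Γ) := by
    rw [Subgroup.le_normalizer_iff_commutator_le_right]
    calc ⁅H.lowerCentralSeries j, L⁆ ≤ ⁅H.lowerCentralSeries j, H⁆ := Subgroup.commutator_mono le_rfl hLH
      _ = H.lowerCentralSeries (j + 1) := (Subgroup.lowerCentralSeries_succ H j).symm
      _ ≤ L := by rw [hj] at hiL; exact hiL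
  have hxN : x ∈ Subgroup.normalizer (L : Set Γ) := hnorm hxj
  -- `x` normalizes `T`
  apply hxL
  refine Subgroup.mem_inf.mpr ⟨hxH, ?_⟩
  rw [Subgroup.mem_normalizer_iff_map_conj_eq]
  set T' : Subgroup Γ := T.map (MulAut.conj x).toMonoidHom with hT'
  have hT'L : T' ≤ L := by
    have h1 : L.map (MulAut.conj x).toMonoidHom = L := Subgroup.mem_normalizer_iff_map_conj_eq.mp hxN
    rw [← h1]; exact Subgroup.map_mono hTL
  have hT't : IsPGroup t T' := hTt.map _
  have hsup : IsPGroup t (T ⊔ T' : Subgroup Γ) :=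
    hTt.to_sup_of_normal_left' hT't (hT'L.trans inf_le_right)
  have hle : T' ≤ T := le_of_isPGroup_sup hTH (hT'L.trans hLH) hTcard hsup
  have hcard : Nat.card T' = Nat.card T :=
    Subgroup.card_map_of_injective (MulAut.conj x).injective
  exact Subgroup.eq_of_le_of_card_ge hle (le_of_eq hcard.symm)

/-- **Nilpotency criterion.** -/
theorem nilpotent_of_sylow_centralize {r : ℕ} [Fact r.Prime] (H N A : Subgroup Γ)
    (hNH : N ≤ H) [hNn : N.Normal] (hNnil : Group.IsNilpotent N)
    (hHN : ∃ k, H.lowerCentralSeries k ≤ N)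
    (hA : IsPGroup r A) (hAH : A ≤ Subgroup.normalizer (H : Set Γ)) (hrH : ¬ r ∣ Nat.card H)
    (hdag : ∀ (q t : ℕ) [Fact q.Prime] [Fact t.Prime], q ≠ t → ∀ Q T : Subgroup Γ, Q ≤ H → T ≤ H →
      Q.Normal → IsPGroup q Q → IsPGroup t T → A ≤ Subgroup.normalizer (T : Set Γ) →
      Q ≤ Subgroup.centralizer (T : Set Γ)) :
    Group.IsNilpotent H := by
  obtain ⟨k, hk⟩ := hHN
  -- for every prime a normal "Sylow" subgroup
  have key : ∀ (t : ℕ) [Fact t.Prime], ∃ T : Subgroup Γ, T ≤ H ∧ IsPGroup t T ∧
      Nat.card T = t ^ (Nat.card H).factorization t ∧ H ≤ Subgroup.normalizer (T : Set Γ) := by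
    intro t _
    obtain ⟨T, hTH, hTt, hTcard, hAT⟩ := exists_invariant_sylow A H hA hAH hrH t
    refine ⟨T, hTH, hTt, hTcard, ?_⟩
    apply le_normalizer_of_lcs_le hNH hTH hTt hTcard _ hk
    apply le_of_forall_exists_sylow_le
    intro q _
    obtain ⟨R, hRN, hRn, hRq, hRcard⟩ := exists_normal_sylow_of_nilpotent N hNnil q
    refine ⟨R, hRN, ?_, hRcard⟩
    by_cases hqt : q = t
    · subst hqt
      have hsup : IsPGroup q (T ⊔ R : Subgroup Γ) := hTt.to_sup_of_normal_right hRq
      exact (le_of_isPGroup_sup hTH (hRN.trans hNH) hTcard hsup).trans Subgroup.le_normalizer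
    · exact (hdag q t hqt R T (hRN.trans hNH) hTH hRn hRq hTt hAT).trans
        (Subgroup.centralizer_le_normalizer _)
  -- all Sylow subgroups of `H` are normal
  have q := (Group.isNilpotent_of_finite_tfae (G := H)).out 0 3
  rw [q]
  intro t ht P
  obtain ⟨T, hTH, hTt, hTcard, hHT⟩ := key t
  have hP' : (P : Subgroup H).map H.subtype ≤ T := by
    have hsup : IsPGroup t (T ⊔ (P : Subgroup H).map H.subtype : Subgroup Γ) :=
      hTt.to_sup_of_normal_left' (P.isPGroup'.map _) ((Subgroup.map_subtype_le _).trans hHT)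
    exact le_of_isPGroup_sup hTH (Subgroup.map_subtype_le _) hTcard hsup
  have hPcard : Nat.card ((P : Subgroup H).map H.subtype) = Nat.card T := by
    rw [Subgroup.card_map_of_injective H.subtype_injective, hTcard]
    exact P.card_eq_multiplicity
  have hPT : (P : Subgroup H).map H.subtype = T :=
    Subgroup.eq_of_le_of_card_ge hP' (le_of_eq hPcard.symm)
  have hPeq : (P : Subgroup H) = T.subgroupOf H := by
    rw [← hPT]
    ext x
    simp [Subgroup.mem_subgroupOf]
  rw [hPeq]
  exact Subgroup.normal_subgroupOf_of_le_normalizer hHT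

end Cfsg.Agent.Lib.Helper76.WardRed
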