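import Mathlib
import Cfsg.Agent.Lib.Helper76.WardKeyF
import Cfsg.Agent.Lib.Helper76.WardRedB

/-!
# The dual module of a normal elementary abelian subgroup (helper76)

For a normal subgroup `V` of `Γ` and a field `𝔽`, the group `Γ` acts on `Additive V →+ 𝔽`.
-/

set_option autoImplicit false
set_option linter.unusedSectionVars false
set_option linter.unusedVariables false

namespace Cfsg.Agent.Lib.Helper76.WardRed

open scoped commutatorElement
open Cfsg.Agent.Lib.Helper48 Cfsg.Agent.Lib.Helper76.WardKey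

variable {Γ : Type*} [Group Γ] (V : Subgroup Γ) [hVn : V.Normal] (𝔽 : Type*) [Field 𝔽]

/-- Conjugation by `g` on `Additive V`. -/
def conjAdd (g : Γ) : Additive V →+ Additive V :=
  MonoidHom.toAdditive ((MulAut.conjNormal g : MulAut V).toMonoidHom)

theorem conjAdd_apply (g : Γ) (v : V) :
    conjAdd V g (Additive.ofMul v) = Additive.ofMul (MulAut.conjNormal g v) := rfl

theorem conjAdd_mul (g h : Γ) (x : Additive V) : conjAdd V (g * h) x = conjAdd V g (conjAdd V h x) := by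
  induction x using Additive.rec with | ofMul v => ?_
  simp only [conjAdd_apply, map_mul, MulAut.mul_apply]

theorem conjAdd_one (x : Additive V) : conjAdd V 1 x = x := by
  induction x using Additive.rec with | ofMul v => ?_
  simp only [conjAdd_apply, map_one, MulAut.one_apply]

/-- The dual representation of `Γ` on `Additive V →+ 𝔽`: `(g • f)(v) = f (g⁻¹ v g)`. -/
def dualRep : Γ →* Module.End 𝔽 (Additive V →+ 𝔽) where
  toFun g :=
    { toFun := fun f => f.comp (conjAdd V g⁻¹)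
      map_add' := fun f f' => by ext x; simp
      map_smul' := fun c f => by ext x; simp }
  map_one' := by
    ext f x
    simp [conjAdd_one]
  map_mul' g h := by
    ext f x
    simp [conjAdd_mul]

theorem dualRep_apply (g : Γ) (f : Additive V →+ 𝔽) (x : Additive V) :
    dualRep V 𝔽 g f x = f (conjAdd V g⁻¹ x) := rfl

/-- Evaluation of a functional at an element of `V`. -/
def ev {V : Subgroup Γ} {𝔽 : Type*} [Field 𝔽] (f : Additive V →+ 𝔽) (v : Γ) (hv : v ∈ V) : 𝔽 :=
  f (Additive.ofMul ⟨v, hv⟩)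

theorem ev_mul {𝔽 : Type*} [Field 𝔽] (f : Additive V →+ 𝔽) {v w : Γ} (hv : v ∈ V) (hw : w ∈ V) :
    ev f (v * w) (V.mul_mem hv hw) = ev f v hv + ev f w hw := by
  unfold ev
  rw [← map_add]
  rfl

theorem ev_one {𝔽 : Type*} [Field 𝔽] (f : Additive V →+ 𝔽) : ev f 1 V.one_mem = 0 := by
  unfold ev
  exact map_zero f

theorem ev_inv {𝔽 : Type*} [Field 𝔽] (f : Additive V →+ 𝔽) {v : Γ} (hv : v ∈ V) :
    ev f v⁻¹ (V.inv_mem hv) = - ev f v hv := by
  have := ev_mul V f hv (V.inv_mem hv)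
  have h1 : ev f (v * v⁻¹) (V.mul_mem hv (V.inv_mem hv)) = 0 := by
    have : ev f (v * v⁻¹) (V.mul_mem hv (V.inv_mem hv)) = ev f 1 V.one_mem := by
      unfold ev; congr 2; simp
    rw [this, ev_one]
  rw [h1] at this
  exact eq_neg_of_add_eq_zero_right this.symm

theorem ev_congr {𝔽 : Type*} [Field 𝔽] (f : Additive V →+ 𝔽) {v w : Γ} (h : v = w) (hv : v ∈ V) :
    ev f v hv = ev f w (h ▸ hv) := by
  subst h; rfl

theorem conj_mem' {g v : Γ} (hv : v ∈ V) : g⁻¹ * v * g ∈ V := by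
  have := hVn.conj_mem v hv g⁻¹
  simpa using this

theorem ev_dualRep (g : Γ) (f : Additive V →+ 𝔽) {v : Γ} (hv : v ∈ V) :
    ev (dualRep V 𝔽 g f) v hv = ev f (g⁻¹ * v * g) (conj_mem' V hv) := by
  unfold ev
  rw [dualRep_apply, conjAdd_apply]
  congr 2
  apply Subtype.ext
  simp [MulAut.conjNormal_apply]

theorem ext_ev {𝔽 : Type*} [Field 𝔽] {f f' : Additive V →+ 𝔽}
    (h : ∀ v (hv : v ∈ V), ev f v hv = ev f' v hv) : f = f' := by
  ext x
  induction x using Additive.rec with | ofMul v => ?_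
  exact h v v.2

instance dual_finiteDimensional [Finite Γ] : FiniteDimensional 𝔽 (Additive V →+ 𝔽) := by
  let φ : (Additive V →+ 𝔽) →ₗ[𝔽] (V → 𝔽) :=
    { toFun := fun f v => f (Additive.ofMul v)
      map_add' := fun f f' => by ext v; simp
      map_smul' := fun c f => by ext v; simp }
  have hφ : Function.Injective φ := by
    intro f f' h
    ext x
    induction x using Additive.rec with | ofMul v => ?_
    exact congrFun h v
  exact FiniteDimensional.of_injective φ hφ

theorem exists_linear_ne_zero {W : Type*} [AddCommGroup W] {s : ℕ} [Fact s.Prime]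
    [Module (ZMod s) W] (w : W) (hw : w ≠ 0) : ∃ φ : W →ₗ[ZMod s] ZMod s, φ w ≠ 0 := by
  have h3 : (∀ φ : Module.Dual (ZMod s) W, φ w = 0) ↔ w = 0 :=
    Module.forall_dual_apply_eq_zero_iff (ZMod s) w
  have := h3.not.mpr hw
  push Not at this
  exact this

theorem exists_addHom_ne_zero {W : Type*} [AddCommGroup W] {s : ℕ} [Fact s.Prime]
    (h : ∀ x : W, s • x = 0) (w : W) (hw : w ≠ 0) : ∃ φ : W →+ ZMod s, φ w ≠ 0 := by
  let inst : Module (ZMod s) W := AddCommGroup.zmodModule h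
  obtain ⟨φ, hφ⟩ := exists_linear_ne_zero (s := s) w hw
  exact ⟨φ.toAddMonoidHom, hφ⟩

/-- Functionals separate the points of an elementary abelian `s`-group when `𝔽 ⊇ 𝔽_s`. -/
theorem exists_ev_ne_zero {s : ℕ} [Fact s.Prime] [Algebra (ZMod s) 𝔽]
    (hVcomm : ∀ x ∈ V, ∀ y ∈ V, x * y = y * x) (hVexp : ∀ x ∈ V, x ^ s = 1) {v : Γ} (hv : v ∈ V)
    (hv1 : v ≠ 1) : ∃ f : Additive V →+ 𝔽, ev f v hv ≠ 0 := by
  let instC : CommGroup V :=
    { (inferInstance : Group V) with
      mul_comm := fun a b => Subtype.ext (hVcomm a a.2 b b.2) }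
  have hexp : ∀ x : Additive V, s • x = 0 := fun x => by
    induction x using Additive.rec with | ofMul w => ?_
    rw [← ofMul_pow]
    have : w ^ s = 1 := Subtype.ext (by simpa using hVexp w w.2)
    rw [this]; rfl
  have hne : (Additive.ofMul (⟨v, hv⟩ : V)) ≠ 0 := by
    intro h
    apply hv1
    have : (⟨v, hv⟩ : V) = 1 := h
    exact congrArg Subtype.val this
  obtain ⟨φ, hφ⟩ := exists_addHom_ne_zero hexp _ hne
  refine ⟨(algebraMap (ZMod s) 𝔽).toAddMonoidHom.comp φ, ?_⟩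
  unfold ev
  intro h
  apply hφ
  have hinj : Function.Injective (algebraMap (ZMod s) 𝔽) := (algebraMap (ZMod s) 𝔽).injective
  apply hinj
  rw [map_zero]
  exact h

/-- An element acting trivially on the dual centralizes `V`. -/
theorem mem_centralizer_of_dualRep_eq {s : ℕ} [Fact s.Prime] [Algebra (ZMod s) 𝔽]
    (hVcomm : ∀ x ∈ V, ∀ y ∈ V, x * y = y * x) (hVexp : ∀ x ∈ V, x ^ s = 1) {g : Γ}
    (hg : ∀ f : Additive V →+ 𝔽, dualRep V 𝔽 g f = f) : g ∈ Subgroup.centralizer (V : Set Γ) := by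
  rw [Subgroup.mem_centralizer_iff]
  intro v hv
  by_contra hne
  have hw : g⁻¹ * v * g * v⁻¹ ∈ V := V.mul_mem (conj_mem' V hv) (V.inv_mem hv)
  have hw1 : g⁻¹ * v * g * v⁻¹ ≠ 1 := by
    intro h
    apply hne
    have : g⁻¹ * v * g = v := by
      have := mul_inv_eq_one.mp h
      exact this
    calc v * g = g * (g⁻¹ * v * g) := by group
      _ = g * v := by rw [this]
  obtain ⟨f, hf⟩ := exists_ev_ne_zero V 𝔽 hVcomm hVexp hw hw1
  apply hf
  have h1 := ev_dualRep V 𝔽 g f hv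
  rw [hg f] at h1
  rw [ev_mul V f (conj_mem' V hv) (V.inv_mem hv), ev_inv V f hv, ← h1, add_neg_cancel]

/-- The kernel of a functional, as a subgroup of `Γ`. -/
def kerEv {𝔽 : Type*} [Field 𝔽] (f : Additive V →+ 𝔽) : Subgroup Γ where
  carrier := {x | ∃ hx : x ∈ V, ev f x hx = 0}
  one_mem' := ⟨V.one_mem, ev_one V f⟩
  mul_mem' := by
    rintro a b ⟨ha, ha'⟩ ⟨hb, hb'⟩
    exact ⟨V.mul_mem ha hb, by rw [ev_mul V f ha hb, ha', hb', add_zero]⟩
  inv_mem' := by
    rintro a ⟨ha, ha'⟩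
    exact ⟨V.inv_mem ha, by rw [ev_inv V f ha, ha', neg_zero]⟩

/-- (α) at the level of `Γ`: an element commuting with `u` and with `C_V(u)` fixes every
`u`-invariant functional. -/
theorem dualRep_eq_of_comm [Finite Γ] {r : ℕ} [Fact r.Prime] (hrV : ¬ r ∣ Nat.card V)
    {u g : Γ} (hur : u ^ r = 1) (hgu : g * u = u * g)
    (hgV : ∀ v ∈ V, v * u = u * v → g * v = v * g)
    (f : Additive V →+ 𝔽) (hf : dualRep V 𝔽 u f = f) : dualRep V 𝔽 g f = f := by
  -- invariance under powers of `u`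
  have hstab : Subgroup.zpowers u ≤ vecStab (dualRep V 𝔽) f := by
    rw [Subgroup.zpowers_le]; exact hf
  have hinv : ∀ b ∈ Subgroup.zpowers u, ∀ v (hv : v ∈ V),
      ev f (b * v * b⁻¹) (hVn.conj_mem v hv b) = ev f v hv := by
    intro b hb v hv
    have h1 : dualRep V 𝔽 b⁻¹ f = f := hstab (Subgroup.inv_mem _ hb)
    have h2 := ev_dualRep V 𝔽 b⁻¹ f hv
    rw [h1] at h2
    rw [h2]
    exact ev_congr V f (by simp) _
  have hcomm : ⁅V, Subgroup.zpowers u⁆ ≤ kerEv V f := by
    rw [Subgroup.commutator_le]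
    intro v hv b hb
    have hbv : b * v⁻¹ * b⁻¹ ∈ V := hVn.conj_mem _ (V.inv_mem hv) b
    have e : ⁅v, b⁆ = v * (b * v⁻¹ * b⁻¹) := by rw [commutatorElement_def]; group
    refine ⟨e ▸ V.mul_mem hv hbv, ?_⟩
    rw [ev_congr V f e, ev_mul V f hv hbv, hinv b hb _ (V.inv_mem hv), ev_inv V f hv, add_neg_cancel]
  apply ext_ev
  intro v hv
  rw [ev_dualRep]
  obtain ⟨c, hc, d, hd, rfl⟩ := exists_centralizer_mul_commutator
    (isPGroup_zpowers_of_pow_eq_one hur) hrV
    (fun b _ => (Subgroup.normalizer_eq_top V).symm ▸ Subgroup.mem_top b) hv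
  have hcu : c * u = u * c :=
    ((Subgroup.mem_centralizer_iff.mp hc.2) u (Subgroup.mem_zpowers u)).symm
  have hgc : g * c = c * g := hgV c hc.1 hcu
  have hdV : d ∈ V := (commutator_le_of_le_normalizer
    (fun b _ => (Subgroup.normalizer_eq_top V).symm ▸ Subgroup.mem_top b)) hd
  -- conjugating `d` by `g⁻¹` stays in the commutator
  have hgcent : g⁻¹ ∈ Subgroup.centralizer ((Subgroup.zpowers u : Subgroup Γ) : Set Γ) := by
    apply Subgroup.inv_mem
    rw [Subgroup.mem_centralizer_iff]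
    intro b hb
    obtain ⟨k, rfl⟩ := Subgroup.mem_zpowers_iff.mp hb
    have : Commute g u := hgu
    exact ((this.zpow_right k).eq).symm
  have hd' : g⁻¹ * d * g⁻¹⁻¹ ∈ ⁅V, Subgroup.zpowers u⁆ :=
    conj_mem_commutator_of_centralizer
      ((Subgroup.normalizer_eq_top V).symm ▸ Subgroup.mem_top g⁻¹) hgcent hd
  rw [inv_inv] at hd'
  obtain ⟨hd'V, hd'0⟩ := hcomm hd'
  obtain ⟨_, hd0⟩ := hcomm hd
  have e1 : g⁻¹ * (c * d) * g = c * (g⁻¹ * d * g) := by
    have : g⁻¹ * c = c * g⁻¹ := by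
      rw [eq_mul_inv_iff_mul_eq, mul_assoc, hgc.symm, ← mul_assoc, inv_mul_cancel, one_mul]
    calc g⁻¹ * (c * d) * g = (g⁻¹ * c) * d * g := by group
      _ = (c * g⁻¹) * d * g := by rw [this]
      _ = c * (g⁻¹ * d * g) := by group
  rw [ev_congr V f e1, ev_mul V f hc.1 hd'V, ev_mul V f hc.1 hdV, hd'0, hd0]

/-- (`O_s = 1`) A normal subgroup whose image modulo `C ≤ C(V)` is an `s`-group centralizes the
minimal normal `s`-subgroup `V`. -/
theorem le_centralizer_of_isPGroup_map [Finite Γ] {s : ℕ} [Fact s.Prime] (hVs : IsPGroup s V)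
    (hV1 : V ≠ ⊥) (hVmin : ∀ M : Subgroup Γ, M.Normal → M ≤ V → M = ⊥ ∨ M = V)
    (C : Subgroup Γ) [C.Normal] (hCV : C ≤ Subgroup.centralizer (V : Set Γ))
    (Qh : Subgroup Γ) [Qh.Normal] (hS : IsPGroup s (Qh.map (QuotientGroup.mk' C))) :
    Qh ≤ Subgroup.centralizer (V : Set Γ) := by
  have hs : s.Prime := Fact.out
  let φ : Γ ⧸ C →* MulAut V := QuotientGroup.lift C (MulAut.conjNormal (H := V)) (by
    intro c hc
    ext v
    rw [MulAut.conjNormal_apply, MulAut.one_apply]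
    have := (Subgroup.mem_centralizer_iff.mp (hCV hc)) v v.2
    rw [← this]; group)
  let _ : MulAction (Γ ⧸ C) V := MulAction.compHom V φ
  have hmod := hS.card_modEq_card_fixedPoints V
  obtain ⟨k, hk⟩ := IsPGroup.iff_card.mp hVs
  have hk0 : k ≠ 0 := by
    rintro rfl
    rw [pow_zero] at hk
    exact hV1 ((Subgroup.card_eq_one).mp hk)
  have hdvd : s ∣ Nat.card (MulAction.fixedPoints (Qh.map (QuotientGroup.mk' C)) V) := by
    have h1 : s ∣ Nat.card V := hk ▸ dvd_pow_self s hk0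
    exact (Nat.modEq_zero_iff_dvd.mp ((hmod.symm.trans (Nat.modEq_zero_iff_dvd.mpr h1))))
  -- a nontrivial fixed point
  have hex : ∃ v : V, v ∈ MulAction.fixedPoints (Qh.map (QuotientGroup.mk' C)) V ∧ v ≠ 1 := by
    by_contra hcon
    push Not at hcon
    have hsub : Subsingleton (MulAction.fixedPoints (Qh.map (QuotientGroup.mk' C)) V) :=
      ⟨fun a b => Subtype.ext ((hcon a a.2).trans (hcon b b.2).symm)⟩
    have hle : Nat.card (MulAction.fixedPoints (Qh.map (QuotientGroup.mk' C)) V) ≤ 1 :=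
      Finite.card_le_one_iff_subsingleton.mpr hsub
    have hpos : Nat.card (MulAction.fixedPoints (Qh.map (QuotientGroup.mk' C)) V) ≠ 0 := by
      intro h0
      rw [h0] at hdvd
      have hne : Nonempty (MulAction.fixedPoints (Qh.map (QuotientGroup.mk' C)) V) :=
        ⟨⟨1, fun g => by
          show φ (g : Γ ⧸ C) (1 : V) = 1
          exact map_one _⟩⟩
      exact (Nat.card_pos (α := MulAction.fixedPoints (Qh.map (QuotientGroup.mk' C)) V)).ne' h0
    have : Nat.card (MulAction.fixedPoints (Qh.map (QuotientGroup.mk' C)) V) = 1 := by omega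
    rw [this] at hdvd
    exact hs.one_lt.ne' (Nat.dvd_one.mp hdvd)
  obtain ⟨v, hvfix, hv1⟩ := hex
  set V₀ : Subgroup Γ := V ⊓ Subgroup.centralizer (Qh : Set Γ) with hV₀
  have hV₀n : V₀.Normal := inferInstance
  have hvV₀ : (v : Γ) ∈ V₀ := by
    refine Subgroup.mem_inf.mpr ⟨v.2, ?_⟩
    rw [Subgroup.mem_centralizer_iff]
    intro x hx
    have h1 := hvfix ⟨QuotientGroup.mk' C x, Subgroup.mem_map_of_mem _ hx⟩
    have h2 : φ (QuotientGroup.mk' C x) v = v := h1
    have h3 : φ (QuotientGroup.mk' C x) v = MulAut.conjNormal x v := by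
      rfl
    rw [h3] at h2
    have h4 := congrArg Subtype.val h2
    rw [MulAut.conjNormal_apply] at h4
    calc x * (v : Γ) = x * v * x⁻¹ * x := by group
      _ = v * x := by rw [h4]
  have hV₀1 : V₀ ≠ ⊥ := by
    intro h
    rw [h, Subgroup.mem_bot] at hvV₀
    exact hv1 (Subtype.ext hvV₀)
  rcases hVmin V₀ hV₀n inf_le_left with h | h
  · exact absurd h hV₀1
  · rw [Subgroup.le_centralizer_iff]
    rw [← h]; exact inf_le_right

end Cfsg.Agent.Lib.Helper76.WardRed
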