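import Mathlib
import Cfsg.Agent.S0033
import Cfsg.Agent.Lib.Helper1.FpfBasic
import Cfsg.Agent.Lib.Helper65.NilpBasic
import Cfsg.Agent.Lib.Helper76.WardRedC

/-!
# Nilpotent centralizers and lifting (helper76)
-/

set_option autoImplicit false
set_option linter.unusedSectionVars false
set_option linter.unusedVariables false

namespace Cfsg.Agent.Lib.Helper76.WardRed

open scoped commutatorElement
open Cfsg.Agent.Lib.Helper48 Cfsg.Agent.Lib.Helper76.WardKey Cfsg.Agent.Lib.Helper1

variable {Γ : Type*} [Group Γ]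

/-- The standing hypotheses of Ward's theorem in ambient form. -/
structure Ctx (r : ℕ) (G A : Subgroup Γ) : Prop where
  hGn : G.Normal
  hAcomm : ∀ x ∈ A, ∀ y ∈ A, x * y = y * x
  hAexp : ∀ x ∈ A, x ^ r = 1
  hAcard : Nat.card A = r ^ 2
  hfpf : G ⊓ Subgroup.centralizer (A : Set Γ) = ⊥

section

variable [Finite Γ] {r : ℕ} [Fact r.Prime] {G A : Subgroup Γ}

theorem Ctx.hAp (h : Ctx r G A) : IsPGroup r A := IsPGroup.of_card h.hAcard

theorem Ctx.not_dvd (h : Ctx r G A) : ¬ r ∣ Nat.card G :=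
  not_dvd_card_of_fpf G A (fun a _ => by
    have := h.hGn
    rw [Subgroup.normalizer_eq_top]; exact Subgroup.mem_top a) h.hAp h.hfpf

theorem Ctx.not_dvd_of_le (h : Ctx r G A) {K : Subgroup Γ} (hK : K ≤ G) : ¬ r ∣ Nat.card K :=
  fun hd => h.not_dvd (hd.trans (Subgroup.card_dvd_of_le hK))

/-- The hypotheses pass to quotients by normal subgroups contained in `G`. -/
theorem Ctx.map_mk (h : Ctx r G A) (K : Subgroup Γ) [K.Normal] (hK : K ≤ G) :
    Ctx r (G.map (QuotientGroup.mk' K)) (A.map (QuotientGroup.mk' K)) := by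
  have hr : r.Prime := Fact.out
  have hAK : A ⊓ K = ⊥ := by
    rw [eq_bot_iff]
    intro x hx
    rw [Subgroup.mem_bot]
    have h2 : orderOf x ∣ r := orderOf_dvd_of_pow_eq_one (h.hAexp x hx.1)
    have h3 : orderOf x ∣ Nat.card K := Subgroup.orderOf_dvd_natCard K hx.2
    rcases (Nat.dvd_prime hr).mp h2 with h4 | h4
    · exact orderOf_eq_one_iff.mp h4
    · exact absurd (h4 ▸ h3) (h.not_dvd_of_le hK)
  refine ⟨?_, ?_, ?_, ?_, ?_⟩
  · have := h.hGn
    exact Subgroup.Normal.map this _ (QuotientGroup.mk'_surjective K)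
  · rintro _ ⟨x, hx, rfl⟩ _ ⟨y, hy, rfl⟩
    rw [← map_mul, ← map_mul, h.hAcomm x hx y hy]
  · rintro _ ⟨x, hx, rfl⟩
    rw [← map_pow, h.hAexp x hx, map_one]
  · rw [card_map_mk_of_inf_eq_bot A K hAK, h.hAcard]
  · exact fpf_quotient G A K h.hAp (h.not_dvd_of_le hK) hK h.hfpf

/-- The centralizer in `G` of a nonidentity element of `A` is nilpotent (Thompson). -/
theorem Ctx.centralizer_nilpotent (h : Ctx r G A) {u : Γ} (hu : u ∈ A) (hu1 : u ≠ 1) :
    Group.IsNilpotent (G ⊓ Subgroup.centralizer ({u} : Set Γ) : Subgroup Γ) := by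
  have hr : r.Prime := Fact.out
  have hGn := h.hGn
  -- an element of `A` outside `⟨u⟩`
  have hlt : Subgroup.zpowers u < A := by
    refine lt_of_le_of_ne (by rwa [Subgroup.zpowers_le]) (fun e => ?_)
    have h1 : Nat.card A = r := by
      rw [← e, Nat.card_zpowers]; exact orderOf_eq_prime (h.hAexp u hu) hu1
    rw [h.hAcard] at h1
    have h2 : r < r ^ 2 := by
      calc r = r ^ 1 := (pow_one r).symm
        _ < r ^ 2 := Nat.pow_lt_pow_right hr.one_lt (by norm_num)
    omega
  obtain ⟨b, hbA, hbu⟩ := SetLike.exists_of_lt hlt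
  set K : Subgroup Γ := G ⊓ Subgroup.centralizer ({u} : Set Γ) with hK
  have hbu' : b * u = u * b := h.hAcomm b hbA u hu
  have hinv : AutInv (MulAut.conj b) K := by
    apply autInv_of_forall_mem
    intro x hx
    refine Subgroup.mem_inf.mpr ⟨hGn.conj_mem x hx.1 b, ?_⟩
    rw [mem_centralizer_singleton_iff]
    have hxu : x * u = u * x := mem_centralizer_singleton_iff.mp hx.2
    simp only [MulAut.conj_apply]
    have hbu'' : b⁻¹ * u = u * b⁻¹ := by
      rw [eq_mul_inv_iff_mul_eq, mul_assoc, ← hbu', ← mul_assoc, inv_mul_cancel, one_mul]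
    calc b * x * b⁻¹ * u = b * x * (b⁻¹ * u) := by group
      _ = b * x * (u * b⁻¹) := by rw [hbu'']
      _ = b * (x * u) * b⁻¹ := by group
      _ = b * (u * x) * b⁻¹ := by rw [hxu]
      _ = (b * u) * x * b⁻¹ := by group
      _ = (u * b) * x * b⁻¹ := by rw [hbu']
      _ = u * (b * x * b⁻¹) := by group
  set ψ : K ≃* K := restrictAut (MulAut.conj b) K hinv with hψ
  have hfix : ∀ x : K, ψ x = x → x = 1 := by
    intro x hx
    have h1 : b * (x : Γ) * b⁻¹ = x := by
      have := congrArg Subtype.val hx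
      simpa [hψ] using this
    have hxu : (x : Γ) * u = u * x := mem_centralizer_singleton_iff.mp x.2.2
    have hxb : b * (x : Γ) = x * b := by
      calc b * (x : Γ) = b * x * b⁻¹ * b := by group
        _ = x * b := by rw [h1]
    have hle : A ≤ Subgroup.centralizer ({(x : Γ)} : Set Γ) :=
      elemAb_le_of_mem A h.hAexp h.hAcard hu hu1 hbA hbu _
        (mem_centralizer_singleton_iff.mpr hxu.symm) (mem_centralizer_singleton_iff.mpr hxb)
    have hx0 : (x : Γ) ∈ G ⊓ Subgroup.centralizer (A : Set Γ) := by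
      refine Subgroup.mem_inf.mpr ⟨x.2.1, ?_⟩
      rw [Subgroup.mem_centralizer_iff]
      intro a ha
      exact mem_centralizer_singleton_iff.mp (hle ha)
    rw [h.hfpf, Subgroup.mem_bot] at hx0
    exact Subtype.ext hx0
  have hpow : (ψ : MulAut K) ^ r = 1 := by
    apply restrictAut_pow_eq_one
    rw [← map_pow, h.hAexp b hbA, map_one]
  have hord : orderOf (ψ : MulAut K) ∣ r := orderOf_dvd_of_pow_eq_one hpow
  rcases (Nat.dvd_prime hr).mp hord with h1 | h1
  · have hψ1 : (ψ : MulAut K) = 1 := orderOf_eq_one_iff.mp h1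
    have : Subsingleton K := ⟨fun x y => by
      have hx := hfix x (by rw [hψ1]; rfl)
      have hy := hfix y (by rw [hψ1]; rfl)
      rw [hx, hy]⟩
    infer_instance
  · exact Cfsg.Agent.S0033.result ψ hfix r hr h1

end

end Cfsg.Agent.Lib.Helper76.WardRed
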