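import Mathlib
import Cfsg.Agent.S0033
import Cfsg.Agent.Lib.Helper1.FpfBasic
import Cfsg.Agent.Lib.Helper65.NilpBasic
import Cfsg.Agent.Lib.Helper76.WardRedD
import Cfsg.Agent.Lib.Helper76.FrobRedA

/-!
# `C_G(f)` is nilpotent (helper76)
-/

set_option autoImplicit false
set_option linter.unusedSectionVars false
set_option linter.unusedVariables false

namespace Cfsg.Agent.Lib.Helper76.FrobRed

open scoped commutatorElement
open Cfsg.Agent.Lib.Helper48 Cfsg.Agent.Lib.Helper76.WardKey Cfsg.Agent.Lib.Helper1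

variable {Γ : Type*} [Group Γ] [Finite Γ] {r s : ℕ} [Fact r.Prime] [Fact s.Prime]
  {G : Subgroup Γ} {f h : Γ}

/-- `h` normalizes `⟨f⟩`. -/
theorem FCtx.hnormH (c : FCtx r s G f h) :
    Subgroup.zpowers h ≤ Subgroup.normalizer ((Subgroup.zpowers f : Subgroup Γ) : Set Γ) := by
  rw [Subgroup.zpowers_le]
  rw [Subgroup.mem_normalizer_iff_map_conj_eq]
  have hle : (Subgroup.zpowers f).map (MulAut.conj h).toMonoidHom ≤ Subgroup.zpowers f := by
    rw [MonoidHom.map_zpowers, Subgroup.zpowers_le]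
    exact c.hnorm
  apply Subgroup.eq_of_le_of_card_ge hle
  rw [Subgroup.card_map_of_injective (MulAut.conj h).injective]

/-- The centralizer of `f` in `G` is nilpotent (Thompson). -/
theorem FCtx.centralizer_nilpotent (c : FCtx r s G f h) :
    Group.IsNilpotent (G ⊓ Subgroup.centralizer ({f} : Set Γ) : Subgroup Γ) := by
  have hs : s.Prime := Fact.out
  have hGn := c.hGn
  set K : Subgroup Γ := G ⊓ Subgroup.centralizer ({f} : Set Γ) with hK
  -- `h⁻¹ f h ∈ ⟨f⟩`
  have hconj : ∀ g ∈ Subgroup.zpowers h, ∀ x ∈ K, g * x * g⁻¹ ∈ K := by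
    intro g hg x hx
    refine Subgroup.mem_inf.mpr ⟨hGn.conj_mem x hx.1 g, ?_⟩
    rw [mem_centralizer_singleton_iff]
    have hxf : x * f = f * x := mem_centralizer_singleton_iff.mp hx.2
    have hf' : g⁻¹ * f * g ∈ Subgroup.zpowers f :=
      conj_mem_of_mem_normalizer (c.hnormH hg) (Subgroup.mem_zpowers f)
    obtain ⟨k, hk⟩ := Subgroup.mem_zpowers_iff.mp hf'
    have hxk : x * (g⁻¹ * f * g) = (g⁻¹ * f * g) * x := by
      rw [← hk]
      have : Commute x f := hxf
      exact (this.zpow_right k).eq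
    calc g * x * g⁻¹ * f = g * (x * (g⁻¹ * f * g)) * g⁻¹ := by group
      _ = g * ((g⁻¹ * f * g) * x) * g⁻¹ := by rw [hxk]
      _ = f * (g * x * g⁻¹) := by group
  have hinv : AutInv (MulAut.conj h) K := by
    apply autInv_of_forall_mem
    intro x hx
    simp only [MulAut.conj_apply]
    exact hconj h (Subgroup.mem_zpowers h) x hx
  set ψ : K ≃* K := restrictAut (MulAut.conj h) K hinv with hψ
  have hfix : ∀ x : K, ψ x = x → x = 1 := by
    intro x hx
    have h1 : h * (x : Γ) * h⁻¹ = x := by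
      have := congrArg Subtype.val hx
      simpa [hψ] using this
    have hxf : (x : Γ) * f = f * x := mem_centralizer_singleton_iff.mp x.2.2
    have hxh : (x : Γ) * h = h * x := by
      calc (x : Γ) * h = h * x * h⁻¹ * h := by rw [h1]
        _ = h * x := by group
    exact Subtype.ext (c.hfpf x x.2.1 hxf hxh)
  have hpow : (ψ : MulAut K) ^ s = 1 := by
    apply restrictAut_pow_eq_one
    rw [← map_pow, c.hh, map_one]
  have hord : orderOf (ψ : MulAut K) ∣ s := orderOf_dvd_of_pow_eq_one hpow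
  rcases (Nat.dvd_prime hs).mp hord with h1 | h1
  · have hψ1 : (ψ : MulAut K) = 1 := orderOf_eq_one_iff.mp h1
    have : Subsingleton K := ⟨fun x y => by
      have hx := hfix x (by rw [hψ1]; rfl)
      have hy := hfix y (by rw [hψ1]; rfl)
      rw [hx, hy]⟩
    infer_instance
  · exact Cfsg.Agent.S0033.result ψ hfix s hs h1

end Cfsg.Agent.Lib.Helper76.FrobRed
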