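import Mathlib
import Cfsg.Agent.Lib.Helper76.WardRedD

/-!
# The centralizing property via the key lemma (helper76)
-/

set_option autoImplicit false
set_option linter.unusedSectionVars false
set_option linter.unusedVariables false

namespace Cfsg.Agent.Lib.Helper76.WardRed

open scoped commutatorElement
open Cfsg.Agent.Lib.Helper48 Cfsg.Agent.Lib.Helper76.WardKey Cfsg.Agent.Lib.Helper1

variable {Γ : Type*} [Group Γ] [Finite Γ] {r : ℕ} [Fact r.Prime] {G A : Subgroup Γ}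

/-- Lifting `p`-elements commuting with the image of `u` to `p`-elements of `C_G(u)`. -/
theorem Ctx.exists_pElement_lift (h : Ctx r G A) (K : Subgroup Γ) [K.Normal] (hKG : K ≤ G) {u : Γ}
    (hu : u ∈ A) {p : ℕ} [Fact p.Prime] {y : Γ ⧸ K} (hy : y ∈ G.map (QuotientGroup.mk' K)) {a : ℕ}
    (hya : y ^ (p ^ a) = 1)
    (hcomm : y * (QuotientGroup.mk' K) u = (QuotientGroup.mk' K) u * y) :
    ∃ x ∈ G ⊓ Subgroup.centralizer ({u} : Set Γ), (∃ j, x ^ (p ^ j) = 1) ∧
      (QuotientGroup.mk' K) x = y := by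
  obtain ⟨g, hg, rfl⟩ := hy
  obtain ⟨g', hg'G, hg'u, hg'π⟩ := exists_lift_centralizer G K hKG (h.not_dvd_of_le hKG)
    (h.hAexp u hu) hg hcomm
  rw [← hg'π] at hya
  obtain ⟨m, hj, hm⟩ := exists_pow_isPElement (QuotientGroup.mk' K) g' hya
  refine ⟨g' ^ m, Subgroup.mem_inf.mpr ⟨G.pow_mem hg'G m, ?_⟩, hj, hm.trans hg'π⟩
  rw [mem_centralizer_singleton_iff]
  have : Commute g' u := hg'u
  exact (this.pow_left m).eq

/-- Elements of coprime orders in `C_G(u)` commute. -/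
theorem Ctx.commute_of_coprime (h : Ctx r G A) {u : Γ} (hu : u ∈ A) (hu1 : u ≠ 1) {x y : Γ}
    (hx : x ∈ G ⊓ Subgroup.centralizer ({u} : Set Γ))
    (hy : y ∈ G ⊓ Subgroup.centralizer ({u} : Set Γ))
    (hcop : Nat.Coprime (orderOf x) (orderOf y)) : x * y = y * x := by
  have hnil := h.centralizer_nilpotent hu hu1
  have := Cfsg.Agent.Lib.Helper65.commute_of_coprime_orderOf
    (⟨x, hx⟩ : (G ⊓ Subgroup.centralizer ({u} : Set Γ) : Subgroup Γ)) ⟨y, hy⟩
    (by rwa [Subgroup.orderOf_mk, Subgroup.orderOf_mk])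
  exact congrArg Subtype.val this.eq

theorem coprime_orderOf_of_pow {x y : Γ} {p p' : ℕ} [Fact p.Prime] [Fact p'.Prime] (hpp : p ≠ p')
    {i j : ℕ} (hx : x ^ (p ^ i) = 1) (hy : y ^ (p' ^ j) = 1) :
    Nat.Coprime (orderOf x) (orderOf y) := by
  have h1 : orderOf x ∣ p ^ i := orderOf_dvd_of_pow_eq_one hx
  have h2 : orderOf y ∣ p' ^ j := orderOf_dvd_of_pow_eq_one hy
  have h3 : Nat.Coprime (p ^ i) (p' ^ j) :=
    Nat.Coprime.pow i j ((Nat.coprime_primes Fact.out Fact.out).mpr hpp)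
  exact Nat.Coprime.coprime_dvd_left h1 (Nat.Coprime.coprime_dvd_right h2 h3)

/-- The centralizing property (†) in `Γ ⧸ C_G(V)`. -/
theorem Ctx.dagger (h : Ctx r G A) {s : ℕ} [Fact s.Prime] (V : Subgroup Γ) [hVn : V.Normal]
    (hVG : V ≤ G) (hV1 : V ≠ ⊥) (hVs : IsPGroup s V)
    (hVcomm : ∀ x ∈ V, ∀ y ∈ V, x * y = y * x) (hVexp : ∀ x ∈ V, x ^ s = 1)
    (hVmin : ∀ M : Subgroup Γ, M.Normal → M ≤ V → M = ⊥ ∨ M = V)
    (C : Subgroup Γ) [hCn : C.Normal] (hC : C = G ⊓ Subgroup.centralizer (V : Set Γ))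
    (q t : ℕ) [Fact q.Prime] [Fact t.Prime] (hqt : q ≠ t)
    (Q T : Subgroup (Γ ⧸ C)) (hQH : Q ≤ G.map (QuotientGroup.mk' C))
    (hTH : T ≤ G.map (QuotientGroup.mk' C)) (hQn : Q.Normal)
    (hQ : IsPGroup q Q) (hT : IsPGroup t T)
    (hAT : A.map (QuotientGroup.mk' C) ≤ Subgroup.normalizer (T : Set (Γ ⧸ C))) :
    Q ≤ Subgroup.centralizer (T : Set (Γ ⧸ C)) := by
  classical
  have hr : r.Prime := Fact.out
  have hCmem : ∀ x, x ∈ C ↔ x ∈ G ∧ x ∈ Subgroup.centralizer (V : Set Γ) := by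
    intro x; rw [hC]; exact Subgroup.mem_inf
  have hCG : C ≤ G := fun x hx => ((hCmem x).mp hx).1
  have hCV : C ≤ Subgroup.centralizer (V : Set Γ) := fun x hx => ((hCmem x).mp hx).2
  set π := QuotientGroup.mk' C with hπ
  have hctx2 := h.map_mk C hCG
  have hrH : ¬ r ∣ Nat.card (G.map π) := hctx2.not_dvd
  by_cases hQ1 : Q = ⊥
  · rw [hQ1]; exact bot_le
  by_cases hT1 : T = ⊥
  · intro x _
    rw [Subgroup.mem_centralizer_iff]
    intro y hy
    rw [hT1] at hy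
    have : y = 1 := hy
    rw [this, one_mul, mul_one]
  -- the primes `q`, `t` differ from `r`
  have hne_of : ∀ (p : ℕ) [Fact p.Prime] (P : Subgroup (Γ ⧸ C)), P ≤ G.map π → IsPGroup p P →
      P ≠ ⊥ → r ≠ p := by
    intro p _ P hPH hP hP1 hrp
    obtain ⟨k, hk⟩ := IsPGroup.iff_card.mp hP
    have hk0 : k ≠ 0 := by
      rintro rfl
      rw [pow_zero] at hk
      exact hP1 ((Subgroup.card_eq_one).mp hk)
    apply hrH
    rw [hrp]
    exact (dvd_pow_self p hk0).trans (hk ▸ Subgroup.card_dvd_of_le hPH)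
  have hrq : r ≠ q := hne_of q Q hQH hQ hQ1
  have hrt : r ≠ t := hne_of t T hTH hT hT1
  by_cases hqs : q = s
  · -- `O_s = 1`
    exfalso
    apply hQ1
    have hsurj : Function.Surjective π := QuotientGroup.mk'_surjective C
    have hmap : (Q.comap π).map π = Q := Subgroup.map_comap_eq_self_of_surjective hsurj Q
    have hS : IsPGroup s ((Q.comap π).map π) := by rw [hmap, ← hqs]; exact hQ
    have h1 : Q.comap π ≤ Subgroup.centralizer (V : Set Γ) :=
      le_centralizer_of_isPGroup_map V hVs hV1 hVmin C hCV (Q.comap π) hS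
    have h2 : Q.comap π ≤ G := by
      have : Q.comap π ≤ (G.map π).comap π := Subgroup.comap_mono hQH
      rw [Subgroup.comap_map_eq, QuotientGroup.ker_mk', sup_eq_left.mpr hCG] at this
      exact this
    have h3 : Q.comap π ≤ C := fun x hx => (hCmem x).mpr ⟨h2 hx, h1 hx⟩
    rw [← hmap, eq_bot_iff]
    have h4 : C.map π = ⊥ :=
      (Subgroup.map_eq_bot_iff _).mpr (le_of_eq (QuotientGroup.ker_mk' C).symm)
    rw [← h4]
    exact Subgroup.map_mono h3
  -- the key lemma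
  let 𝔽 := AlgebraicClosure (ZMod s)
  have hker : ∀ c ∈ C, dualRep V 𝔽 c = 1 := by
    intro c hc
    ext f : 1
    apply ext_ev
    intro v hv
    rw [ev_dualRep]
    apply ev_congr V f
    have := (Subgroup.mem_centralizer_iff.mp (hCV hc)) v hv
    calc c⁻¹ * v * c = c⁻¹ * (v * c) := by group
      _ = c⁻¹ * (c * v) := by rw [this]
      _ = v := by group
  let ρ : Γ ⧸ C →* Module.End 𝔽 (Additive V →+ 𝔽) := QuotientGroup.lift C (dualRep V 𝔽) hker
  have hρ : ∀ g : Γ, ρ (π g) = dualRep V 𝔽 g := fun g => rfl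
  have hq𝔽 : ((q : ℕ) : 𝔽) ≠ 0 := by
    intro h0
    have := (CharP.cast_eq_zero_iff 𝔽 s q).mp h0
    exact hqs ((Nat.prime_dvd_prime_iff_eq (Fact.out : s.Prime) (Fact.out : q.Prime)).mp this).symm
  have hrV : ¬ r ∣ Nat.card V := h.not_dvd_of_le hVG
  have hsq : s ≠ q := fun e => hqs e.symm
  have key := ward_key ρ hrq hrt hq𝔽 (A.map π) Q T hctx2.hAcomm hctx2.hAexp hctx2.hAcard hQ hT
    (fun a _ => by rw [Subgroup.normalizer_eq_top]; exact Subgroup.mem_top a) hAT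
    (fun a _ => by rw [Subgroup.normalizer_eq_top]; exact Subgroup.mem_top a)
    (by rw [eq_bot_iff, ← hctx2.hfpf]; exact inf_le_inf_right _ hQH)
    (by rw [eq_bot_iff, ← hctx2.hfpf]; exact inf_le_inf_right _ hTH)
    (by
      -- (α)
      rintro _ ⟨u, hu, rfl⟩ hu1 g hg hgu f hf
      have hu1' : u ≠ 1 := by rintro rfl; exact hu1 (map_one _)
      obtain ⟨a, ha⟩ := hQ ⟨g, hg⟩
      have ha' : g ^ (q ^ a) = 1 := by simpa using congrArg Subtype.val ha
      obtain ⟨g₁, hg₁, ⟨j, hj⟩, rfl⟩ := h.exists_pElement_lift C hCG hu (hQH hg) ha' hgu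
      rw [hρ] at hf ⊢
      apply dualRep_eq_of_comm V 𝔽 hrV (h.hAexp u hu) (mem_centralizer_singleton_iff.mp hg₁.2) _ f hf
      intro v hv hvu
      have hvK : v ∈ G ⊓ Subgroup.centralizer ({u} : Set Γ) :=
        Subgroup.mem_inf.mpr ⟨hVG hv, mem_centralizer_singleton_iff.mpr hvu⟩
      have hvs : v ^ (s ^ 1) = 1 := by rw [pow_one]; exact hVexp v hv
      exact h.commute_of_coprime hu hu1' hg₁ hvK (coprime_orderOf_of_pow hsq.symm hj hvs))
    (by
      -- (β)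
      rintro _ ⟨u, hu, rfl⟩ hu1 g hg hgu y hy hyu
      have hu1' : u ≠ 1 := by rintro rfl; exact hu1 (map_one _)
      obtain ⟨a, ha⟩ := hQ ⟨g, hg⟩
      have ha' : g ^ (q ^ a) = 1 := by simpa using congrArg Subtype.val ha
      obtain ⟨b, hb⟩ := hT ⟨y, hy⟩
      have hb' : y ^ (t ^ b) = 1 := by simpa using congrArg Subtype.val hb
      obtain ⟨g₁, hg₁, ⟨j, hj⟩, rfl⟩ := h.exists_pElement_lift C hCG hu (hQH hg) ha' hgu
      obtain ⟨y₁, hy₁, ⟨i, hi⟩, rfl⟩ := h.exists_pElement_lift C hCG hu (hTH hy) hb' hyu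
      rw [← map_mul, ← map_mul,
        h.commute_of_coprime hu hu1' hg₁ hy₁ (coprime_orderOf_of_pow hqt hj hi)])
  -- conclusion
  intro x hx
  rw [Subgroup.mem_centralizer_iff]
  intro y hy
  have hcomm : ⁅x, y⁆ = 1 := by
    have hmem : ⁅x, y⁆ ∈ G.map π :=
      Subgroup.commutator_mem_commutator (hQH hx) (hTH hy) |> fun h' =>
        (Subgroup.commutator_le_self (G.map π)) h'
    obtain ⟨g, hg, hgπ⟩ := hmem
    have hfix : ∀ f : Additive V →+ 𝔽, dualRep V 𝔽 g f = f := by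
      intro f
      rw [← hρ, hgπ]
      apply rho_commutator_of_comm
      exact key x hx y hy _
    have hgc := mem_centralizer_of_dualRep_eq V 𝔽 hVcomm hVexp hfix
    have hgC : g ∈ C := (hCmem g).mpr ⟨hg, hgc⟩
    rw [← hgπ, hπ, QuotientGroup.mk'_apply, QuotientGroup.eq_one_iff]
    exact hgC
  have := commutatorElement_eq_one_iff_mul_comm.mp hcomm
  exact this.symm

end Cfsg.Agent.Lib.Helper76.WardRed
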