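import Mathlib
import Cfsg.Agent.Lib.Helper76.WardRedE
import Cfsg.Agent.Lib.Helper76.FrobRedB
import Cfsg.Agent.Lib.Helper76.FrobKeyStmt
import Cfsg.Agent.Lib.Helper72.FrobRedR1

/-!
# The centralizing property (†) for fixed-point-free Frobenius groups (helper76)
-/

set_option autoImplicit false
set_option linter.unusedSectionVars false
set_option linter.unusedVariables false

namespace Cfsg.Agent.Lib.Helper76.FrobRed

open scoped commutatorElement
open Cfsg.Agent.Lib.Helper48 Cfsg.Agent.Lib.Helper76.WardKey Cfsg.Agent.Lib.Helper1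
open Cfsg.Agent.Lib.Helper76.WardRed Cfsg.Agent.Lib.Helper76.FrobKey

universe u

section

variable {Γ : Type*} [Group Γ] [Finite Γ] {r s : ℕ} [Fact r.Prime] [Fact s.Prime]
  {G : Subgroup Γ} {f h : Γ}

/-- Lifting `p`-elements commuting with the image of `f` to `p`-elements of `C_G(f)`. -/
theorem FCtx.exists_pElement_lift (c : FCtx r s G f h) (K : Subgroup Γ) [K.Normal] (hKG : K ≤ G)
    {p : ℕ} [Fact p.Prime] {y : Γ ⧸ K} (hy : y ∈ G.map (QuotientGroup.mk' K)) {a : ℕ}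
    (hya : y ^ (p ^ a) = 1)
    (hcomm : y * (QuotientGroup.mk' K) f = (QuotientGroup.mk' K) f * y) :
    ∃ x ∈ G ⊓ Subgroup.centralizer ({f} : Set Γ), (∃ j, x ^ (p ^ j) = 1) ∧
      (QuotientGroup.mk' K) x = y := by
  obtain ⟨g, hg, rfl⟩ := hy
  obtain ⟨g', hg'G, hg'u, hg'π⟩ := exists_lift_centralizer G K hKG (c.r_not_dvd_of_le hKG)
    c.hf hg hcomm
  rw [← hg'π] at hya
  obtain ⟨m, hj, hm⟩ := exists_pow_isPElement (QuotientGroup.mk' K) g' hya
  refine ⟨g' ^ m, Subgroup.mem_inf.mpr ⟨G.pow_mem hg'G m, ?_⟩, hj, hm.trans hg'π⟩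
  rw [mem_centralizer_singleton_iff]
  have : Commute g' f := hg'u
  exact (this.pow_left m).eq

/-- Elements of coprime orders in `C_G(f)` commute. -/
theorem FCtx.commute_of_coprime (c : FCtx r s G f h) {x y : Γ}
    (hx : x ∈ G ⊓ Subgroup.centralizer ({f} : Set Γ))
    (hy : y ∈ G ⊓ Subgroup.centralizer ({f} : Set Γ))
    (hcop : Nat.Coprime (orderOf x) (orderOf y)) : x * y = y * x := by
  have hnil := c.centralizer_nilpotent
  have := Cfsg.Agent.Lib.Helper65.commute_of_coprime_orderOf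
    (⟨x, hx⟩ : (G ⊓ Subgroup.centralizer ({f} : Set Γ) : Subgroup Γ)) ⟨y, hy⟩
    (by rwa [Subgroup.orderOf_mk, Subgroup.orderOf_mk])
  exact congrArg Subtype.val this.eq

/-- The normalizer of `F` normalizes the centralizer of `F`. -/
theorem mem_normalizer_centralizer {F : Subgroup Γ} {b : Γ}
    (hb : b ∈ Subgroup.normalizer (F : Set Γ)) :
    b ∈ Subgroup.normalizer ((Subgroup.centralizer (F : Set Γ) : Subgroup Γ) : Set Γ) := by
  have key : ∀ g, g ∈ Subgroup.normalizer (F : Set Γ) → ∀ x ∈ Subgroup.centralizer (F : Set Γ),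
      g * x * g⁻¹ ∈ Subgroup.centralizer (F : Set Γ) := by
    intro g hg x hx
    rw [Subgroup.mem_centralizer_iff]
    intro a ha
    have ha' : g⁻¹ * a * g ∈ F := conj_mem_of_mem_normalizer hg ha
    have h3 := (Subgroup.mem_centralizer_iff.mp hx) _ ha'
    calc a * (g * x * g⁻¹) = g * ((g⁻¹ * a * g) * x) * g⁻¹ := by group
      _ = g * (x * (g⁻¹ * a * g)) * g⁻¹ := by rw [h3]
      _ = g * x * g⁻¹ * a := by group
  rw [Subgroup.mem_normalizer_iff]
  intro x
  constructor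
  · exact key b hb x
  · intro hx
    have := key b⁻¹ (Subgroup.inv_mem _ hb) _ hx
    have e : b⁻¹ * (b * x * b⁻¹) * b⁻¹⁻¹ = x := by group
    rwa [e] at this

/-- A functional invariant under `B` vanishes on `[K, B]` for `K ≤ V`. -/
theorem commutator_le_kerEv (V : Subgroup Γ) [hVn : V.Normal] {𝔽 : Type*} [Field 𝔽]
    (w : Additive V →+ 𝔽) {K B : Subgroup Γ} (hKV : K ≤ V)
    (hB : ∀ b ∈ B, dualRep V 𝔽 b w = w) : ⁅K, B⁆ ≤ kerEv V w := by
  have hinv : ∀ b ∈ B, ∀ v (hv : v ∈ V),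
      ev w (b * v * b⁻¹) (hVn.conj_mem v hv b) = ev w v hv := by
    intro b hb v hv
    have h1 : dualRep V 𝔽 b⁻¹ w = w := hB _ (B.inv_mem hb)
    have h2 := ev_dualRep V 𝔽 b⁻¹ w hv
    rw [h1] at h2
    rw [h2]
    exact ev_congr V w (by simp) _
  rw [Subgroup.commutator_le]
  intro v hv b hb
  have hvV : v ∈ V := hKV hv
  have hbv : b * v⁻¹ * b⁻¹ ∈ V := hVn.conj_mem _ (V.inv_mem hvV) b
  have e : ⁅v, b⁆ = v * (b * v⁻¹ * b⁻¹) := by rw [commutatorElement_def]; group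
  refine ⟨e ▸ V.mul_mem hvV hbv, ?_⟩
  rw [ev_congr V w e, ev_mul V w hvV hbv, hinv b hb _ (V.inv_mem hvV), ev_inv V w hvV,
    add_neg_cancel]

/-- (δ): a functional on `V ≤ G` fixed by `f` and `h` vanishes. -/
theorem FCtx.dual_fixed_eq_zero (c : FCtx r s G f h) (V : Subgroup Γ) [hVn : V.Normal]
    (hVG : V ≤ G) {𝔽 : Type*} [Field 𝔽] (w : Additive V →+ 𝔽)
    (hwf : dualRep V 𝔽 f w = w) (hwh : dualRep V 𝔽 h w = w) : w = 0 := by
  set F : Subgroup Γ := Subgroup.zpowers f with hF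
  set H : Subgroup Γ := Subgroup.zpowers h with hH
  have hFp : IsPGroup r F := isPGroup_zpowers_of_pow_eq_one c.hf
  have hHp : IsPGroup s H := isPGroup_zpowers_of_pow_eq_one c.hh
  have hFw : ∀ b ∈ F, dualRep V 𝔽 b w = w := by
    have : F ≤ vecStab (dualRep V 𝔽) w := by rw [hF, Subgroup.zpowers_le]; exact hwf
    exact fun b hb => this hb
  have hHw : ∀ b ∈ H, dualRep V 𝔽 b w = w := by
    have : H ≤ vecStab (dualRep V 𝔽) w := by rw [hH, Subgroup.zpowers_le]; exact hwh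
    exact fun b hb => this hb
  have hFV : F ≤ Subgroup.normalizer (V : Set Γ) := fun b _ =>
    (Subgroup.normalizer_eq_top V).symm ▸ Subgroup.mem_top b
  set V₁ : Subgroup Γ := V ⊓ Subgroup.centralizer (F : Set Γ) with hV₁
  have hHV₁ : H ≤ Subgroup.normalizer (V₁ : Set Γ) := by
    intro b hb
    apply Subgroup.inf_normalizer_le_normalizer_inf
    refine ⟨(Subgroup.normalizer_eq_top V).symm ▸ Subgroup.mem_top b, ?_⟩
    exact mem_normalizer_centralizer (c.hnormH hb)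
  have h1 := commutator_le_kerEv V w (le_refl V) hFw
  have h2 := commutator_le_kerEv V w (inf_le_left : V₁ ≤ V) hHw
  apply ext_ev
  intro v hv
  obtain ⟨c₁, hc₁, d₁, hd₁, rfl⟩ := exists_centralizer_mul_commutator hFp
    (c.r_not_dvd_of_le hVG) hFV hv
  obtain ⟨c₂, hc₂, d₂, hd₂, rfl⟩ := exists_centralizer_mul_commutator hHp
    (c.s_not_dvd_of_le (inf_le_left.trans hVG)) hHV₁ hc₁
  have hc₂1 : c₂ = 1 := by
    apply c.hfpf c₂ (hVG hc₂.1.1)
    · exact ((Subgroup.mem_centralizer_iff.mp hc₂.1.2) f (Subgroup.mem_zpowers f)).symm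
    · exact ((Subgroup.mem_centralizer_iff.mp hc₂.2) h (Subgroup.mem_zpowers h)).symm
  have hmem : c₂ * d₂ * d₁ ∈ kerEv V w := by
    rw [hc₂1, one_mul]
    exact Subgroup.mul_mem _ (h2 hd₂) (h1 hd₁)
  obtain ⟨_, h0⟩ := hmem
  rw [h0]
  rfl

end

section Dagger

variable {Γ : Type u} [Group Γ] [Finite Γ] {r s : ℕ} [Fact r.Prime] [Fact s.Prime]
  {G : Subgroup Γ} {f h : Γ}

/-- The centralizing property (†) in `Γ ⧸ C_G(V)`. -/
theorem FCtx.dagger (key : FrobKeyStmt.{u, 0, u}) (c : FCtx r s G f h) {p : ℕ} [Fact p.Prime]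
    (V : Subgroup Γ) [hVn : V.Normal]
    (hVG : V ≤ G) (hV1 : V ≠ ⊥) (hVp : IsPGroup p V)
    (hVcomm : ∀ x ∈ V, ∀ y ∈ V, x * y = y * x) (hVexp : ∀ x ∈ V, x ^ p = 1)
    (hVmin : ∀ M : Subgroup Γ, M.Normal → M ≤ V → M = ⊥ ∨ M = V)
    (C : Subgroup Γ) [hCn : C.Normal] (hC : C = G ⊓ Subgroup.centralizer (V : Set Γ))
    (q t : ℕ) [Fact q.Prime] [Fact t.Prime] (hqt : q ≠ t)
    (Q T : Subgroup (Γ ⧸ C)) (hQH : Q ≤ G.map (QuotientGroup.mk' C))
    (hTH : T ≤ G.map (QuotientGroup.mk' C)) (hQn : Q.Normal)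
    (hQ : IsPGroup q Q) (hT : IsPGroup t T)
    (hfT : QuotientGroup.mk' C f ∈ Subgroup.normalizer (T : Set (Γ ⧸ C)))
    (hhT : QuotientGroup.mk' C h ∈ Subgroup.normalizer (T : Set (Γ ⧸ C))) :
    Q ≤ Subgroup.centralizer (T : Set (Γ ⧸ C)) := by
  classical
  have hr : r.Prime := Fact.out
  have hs : s.Prime := Fact.out
  have hp : p.Prime := Fact.out
  have hCmem : ∀ x, x ∈ C ↔ x ∈ G ∧ x ∈ Subgroup.centralizer (V : Set Γ) := by
    intro x; rw [hC]; exact Subgroup.mem_inf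
  have hCG : C ≤ G := fun x hx => ((hCmem x).mp hx).1
  have hCV : C ≤ Subgroup.centralizer (V : Set Γ) := fun x hx => ((hCmem x).mp hx).2
  set π := QuotientGroup.mk' C with hπ
  have hctx2 := c.map_mk C hCG
  by_cases hQ1 : Q = ⊥
  · rw [hQ1]; exact bot_le
  by_cases hT1 : T = ⊥
  · intro x _
    rw [Subgroup.mem_centralizer_iff]
    intro y hy
    rw [hT1] at hy
    have : y = 1 := hy
    rw [this, one_mul, mul_one]
  -- the primes `q`, `t` differ from `r`, `s`
  have hne_of : ∀ (p' : ℕ) [Fact p'.Prime] (P : Subgroup (Γ ⧸ C)), P ≤ G.map π → IsPGroup p' P →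
      P ≠ ⊥ → r ≠ p' ∧ s ≠ p' := by
    intro p' _ P hPH hP hP1
    obtain ⟨k, hk⟩ := IsPGroup.iff_card.mp hP
    have hk0 : k ≠ 0 := by
      rintro rfl
      rw [pow_zero] at hk
      exact hP1 ((Subgroup.card_eq_one).mp hk)
    have hdvd : p' ∣ Nat.card (G.map π) :=
      (dvd_pow_self p' hk0).trans (hk ▸ Subgroup.card_dvd_of_le hPH)
    exact ⟨fun e => hctx2.hrG (e ▸ hdvd), fun e => hctx2.hsG (e ▸ hdvd)⟩
  obtain ⟨hrq, hsq⟩ := hne_of q Q hQH hQ hQ1
  obtain ⟨hrt, hst⟩ := hne_of t T hTH hT hT1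
  -- `p` differs from `r`, `s`
  have hpV : p ∣ Nat.card V := by
    obtain ⟨k, hk⟩ := IsPGroup.iff_card.mp hVp
    have hk0 : k ≠ 0 := by
      rintro rfl
      rw [pow_zero] at hk
      exact hV1 ((Subgroup.card_eq_one).mp hk)
    rw [hk]; exact dvd_pow_self p hk0
  have hrp : r ≠ p := fun e => c.r_not_dvd_of_le hVG (e ▸ hpV)
  have hsp : s ≠ p := fun e => c.s_not_dvd_of_le hVG (e ▸ hpV)
  by_cases hqp : q = p
  · -- `O_p = 1`
    exfalso
    apply hQ1
    have hsurj : Function.Surjective π := QuotientGroup.mk'_surjective C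
    have hmap : (Q.comap π).map π = Q := Subgroup.map_comap_eq_self_of_surjective hsurj Q
    have hS : IsPGroup p ((Q.comap π).map π) := by rw [hmap, ← hqp]; exact hQ
    have h1 : Q.comap π ≤ Subgroup.centralizer (V : Set Γ) :=
      le_centralizer_of_isPGroup_map V hVp hV1 hVmin C hCV (Q.comap π) hS
    have h2 : Q.comap π ≤ G := by
      have : Q.comap π ≤ (G.map π).comap π := Subgroup.comap_mono hQH
      rw [Subgroup.comap_map_eq, QuotientGroup.ker_mk', sup_eq_left.mpr hCG] at this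
      exact this
    have h3 : Q.comap π ≤ C := fun x hx => (hCmem x).mpr ⟨h2 hx, h1 hx⟩
    rw [← hmap, eq_bot_iff]
    have h4 : C.map π = ⊥ :=
      (Subgroup.map_eq_bot_iff _).mpr (le_of_eq (QuotientGroup.ker_mk' C).symm)
    rw [← h4]
    exact Subgroup.map_mono h3
  -- the key lemma
  let 𝔽 := AlgebraicClosure (ZMod p)
  have hker : ∀ c' ∈ C, dualRep V 𝔽 c' = 1 := by
    intro c' hc
    ext f' : 1
    apply ext_ev
    intro v hv
    rw [ev_dualRep]
    apply ev_congr V f'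
    have := (Subgroup.mem_centralizer_iff.mp (hCV hc)) v hv
    calc c'⁻¹ * v * c' = c'⁻¹ * (v * c') := by group
      _ = c'⁻¹ * (c' * v) := by rw [this]
      _ = v := by group
  let ρ : Γ ⧸ C →* Module.End 𝔽 (Additive V →+ 𝔽) := QuotientGroup.lift C (dualRep V 𝔽) hker
  have hρ : ∀ g : Γ, ρ (π g) = dualRep V 𝔽 g := fun g => rfl
  have hcast : ∀ (n : ℕ) [Fact n.Prime], n ≠ p → ((n : ℕ) : 𝔽) ≠ 0 := by
    intro n _ hnp h0
    have := (CharP.cast_eq_zero_iff 𝔽 p n).mp h0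
    exact hnp ((Nat.prime_dvd_prime_iff_eq hp (Fact.out : n.Prime)).mp this).symm
  have hrV : ¬ r ∣ Nat.card V := c.r_not_dvd_of_le hVG
  have hpq : p ≠ q := fun e => hqp e.symm
  have hnormtop : ∀ a : Γ ⧸ C, a ∈ Subgroup.normalizer (Q : Set (Γ ⧸ C)) := fun a => by
    rw [Subgroup.normalizer_eq_top]; exact Subgroup.mem_top a
  have h1 : FSetup ρ r s q t (π f) (π h) Q T :=
    { hqt := hqt
      hrq := hrq
      hrt := hrt
      hsq := hsq
      hst := hst
      hrs := c.hrs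
      hq𝔽 := hcast q hqp
      hs𝔽 := hcast s hsp
      hr𝔽 := hcast r hrp
      hf := hctx2.hf
      hf1 := hctx2.hf1
      hh := hctx2.hh
      hh1 := hctx2.hh1
      hnorm := hctx2.hnorm
      hncomm := hctx2.hncomm
      hQ := hQ
      hT := hT
      hfQ := hnormtop _
      hhQ := hnormtop _
      hfT := hfT
      hhT := hhT
      hTQ := fun a _ => hnormtop a
      hQfix := fun g hg => hctx2.hfpf g (hQH hg)
      hTfix := fun g hg => hctx2.hfpf g (hTH hg)
      hδ := by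
        intro w hwf hwh
        rw [hρ] at hwf hwh
        exact c.dual_fixed_eq_zero V hVG w hwf hwh
      hα := by
        intro g hg hgu w hw
        obtain ⟨a, ha⟩ := hQ ⟨g, hg⟩
        have ha' : g ^ (q ^ a) = 1 := by simpa using congrArg Subtype.val ha
        obtain ⟨g₁, hg₁, ⟨j, hj⟩, rfl⟩ := c.exists_pElement_lift C hCG (hQH hg) ha' hgu
        rw [hρ] at hw ⊢
        apply dualRep_eq_of_comm V 𝔽 hrV c.hf (mem_centralizer_singleton_iff.mp hg₁.2) _ w hw
        intro v hv hvu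
        have hvK : v ∈ G ⊓ Subgroup.centralizer ({f} : Set Γ) :=
          Subgroup.mem_inf.mpr ⟨hVG hv, mem_centralizer_singleton_iff.mpr hvu⟩
        have hvs : v ^ (p ^ 1) = 1 := by rw [pow_one]; exact hVexp v hv
        exact c.commute_of_coprime hg₁ hvK (coprime_orderOf_of_pow hpq.symm hj hvs)
      hβ := by
        intro g hg hgu y hy hyu
        obtain ⟨a, ha⟩ := hQ ⟨g, hg⟩
        have ha' : g ^ (q ^ a) = 1 := by simpa using congrArg Subtype.val ha
        obtain ⟨b, hb⟩ := hT ⟨y, hy⟩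
        have hb' : y ^ (t ^ b) = 1 := by simpa using congrArg Subtype.val hb
        obtain ⟨g₁, hg₁, ⟨j, hj⟩, rfl⟩ := c.exists_pElement_lift C hCG (hQH hg) ha' hgu
        obtain ⟨y₁, hy₁, ⟨i, hi⟩, rfl⟩ := c.exists_pElement_lift C hCG (hTH hy) hb' hyu
        rw [← map_mul, ← map_mul,
          c.commute_of_coprime hg₁ hy₁ (coprime_orderOf_of_pow hqt hj hi)] }
  have keyρ := key ρ (p := p) h1
  -- conclusion
  intro x hx
  rw [Subgroup.mem_centralizer_iff]
  intro y hy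
  have hcomm : ⁅x, y⁆ = 1 := by
    have hmem : ⁅x, y⁆ ∈ G.map π :=
      Subgroup.commutator_mem_commutator (hQH hx) (hTH hy) |> fun h' =>
        (Subgroup.commutator_le_self (G.map π)) h'
    obtain ⟨g, hg, hgπ⟩ := hmem
    have hfix : ∀ w : Additive V →+ 𝔽, dualRep V 𝔽 g w = w := by
      intro w
      rw [← hρ, hgπ]
      apply rho_commutator_of_comm
      exact keyρ x hx y hy _
    have hgc := mem_centralizer_of_dualRep_eq V 𝔽 hVcomm hVexp hfix
    have hgC : g ∈ C := (hCmem g).mpr ⟨hg, hgc⟩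
    rw [← hgπ, hπ, QuotientGroup.mk'_apply, QuotientGroup.eq_one_iff]
    exact hgC
  have := commutatorElement_eq_one_iff_mul_comm.mp hcomm
  exact this.symm

end Dagger

end Cfsg.Agent.Lib.Helper76.FrobRed
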