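import Mathlib
import Cfsg.Agent.Lib.Helper1.MinimalNormal
import Cfsg.Agent.Lib.Helper76.WardRedE

/-!
# Ward's theorem in ambient form (helper76)
-/

set_option autoImplicit false
set_option linter.unusedSectionVars false
set_option linter.unusedVariables false

namespace Cfsg.Agent.Lib.Helper76.WardRed

open scoped commutatorElement
open Cfsg.Agent.Lib.Helper48 Cfsg.Agent.Lib.Helper76.WardKey Cfsg.Agent.Lib.Helper1

universe u

theorem lcs_le_ker_of_map_eq_bot {Γ Γ' : Type*} [Group Γ] [Group Γ'] (f : Γ →* Γ') (S : Subgroup Γ)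
    (k : ℕ) (h : (S.map f).lowerCentralSeries k = ⊥) : S.lowerCentralSeries k ≤ f.ker := by
  rw [← Subgroup.map_eq_bot_iff, Subgroup.map_lowerCentralSeries, h]

/-- **Ward's theorem, ambient form**: `G` has a normal nilpotent subgroup with nilpotent
quotient. -/
theorem ward_ambient {r : ℕ} [Fact r.Prime] (n : ℕ) :
    ∀ (Γ : Type u) [Group Γ] [Finite Γ] [Group.IsSolvable Γ] (G A : Subgroup Γ), Ctx r G A →
      Nat.card G ≤ n →
      ∃ N : Subgroup Γ, N ≤ G ∧ N.Normal ∧ (∃ m, N.lowerCentralSeries m = ⊥) ∧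
        ∃ k, G.lowerCentralSeries k ≤ N := by
  induction n with
  | zero =>
    intro Γ _ _ _ G A h hcard
    have : 0 < Nat.card G := Nat.card_pos
    omega
  | succ n ih =>
    intro Γ _ _ _ G A h hcard
    by_cases hG1 : G = ⊥
    · exact ⟨⊥, bot_le, inferInstance, ⟨0, rfl⟩, ⟨0, by simp [hG1]⟩⟩
    have hGn := h.hGn
    obtain ⟨s, V, hs, hVn, hV1, hVG, hVs, hVc, hVexp, hVmin⟩ :=
      exists_normal_pSubgroup_le_of_isSolvable G hGn hG1
    have : Fact s.Prime := ⟨hs⟩
    have hVcomm : ∀ x ∈ V, ∀ y ∈ V, x * y = y * x := fun x hx y hy =>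
      congrArg Subtype.val (mul_comm' (⟨x, hx⟩ : V) ⟨y, hy⟩)
    -- the quotient by `V`
    have hctx1 := h.map_mk V hVG
    have hcard1 := card_map_mk_lt G V hVG hV1
    obtain ⟨N₁, hN₁G, hN₁n, ⟨m₁, hm₁⟩, ⟨k₁, hk₁⟩⟩ :=
      ih (Γ ⧸ V) (G.map (QuotientGroup.mk' V)) (A.map (QuotientGroup.mk' V)) hctx1 (by omega)
    set F₁ : Subgroup Γ := N₁.comap (QuotientGroup.mk' V) with hF₁
    have hF₁G : F₁ ≤ G := by
      have : F₁ ≤ (G.map (QuotientGroup.mk' V)).comap (QuotientGroup.mk' V) :=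
        Subgroup.comap_mono hN₁G
      rw [Subgroup.comap_map_eq, QuotientGroup.ker_mk', sup_eq_left.mpr hVG] at this
      exact this
    have hF₁n : F₁.Normal := hN₁n.comap _
    have hF₁lcs : F₁.lowerCentralSeries m₁ ≤ V := by
      have h1 : (F₁.map (QuotientGroup.mk' V)).lowerCentralSeries m₁ = ⊥ := by
        rw [eq_bot_iff, ← hm₁]
        exact Subgroup.lowerCentralSeries_mono m₁ (Subgroup.map_comap_le _ _)
      have := lcs_le_ker_of_map_eq_bot (QuotientGroup.mk' V) F₁ m₁ h1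
      rwa [QuotientGroup.ker_mk'] at this
    have hGF₁ : G.lowerCentralSeries k₁ ≤ F₁ := by
      rw [hF₁, ← Subgroup.map_le_iff_le_comap, Subgroup.map_lowerCentralSeries]
      exact hk₁
    -- the quotient by `C_G(V)`
    have hCn : (G ⊓ Subgroup.centralizer (V : Set Γ)).Normal := inferInstance
    set C : Subgroup Γ := G ⊓ Subgroup.centralizer (V : Set Γ) with hC
    have hCG : C ≤ G := inf_le_left
    have hVC : V ≤ C := by
      refine le_inf hVG (fun x hx => ?_)
      rw [Subgroup.mem_centralizer_iff]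
      intro y hy
      exact hVcomm y hy x hx
    have hC1 : C ≠ ⊥ := fun e => hV1 (le_bot_iff.mp (e ▸ hVC))
    have hctx2 := h.map_mk C hCG
    have hcard2 := card_map_mk_lt G C hCG hC1
    obtain ⟨N₂, hN₂H, hN₂n, hm₂, hk₂⟩ :=
      ih (Γ ⧸ C) (G.map (QuotientGroup.mk' C)) (A.map (QuotientGroup.mk' C)) hctx2 (by omega)
    have hHn := hctx2.hGn
    have hnil : Group.IsNilpotent (G.map (QuotientGroup.mk' C)) :=
      nilpotent_of_sylow_centralize (G.map (QuotientGroup.mk' C)) N₂ (A.map (QuotientGroup.mk' C))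
        hN₂H ((Subgroup.isNilpotent_iff_lowerCentralSeries N₂).mpr hm₂) hk₂ hctx2.hAp
        (fun a _ => by rw [Subgroup.normalizer_eq_top]; exact Subgroup.mem_top a) hctx2.not_dvd
        (fun q t _ _ hqt Q T hQH hTH hQn hQ hT hAT =>
          h.dagger V hVG hV1 hVs hVcomm hVexp hVmin C hC q t hqt Q T hQH hTH hQn hQ hT hAT)
    obtain ⟨k₂, hk₂'⟩ := (Subgroup.isNilpotent_iff_lowerCentralSeries _).mp hnil
    have hGC : G.lowerCentralSeries k₂ ≤ C := by
      have := lcs_le_ker_of_map_eq_bot (QuotientGroup.mk' C) G k₂ hk₂'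
      rwa [QuotientGroup.ker_mk'] at this
    -- the answer
    refine ⟨F₁ ⊓ C, inf_le_of_left_le hF₁G, inferInstance, ⟨m₁ + 1, ?_⟩, ⟨max k₁ k₂, ?_⟩⟩
    · rw [Subgroup.lowerCentralSeries_succ, eq_bot_iff]
      have h1 : (F₁ ⊓ C).lowerCentralSeries m₁ ≤ V :=
        (Subgroup.lowerCentralSeries_mono m₁ inf_le_left).trans hF₁lcs
      have h2 : F₁ ⊓ C ≤ Subgroup.centralizer (V : Set Γ) := inf_le_right.trans inf_le_right
      calc ⁅(F₁ ⊓ C).lowerCentralSeries m₁, F₁ ⊓ C⁆ ≤ ⁅V, Subgroup.centralizer (V : Set Γ)⁆ :=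
            Subgroup.commutator_mono h1 h2
        _ ≤ ⊥ := by
          rw [Subgroup.commutator_le]
          intro v hv c hc
          rw [Subgroup.mem_bot, commutatorElement_eq_one_iff_mul_comm]
          exact ((Subgroup.mem_centralizer_iff.mp hc) v hv)
    · exact le_inf ((G.lowerCentralSeries_antitone (le_max_left k₁ k₂)).trans hGF₁)
        ((G.lowerCentralSeries_antitone (le_max_right k₁ k₂)).trans hGC)

end Cfsg.Agent.Lib.Helper76.WardRed
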