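import Mathlib
import Cfsg.Agent.Lib.Helper1.MinimalNormal
import Cfsg.Agent.Lib.Helper76.WardRedF
import Cfsg.Agent.Lib.Helper76.FrobRedC
import Cfsg.Agent.Lib.Helper85.FrobRedR3

/-!
# Fixed-point-free Frobenius groups of order `r * s`: the ambient theorem (helper76)
-/

set_option autoImplicit false
set_option linter.unusedSectionVars false
set_option linter.unusedVariables false

namespace Cfsg.Agent.Lib.Helper76.FrobRed

open scoped commutatorElement
open Cfsg.Agent.Lib.Helper48 Cfsg.Agent.Lib.Helper76.WardKey Cfsg.Agent.Lib.Helper1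
open Cfsg.Agent.Lib.Helper76.WardRed Cfsg.Agent.Lib.Helper76.FrobKey

universe u

/-- The ambient theorem by induction on `|G|`. -/
theorem frob_ambient_aux (key : FrobKeyStmt.{u, 0, u}) {r s : ℕ} [Fact r.Prime] [Fact s.Prime]
    (n : ℕ) :
    ∀ (Γ : Type u) [Group Γ] [Finite Γ] [Group.IsSolvable Γ] (G : Subgroup Γ) (f h : Γ),
      FCtx r s G f h → Nat.card G ≤ n →
      ∃ N : Subgroup Γ, N ≤ G ∧ N.Normal ∧ (∃ m, N.lowerCentralSeries m = ⊥) ∧
        ∃ k, G.lowerCentralSeries k ≤ N := by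
  have hr : r.Prime := Fact.out
  have hs : s.Prime := Fact.out
  induction n with
  | zero =>
    intro Γ _ _ _ G f h c hcard
    have : 0 < Nat.card G := Nat.card_pos
    omega
  | succ n ih =>
    intro Γ _ _ _ G f h c hcard
    by_cases hG1 : G = ⊥
    · exact ⟨⊥, bot_le, inferInstance, ⟨0, rfl⟩, ⟨0, by simp [hG1]⟩⟩
    have hGn := c.hGn
    obtain ⟨p, V, hp, hVn, hV1, hVG, hVp, hVc, hVexp, hVmin⟩ :=
      exists_normal_pSubgroup_le_of_isSolvable G hGn hG1
    have : Fact p.Prime := ⟨hp⟩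
    have hVcomm : ∀ x ∈ V, ∀ y ∈ V, x * y = y * x := fun x hx y hy =>
      congrArg Subtype.val (mul_comm' (⟨x, hx⟩ : V) ⟨y, hy⟩)
    -- the quotient by `V`
    have hctx1 := c.map_mk V hVG
    have hcard1 := card_map_mk_lt G V hVG hV1
    obtain ⟨N₁, hN₁G, hN₁n, ⟨m₁, hm₁⟩, ⟨k₁, hk₁⟩⟩ :=
      ih (Γ ⧸ V) (G.map (QuotientGroup.mk' V)) _ _ hctx1 (by omega)
    set F₁ : Subgroup Γ := N₁.comap (QuotientGroup.mk' V) with hF₁
    have hF₁G : F₁ ≤ G := by
      have : F₁ ≤ (G.map (QuotientGroup.mk' V)).comap (QuotientGroup.mk' V) :=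
        Subgroup.comap_mono hN₁G
      rw [Subgroup.comap_map_eq, QuotientGroup.ker_mk', sup_eq_left.mpr hVG] at this
      exact this
    have hF₁n : F₁.Normal := hN₁n.comap _
    have hF₁lcs : F₁.lowerCentralSeries m₁ ≤ V := by
      have h1 : (F₁.map (QuotientGroup.mk' V)).lowerCentralSeries m₁ = ⊥ := by
        rw [eq_bot_iff, ← hm₁]
        exact Subgroup.lowerCentralSeries_mono m₁ (Subgroup.map_comap_le _ _)
      have := lcs_le_ker_of_map_eq_bot (QuotientGroup.mk' V) F₁ m₁ h1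
      rwa [QuotientGroup.ker_mk'] at this
    have hGF₁ : G.lowerCentralSeries k₁ ≤ F₁ := by
      rw [hF₁, ← Subgroup.map_le_iff_le_comap, Subgroup.map_lowerCentralSeries]
      exact hk₁
    -- the quotient by `C_G(V)`
    have hCn : (G ⊓ Subgroup.centralizer (V : Set Γ)).Normal := inferInstance
    set C : Subgroup Γ := G ⊓ Subgroup.centralizer (V : Set Γ) with hC
    have hCG : C ≤ G := inf_le_left
    have hVC : V ≤ C := by
      refine le_inf hVG (fun x hx => ?_)
      rw [Subgroup.mem_centralizer_iff]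
      intro y hy
      exact hVcomm y hy x hx
    have hC1 : C ≠ ⊥ := fun e => hV1 (le_bot_iff.mp (e ▸ hVC))
    have hctx2 := c.map_mk C hCG
    have hcard2 := card_map_mk_lt G C hCG hC1
    obtain ⟨N₂, hN₂H, hN₂n, hm₂, hk₂⟩ :=
      ih (Γ ⧸ C) (G.map (QuotientGroup.mk' C)) _ _ hctx2 (by omega)
    have hHn := hctx2.hGn
    obtain ⟨hAsolv, hAcard⟩ := Cfsg.Agent.Lib.Helper85.FrobRedR3.AA_facts hctx2
    have hcop : (Nat.card (Subgroup.zpowers ((QuotientGroup.mk' C) f) ⊔
        Subgroup.zpowers ((QuotientGroup.mk' C) h) : Subgroup (Γ ⧸ C))).Coprime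
        (Nat.card (G.map (QuotientGroup.mk' C))) := by
      rw [hAcard]
      exact Nat.Coprime.mul_left ((Nat.Prime.coprime_iff_not_dvd hr).mpr hctx2.hrG)
        ((Nat.Prime.coprime_iff_not_dvd hs).mpr hctx2.hsG)
    have hnil : Group.IsNilpotent (G.map (QuotientGroup.mk' C)) :=
      Cfsg.Agent.Lib.Helper85.FrobRedR3.nilpotent_of_sylow_centralize'
        (G.map (QuotientGroup.mk' C)) N₂
        (Subgroup.zpowers ((QuotientGroup.mk' C) f) ⊔ Subgroup.zpowers ((QuotientGroup.mk' C) h))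
        hN₂H ((Subgroup.isNilpotent_iff_lowerCentralSeries N₂).mpr hm₂) hk₂
        (fun a _ => by rw [Subgroup.normalizer_eq_top]; exact Subgroup.mem_top a) hcop hAsolv
        (fun q t _ _ hqt Q T hQH hTH hQn hQ hT hAT =>
          c.dagger key V hVG hV1 hVp hVcomm hVexp hVmin C hC q t hqt Q T hQH hTH hQn hQ hT
            (hAT (Subgroup.mem_sup_left (Subgroup.mem_zpowers _)))
            (hAT (Subgroup.mem_sup_right (Subgroup.mem_zpowers _))))
    obtain ⟨k₂, hk₂'⟩ := (Subgroup.isNilpotent_iff_lowerCentralSeries _).mp hnil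
    have hGC : G.lowerCentralSeries k₂ ≤ C := by
      have := lcs_le_ker_of_map_eq_bot (QuotientGroup.mk' C) G k₂ hk₂'
      rwa [QuotientGroup.ker_mk'] at this
    -- the answer
    refine ⟨F₁ ⊓ C, inf_le_of_left_le hF₁G, inferInstance, ⟨m₁ + 1, ?_⟩, ⟨max k₁ k₂, ?_⟩⟩
    · rw [Subgroup.lowerCentralSeries_succ, eq_bot_iff]
      have h1 : (F₁ ⊓ C).lowerCentralSeries m₁ ≤ V :=
        (Subgroup.lowerCentralSeries_mono m₁ inf_le_left).trans hF₁lcs
      have h2 : F₁ ⊓ C ≤ Subgroup.centralizer (V : Set Γ) := inf_le_right.trans inf_le_right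
      calc ⁅(F₁ ⊓ C).lowerCentralSeries m₁, F₁ ⊓ C⁆ ≤ ⁅V, Subgroup.centralizer (V : Set Γ)⁆ :=
            Subgroup.commutator_mono h1 h2
        _ ≤ ⊥ := by
          rw [Subgroup.commutator_le]
          intro v hv c' hc
          rw [Subgroup.mem_bot, commutatorElement_eq_one_iff_mul_comm]
          exact ((Subgroup.mem_centralizer_iff.mp hc) v hv)
    · exact le_inf ((G.lowerCentralSeries_antitone (le_max_left k₁ k₂)).trans hGF₁)
        ((G.lowerCentralSeries_antitone (le_max_right k₁ k₂)).trans hGC)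

/-- **The ambient theorem**, from the key lemma. -/
theorem frob_ambient_of (key : FrobKeyStmt.{u, 0, u}) : FrobAmbientStmt.{u} := by
  intro r s _ _ Γ _ _ _ G f h c
  exact frob_ambient_aux key (Nat.card G) Γ G f h c le_rfl

end Cfsg.Agent.Lib.Helper76.FrobRed
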