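import Cfsg.Agent.Lib.Helper16.CentricNil
import Cfsg.Agent.Lib.Helper16.NormDefect
import Cfsg.Agent.Lib.Helper16.CentDefect
import Cfsg.Agent.Lib.Helper77.Deflation
import Cfsg.Agent.Lib.Helper78.StableCover
import Cfsg.Agent.Lib.Helper78.BlockRankDefect
import Cfsg.Agent.Lib.Helper76.Fong
import Cfsg.Agent.S0969
import Cfsg.Agent.S4434
import Cfsg.Agent.Lib.Helper82.ExtFirstMain
import Cfsg.Agent.Lib.Helper77.NrmAct

/-!
# Criterion for maximal Brauer pairs (helper76)

`(Q, e)` is a maximal Brauer pair of some block iff `e` has a canonical character (trivial on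
`Z(Q)`, of defect zero modulo `Z(Q)`) and the `p`-elements of `N_G(Q, e)` lie in `Q C_G(Q)`.
-/

set_option autoImplicit false

namespace Cfsg.Agent.Lib.Helper76

open Cfsg MonoidAlgebra Cfsg.Agent.Lib.Helper16 Cfsg.Agent.Lib.Helper77 Cfsg.Agent.Lib.Helper78

universe u

section Basic

variable {G : Type u} [Group G]

/-- `Z(Q) = Q ∩ C_G(Q)` as a subgroup of `C_G(Q)` is central. -/
theorem centerIn_le_center (Q : Subgroup G) :
    (Q ⊓ Subgroup.centralizer (Q : Set G)).subgroupOf (Subgroup.centralizer (Q : Set G)) ≤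
      Subgroup.center ↥(Subgroup.centralizer (Q : Set G)) := by
  intro z hz
  rw [Subgroup.mem_center_iff]
  intro c
  apply Subtype.ext
  have h1 : (z : G) ∈ Q := (Subgroup.mem_subgroupOf.mp hz).1
  have h2 := Subgroup.mem_centralizer_iff.mp c.2 (z : G) h1
  simpa using h2.symm

theorem card_centerIn [Finite G] (Q : Subgroup G) :
    Nat.card ((Q ⊓ Subgroup.centralizer (Q : Set G)).subgroupOf
      (Subgroup.centralizer (Q : Set G))) =
      Nat.card ↥(Q ⊓ Subgroup.centralizer (Q : Set G)) :=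
  Nat.card_congr (Subgroup.subgroupOfEquivOfLe inf_le_right).toEquiv

theorem isPGroup_centerIn {p : ℕ} {Q : Subgroup G} (hQ : IsPGroup p Q) :
    IsPGroup p ((Q ⊓ Subgroup.centralizer (Q : Set G)).subgroupOf
      (Subgroup.centralizer (Q : Set G))) :=
  (hQ.to_le inf_le_left).comap_subtype

/-- In a finite `p`-group, a proper subgroup is properly contained in its normalizer. -/
theorem eq_of_inf_normalizer_eq [Finite G] {p : ℕ} [Fact p.Prime] {Q R : Subgroup G}
    (hR : IsPGroup p R) (hQR : Q ≤ R) (h : R ⊓ Subgroup.normalizer (Q : Set G) = Q) : R = Q := by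
  by_contra hne
  have : Group.IsNilpotent R := hR.isNilpotent
  have hlt : Q.subgroupOf R < ⊤ := by
    rw [lt_top_iff_ne_top, Ne, Subgroup.subgroupOf_eq_top]
    intro hle
    exact hne (le_antisymm hle hQR)
  have h1 := Group.normalizerCondition_of_isNilpotent (G := R) (Q.subgroupOf R) hlt
  obtain ⟨x, hxN, hxQ⟩ := SetLike.exists_of_lt h1
  rw [← Subgroup.subgroupOf_normalizer_eq hQR, Subgroup.mem_subgroupOf] at hxN
  apply hxQ
  rw [Subgroup.mem_subgroupOf, ← h]
  exact ⟨x.2, hxN⟩

end Basic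

section Backward

variable {G : Type u} [Group G] [Fintype G] {M : Ideal AlgInt}

/-- A character of `C_G(Q)` of defect zero modulo `Z(Q)` forces `Z(Q)` to be a defect group of its
block. -/
theorem isDefectGroup_centerIn_of_degree {p : ℕ} [Fact p.Prime] (hM : IsPModular p M)
    {Q : Subgroup G} (hQ : IsPGroup p Q)
    {e : Set (IrrCharacter (Subgroup.centralizer (Q : Set G)))} (he : IsPBlock M e)
    (θ : IrrCharacter (Subgroup.centralizer (Q : Set G))) (hθ : θ ∈ e)
    (hdeg : (charDegree (θ : Subgroup.centralizer (Q : Set G) → ℂ)).factorization p +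
      (Nat.card ↥(Q ⊓ Subgroup.centralizer (Q : Set G))).factorization p =
      (Nat.card (Subgroup.centralizer (Q : Set G))).factorization p) :
    IsDefectGroup p M e ((Q ⊓ Subgroup.centralizer (Q : Set G)).subgroupOf
      (Subgroup.centralizer (Q : Set G))) := by
  classical
  have hMp := isPModular_isPrime hM
  set Z := (Q ⊓ Subgroup.centralizer (Q : Set G)).subgroupOf (Subgroup.centralizer (Q : Set G))
    with hZdef
  have hidx : Z.index * Nat.card Z = Nat.card (Subgroup.centralizer (Q : Set G)) :=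
    Subgroup.index_mul_card Z
  have hi0 : Z.index ≠ 0 := Subgroup.index_ne_zero_of_finite
  have hc0 : Nat.card Z ≠ 0 := Nat.card_pos.ne'
  have hfac : Z.index.factorization p + (Nat.card Z).factorization p =
      (Nat.card (Subgroup.centralizer (Q : Set G))).factorization p := by
    rw [← hidx, Nat.factorization_mul hi0 hc0]
    rfl
  have hcZ : Nat.card Z = Nat.card ↥(Q ⊓ Subgroup.centralizer (Q : Set G)) := card_centerIn Q
  rw [hcZ] at hfac
  have hdeg' : (charDegree (θ : Subgroup.centralizer (Q : Set G) → ℂ)).factorization p =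
      Z.index.factorization p := by omega
  have h1 := (Cfsg.Agent.S0969.result p M hM Z (isPGroup_centerIn hQ) (centerIn_le_center Q) θ
    hdeg').1
  rwa [← IsPBlock_eq_blockOf he hθ] at h1

/-- **Backward direction.** -/
theorem exists_isMaximalBrauerPair_of_canonical {p : ℕ} [Fact p.Prime] (hM : IsPModular p M)
    {Q : Subgroup G} {e : Set (IrrCharacter (Subgroup.centralizer (Q : Set G)))}
    (he : IsBrauerPair p M Q e)
    (θ : IrrCharacter (Subgroup.centralizer (Q : Set G))) (hθ : θ ∈ e)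
    (hdeg : (charDegree (θ : Subgroup.centralizer (Q : Set G) → ℂ)).factorization p +
      (Nat.card ↥(Q ⊓ Subgroup.centralizer (Q : Set G))).factorization p =
      (Nat.card (Subgroup.centralizer (Q : Set G))).factorization p)
    (hstab : ∀ g : G, g ∈ Subgroup.normalizer (Q : Set G) →
      StabilizesBlock (Subgroup.centralizer (Q : Set G)) e g → (∃ k : ℕ, orderOf g = p ^ k) →
      g ∈ Q ⊔ Subgroup.centralizer (Q : Set G)) :
    ∃ B : Set (IrrCharacter G), IsMaximalBrauerPair p M B Q e := by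
  classical
  have hZ := isDefectGroup_centerIn_of_degree hM he.1 he.2 θ hθ hdeg
  obtain ⟨B, hB, -⟩ := Cfsg.Agent.S4657.result p M hM Q e he
  refine ⟨B, hB, ?_⟩
  intro R g hRg hle
  have hQR : Q ≤ R := Cfsg.Agent.S4655.le_le hle
  have hRp : IsPGroup p R := hRg.1.1
  obtain ⟨g', hN⟩ := exists_isNormalSubpair_normalizerIn hM hRg.1 hle
  have hS : R ⊓ Subgroup.normalizer (Q : Set G) ≤ Q ⊔ Subgroup.centralizer (Q : Set G) := by
    intro x hx
    apply hstab x hx.2 (hN.2.2.2.2.1 x hx)
    obtain ⟨k, hk⟩ := (IsPGroup.iff_orderOf.mp hRp) ⟨x, hx.1⟩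
    exact ⟨k, by rw [← hk, Subgroup.orderOf_mk]⟩
  have hEq := eq_of_isNormalSubpair_of_le_sup hM he.2 hZ hN hS
  exact eq_of_inf_normalizer_eq hRp hQR hEq

end Backward

section Forward

variable {G : Type u} [Group G] [Fintype G] {M : Ideal AlgInt}

/-- For a maximal Brauer pair `(Q, e)`, the centre `Z(Q)` is a defect group of `e`. -/
theorem isDefectGroup_centerIn_of_isMaximalBrauerPair {p : ℕ} [Fact p.Prime]
    (hM : IsPModular p M) {B : Set (IrrCharacter G)} {Q : Subgroup G}
    {e : Set (IrrCharacter (Subgroup.centralizer (Q : Set G)))}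
    (hmax : IsMaximalBrauerPair p M B Q e) :
    IsDefectGroup p M e ((Q ⊓ Subgroup.centralizer (Q : Set G)).subgroupOf
      (Subgroup.centralizer (Q : Set G))) := by
  classical
  have hMp := isPModular_isPrime hM
  have hPe : IsBrauerPair p M Q e := hmax.1.1
  have : Fintype ↥(Subgroup.centralizer (Q : Set G)) := Fintype.ofFinite _
  obtain ⟨D, d, hDmax, hZD⟩ := exists_isMaximalBrauerPair_ge_centralizerIn hM hPe
    (Relation.ReflTransGen.refl : SubpairLE p M Q e Q e)
  have hDdef : IsDefectGroup p M e D := isDefectGroup_of_isMaximalBrauerPair hM e D d hDmax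
  have hN := isNormalSubpair_supCent_of_isBrauerPairOf (M := M) Q hPe.1 D hDmax.1
  have : Fintype ↥(Subgroup.centralizer (supCent Q D : Set G)) := Fintype.ofFinite _
  have hBS := isBrauerPairOf_of_isNormalSubpair hM hN hmax.1
  have hEq : supCent Q D = Q := hmax.2 _ _ hBS (Relation.ReflTransGen.single hN)
  have hDZ : D ≤ (Q ⊓ Subgroup.centralizer (Q : Set G)).subgroupOf
      (Subgroup.centralizer (Q : Set G)) := by
    intro c hc
    rw [Subgroup.mem_subgroupOf]
    refine ⟨?_, c.2⟩
    have := coe_mem_supCent Q D hc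
    rwa [hEq] at this
  have : D = (Q ⊓ Subgroup.centralizer (Q : Set G)).subgroupOf
      (Subgroup.centralizer (Q : Set G)) := le_antisymm hDZ hZD
  rw [← this]
  exact hDdef

/-- A block of `C_G(Q)` with defect group `Z(Q)` has a canonical character. -/
theorem exists_canonical_of_isDefectGroup_centerIn {p : ℕ} [Fact p.Prime]
    (hM : IsPModular p M) {Q : Subgroup G} (hQ : IsPGroup p Q)
    {e : Set (IrrCharacter (Subgroup.centralizer (Q : Set G)))} (he : IsPBlock M e)
    (hZ : IsDefectGroup p M e ((Q ⊓ Subgroup.centralizer (Q : Set G)).subgroupOf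
      (Subgroup.centralizer (Q : Set G)))) :
    ∃ θ ∈ e, (∀ z : Subgroup.centralizer (Q : Set G), (z : G) ∈ Q →
        (θ : Subgroup.centralizer (Q : Set G) → ℂ) z =
          (θ : Subgroup.centralizer (Q : Set G) → ℂ) 1) ∧
      (charDegree (θ : Subgroup.centralizer (Q : Set G) → ℂ)).factorization p +
        (Nat.card ↥(Q ⊓ Subgroup.centralizer (Q : Set G))).factorization p =
        (Nat.card (Subgroup.centralizer (Q : Set G))).factorization p := by
  classical
  have hMp := isPModular_isPrime hM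
  have hp : p.Prime := Fact.out
  set Z := (Q ⊓ Subgroup.centralizer (Q : Set G)).subgroupOf (Subgroup.centralizer (Q : Set G))
    with hZdef
  have hZc : Z ≤ Subgroup.center ↥(Subgroup.centralizer (Q : Set G)) := centerIn_le_center Q
  have hZn : Z.Normal := by
    refine ⟨fun z hz c => ?_⟩
    have := Subgroup.mem_center_iff.mp (hZc hz) c
    rw [this, mul_inv_cancel_right]
    exact hz
  have hZp : IsPGroup p Z := isPGroup_centerIn hQ
  obtain ⟨Bbar, hBbar, hinfl, hdef⟩ := Cfsg.Agent.S4434.result p M hM Z hZp e he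
  have hbot : IsDefectGroup p M Bbar ⊥ := by
    rw [hdef]
    exact ⟨Z, hZ, (QuotientGroup.map_mk'_self Z).symm⟩
  have : Fintype (↥(Subgroup.centralizer (Q : Set G)) ⧸ Z) := Fintype.ofFinite _
  have hd0 : blockDefect p Bbar = 0 := by
    have h1 := card_defectGroup hM hBbar hbot
    rw [Subgroup.card_bot] at h1
    by_contra hne
    have : 1 < p ^ blockDefect p Bbar := Nat.one_lt_pow hne hp.one_lt
    omega
  obtain ⟨χb, hχb⟩ := IsPBlock_nonempty hMp.ne_top hBbar
  have hnd := (blockDefect_eq_zero_iff hM hBbar).mp hd0 χb hχb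
  have hdvd := Cfsg.Agent.Lib.Helper79.irr_charDegree_dvd_card χb
  have hfac := (not_dvd_div_iff_factorization_eq hp hdvd Nat.card_pos.ne').mp hnd
  refine ⟨inflate Z χb, hinfl χb hχb (inflate Z χb) rfl, ?_, ?_⟩
  · intro z hz
    exact inflate_apply_of_mem Z χb z (Subgroup.mem_subgroupOf.mpr ⟨hz, z.2⟩)
  · have hdeg : charDegree (inflate Z χb : Subgroup.centralizer (Q : Set G) → ℂ) =
        charDegree (χb : ↥(Subgroup.centralizer (Q : Set G)) ⧸ Z → ℂ) := by
      unfold charDegree
      rw [inflate_apply, QuotientGroup.mk_one]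
    rw [hdeg, hfac, ← Subgroup.index_eq_card]
    have hidx : Z.index * Nat.card Z = Nat.card (Subgroup.centralizer (Q : Set G)) :=
      Subgroup.index_mul_card Z
    have hi0 : Z.index ≠ 0 := Subgroup.index_ne_zero_of_finite
    have hc0 : Nat.card Z ≠ 0 := Nat.card_pos.ne'
    have hcZ : Nat.card Z = Nat.card ↥(Q ⊓ Subgroup.centralizer (Q : Set G)) := card_centerIn Q
    rw [← hidx, Nat.factorization_mul hi0 hc0, hcZ]
    rfl

end Forward

section Stable

variable {G : Type u} [Group G] (N : Subgroup G) [hN : N.Normal] [Fintype N]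

/-- A set of irreducible characters of a normal subgroup whose idempotent coefficients are
invariant under conjugation is stable. -/
theorem isGStable_of_blockCoeff_conj {b : Set (IrrCharacter N)}
    (h : ∀ (g : G) (n : N), blockCoeff b ⟨g * n * g⁻¹, hN.conj_mem n n.2 g⟩ = blockCoeff b n) :
    IsGStable N b := by
  intro θ hθ g
  by_contra hne
  have h1 := Cfsg.Agent.Lib.Helper78.sum_blockCoeff_mul_irr_of_not_mem b hne
  have h2 := Cfsg.Agent.Lib.Helper78.sum_blockCoeff_mul_irr b hθ
  have h3 : ∑ n : N, blockCoeff b n * (conjIrrN N g θ : N → ℂ) n =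
      ∑ n : N, blockCoeff b n * (θ : N → ℂ) n := by
    rw [← Equiv.sum_comp (MulAut.conjNormal g : MulAut N).toEquiv
      (fun n : N => blockCoeff b n * (θ : N → ℂ) n)]
    apply Finset.sum_congr rfl
    intro n _
    have hσ : ((MulAut.conjNormal g : MulAut N).toEquiv n : N) =
        ⟨g * n * g⁻¹, hN.conj_mem n n.2 g⟩ := Subtype.ext (MulAut.conjNormal_apply g n)
    rw [hσ, h g n, conjIrrN_apply]
  rw [h1, h2] at h3
  exact Cfsg.Agent.Lib.Helper79.irr_apply_one_ne_zero θ h3.symm

end Stable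

section ForwardC

variable {G : Type u} [Group G] [Fintype G] {M : Ideal AlgInt}

attribute [local instance] nrmMulAction

open scoped Pointwise

/-- The stabilizer of `e` in `N_G(Q)` as a subgroup. -/
theorem exists_stabilizer (Q : Subgroup G)
    (e : Set (IrrCharacter (Subgroup.centralizer (Q : Set G)))) :
    ∃ T : Subgroup G, ∀ y : G, y ∈ T ↔ y ∈ Subgroup.normalizer (Q : Set G) ∧
      StabilizesBlock (Subgroup.centralizer (Q : Set G)) e y := by
  refine ⟨((MulAction.stabilizer
    (Subgroup.normalizer ((Subgroup.centralizer (Q : Set G) : Subgroup G) : Set G)) e).map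
      (Subgroup.subtype _)) ⊓ Subgroup.normalizer (Q : Set G), ?_⟩
  intro y
  rw [Subgroup.mem_inf, and_comm]
  apply and_congr Iff.rfl
  constructor
  · rintro ⟨u, hu, rfl⟩
    exact (stabilizesBlock_iff _ u e).mpr hu
  · intro h
    exact ⟨⟨y, h.1⟩, (stabilizesBlock_iff _ ⟨y, h.1⟩ e).mp h, rfl⟩

/-- For a maximal Brauer pair `(Q, e)`, every `p`-element of `N_G(Q, e)` lies in `Q C_G(Q)`. -/
theorem mem_sup_centralizer_of_isMaximalBrauerPair {p : ℕ} [Fact p.Prime]
    (hM : IsPModular p M) {B : Set (IrrCharacter G)} {Q : Subgroup G}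
    {e : Set (IrrCharacter (Subgroup.centralizer (Q : Set G)))}
    (hmax : IsMaximalBrauerPair p M B Q e) (g₀ : G)
    (hg₀N : g₀ ∈ Subgroup.normalizer (Q : Set G))
    (hg₀s : StabilizesBlock (Subgroup.centralizer (Q : Set G)) e g₀)
    (hg₀p : ∃ k : ℕ, orderOf g₀ = p ^ k) :
    g₀ ∈ Q ⊔ Subgroup.centralizer (Q : Set G) := by
  classical
  have hMp := isPModular_isPrime hM
  have hp : p.Prime := Fact.out
  have hPe : IsBrauerPair p M Q e := hmax.1.1
  have hQ : IsPGroup p Q := hPe.1
  have he : IsPBlock M e := hPe.2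
  obtain ⟨T, hT⟩ := exists_stabilizer Q e
  have hQT : Q ≤ T := le_stab hT
  have hCT : Subgroup.centralizer (Q : Set G) ≤ T := centralizer_le_stab hT
  have hTN : T ≤ Subgroup.normalizer (Q : Set G) := stab_le_normalizer hT
  have hTs := stab_stabilizes hT
  have : Fintype ↥T := Fintype.ofFinite _
  -- the block of `T` with the idempotent of `e`
  obtain ⟨F', hF', hF'f⟩ := exists_block_of_stable hM Q T hQ hQT hTN hCT e he hTs
  -- its defect group is `Q`
  obtain ⟨D, d, hDmax, -⟩ := exists_isMaximalBrauerPair_ge_normalizerIn hM hT hF' hF'f hPe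
    (Relation.ReflTransGen.refl : SubpairLE p M Q e Q e)
  obtain ⟨R, g, hN, hRT, hDR⟩ :=
    exists_isNormalSubpair_of_isMaximalBrauerPair hM hQ he hT hF' hF'f hDmax
  have : Fintype ↥(Subgroup.centralizer (R : Set G)) := Fintype.ofFinite _
  have : Fintype ↥(Subgroup.centralizer (Q : Set G)) := Fintype.ofFinite _
  have hBR := isBrauerPairOf_of_isNormalSubpair hM hN hmax.1
  have hRQ : R = Q := hmax.2 R g hBR (Relation.ReflTransGen.single hN)
  have hDdef : IsDefectGroup p M F' (Q.subgroupOf T) := by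
    have := isDefectGroup_of_isMaximalBrauerPair hM F' D d hDmax
    rwa [hDR, hRQ] at this
  -- the normal subgroup `Q C_G(Q)` of `T`
  set H : Subgroup G := Q ⊔ Subgroup.centralizer (Q : Set G) with hH
  set N : Subgroup ↥T := H.subgroupOf T with hNdef
  have hNn : N.Normal := by
    refine ⟨fun k hk l => ?_⟩
    rw [hNdef, Subgroup.mem_subgroupOf] at hk ⊢
    have := Cfsg.Agent.Lib.Helper82.conj_mem_sup_centralizer Q (hTN l.2) hk
    simpa using this
  have : Fintype ↥N := Fintype.ofFinite _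
  set QX : Subgroup ↥T := Q.subgroupOf T with hQX
  have hQXp : IsPGroup p QX := hQ.comap_subtype
  have hQXn : QX.Normal := Subgroup.normal_subgroupOf_of_le_normalizer hTN
  have hQXN : QX ≤ N := by
    intro x hx
    rw [hNdef, Subgroup.mem_subgroupOf]
    exact (le_sup_left : Q ≤ H) (Subgroup.mem_subgroupOf.mp hx)
  have hNnorm : N ≤ Subgroup.normalizer (QX : Set ↥T) := by
    rw [Subgroup.normalizer_eq_top]
    exact le_top
  have hCN : Subgroup.centralizer (QX : Set ↥T) ≤ N := by
    intro c hc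
    rw [hNdef, Subgroup.mem_subgroupOf]
    exact (le_sup_right : Subgroup.centralizer (Q : Set G) ≤ H)
      (coe_mem_centralizer_of_subgroupOf T Q hQT hc)
  set fX := pullBlock (centEquivIn T Q hQT hCT) e with hfX
  have hfXb : IsPBlock M fX := isPBlock_pullBlock _ he
  have hstabX : ∀ x ∈ N, StabilizesBlock (Subgroup.centralizer (QX : Set ↥T)) fX x :=
    fun x _ => stabilizesBlock_pullBlock_centEquivIn T Q hQT hCT e x (hTs x x.2)
  obtain ⟨b, hb, hbf⟩ := exists_block_of_stable hM QX N hQXp hQXN hNnorm hCN fX hfXb hstabX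
  -- coefficients of `b`
  have hbcoef : ∀ t : ↥N, blockCoeff b t =
      subgroupBlockCoeff (Subgroup.centralizer (Q : Set G)) e (((t : ↥T) : G)) := by
    intro t
    rw [hbf t, hfX, subgroupBlockCoeff_pullBlock_centEquivIn T Q hQT hCT e (t : ↥T)]
  have hFb : ∀ x : ↥T, blockCoeff F' x = (stableElt N b).coeff x := by
    intro x
    rw [coeff_stableElt_eq_subgroupBlockCoeff, hF'f x]
    by_cases hx : x ∈ N
    · rw [subgroupBlockCoeff_apply_mem N b hx, hbcoef]
    · rw [subgroupBlockCoeff_apply_not_mem N b hx]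
      unfold subgroupBlockCoeff
      rw [dif_neg]
      intro hxC
      apply hx
      rw [hNdef, Subgroup.mem_subgroupOf]
      exact (le_sup_right : Subgroup.centralizer (Q : Set G) ≤ H) hxC
  have hst : IsGStable N b := by
    apply isGStable_of_blockCoeff_conj N
    intro x n
    rw [hbcoef, hbcoef]
    have h1 := hF'f (x * (n : ↥T) * x⁻¹)
    have h2 := hF'f (n : ↥T)
    rw [← h1, ← h2]
    exact isClassFunction_blockCoeff F' (n : ↥T) x
  -- Fong's theorem
  obtain ⟨θ₀, hθ₀⟩ := IsPBlock_nonempty hMp.ne_top hb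
  obtain ⟨χ₀, hχ₀⟩ := exists_irr_over N θ₀
  have hχ₀F : χ₀ ∈ F' := (mem_iff_constituent_mem_of_blockCoeff_eq N hst hFb χ₀ θ₀ hχ₀).mpr hθ₀
  have hfong := fong_main N hM hb hst hF' χ₀ hχ₀F θ₀ hθ₀ hχ₀ (by
    intro B' hB' ⟨χ, hχ, θ, hθ, hne⟩
    have hχF : χ ∈ F' := (mem_iff_constituent_mem_of_blockCoeff_eq N hst hFb χ θ hne).mpr hθ
    rw [IsPBlock_eq_of_mem hB' hF' hχ hχF]) QX hDdef
  have hidx : ¬ p ∣ N.index := by
    have h1 := hfong.1
    rwa [sup_eq_right.mpr hQXN] at h1
  -- the `p`-element `g₀` lies in `N`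
  have hg₀T : g₀ ∈ T := (hT g₀).mpr ⟨hg₀N, hg₀s⟩
  set x₀ : ↥T := ⟨g₀, hg₀T⟩ with hx₀
  obtain ⟨k, hk⟩ := hg₀p
  have hord : orderOf x₀ = p ^ k := by rw [← hk, hx₀, Subgroup.orderOf_mk]
  have h1 : orderOf (QuotientGroup.mk' N x₀) ∣ p ^ k := by
    rw [← hord]
    exact orderOf_map_dvd _ x₀
  have h2 : orderOf (QuotientGroup.mk' N x₀) ∣ N.index := by
    rw [Subgroup.index_eq_card]
    exact orderOf_dvd_natCard _
  have hcop : Nat.Coprime (p ^ k) N.index :=
    Nat.Coprime.pow_left _ ((Nat.Prime.coprime_iff_not_dvd hp).mpr hidx)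
  have h3 : orderOf (QuotientGroup.mk' N x₀) = 1 :=
    Nat.eq_one_of_dvd_coprimes hcop h1 h2
  rw [orderOf_eq_one_iff, QuotientGroup.mk'_apply, QuotientGroup.eq_one_iff] at h3
  rw [hNdef, Subgroup.mem_subgroupOf] at h3
  exact h3

end ForwardC

end Cfsg.Agent.Lib.Helper76
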