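import Mathlib
import Cfsg.Agent.Lib.Helper98.FusionCentralConj
import Cfsg.Agent.Lib.Helper98.OddAutTwoGroups

/-!
# Module `S5323-[EMB]` (helper76, for helper86's S5323 project, board #4183)

A finite group `G` of order `128 m`, `m` odd, into which a group `M0` embeds such that a subgroup `S0 ≤ M0` of
order 128 has no odd-order automorphisms, a unique central involution `z`, and is generated by `M0`-conjugates
of `z`: then the `2`-fusion system of `G` is simple.
-/

set_option autoImplicit false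

namespace Cfsg.Agent.Lib.Helper76.McLFus

open Cfsg

theorem isSimple_of_embedded_data {K G : Type*} [Group K] [Group G] [Finite G]
    (M0 : Subgroup K) (φ : ↥M0 →* G) (hφ : Function.Injective φ)
    (m : ℕ) (hm : Odd m) (hG : Nat.card G = 128 * m)
    (S0 : Subgroup K) (hS0M : S0 ≤ M0) (hS0 : Nat.card S0 = 128)
    (hodd : ∀ α : MulAut ↥S0, Odd (orderOf α) → α = 1)
    (z : K) (hcen : ∀ x ∈ S0, (∀ s ∈ S0, s * x = x * s) → x = 1 ∨ x = z)
    (X : Set K) (hXS : X ⊆ S0) (hgen : S0 ≤ Subgroup.closure X)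
    (hX : ∀ x ∈ X, ∃ h ∈ M0, h * z * h⁻¹ = x)
    (S : Sylow 2 G) : (Cfsg.groupFusionSystem (S : Subgroup G)).IsSimple 2 := by
  have : Fact (Nat.Prime 2) := ⟨Nat.prime_two⟩
  -- the image of `S0` is a Sylow 2-subgroup
  obtain ⟨P, hP⟩ : ∃ P : Subgroup G, P = (S0.subgroupOf M0).map φ := ⟨_, rfl⟩
  have hPcard : Nat.card P = 128 := by
    rw [hP, Subgroup.card_map_of_injective hφ, ← hS0]
    exact Nat.card_congr (Subgroup.subgroupOfEquivOfLe hS0M).toEquiv
  have hfac : (Nat.card G).factorization 2 = 7 := by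
    rw [hG]
    have h128 : (128 : ℕ) = 2 ^ 7 := by norm_num
    rw [h128, Nat.factorization_mul (by positivity) hm.pos.ne', Finsupp.add_apply,
      Nat.Prime.factorization_pow Nat.prime_two, Finsupp.single_eq_same,
      Nat.factorization_eq_zero_of_not_dvd hm.not_two_dvd_nat]
  obtain ⟨P', hP'⟩ : ∃ P' : Sylow 2 G, (P' : Subgroup G) = P :=
    ⟨Sylow.ofCard P (by rw [hPcard, hfac]; norm_num), Sylow.coe_ofCard _ _⟩
  obtain ⟨g, hg⟩ := MulAction.exists_smul_eq G P' S
  -- the embedding `ψ = conj g ∘ φ`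
  obtain ⟨ψ, hψdef⟩ : ∃ ψ : ↥M0 →* G, ψ = (MulAut.conj g).toMonoidHom.comp φ := ⟨_, rfl⟩
  have hψapp : ∀ y : M0, ψ y = g * φ y * g⁻¹ := by
    intro y; rw [hψdef]; rfl
  have hψinj : Function.Injective ψ := by
    rw [hψdef]
    exact (MulAut.conj g).injective.comp hφ
  have hSmem : ∀ s : G, s ∈ (S : Subgroup G) ↔ ∃ y : M0, (y : K) ∈ S0 ∧ ψ y = s := by
    intro s
    rw [← hg, Sylow.coe_subgroup_smul, hP', Subgroup.mem_smul_pointwise_iff_exists]
    constructor
    · rintro ⟨t, ht, rfl⟩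
      rw [hP] at ht
      obtain ⟨y, hy, rfl⟩ := ht
      exact ⟨y, hy, by rw [hψapp]; rfl⟩
    · rintro ⟨y, hy, rfl⟩
      refine ⟨φ y, ?_, by rw [hψapp]; rfl⟩
      rw [hP]
      exact ⟨y, hy, rfl⟩
  have hScard : Nat.card (S : Subgroup G) = 128 := by
    rw [S.card_eq_multiplicity, hfac]; norm_num
  -- 1. `S ≠ ⊥`
  have hS1 : (S : Subgroup G) ≠ ⊥ := by
    intro h
    rw [h, Subgroup.card_bot] at hScard
    norm_num at hScard
  -- the isomorphism `S0 ≃* S`
  have hψS : ∀ x : S0, ψ ⟨x, hS0M x.2⟩ ∈ (S : Subgroup G) := fun x =>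
    (hSmem _).mpr ⟨⟨x, hS0M x.2⟩, x.2, rfl⟩
  let ψ₀ : ↥S0 →* ↥(S : Subgroup G) :=
    { toFun := fun x => ⟨ψ ⟨x, hS0M x.2⟩, hψS x⟩
      map_one' := by
        apply Subtype.ext
        change ψ ⟨(1 : K), _⟩ = 1
        exact map_one ψ
      map_mul' := by
        intro a b
        apply Subtype.ext
        change ψ ⟨(a : K) * (b : K), _⟩ = ψ ⟨a, _⟩ * ψ ⟨b, _⟩
        rw [← map_mul]
        rfl }
  have hψ₀app : ∀ x : S0, ((ψ₀ x : (S : Subgroup G)) : G) = ψ ⟨x, hS0M x.2⟩ := fun x => rfl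
  have hψ₀bij : Function.Bijective ψ₀ := by
    constructor
    · intro a b hab
      have h1 := congrArg Subtype.val hab
      rw [hψ₀app, hψ₀app] at h1
      have h2 := hψinj h1
      apply Subtype.ext
      exact congrArg (fun t : M0 => (t : K)) h2
    · intro s
      obtain ⟨y, hy, hys⟩ := (hSmem s).mp s.2
      refine ⟨⟨y, hy⟩, ?_⟩
      apply Subtype.ext
      rw [hψ₀app]
      exact hys
  let e : ↥S0 ≃* ↥(S : Subgroup G) := MulEquiv.ofBijective ψ₀ hψ₀bij
  have heapp : ∀ x : S0, ((e x : (S : Subgroup G)) : G) = ψ ⟨x, hS0M x.2⟩ := fun x => rfl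
  -- 2. no odd automorphisms of `S`
  have hoddS : ∀ α : MulAut (S : Subgroup G), Odd (orderOf α) → α = 1 := by
    intro α hα
    have h1 : orderOf ((MulAut.congr e).symm α) = orderOf α := MulEquiv.orderOf_eq _ α
    have h2 := hodd ((MulAut.congr e).symm α) (by rw [h1]; exact hα)
    have h3 := congrArg (MulAut.congr e) h2
    rwa [MulEquiv.apply_symm_apply, map_one] at h3
  have hAut := Cfsg.Agent.Lib.Helper98.FusionCyclicQuot.aut_eq_of_forall
    (Cfsg.Agent.Lib.Helper98.OddAut.exists_inner_of_odd_aut_trivial S hoddS)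
  -- 3. generators
  obtain ⟨X', hX'def⟩ : ∃ X' : Set G, X' = {t | ∃ x : S0, (x : K) ∈ X ∧ ψ ⟨x, hS0M x.2⟩ = t} :=
    ⟨_, rfl⟩
  have hX'S : X' ⊆ (S : Subgroup G) := by
    intro t ht
    rw [hX'def] at ht
    obtain ⟨x, _, rfl⟩ := ht
    exact hψS x
  have hgen' : (S : Subgroup G) ≤ Subgroup.closure X' := by
    intro s hs
    obtain ⟨y, hy, rfl⟩ := (hSmem s).mp hs
    have hcl : (y : K) ∈ Subgroup.closure X := hgen hy
    have key : ∀ k : K, k ∈ Subgroup.closure X →
        ∃ hk : k ∈ S0, ψ ⟨k, hS0M hk⟩ ∈ Subgroup.closure X' := by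
      intro k hk
      induction hk using Subgroup.closure_induction with
      | mem x hx =>
        refine ⟨hXS hx, Subgroup.subset_closure ?_⟩
        rw [hX'def]
        exact ⟨⟨x, hXS hx⟩, hx, rfl⟩
      | one =>
        refine ⟨S0.one_mem, ?_⟩
        have : ψ ⟨(1 : K), hS0M S0.one_mem⟩ = 1 := map_one ψ
        rw [this]; exact Subgroup.one_mem _
      | mul a b _ _ iha ihb =>
        obtain ⟨ha, ha'⟩ := iha
        obtain ⟨hb, hb'⟩ := ihb
        refine ⟨S0.mul_mem ha hb, ?_⟩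
        have : ψ ⟨a * b, hS0M (S0.mul_mem ha hb)⟩ = ψ ⟨a, hS0M ha⟩ * ψ ⟨b, hS0M hb⟩ := by
          rw [← map_mul]; rfl
        rw [this]; exact Subgroup.mul_mem _ ha' hb'
      | inv a _ iha =>
        obtain ⟨ha, ha'⟩ := iha
        refine ⟨S0.inv_mem ha, ?_⟩
        have : ψ ⟨a⁻¹, hS0M (S0.inv_mem ha)⟩ = (ψ ⟨a, hS0M ha⟩)⁻¹ := by
          rw [← map_inv]; rfl
        rw [this]; exact Subgroup.inv_mem _ ha'
    obtain ⟨_, h2⟩ := key _ hcl
    exact h2
  -- 4. central involutions are conjugate to the generators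
  have hconj : ∀ z' ∈ (S : Subgroup G), (∀ s ∈ (S : Subgroup G), s * z' = z' * s) →
      orderOf z' = 2 → ∀ x' ∈ X', IsConj z' x' := by
    intro z' hz' hcent ho x' hx'
    obtain ⟨y, hy, rfl⟩ := (hSmem z').mp hz'
    have hycen : ∀ s ∈ S0, s * (y : K) = (y : K) * s := by
      intro s hs
      have h1 := hcent _ (hψS ⟨s, hs⟩)
      rw [← map_mul, ← map_mul] at h1
      have h2 := hψinj h1
      exact congrArg (fun t : M0 => (t : K)) h2
    rcases hcen _ hy hycen with h1 | h1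
    · exfalso
      have : y = 1 := Subtype.ext h1
      rw [this, map_one, orderOf_one] at ho
      norm_num at ho
    · rw [hX'def] at hx'
      obtain ⟨x, hxX, rfl⟩ := hx'
      obtain ⟨h, hhM, hhz⟩ := hX _ hxX
      rw [isConj_iff]
      refine ⟨ψ ⟨h, hhM⟩, ?_⟩
      rw [← map_inv, ← map_mul, ← map_mul]
      congr 1
      apply Subtype.ext
      change h * (y : K) * h⁻¹ = (x : K)
      rw [h1]; exact hhz
  exact Cfsg.Agent.Lib.Helper98.FusionCentralConj.isSimple_of_central_conj 2 S hS1 hAut X' hX'S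
    hgen' hconj

end Cfsg.Agent.Lib.Helper76.McLFus
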