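import Mathlib
import Cfsg.Prelude.Def_Characters
import Cfsg.Prelude.Def_Blocks
import Cfsg.Agent.Lib.Helper76.PRegInd
import Cfsg.Agent.Lib.Helper76.PConj
import Cfsg.Agent.Lib.Helper78.CharMore
import Cfsg.Agent.Lib.Helper79.Integrality

set_option autoImplicit false

namespace Cfsg.Agent.Lib.Helper76

open Cfsg Cfsg.Agent.Lib.Helper3
open scoped ComplexConjugate

section

variable {G : Type*} [Group G] [Fintype G]

/-- `Φ = pRegInd · χ`. -/
noncomputable def pRegMul (p : ℕ) (χ : G → ℂ) : G → ℂ := fun x => pRegInd p G x * χ x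

omit [Fintype G] in
theorem pRegMul_isClassFunction (p : ℕ) {χ : G → ℂ} (hχ : IsClassFunction G χ) :
    IsClassFunction G (pRegMul p χ) := by
  intro x h
  unfold pRegMul
  rw [pRegInd_isClassFunction p G x h, hχ x h]

/-- Inner products of `pRegMul p χ` with irreducible characters are integers. -/
theorem exists_int_classInner_pRegMul {p : ℕ} (hp : p.Prime) {χ : G → ℂ} (hχ : IsCharacter G χ)
    (ψ : IrrCharacter G) : ∃ n : ℤ, classInner (pRegMul p χ) (ψ : G → ℂ) = n := by
  obtain ⟨α, β, hα, hβ, hϑ⟩ := pRegInd_isGeneralizedCharacter (G := G) hp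
  have h1 : pRegMul p χ = α * χ - β * χ := by
    funext x
    unfold pRegMul
    rw [hϑ]
    simp only [Pi.sub_apply, Pi.mul_apply]
    ring
  obtain ⟨n1, hn1⟩ := Cfsg.Agent.Lib.Helper78.IsCharacter.exists_nat_classInner
    (Cfsg.Agent.Lib.Helper80.isCharacter_mul hα hχ) ψ
  obtain ⟨n2, hn2⟩ := Cfsg.Agent.Lib.Helper78.IsCharacter.exists_nat_classInner
    (Cfsg.Agent.Lib.Helper80.isCharacter_mul hβ hχ) ψ
  refine ⟨(n1 : ℤ) - n2, ?_⟩
  rw [h1, classInner_sub_left, hn1, hn2]
  push_cast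
  rfl

end

section core

variable {G : Type*} [Group G] [Fintype G]

open Classical in
/-- Core counting argument for `p`-conjugate characters. -/
theorem pconj_core [Fintype (IrrCharacter G)]
    {p : ℕ} (hp : p.Prime) (χ : IrrCharacter G) (O : Finset (IrrCharacter G)) (hχO : χ ∈ O)
    (hO : ∀ ψ ∈ O, ∀ x : G, ¬ p ∣ orderOf x → (ψ : G → ℂ) x = (χ : G → ℂ) x)
    (hσ : ∀ ψ ∈ O, ∃ σ : ℂ ≃+* ℂ, ∀ x, (ψ : G → ℂ) x = σ ((χ : G → ℂ) x)) :
    (O.card * charDegree (χ : G → ℂ)).factorization p ≤ (Nat.card G).factorization p ∧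
    (p ^ (Nat.card G).factorization p ∣ O.card * charDegree (χ : G → ℂ) →
      p ^ (Nat.card G).factorization p ∣ charDegree (χ : G → ℂ)) := by
  set a := (Nat.card G).factorization p with ha
  set q := p ^ a with hq
  set g' := Nat.card G / q with hg'
  set d := charDegree (χ : G → ℂ) with hd
  set r := O.card with hr
  have hqdvd : q ∣ Nat.card G := Nat.ordProj_dvd _ _
  have hcard : Nat.card G = g' * q := (Nat.div_mul_cancel hqdvd).symm
  have hqpos : 0 < q := pow_pos hp.pos a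
  have hg'pos : 0 < g' := by
    rcases Nat.eq_zero_or_pos g' with h | h
    · rw [h, zero_mul] at hcard
      exact absurd hcard (Nat.card_pos (α := G)).ne'
    · exact h
  have hcop : Nat.Coprime g' p := Nat.coprime_ordCompl hp (Nat.card_pos (α := G)).ne' |>.symm
  have hχ1 : (χ : G → ℂ) 1 = d := Cfsg.Agent.Lib.Helper79.irr_apply_one_eq_charDegree χ
  have hdpos : 0 < d := Cfsg.Agent.Lib.Helper79.irr_charDegree_pos χ
  have hχch : IsCharacter G (χ : G → ℂ) := Cfsg.Agent.Lib.Helper80.isCharacter_of_isIrr χ.2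
  have hχcl : IsClassFunction G (χ : G → ℂ) := IsIrrCharacter.isClassFunction χ.2
  set Φ := pRegMul p (χ : G → ℂ) with hΦ
  have hΦcl : IsClassFunction G Φ := pRegMul_isClassFunction p hχcl
  choose nψ hnψ using fun ψ : IrrCharacter G => exists_int_classInner_pRegMul hp hχch ψ
  set mz := nψ χ with hmz
  -- the real number `Sr`
  set Sr : ℝ := ∑ x : G, if p ∣ orderOf x then 0 else Complex.normSq ((χ : G → ℂ) x) with hSr
  have hSrC : (Sr : ℂ) = ∑ x : G, if p ∣ orderOf x then (0 : ℂ) else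
      (χ : G → ℂ) x * conj ((χ : G → ℂ) x) := by
    rw [hSr]
    push_cast
    refine Finset.sum_congr rfl fun x _ => ?_
    split_ifs
    · simp
    · rw [Complex.mul_conj]
  have hΦval : ∀ x : G, Φ x = if p ∣ orderOf x then 0 else (q : ℂ) * (χ : G → ℂ) x := by
    intro x
    rw [hΦ]
    unfold pRegMul pRegInd
    split_ifs
    · rw [zero_mul]
    · rfl
  have hinnerO : ∀ ψ ∈ O, classInner Φ (ψ : G → ℂ) = (Nat.card G : ℂ)⁻¹ * ((q : ℂ) * Sr) := by
    intro ψ hψ
    unfold classInner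
    congr 1
    rw [hSrC, Finset.mul_sum]
    refine Finset.sum_congr rfl fun x _ => ?_
    rw [hΦval]
    split_ifs with hx
    · rw [zero_mul, mul_zero]
    · rw [hO ψ hψ x hx]; ring
  have hcardC : (Nat.card G : ℂ) = (g' : ℂ) * q := by rw [hcard]; push_cast; ring
  have hqC : (q : ℂ) ≠ 0 := by exact_mod_cast hqpos.ne'
  have hg'C : (g' : ℂ) ≠ 0 := by exact_mod_cast hg'pos.ne'
  have hnO : ∀ ψ ∈ O, nψ ψ = mz := by
    intro ψ hψ
    have h1 := hnψ ψ
    have h2 := hnψ χ
    rw [hinnerO ψ hψ] at h1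
    rw [hinnerO χ hχO] at h2
    have : (nψ ψ : ℂ) = (nψ χ : ℂ) := by rw [← h1, ← h2]
    exact_mod_cast this
  have hSrmz : Sr = (g' : ℝ) * mz := by
    have h2 := hnψ χ
    rw [hinnerO χ hχO, hcardC] at h2
    have : (Sr : ℂ) = (g' : ℂ) * (mz : ℂ) := by
      rw [hmz, ← h2]; field_simp
    exact_mod_cast this
  have hSrpos : 0 < Sr := by
    have h1 : (if p ∣ orderOf (1 : G) then 0 else Complex.normSq ((χ : G → ℂ) 1)) ≤ Sr := by
      rw [hSr]
      apply Finset.single_le_sum (f := fun x : G => if p ∣ orderOf x then 0 else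
        Complex.normSq ((χ : G → ℂ) x)) (fun x _ => ?_) (Finset.mem_univ 1)
      split_ifs
      · exact le_refl 0
      · exact Complex.normSq_nonneg _
    rw [orderOf_one, if_neg (Nat.Prime.not_dvd_one hp), hχ1] at h1
    have h2 : 0 < Complex.normSq (d : ℂ) := by
      rw [Complex.normSq_pos]; exact_mod_cast hdpos.ne'
    linarith
  have hmzpos : 0 < mz := by
    have h1 : (0 : ℝ) < (g' : ℝ) * mz := hSrmz ▸ hSrpos
    have h2 : (0 : ℝ) < g' := by exact_mod_cast hg'pos
    have h3 : (0 : ℝ) < mz := by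
      by_contra h
      push Not at h
      nlinarith
    exact_mod_cast h3
  obtain ⟨m, hm⟩ : ∃ m : ℕ, mz = m := ⟨mz.toNat, (Int.toNat_of_nonneg hmzpos.le).symm⟩
  have hmpos : 0 < m := by
    have : (0 : ℤ) < m := hm ▸ hmzpos
    exact_mod_cast this
  -- integrality: `d ∣ g' * m`
  have hdvd : d ∣ g' * m := by
    let c : G → ℂ := fun x => if p ∣ orderOf x then 0 else conj ((χ : G → ℂ) x)
    have hccl : IsClassFunction G c := by
      intro x h
      simp only [c]
      have : orderOf (h * x * h⁻¹) = orderOf x := by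
        have := orderOf_injective (MulAut.conj h).toMonoidHom (MulAut.conj h).injective x
        simpa using this
      rw [this, hχcl x h]
    have hcint : ∀ x, IsIntegral ℤ (c x) := by
      intro x
      simp only [c]
      split_ifs
      · exact isIntegral_zero
      · have h1 : IsIntegral ℤ ((χ : G → ℂ) x) := by
          obtain ⟨n, ρ, _, hρ⟩ := χ.2
          rw [← hρ]
          exact isIntegral_character ρ x
        exact h1.map (Complex.conjAe.toAlgHom.restrictScalars ℤ)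
    have h1 := isIntegral_sum_mul_div_degree χ c hccl hcint
    have h2 : ∑ x : G, c x * (χ : G → ℂ) x = (Sr : ℂ) := by
      rw [hSrC]
      refine Finset.sum_congr rfl fun x _ => ?_
      simp only [c]
      split_ifs
      · rw [zero_mul]
      · rw [mul_comm]
    rw [h2, hχ1, hSrmz, hm] at h1
    have h3 : (((g' : ℝ) * ((m : ℤ) : ℝ) : ℝ) : ℂ) / (d : ℂ) = (((g' * m : ℕ) : ℚ) / (d : ℚ) : ℚ) := by
      push_cast; ring
    rw [h3] at h1
    obtain ⟨n, hn⟩ := exists_int_of_isIntegral_ratCast _ h1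
    have hdQ : (d : ℚ) ≠ 0 := by exact_mod_cast hdpos.ne'
    have h4 : (n : ℚ) * d = (g' * m : ℕ) := by
      rw [hn]; field_simp
    have h5 : (n * d : ℤ) = ((g' * m : ℕ) : ℤ) := by exact_mod_cast h4
    have h6 : (d : ℤ) ∣ ((g' * m : ℕ) : ℤ) := ⟨n, by rw [← h5]; ring⟩
    exact Int.natCast_dvd_natCast.mp h6
  set e := d.factorization p with he
  have hpe_dvd_m : p ^ e ∣ m := by
    have h1 : p ^ e ∣ d := Nat.ordProj_dvd _ _
    have h2 : p ^ e ∣ g' * m := h1.trans hdvd
    have h3 : Nat.Coprime (p ^ e) g' := Nat.Coprime.pow_left e hcop.symm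
    exact h3.dvd_of_dvd_mul_left h2
  have hpe_le_m : p ^ e ≤ m := Nat.le_of_dvd hmpos hpe_dvd_m
  -- Parseval
  have hΦΦ : classInner Φ Φ = (q : ℂ) * mz := by
    unfold classInner
    have h1 : ∑ x : G, Φ x * conj (Φ x) = (q : ℂ) * q * Sr := by
      rw [hSrC, Finset.mul_sum]
      refine Finset.sum_congr rfl fun x _ => ?_
      rw [hΦval]
      split_ifs
      · simp
      · rw [map_mul, Complex.conj_natCast]; ring
    rw [h1, hcardC, hSrmz]
    push_cast
    field_simp
  have hpars := classInner_self_eq_sum Φ hΦcl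
  rw [hΦΦ] at hpars
  have hpars' : ((q : ℤ) * mz : ℤ) = ∑ ψ : IrrCharacter G, (nψ ψ) ^ 2 := by
    have : (((q : ℤ) * mz : ℤ) : ℂ) = ((∑ ψ : IrrCharacter G, (nψ ψ) ^ 2 : ℤ) : ℂ) := by
      push_cast
      rw [hpars]
      refine Finset.sum_congr rfl fun ψ _ => ?_
      rw [hnψ ψ, map_intCast]; ring
    exact_mod_cast this
  have hsumO : ∑ ψ ∈ O, (nψ ψ) ^ 2 = (r : ℤ) * mz ^ 2 := by
    rw [Finset.sum_congr rfl fun ψ hψ => by rw [hnO ψ hψ], Finset.sum_const, hr]
    simp
  have hle : ∑ ψ ∈ O, (nψ ψ) ^ 2 ≤ ∑ ψ : IrrCharacter G, (nψ ψ) ^ 2 :=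
    Finset.sum_le_univ_sum_of_nonneg fun ψ => sq_nonneg _
  have hrm : r * m ≤ q := by
    rw [hsumO, ← hpars'] at hle
    have h1 : (r : ℤ) * mz ≤ q := by nlinarith
    rw [hm] at h1
    exact_mod_cast h1
  have hrpos : 0 < r := Finset.card_pos.mpr ⟨χ, hχO⟩
  have hfac : (r * d).factorization p = r.factorization p + e := by
    rw [Nat.factorization_mul hrpos.ne' hdpos.ne', Finsupp.add_apply]
  have hrp : p ^ r.factorization p ≤ r := Nat.ordProj_le p hrpos.ne'
  have hchain : p ^ (r.factorization p + e) ≤ r * m := by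
    rw [pow_add]; exact Nat.mul_le_mul hrp hpe_le_m
  refine ⟨?_, ?_⟩
  · rw [hfac]
    exact (Nat.pow_le_pow_iff_right hp.one_lt).mp (hchain.trans hrm)
  · intro hdiv
    have h1 : a ≤ r.factorization p + e := by
      rw [← hfac]
      exact (hp.pow_dvd_iff_le_factorization (Nat.mul_ne_zero hrpos.ne' hdpos.ne')).mp hdiv
    have h2 : q ≤ p ^ (r.factorization p + e) := Nat.pow_le_pow_right hp.pos h1
    have hrmq : r * m = q := le_antisymm hrm (h2.trans hchain)
    -- coefficients outside `O` vanish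
    have hzero : ∀ ψ : IrrCharacter G, ψ ∉ O → nψ ψ = 0 := by
      have hEq : ∑ ψ ∈ O, (nψ ψ) ^ 2 = ∑ ψ : IrrCharacter G, (nψ ψ) ^ 2 := by
        rw [hsumO, ← hpars', hm]
        have : ((r * m : ℕ) : ℤ) = q := by exact_mod_cast hrmq
        push_cast at this
        rw [← this]; ring
      have hsplit := Finset.sum_add_sum_compl O (fun ψ => (nψ ψ) ^ 2)
      rw [hEq] at hsplit
      have hcompl : ∑ ψ ∈ Oᶜ, (nψ ψ) ^ 2 = 0 := by linarith
      intro ψ hψ
      have := (Finset.sum_eq_zero_iff_of_nonneg (fun ψ _ => sq_nonneg (nψ ψ))).mp hcompl ψ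
        (Finset.mem_compl.mpr hψ)
      exact pow_eq_zero_iff (two_ne_zero) |>.mp this
    -- pointwise expansion of `Φ`
    have hexp : ∀ u : G, Φ u = ∑ ψ ∈ O, (mz : ℂ) * (ψ : G → ℂ) u := by
      intro u
      have h := congrFun (classFunction_expansion Φ hΦcl) u
      rw [Finset.sum_apply] at h
      rw [h, ← Finset.sum_subset (Finset.subset_univ O)]
      · refine Finset.sum_congr rfl fun ψ hψ => ?_
        rw [Pi.smul_apply, smul_eq_mul, hnψ ψ, hnO ψ hψ]
      · intro ψ _ hψ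
        rw [Pi.smul_apply, smul_eq_mul, hnψ ψ, hzero ψ hψ]
        simp
    -- Sylow subgroup
    have : Fact p.Prime := ⟨hp⟩
    obtain ⟨P⟩ : Nonempty (Sylow p G) := inferInstance
    haveI : Fintype (P : Subgroup G) := Fintype.ofFinite _
    have hPcard : Nat.card (P : Subgroup G) = q := Sylow.card_eq_multiplicity P
    have hsumΦ : ∑ u : (P : Subgroup G), Φ (u : G) = (q : ℂ) * d := by
      rw [Finset.sum_eq_single (1 : (P : Subgroup G))]
      · rw [hΦval, Subgroup.coe_one, orderOf_one, if_neg (Nat.Prime.not_dvd_one hp), hχ1]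
      · intro u _ hu
        rw [hΦval, if_pos]
        obtain ⟨k, hk⟩ := (IsPGroup.iff_orderOf.mp P.isPGroup') u
        rw [Subgroup.orderOf_coe, hk]
        have hk0 : k ≠ 0 := by
          rintro rfl
          rw [pow_zero, orderOf_eq_one_iff] at hk
          exact hu hk
        exact dvd_pow_self p hk0
      · intro h; exact absurd (Finset.mem_univ _) h
    -- multiplicity of the trivial character in `χ|P`
    obtain ⟨n₀, hn₀⟩ := Cfsg.Agent.Lib.Helper78.IsCharacter.exists_nat_classInner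
      (Cfsg.Agent.Lib.Helper80.isCharacter_restrict (P : Subgroup G) hχch)
      ⟨fun _ => 1, Cfsg.Agent.Lib.Helper78.isIrrCharacter_one⟩
    have hsumχ : ∑ u : (P : Subgroup G), (χ : G → ℂ) (u : G) = (q : ℂ) * n₀ := by
      unfold classInner at hn₀
      simp only [map_one, mul_one] at hn₀
      rw [hPcard] at hn₀
      rw [← hn₀]; field_simp
    have hsumψ : ∀ ψ ∈ O, ∑ u : (P : Subgroup G), (ψ : G → ℂ) (u : G) = (q : ℂ) * n₀ := by
      intro ψ hψ
      obtain ⟨σ, hσψ⟩ := hσ ψ hψ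
      have h1 : ∑ u : (P : Subgroup G), (ψ : G → ℂ) (u : G) =
          ∑ u : (P : Subgroup G), σ ((χ : G → ℂ) (u : G)) :=
        Finset.sum_congr rfl fun u _ => hσψ (u : G)
      rw [h1, ← map_sum, hsumχ]
      simp
    have hfinal : (q : ℂ) * d = (q : ℂ) * ((q : ℂ) * n₀) := by
      have h1 : ∑ u : (P : Subgroup G), Φ (u : G) =
          ∑ u : (P : Subgroup G), ∑ ψ ∈ O, (mz : ℂ) * (ψ : G → ℂ) (u : G) :=
        Finset.sum_congr rfl fun u _ => hexp (u : G)
      have h2 : ∑ ψ ∈ O, ∑ u : (P : Subgroup G), (mz : ℂ) * (ψ : G → ℂ) (u : G) =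
          ∑ ψ ∈ O, (mz : ℂ) * ((q : ℂ) * n₀) :=
        Finset.sum_congr rfl fun ψ hψ => by rw [← Finset.mul_sum, hsumψ ψ hψ]
      rw [← hsumΦ, h1, Finset.sum_comm, h2, Finset.sum_const, hm, nsmul_eq_mul, ← hr]
      have : ((r * m : ℕ) : ℂ) = q := by exact_mod_cast hrmq
      push_cast at this ⊢
      rw [← mul_assoc, this]
    have hd_eq : (d : ℂ) = ((q * n₀ : ℕ) : ℂ) := by
      have := mul_left_cancel₀ hqC hfinal
      rw [this]; push_cast; ring
    have : d = q * n₀ := by exact_mod_cast hd_eq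
    exact ⟨n₀, this⟩

end core

end Cfsg.Agent.Lib.Helper76
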