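import Mathlib
import Cfsg.Prelude.Def_Local
import Cfsg.Agent.Lib.Helper76.PCore
import Cfsg.Agent.Lib.Helper76.ThompsonAB

/-!
# `p`-constrained quotients and centralizers of `p`-subgroups (helper76)

* `centralizer_pCore_quotient_le` : if `C_G(Q) ≤ O_{p',p}(G)` for a `p`-subgroup `Q ≤ O_{p',p}(G)`
  then `C_W(O_p(W)) ≤ O_p(W)` for `W = G / O_{p'}(G)`.
* `exists_pSubgroup_quotient_centralizer` : if `K ⊴ G` is a `p'`-group and `P̄ ⊴ G/K` is a
  `p`-subgroup containing its centralizer, then for every `p`-subgroup `R` of `G` the group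
  `C_G(R) / C_K(R)` has a normal `p`-subgroup whose centralizer is a `p`-group.
-/

set_option autoImplicit false

namespace Cfsg.Agent.Lib.Helper76

open Cfsg

section Constrained

variable {G : Type*} [Group G]

theorem pPrimeCore_le_pPrimePCore (p : ℕ) : pPrimeCore p G ≤ pPrimePCore p G := by
  intro k hk
  unfold pPrimePCore
  rw [Subgroup.mem_comap]
  have : (QuotientGroup.mk' (pPrimeCore p G)) k = 1 := by
    rw [QuotientGroup.mk'_apply, QuotientGroup.eq_one_iff]
    exact hk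
  rw [this]
  exact Subgroup.one_mem _

/-- If `C_G(Q) ≤ O_{p',p}(G)` for a `p`-subgroup `Q ≤ O_{p',p}(G)`, then `G / O_{p'}(G)` is
`p`-constrained: the centralizer of `O_p` lies in `O_p`. -/
theorem centralizer_pCore_quotient_le [Finite G] (p : ℕ) [Fact p.Prime] (Q : Subgroup G)
    (hQL : Q ≤ pPrimePCore p G) (hQp : IsPGroup p Q)
    (hCQ : Subgroup.centralizer (Q : Set G) ≤ pPrimePCore p G) :
    Subgroup.centralizer ((pCore p (G ⧸ pPrimeCore p G) : Subgroup (G ⧸ pPrimeCore p G)) :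
      Set (G ⧸ pPrimeCore p G)) ≤ pCore p (G ⧸ pPrimeCore p G) := by
  have hp : p.Prime := Fact.out
  have hKcop : (Nat.card (pPrimeCore p G)).Coprime p := pPrimeCore_coprime p
  have hK : ¬ p ∣ Nat.card (pPrimeCore p G) := (Nat.Prime.coprime_iff_not_dvd hp).mp hKcop.symm
  intro x hx
  obtain ⟨a, rfl⟩ := QuotientGroup.mk_surjective x
  rw [Subgroup.mem_centralizer_iff] at hx
  have ha : ∀ q ∈ Q, a * q * a⁻¹ * q⁻¹ ∈ pPrimeCore p G := by
    intro q hq
    have hq' : ((q : G) : G ⧸ pPrimeCore p G) ∈ pCore p (G ⧸ pPrimeCore p G) := hQL hq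
    have h1 := hx _ hq'
    rw [← QuotientGroup.eq_one_iff]
    rw [QuotientGroup.mk_mul, QuotientGroup.mk_mul, QuotientGroup.mk_mul, QuotientGroup.mk_inv,
      QuotientGroup.mk_inv, ← h1]
    group
  obtain ⟨k, hk, c, hc, rfl⟩ := exists_mem_centralizer_mul (pPrimeCore p G) hK Q hQp a ha
  have hkc : k * c ∈ pPrimePCore p G :=
    Subgroup.mul_mem _ (pPrimeCore_le_pPrimePCore p hk) (hCQ hc)
  exact hkc

end Constrained

section Local

variable {G : Type*} [Group G]

/-- For a `p'`-group `K ⊴ G` and a normal `p`-subgroup `P̄` of `G / K` containing its centralizer: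
`C_G(R) / C_K(R)` has a normal `p`-subgroup whose centralizer is a `p`-group, for every
`p`-subgroup `R`. -/
theorem exists_pSubgroup_quotient_centralizer [Finite G] {p : ℕ} [Fact p.Prime]
    (K : Subgroup G) [hKn : K.Normal] (hK : ¬ p ∣ Nat.card K)
    (Pb : Subgroup (G ⧸ K)) [hPn : Pb.Normal] (hPb : IsPGroup p Pb)
    (hcent : Subgroup.centralizer (Pb : Set (G ⧸ K)) ≤ Pb)
    (R : Subgroup G) (hR : IsPGroup p R) :
    ∃ T : Subgroup (↥(Subgroup.centralizer (R : Set G)) ⧸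
        K.subgroupOf (Subgroup.centralizer (R : Set G))),
      T.Normal ∧ IsPGroup p T ∧ IsPGroup p (Subgroup.centralizer
        (T : Set (↥(Subgroup.centralizer (R : Set G)) ⧸
          K.subgroupOf (Subgroup.centralizer (R : Set G))))) := by
  have hp : p.Prime := Fact.out
  set C := Subgroup.centralizer (R : Set G) with hCdef
  -- the embedding of `C / (K ∩ C)` into `G / K`
  have hle : K.subgroupOf C ≤ K.comap C.subtype := le_rfl
  set ψ : ↥C ⧸ K.subgroupOf C →* G ⧸ K := QuotientGroup.map (K.subgroupOf C) K C.subtype hle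
    with hψ
  have hψmk : ∀ c : C, ψ (c : ↥C ⧸ K.subgroupOf C) = ((c : G) : G ⧸ K) := fun c => rfl
  have hψinj : Function.Injective ψ := by
    rw [injective_iff_map_eq_one]
    intro x hx
    obtain ⟨c, rfl⟩ := QuotientGroup.mk_surjective x
    rw [hψmk, QuotientGroup.eq_one_iff] at hx
    rw [QuotientGroup.eq_one_iff]
    exact hx
  refine ⟨Pb.comap ψ, Subgroup.Normal.comap hPn ψ, hPb.comap_of_injective ψ hψinj, ?_⟩
  -- the centralizer is a `p`-group
  intro y
  obtain ⟨j, m, hm, hjm⟩ := Nat.exists_eq_pow_mul_and_not_dvd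
    (orderOf_pos (y : ↥C ⧸ K.subgroupOf C)).ne' p hp.ne_one
  refine ⟨j, ?_⟩
  apply Subtype.ext
  rw [Subgroup.coe_pow, Subgroup.coe_one]
  apply hψinj
  rw [map_one]
  set ab : G ⧸ K := ψ ((y : ↥C ⧸ K.subgroupOf C) ^ p ^ j) with hab
  have hmcop : Nat.Coprime m p := (Nat.Prime.coprime_iff_not_dvd hp).mpr hm |>.symm
  have habm : ab ^ m = 1 := by
    rw [hab, ← map_pow, ← pow_mul, ← hjm, pow_orderOf_eq_one, map_one]
  have hcop : (orderOf ab).Coprime p :=
    Nat.Coprime.coprime_dvd_left (orderOf_dvd_of_pow_eq_one habm) hmcop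
  have hy : (y : ↥C ⧸ K.subgroupOf C) ∈ Subgroup.centralizer
      ((Pb.comap ψ : Subgroup (↥C ⧸ K.subgroupOf C)) : Set (↥C ⧸ K.subgroupOf C)) := y.2
  rw [Subgroup.mem_centralizer_iff] at hy
  -- `ab` commutes with the image of `R`
  have haB : ∀ b ∈ R.map (QuotientGroup.mk' K), ab * b = b * ab := by
    rintro _ ⟨r, hr, rfl⟩
    obtain ⟨c, hc⟩ := QuotientGroup.mk_surjective ((y : ↥C ⧸ K.subgroupOf C) ^ p ^ j)
    rw [hab, ← hc, hψmk, QuotientGroup.mk'_apply, ← QuotientGroup.mk_mul, ← QuotientGroup.mk_mul]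
    have h1 := Subgroup.mem_centralizer_iff.mp c.2 r hr
    rw [h1]
  have haP : ∀ x ∈ Pb, ab * x * ab⁻¹ ∈ Pb := fun x hx => hPn.conj_mem x hx ab
  have hBP : ∀ b ∈ R.map (QuotientGroup.mk' K), ∀ x ∈ Pb, b * x * b⁻¹ ∈ Pb :=
    fun b _ x hx => hPn.conj_mem x hx b
  have hCfix : ∀ x ∈ Pb, (∀ b ∈ R.map (QuotientGroup.mk' K), b * x = x * b) →
      ab * x = x * ab := by
    intro x hx hxB
    obtain ⟨l, rfl⟩ := QuotientGroup.mk_surjective x
    have hl : ∀ r ∈ R, l * r * l⁻¹ * r⁻¹ ∈ K := by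
      intro r hr
      have h1 := hxB _ ⟨r, hr, rfl⟩
      rw [QuotientGroup.mk'_apply] at h1
      rw [← QuotientGroup.eq_one_iff]
      rw [QuotientGroup.mk_mul, QuotientGroup.mk_mul, QuotientGroup.mk_mul, QuotientGroup.mk_inv,
        QuotientGroup.mk_inv, ← h1]
      group
    obtain ⟨k, hk, c, hc, rfl⟩ := exists_mem_centralizer_mul K hK R hR l hl
    have hkc : ((k * c : G) : G ⧸ K) = ((c : G) : G ⧸ K) := by
      rw [QuotientGroup.mk_mul, (QuotientGroup.eq_one_iff k).mpr hk, one_mul]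
    rw [hkc] at hx ⊢
    have hcT : ((⟨c, hc⟩ : C) : ↥C ⧸ K.subgroupOf C) ∈ Pb.comap ψ := by
      rw [Subgroup.mem_comap, hψmk]
      exact hx
    have h2 := hy _ hcT
    have h3 : Commute ((⟨c, hc⟩ : C) : ↥C ⧸ K.subgroupOf C) (y : ↥C ⧸ K.subgroupOf C) := h2
    have h4 := (h3.pow_right (p ^ j)).eq
    have h5 := congrArg ψ h4
    rw [map_mul, map_mul, hψmk] at h5
    exact h5.symm
  have hcentral := thompson_AxB ab hcop (R.map (QuotientGroup.mk' K)) Pb (hR.map _) hPb haB haP hBP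
    hCfix
  have habP : ab ∈ Pb := by
    apply hcent
    rw [Subgroup.mem_centralizer_iff]
    intro x hx
    exact (hcentral x hx).symm
  obtain ⟨i, hi⟩ := hPb ⟨ab, habP⟩
  have hi' : ab ^ p ^ i = 1 := by
    have := congrArg Subtype.val hi
    rwa [Subgroup.coe_pow, Subgroup.coe_one] at this
  exact eq_one_of_pow_eq_one_of_coprime p ab m i hmcop habm hi'

end Local

end Cfsg.Agent.Lib.Helper76
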