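import Cfsg.Agent.Lib.Helper76.FongInv
import Cfsg.Agent.Lib.Helper76.PConstrained
import Cfsg.Agent.Lib.Helper16.InducedPair
import Cfsg.Agent.Lib.Helper16.InducedCent
import Cfsg.Agent.Lib.Helper81.GlaubermanRel

/-!
# Blocks of principal type over an invariant character of `O_{p'}(G)` (helper76)

`K ⊴ G` a `p'`-group, `G / K` with a normal `p`-subgroup containing its centralizer, `θ ∈ Irr(K)`
invariant in `G`.  Then `B = Irr(G | θ)` is a block with Sylow defect groups, and for every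
`p`-subgroup `R` exactly one block of `C_G(R)` induces `B`: the block of characters over the
Glauberman correspondent of `θ`.
-/

set_option autoImplicit false
set_option linter.unusedSectionVars false

namespace Cfsg.Agent.Lib.Helper76

open Cfsg Cfsg.Agent.Lib.Helper16 Cfsg.Agent.Lib.Helper78 Cfsg.Agent.Lib.Helper77 MonoidAlgebra
open scoped ComplexConjugate

universe u

section KeyLemma

variable {M : Ideal AlgInt} {H : Type u} [Group H] [Fintype H] (N : Subgroup H) [hN : N.Normal]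
  [Fintype N]

open scoped Classical in
/-- Let `τ` be an `H`-invariant character of the normal subgroup `N` all of whose irreducible
constituents other than the invariant `φ₀` have multiplicity divisible by `p`.  If `ξ ∈ Irr(H)`
does not annihilate (modulo the ideal) the element `∑ c₀ conj(τ n) n`, then `ξ` lies over `φ₀`. -/
theorem over_of_sum_not_memLocalIdeal {p : ℕ} [Fact p.Prime] (hM : IsPModular p M)
    (τ : N → ℂ) (hτ : IsCharacter N τ)
    (hτinv : ∀ (h : H) (n : N), τ ⟨h * n * h⁻¹, hN.conj_mem n n.2 h⟩ = τ n)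
    (φ₀ : IrrCharacter N)
    (hφ₀inv : ∀ (h : H) (n : N),
      (φ₀ : N → ℂ) ⟨h * n * h⁻¹, hN.conj_mem n n.2 h⟩ = (φ₀ : N → ℂ) n)
    (hdiv : ∀ φ : IrrCharacter N, φ ≠ φ₀ → ∃ m : ℕ, classInner τ (φ : N → ℂ) = m ∧ p ∣ m)
    (c₀ : ℂ) (hc₀ : MemLocalRing M c₀) (ξ : IrrCharacter H)
    (hω : ¬ MemLocalIdeal M ((∑ n : N, c₀ * conj (τ n) * (ξ : H → ℂ) n) / (ξ : H → ℂ) 1)) :
    classInner (fun n : N => (ξ : H → ℂ) n) (φ₀ : N → ℂ) ≠ 0 := by
  have hMp := isPModular_isPrime hM
  have hMtop : M ≠ ⊤ := hMp.ne_top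
  intro h0
  apply hω
  choose m hm using fun φ : IrrCharacter N => IsCharacter.exists_nat_classInner hτ φ
  have hexp : ∀ n : N, τ n = ∑ φ : IrrCharacter N, (m φ : ℂ) * (φ : N → ℂ) n := by
    intro n
    have h1 := congrFun (IsCharacter.eq_sum_irr hτ) n
    simp only [Finset.sum_apply, Pi.smul_apply, smul_eq_mul, hm] at h1
    exact h1
  have hconj : ∀ n : N, conj (τ n) = ∑ φ : IrrCharacter N, (m φ : ℂ) * conj ((φ : N → ℂ) n) := by
    intro n
    rw [hexp n, map_sum]
    refine Finset.sum_congr rfl fun φ _ => ?_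
    rw [map_mul, Complex.conj_natCast]
  -- the remainder
  set r : N → ℂ := fun n => c₀ * conj (τ n) - c₀ * (m φ₀ : ℂ) * conj ((φ₀ : N → ℂ) n) with hr
  have hr_eq : ∀ n : N, r n = c₀ * ∑ φ ∈ Finset.univ.erase φ₀,
      (m φ : ℂ) * conj ((φ : N → ℂ) n) := by
    intro n
    show c₀ * conj (τ n) - c₀ * (m φ₀ : ℂ) * conj ((φ₀ : N → ℂ) n) = _
    rw [hconj n, ← Finset.add_sum_erase Finset.univ _ (Finset.mem_univ φ₀)]
    ring
  have hr_ideal : ∀ n : N, MemLocalIdeal M (r n) := by
    intro n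
    rw [hr_eq n]
    apply memLocalIdeal_mul_left hc₀
    apply memLocalIdeal_sum
    intro φ hφ
    have hne : φ ≠ φ₀ := (Finset.mem_erase.mp hφ).1
    obtain ⟨m', hm', hpm'⟩ := hdiv φ hne
    have hmm : m φ = m' := by
      have := (hm φ).symm.trans hm'
      exact_mod_cast this
    rw [hmm]
    apply memLocalIdeal_mul_right ((memLocalIdeal_natCast_iff hM m').mpr hpm')
    apply memLocalRing_of_isIntegral hMtop
    exact map_isIntegral_int (starRingEnd ℂ)
      (IsCharacter.isIntegral (IsIrrCharacter.isCharacter φ.2) n)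
  have hr_inv : ∀ (h : H) (n : N), r ⟨h * n * h⁻¹, hN.conj_mem n n.2 h⟩ = r n := by
    intro h n
    show c₀ * conj (τ _) - c₀ * (m φ₀ : ℂ) * conj ((φ₀ : N → ℂ) _) = _
    rw [hτinv h n, hφ₀inv h n]
  -- the central element
  set z₁ : MonoidAlgebra ℂ H := ofFun (fun h : H => if hh : h ∈ N then r ⟨h, hh⟩ else 0) with hz₁
  have hz₁c : z₁ ∈ Subalgebra.center ℂ (MonoidAlgebra ℂ H) := by
    apply mem_center_of_coeff_conj
    intro g h
    rw [hz₁, coeff_ofFun, coeff_ofFun]
    by_cases hg : g ∈ N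
    · have hg' : h * g * h⁻¹ ∈ N := hN.conj_mem g hg h
      rw [dif_pos hg, dif_pos hg']
      exact hr_inv h ⟨g, hg⟩
    · have hg' : h * g * h⁻¹ ∉ N := by
        intro hc
        apply hg
        have := hN.conj_mem _ hc h⁻¹
        simpa [mul_assoc] using this
      rw [dif_neg hg, dif_neg hg']
  have hz₁I : CoeffsInIdeal M z₁ := by
    intro g
    rw [hz₁, coeff_ofFun]
    by_cases hg : g ∈ N
    · rw [dif_pos hg]
      exact hr_ideal _
    · rw [dif_neg hg]
      exact memLocalIdeal_zero hMtop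
  have h1 := omega_memLocalIdeal_of_coeffsInIdeal ξ hz₁c hz₁I
  have h2 : ∑ g : H, z₁.coeff g * (ξ : H → ℂ) g = ∑ n : N, r n * (ξ : H → ℂ) n := by
    symm
    apply Fintype.sum_of_injective (Subtype.val : N → H) Subtype.val_injective
    · intro g hg
      have hgN : g ∉ N := by
        intro hc
        exact hg ⟨⟨g, hc⟩, rfl⟩
      rw [hz₁, coeff_ofFun, dif_neg hgN, zero_mul]
    · intro n
      rw [hz₁, coeff_ofFun, dif_pos n.2]
  have h3 : ∑ n : N, c₀ * conj (τ n) * (ξ : H → ℂ) n = ∑ n : N, r n * (ξ : H → ℂ) n := by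
    have h4 : ∀ n : N, c₀ * conj (τ n) * (ξ : H → ℂ) n =
        c₀ * (m φ₀ : ℂ) * ((ξ : H → ℂ) n * conj ((φ₀ : N → ℂ) n)) + r n * (ξ : H → ℂ) n := by
      intro n
      show _ = _ + (c₀ * conj (τ n) - c₀ * (m φ₀ : ℂ) * conj ((φ₀ : N → ℂ) n)) * _
      ring
    rw [Finset.sum_congr rfl (fun n _ => h4 n), Finset.sum_add_distrib, ← Finset.mul_sum]
    have h5 : ∑ n : N, (ξ : H → ℂ) n * conj ((φ₀ : N → ℂ) n) = 0 := by
      unfold classInner at h0
      have hN0 : ((Nat.card N : ℂ))⁻¹ ≠ 0 := by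
        apply inv_ne_zero
        exact_mod_cast Nat.card_pos.ne'
      exact (mul_eq_zero.mp h0).resolve_left hN0
    rw [h5, mul_zero, zero_add]
  rw [h3, ← h2]
  exact h1

end KeyLemma

section CentPair

variable {M : Ideal AlgInt} {G : Type u} [Group G] [Fintype G]

/-- For `H = C_G(P)` the induced central character is the Brauer central character. -/
theorem inducedCentralChar_centralizer (P : Subgroup G)
    (ξ : ↥(Subgroup.centralizer (P : Set G)) → ℂ) (g : G) :
    inducedCentralChar (Subgroup.centralizer (P : Set G)) ξ g =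
      brauerCentralChar P (Subgroup.centralizer (P : Set G)) ξ g := by
  unfold inducedCentralChar brauerCentralChar
  have : {h : ↥(Subgroup.centralizer (P : Set G)) | IsConj g (h : G)} =
      {h : ↥(Subgroup.centralizer (P : Set G)) | IsConj g (h : G) ∧
        (h : G) ∈ Subgroup.centralizer (P : Set G)} := by
    ext h
    simp only [Set.mem_ofPred_eq]
    exact ⟨fun hh => ⟨hh, h.2⟩, fun hh => hh.1⟩
  rw [this]

/-- A `B`-pair `(P, c)` has `c^G = B`, for an arbitrary `p`-subgroup `P`. -/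
theorem isInducedBlock_centralizer_of_isBrauerPairOf {p : ℕ} [Fact p.Prime]
    (hM : IsPModular p M) {B : Set (IrrCharacter G)} {P : Subgroup G}
    {c : Set (IrrCharacter (Subgroup.centralizer (P : Set G)))}
    (hpair : IsBrauerPairOf p M B P c) :
    IsInducedBlock M (Subgroup.centralizer (P : Set G)) c B := by
  classical
  have hMp := isPModular_isPrime hM
  have : Fintype ↥(Subgroup.centralizer (P : Set G)) := Fintype.ofFinite _
  obtain ⟨⟨hP, hc⟩, hB, hbr⟩ := hpair
  have hCN : Subgroup.centralizer (P : Set G) ≤ Subgroup.normalizer (P : Set G) :=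
    Subgroup.centralizer_le_normalizer _
  obtain ⟨ξ, hξ⟩ := IsPBlock_nonempty hMp.ne_top hc
  obtain ⟨χ₀, hχ₀⟩ := exists_irr_brauerLam hM P (Subgroup.centralizer (P : Set G)) hP le_rfl hCN ξ
  have hcc : ∀ x : G, MemLocalIdeal M (brauerCentralChar P (Subgroup.centralizer (P : Set G))
      (ξ : ↥(Subgroup.centralizer (P : Set G)) → ℂ) x - centralChar (χ₀ : G → ℂ) x) := by
    intro x
    have := hχ₀ (classSumC x) (classSumC_mem_centerOrder x)
    rw [omegaHom_classSumC] at this
    change MemLocalIdeal M (brauerLam P _ (ξ : ↥(Subgroup.centralizer (P : Set G)) → ℂ)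
      (classSum x) - _) at this
    rwa [brauerLam_classSum] at this
  have hind : IsInducedBlock M (Subgroup.centralizer (P : Set G))
      (blockOf M (ξ : ↥(Subgroup.centralizer (P : Set G)) → ℂ)) (blockOf M (χ₀ : G → ℂ)) := by
    refine ⟨isPBlock_blockOf ξ, isPBlock_blockOf χ₀, fun ξ' hξ' χ hχ g => ?_⟩
    rw [inducedCentralChar_centralizer]
    have h2 := brauerCentralChar_congr_of_sameBlock (M := M) P
      (Subgroup.centralizer (P : Set G)) hCN (sameBlock_symm hξ') g
    have h3 : MemLocalIdeal M (centralChar (χ₀ : G → ℂ) g - centralChar (χ : G → ℂ) g) := hχ g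
    exact memLocalIdeal_sub_trans (memLocalIdeal_sub_trans h2 (hcc g)) h3
  have hχ₀B : χ₀ ∈ B := by
    by_contra hcon
    have h1 := hχ₀ (idemC B) (idemC_mem_centerOrder hB)
    rw [omegaHom_idemC, if_neg hcon, sub_zero] at h1
    have h4 : brauerLam P (Subgroup.centralizer (P : Set G))
        (ξ : ↥(Subgroup.centralizer (P : Set G)) → ℂ)
        ((idemC B : Subalgebra.center ℂ (MonoidAlgebra ℂ G)) : MonoidAlgebra ℂ G) =
        brauerOmega P (blockCoeff B) (ξ : Subgroup.centralizer (P : Set G) → ℂ) := by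
      rw [brauerLam_apply]
      show omega _ (brP P _ (idemOf B)) = _
      unfold brauerOmega omega
      rw [finsum_eq_sum_of_fintype, Finset.sum_div]
      refine Finset.sum_congr rfl fun x _ => ?_
      rw [coeff_brP, if_pos x.2, coeff_idemOf]
    rw [h4] at h1
    have h5 := memLocalIdeal_sub (hbr ξ hξ) h1
    have h6 : brauerOmega P (blockCoeff B) (ξ : Subgroup.centralizer (P : Set G) → ℂ) - 1 -
        brauerOmega P (blockCoeff B) (ξ : Subgroup.centralizer (P : Set G) → ℂ) = -1 := by ring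
    rw [h6, memLocalIdeal_neg_iff] at h5
    exact one_not_memLocalIdeal h5
  rw [IsPBlock_eq_blockOf hB hχ₀B, IsPBlock_eq_blockOf hc hξ]
  exact hind

end CentPair

section Glauberman

variable {G : Type u} [Group G] (K : Subgroup G) [hKn : K.Normal] (R : Subgroup G)

/-- The conjugation action of `R` on the normal subgroup `K`. -/
def conjActOn : ↥R →* MulAut ↥K := (MulAut.conjNormal (H := K)).comp R.subtype

theorem conjActOn_apply (x : R) (k : K) :
    ((conjActOn K R x k : K) : G) = (x : G) * (k : G) * (x : G)⁻¹ := rfl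

theorem mem_centralizer_of_mem_fixSub (k : K)
    (hk : k ∈ Cfsg.Agent.Lib.Helper81.fixSub (conjActOn K R)) :
    (k : G) ∈ Subgroup.centralizer (R : Set G) := by
  rw [Subgroup.mem_centralizer_iff]
  intro r hr
  have h1 := hk ⟨r, hr⟩
  have h2 : r * (k : G) * r⁻¹ = (k : G) := congrArg Subtype.val h1
  calc r * (k : G) = (r * (k : G) * r⁻¹) * r := by group
    _ = (k : G) * r := by rw [h2]

theorem mem_fixSub_of_mem_centralizer (k : K) (hk : (k : G) ∈ Subgroup.centralizer (R : Set G)) :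
    k ∈ Cfsg.Agent.Lib.Helper81.fixSub (conjActOn K R) := by
  intro x
  apply Subtype.ext
  rw [conjActOn_apply]
  have := Subgroup.mem_centralizer_iff.mp hk x x.2
  rw [this]
  group

/-- `C_K(R)` as the fixed subgroup of the action, and as a subgroup of `C_G(R)`. -/
def fixEquiv : ↥(Cfsg.Agent.Lib.Helper81.fixSub (conjActOn K R)) ≃*
    ↥(K.subgroupOf (Subgroup.centralizer (R : Set G))) where
  toFun k := ⟨⟨((k : K) : G), mem_centralizer_of_mem_fixSub K R k k.2⟩,
    Subgroup.mem_subgroupOf.mpr (k : K).2⟩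
  invFun n := ⟨⟨((n : ↥(Subgroup.centralizer (R : Set G))) : G), Subgroup.mem_subgroupOf.mp n.2⟩,
    mem_fixSub_of_mem_centralizer K R _ (n : ↥(Subgroup.centralizer (R : Set G))).2⟩
  left_inv _ := rfl
  right_inv _ := rfl
  map_mul' _ _ := rfl

theorem fixEquiv_coe (k : ↥(Cfsg.Agent.Lib.Helper81.fixSub (conjActOn K R))) :
    (((fixEquiv K R k : ↥(K.subgroupOf (Subgroup.centralizer (R : Set G)))) :
      ↥(Subgroup.centralizer (R : Set G))) : G) = ((k : K) : G) := rfl

local notation "CR" => (Subgroup.centralizer (R : Set G))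
local notation "NC" => (K.subgroupOf (Subgroup.centralizer (R : Set G)))

/-- **Glauberman correspondent** inside `C_G(R)`: the restriction of the invariant `θ ∈ Irr(K)` to
`C_K(R)` has exactly one irreducible constituent of multiplicity prime to `p`, and it is invariant
in `C_G(R)`. -/
theorem exists_glauberman_constituent [Fintype G] {p : ℕ} [Fact p.Prime] [Fintype K]
    (hK : ¬ p ∣ Nat.card K) (hR : IsPGroup p R) (θ : IrrCharacter K)
    (hinv : ∀ (g : G) (n : K),
      (θ : K → ℂ) ⟨g * n * g⁻¹, hKn.conj_mem n n.2 g⟩ = (θ : K → ℂ) n)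
    [Fintype ↥CR] [Fintype ↥NC] :
    ∃ φ₀ : IrrCharacter ↥NC,
      (∀ φ : IrrCharacter ↥NC, φ ≠ φ₀ →
        ∃ m : ℕ, classInner (fun n : ↥NC =>
          (θ : K → ℂ) ⟨((n : ↥CR) : G), Subgroup.mem_subgroupOf.mp n.2⟩) (φ : ↥NC → ℂ) = m ∧
          p ∣ m) ∧
      ∀ (h : ↥CR) (n : ↥NC),
        (φ₀ : ↥NC → ℂ) ⟨h * n * h⁻¹, (inferInstance : (NC).Normal).conj_mem n n.2 h⟩ =
          (φ₀ : ↥NC → ℂ) n := by
  have hp : p.Prime := Fact.out
  have : Fintype ↥(Cfsg.Agent.Lib.Helper81.fixSub (conjActOn K R)) := Fintype.ofFinite _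
  have hNn : (NC).Normal := inferInstance
  have hθact : ∀ (x : R) (k : K), (θ : K → ℂ) (conjActOn K R x k) = (θ : K → ℂ) k := by
    intro x k
    have h1 : conjActOn K R x k = ⟨(x : G) * k * (x : G)⁻¹, hKn.conj_mem k k.2 x⟩ :=
      Subtype.ext rfl
    rw [h1]
    exact hinv x k
  obtain ⟨γ₀, hγ₀, hγ₀uniq⟩ :=
    Cfsg.Agent.Lib.Helper81.existsUnique_glaubRel (conjActOn K R) p hR hK θ hθact
  obtain ⟨τ, hτ⟩ : ∃ τ : ↥NC → ℂ, τ = fun n : ↥NC => (θ : K → ℂ) ⟨((n : ↥CR) : G),
    Subgroup.mem_subgroupOf.mp n.2⟩ := ⟨_, rfl⟩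
  rw [← hτ]
  have hτe : τ ∘ (fixEquiv K R) =
      fun c : Cfsg.Agent.Lib.Helper81.fixSub (conjActOn K R) => (θ : K → ℂ) c := by
    funext k
    rw [hτ]
    rfl
  have hres := Cfsg.Agent.Lib.Helper81.isCharacter_res_fixSub (conjActOn K R) θ
  -- transport of characters
  have hirr : ∀ φ : IrrCharacter ↥NC,
      IsIrrCharacter (Cfsg.Agent.Lib.Helper81.fixSub (conjActOn K R))
        ((φ : ↥NC → ℂ) ∘ (fixEquiv K R)) :=
    fun φ => Cfsg.Agent.Lib.Helper81.isIrrCharacter_comp_mulEquiv φ.2 (fixEquiv K R)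
  have hinner : ∀ φ : IrrCharacter ↥NC,
      classInner τ (φ : ↥NC → ℂ) =
        classInner (fun c : Cfsg.Agent.Lib.Helper81.fixSub (conjActOn K R) => (θ : K → ℂ) c)
          ((φ : ↥NC → ℂ) ∘ (fixEquiv K R)) := by
    intro φ
    rw [← hτe]
    exact (classInner_comp_equiv' (fixEquiv K R).toEquiv τ (φ : ↥NC → ℂ)).symm
  obtain ⟨φ₀, hφ₀⟩ : ∃ φ₀ : IrrCharacter ↥NC,
      (φ₀ : ↥NC → ℂ) = (γ₀ : _ → ℂ) ∘ (fixEquiv K R).symm :=
    ⟨⟨(γ₀ : _ → ℂ) ∘ (fixEquiv K R).symm,
      Cfsg.Agent.Lib.Helper81.isIrrCharacter_comp_mulEquiv γ₀.2 (fixEquiv K R).symm⟩, rfl⟩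
  have hφ₀e : (φ₀ : ↥NC → ℂ) ∘ (fixEquiv K R) = (γ₀ : _ → ℂ) := by
    funext k
    rw [hφ₀]
    show (γ₀ : _ → ℂ) ((fixEquiv K R).symm ((fixEquiv K R) k)) = _
    rw [MulEquiv.symm_apply_apply]
  have hdiv : ∀ φ : IrrCharacter ↥NC, φ ≠ φ₀ →
      ∃ m : ℕ, classInner τ (φ : ↥NC → ℂ) = m ∧ p ∣ m := by
    intro φ hne
    obtain ⟨m, hm⟩ := IsCharacter.exists_nat_classInner hres
      ⟨(φ : ↥NC → ℂ) ∘ (fixEquiv K R), hirr φ⟩
    refine ⟨m, by rw [hinner φ]; exact hm, ?_⟩
    by_contra hpm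
    have hrel : Cfsg.Agent.Lib.Helper81.GlaubRel (conjActOn K R) p θ
        ⟨(φ : ↥NC → ℂ) ∘ (fixEquiv K R), hirr φ⟩ := ⟨m, hm, hpm⟩
    have h1 := hγ₀uniq _ hrel
    apply hne
    apply Subtype.ext
    funext n
    rw [hφ₀]
    show (φ : ↥NC → ℂ) n = (γ₀ : _ → ℂ) ((fixEquiv K R).symm n)
    rw [← h1]
    show (φ : ↥NC → ℂ) n = (φ : ↥NC → ℂ) ((fixEquiv K R) ((fixEquiv K R).symm n))
    rw [MulEquiv.apply_symm_apply]
  refine ⟨φ₀, hdiv, ?_⟩
  -- invariance
  obtain ⟨m₀, hm₀, hpm₀⟩ := hγ₀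
  have hm₀' : classInner τ (φ₀ : ↥NC → ℂ) = m₀ := by
    rw [hinner φ₀, hφ₀e]
    exact hm₀
  have hτinv : ∀ h : ↥CR, Cfsg.Agent.Lib.Helper75.conjFun (NC) h τ = τ := by
    intro h
    funext n
    rw [Cfsg.Agent.Lib.Helper75.conjFun_apply, hτ]
    exact hinv (h : G) ⟨((n : ↥CR) : G), Subgroup.mem_subgroupOf.mp n.2⟩
  intro h n
  have key : conjIrrN (NC) h φ₀ = φ₀ := by
    by_contra hne
    obtain ⟨m, hm, hpm⟩ := hdiv _ hne
    have h1 : classInner τ (conjIrrN (NC) h φ₀ : ↥NC → ℂ) = m₀ := by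
      have h2 := Cfsg.Agent.Lib.Helper75.classInner_conjFun_conjFun (NC) h τ (φ₀ : ↥NC → ℂ)
      rw [hτinv h] at h2
      rw [← hm₀', ← h2]
      rfl
    rw [h1] at hm
    have : m₀ = m := by exact_mod_cast hm
    rw [this] at hpm₀
    exact hpm₀ hpm
  have := congrArg (fun φ : IrrCharacter ↥NC => (φ : ↥NC → ℂ) n) key
  exact this

end Glauberman

section Main

variable {M : Ideal AlgInt} {G : Type u} [Group G] [Fintype G] (K : Subgroup G) [hKn : K.Normal]
  [Fintype K]

set_option maxHeartbeats 1000000 in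
/-- **Blocks of principal type** over an invariant character of a normal `p'`-subgroup `K` such
that `G / K` has a normal `p`-subgroup containing its centralizer. -/
theorem principal_type_of_pConstrained {p : ℕ} [Fact p.Prime] (hM : IsPModular p M)
    (hK : ¬ p ∣ Nat.card K)
    (Pb : Subgroup (G ⧸ K)) [hPn : Pb.Normal] (hPb : IsPGroup p Pb)
    (hcent : Subgroup.centralizer (Pb : Set (G ⧸ K)) ≤ Pb)
    (θ : IrrCharacter K)
    (hinv : ∀ (g : G) (n : K),
      (θ : K → ℂ) ⟨g * n * g⁻¹, hKn.conj_mem n n.2 g⟩ = (θ : K → ℂ) n)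
    (B : Set (IrrCharacter G))
    (hBdef : ∀ χ : IrrCharacter G, χ ∈ B ↔
      classInner (fun k : K => (χ : G → ℂ) k) (θ : K → ℂ) ≠ 0) :
    IsPBlock M B ∧ (∀ S : Sylow p G, IsDefectGroup p M B (S : Subgroup G)) ∧
      ∀ R : Subgroup G, IsPGroup p R →
        ∃! f : Set (IrrCharacter (Subgroup.centralizer (R : Set G))),
          IsInducedBlock M (Subgroup.centralizer (R : Set G)) f B := by
  classical
  have hMp := isPModular_isPrime hM
  have hMtop : M ≠ ⊤ := hMp.ne_top
  have hp : p.Prime := Fact.out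
  have hCK : IsPGroup p (Subgroup.centralizer (Pb : Set (G ⧸ K))) := hPb.to_le hcent
  obtain ⟨B', hB', hB'mem, hsyl, -⟩ := fong_invariant K hM hK Pb hPb hCK θ hinv
  have hBB' : B' = B := by
    ext χ
    rw [hBdef, hB'mem]
  subst hBB'
  refine ⟨hB', hsyl, ?_⟩
  intro R hR
  let _ : Fintype ↥(Subgroup.centralizer (R : Set G)) := Fintype.ofFinite _
  let _ : Fintype ↥(K.subgroupOf (Subgroup.centralizer (R : Set G))) := Fintype.ofFinite _
  -- the idempotent of `B`
  have hU : IsGStable K ({θ} : Set (IrrCharacter K)) := by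
    intro θ' hθ' g
    rw [Set.mem_singleton_iff] at hθ' ⊢
    rw [hθ']
    apply Subtype.ext
    funext n
    rw [conjIrrN_apply]
    exact hinv g n
  have hBover : B' = overSet K ({θ} : Set (IrrCharacter K)) := by
    ext χ
    rw [hB'mem]
    constructor
    · intro h
      exact ⟨θ, rfl, h⟩
    · rintro ⟨θ', hθ', h⟩
      rw [Set.mem_singleton_iff] at hθ'
      rwa [hθ'] at h
  have hcoeffB : ∀ g : G, blockCoeff B' g = (stableElt K ({θ} : Set (IrrCharacter K))).coeff g := by
    intro g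
    rw [hBover]
    exact blockCoeff_overSet K hU g
  -- existence
  obtain ⟨S, hRS⟩ := hR.exists_le_sylow
  obtain ⟨g, hg, S', hS'⟩ := hsyl S
  have hgR : g ∈ Subgroup.centralizer (R : Set G) := by
    rw [Subgroup.mem_centralizer_iff]
    intro r hr
    have h1 : r ∈ (S : Subgroup G) := hRS hr
    rw [hS'] at h1
    obtain ⟨s, _, rfl⟩ := h1
    have h2 := s.2
    rw [Subgroup.mem_centralizer_singleton_iff] at h2
    exact h2
  obtain ⟨f₀, hf₀⟩ := exists_isBrauerPairOf_of_coeff hM hB' hR hgR hg.2.1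
  have hind₀ := isInducedBlock_centralizer_of_isBrauerPairOf hM hf₀
  -- the local block
  obtain ⟨φ₀, hdiv, hφ₀inv⟩ := exists_glauberman_constituent K R hK hR θ hinv
  obtain ⟨T, hTn, hT, hCT⟩ := exists_pSubgroup_quotient_centralizer K hK Pb hPb hcent R hR
  -- the inclusion of `C_K(R)` into `K`
  let ι : ↥(K.subgroupOf (Subgroup.centralizer (R : Set G))) →* ↥K :=
    { toFun := fun n => ⟨((n : ↥(Subgroup.centralizer (R : Set G))) : G),
        Subgroup.mem_subgroupOf.mp n.2⟩
      map_one' := rfl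
      map_mul' := fun _ _ => rfl }
  have hιinj : Function.Injective ι := by
    intro a b hab
    apply Subtype.ext
    apply Subtype.ext
    exact congrArg (fun k : K => (k : G)) hab
  have hNCp : ¬ p ∣ Nat.card ↥(K.subgroupOf (Subgroup.centralizer (R : Set G))) := by
    intro h
    exact hK (dvd_trans h (Subgroup.card_dvd_of_injective ι hιinj))
  obtain ⟨BC, hBC, hBCmem, -, -⟩ :=
    fong_invariant (K.subgroupOf (Subgroup.centralizer (R : Set G))) hM hNCp T hT hCT φ₀ hφ₀inv
  -- data for the key lemma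
  have hτchar : IsCharacter ↥(K.subgroupOf (Subgroup.centralizer (R : Set G)))
      (fun n : ↥(K.subgroupOf (Subgroup.centralizer (R : Set G))) =>
        (θ : K → ℂ) ⟨((n : ↥(Subgroup.centralizer (R : Set G))) : G),
          Subgroup.mem_subgroupOf.mp n.2⟩) :=
    Cfsg.Agent.Lib.Helper81.isCharacter_comp (IsIrrCharacter.isCharacter θ.2) ι
  have hτinv : ∀ (h : ↥(Subgroup.centralizer (R : Set G)))
      (n : ↥(K.subgroupOf (Subgroup.centralizer (R : Set G)))),
      (fun n : ↥(K.subgroupOf (Subgroup.centralizer (R : Set G))) =>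
        (θ : K → ℂ) ⟨((n : ↥(Subgroup.centralizer (R : Set G))) : G),
          Subgroup.mem_subgroupOf.mp n.2⟩)
        ⟨h * n * h⁻¹, (inferInstance :
          (K.subgroupOf (Subgroup.centralizer (R : Set G))).Normal).conj_mem n n.2 h⟩ =
      (fun n : ↥(K.subgroupOf (Subgroup.centralizer (R : Set G))) =>
        (θ : K → ℂ) ⟨((n : ↥(Subgroup.centralizer (R : Set G))) : G),
          Subgroup.mem_subgroupOf.mp n.2⟩) n := by
    intro h n
    exact hinv (h : G) ⟨((n : ↥(Subgroup.centralizer (R : Set G))) : G),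
      Subgroup.mem_subgroupOf.mp n.2⟩
  have hc₀ : MemLocalRing M ((Nat.card K : ℂ)⁻¹ * (θ : K → ℂ) 1) := by
    apply memLocalRing_mul (memLocalRing_inv_natCast hM hK)
    rw [Cfsg.Agent.Lib.Helper79.irr_apply_one_eq_charDegree]
    exact memLocalRing_natCast hMtop _
  -- every block of `C_G(R)` inducing `B` is `BC`
  have huniq : ∀ f : Set (IrrCharacter (Subgroup.centralizer (R : Set G))),
      IsInducedBlock M (Subgroup.centralizer (R : Set G)) f B' → f = BC := by
    intro f hf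
    obtain ⟨⟨_, hfb⟩, _, hbr⟩ := isBrauerPairOf_of_isInducedBlock hM hR hf
    obtain ⟨ξ, hξ⟩ := IsPBlock_nonempty hMtop hfb
    have hξBC : ξ ∈ BC := by
      rw [hBCmem]
      apply over_of_sum_not_memLocalIdeal (K.subgroupOf (Subgroup.centralizer (R : Set G))) hM _
        hτchar hτinv φ₀ hφ₀inv hdiv _ hc₀ ξ
      intro hcon
      have h1 := hbr ξ hξ
      have h2 : brauerOmega R (blockCoeff B')
          (ξ : ↥(Subgroup.centralizer (R : Set G)) → ℂ) =
          (∑ n : ↥(K.subgroupOf (Subgroup.centralizer (R : Set G))),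
            (Nat.card K : ℂ)⁻¹ * (θ : K → ℂ) 1 *
              conj ((θ : K → ℂ) ⟨((n : ↥(Subgroup.centralizer (R : Set G))) : G),
                Subgroup.mem_subgroupOf.mp n.2⟩) *
              (ξ : ↥(Subgroup.centralizer (R : Set G)) → ℂ) n) /
            (ξ : ↥(Subgroup.centralizer (R : Set G)) → ℂ) 1 := by
        unfold brauerOmega
        rw [finsum_eq_sum_of_fintype, ← Finset.sum_div]
        congr 1
        symm
        apply Fintype.sum_of_injective
          (Subtype.val : ↥(K.subgroupOf (Subgroup.centralizer (R : Set G))) →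
            ↥(Subgroup.centralizer (R : Set G))) Subtype.val_injective
        · intro x hx
          have hxK : (x : G) ∉ K := by
            intro hc
            exact hx ⟨⟨x, Subgroup.mem_subgroupOf.mpr hc⟩, rfl⟩
          rw [hcoeffB, coeff_stableElt_of_not_mem K _ hxK, zero_mul]
        · intro n
          have hnK : ((n : ↥(Subgroup.centralizer (R : Set G))) : G) ∈ K :=
            Subgroup.mem_subgroupOf.mp n.2
          have h3 := coeff_stableElt_coe K ({θ} : Set (IrrCharacter K))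
            ⟨((n : ↥(Subgroup.centralizer (R : Set G))) : G), hnK⟩
          rw [hcoeffB, h3]
          unfold blockCoeff
          rw [finsum_mem_singleton]
          ring
      rw [h2] at h1
      have h4 := memLocalIdeal_sub hcon h1
      rw [sub_sub_cancel] at h4
      exact one_not_memLocalIdeal h4
    rw [IsPBlock_eq_blockOf hfb hξ, IsPBlock_eq_blockOf hBC hξBC]
  refine ⟨f₀, hind₀, fun f hf => ?_⟩
  rw [huniq f hf, huniq f₀ hind₀]

end Main

end Cfsg.Agent.Lib.Helper76
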