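import Mathlib
import Cfsg.Agent.Lib.Helper75.QBaer.Defs

/-!
helper76, hedge for S4125-[CIA] (helper75's sheet, q-Baer groups): the asymmetric core of the coprime-index
lemma.  If `x`, `y` commute, `|G : C(x)| = r ^ a = |G : C(xy)|`, `|G : C(y)| = s ^ b` with `r ≠ s` primes and the order
of `y` is prime to `r`, then `y` is central (`b = 0`).
-/

set_option autoImplicit false

namespace Cfsg.Agent.Lib.Helper76.QBaer

open Cfsg.Agent.Lib.Helper75.QBaer

variable {G : Type*} [Group G] [Finite G]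

/-- the conjugacy class of `x` as a set -/
def cls (x : G) : Set G := {z : G | ∃ g : G, g * x * g⁻¹ = z}

theorem mem_cls {x z : G} : z ∈ cls x ↔ ∃ g : G, g * x * g⁻¹ = z := Iff.rfl

theorem conj_mem_cls (x g : G) : g * x * g⁻¹ ∈ cls x := ⟨g, rfl⟩

theorem self_mem_cls (x : G) : x ∈ cls x := ⟨1, by simp⟩

theorem conj_mem_cls_of_mem {x z : G} (hz : z ∈ cls x) (h : G) : h * z * h⁻¹ ∈ cls x := by
  obtain ⟨g, rfl⟩ := hz
  exact ⟨h * g, by group⟩

theorem card_cls (x : G) : Nat.card (cls x) = (Subgroup.centralizer ({x} : Set G)).index := by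
  rw [Subgroup.index]
  symm
  apply Nat.card_congr
  refine Equiv.ofBijective
    (fun c : G ⧸ Subgroup.centralizer ({x} : Set G) =>
      Quotient.liftOn' c (fun g : G => (⟨g * x * g⁻¹, g, rfl⟩ : cls x)) ?_) ⟨?_, ?_⟩
  · intro g h hgh
    rw [QuotientGroup.leftRel_apply, Subgroup.mem_centralizer_iff] at hgh
    have h1 := hgh x (Set.mem_singleton x)
    apply Subtype.ext
    change g * x * g⁻¹ = h * x * h⁻¹
    have : x * (g⁻¹ * h) = g⁻¹ * h * x := h1
    have e : h = g * (g⁻¹ * h) := by group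
    rw [e]
    have : g * (g⁻¹ * h) * x * (g * (g⁻¹ * h))⁻¹ = g * ((g⁻¹ * h) * x) * (g⁻¹ * h)⁻¹ * g⁻¹ := by
      group
    rw [this, ← h1]
    group
  · intro c d
    refine Quotient.inductionOn₂' c d ?_
    intro g h hgh
    have h1 : g * x * g⁻¹ = h * x * h⁻¹ := congrArg Subtype.val hgh
    apply Quotient.sound'
    rw [QuotientGroup.leftRel_apply, Subgroup.mem_centralizer_iff]
    intro w hw
    rw [Set.mem_singleton_iff] at hw
    subst hw
    have : w = g⁻¹ * (h * w * h⁻¹) * g := by rw [← h1]; group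
    calc w * (g⁻¹ * h) = (g⁻¹ * (h * w * h⁻¹) * g) * (g⁻¹ * h) := by rw [← this]
      _ = g⁻¹ * h * w := by group
  · rintro ⟨z, g, rfl⟩
    exact ⟨(g : G ⧸ Subgroup.centralizer ({x} : Set G)), rfl⟩

/-- the right stabilizer of the class of `x` -/
def rstab (x : G) : Subgroup G where
  carrier := {m : G | ∀ z : G, z ∈ cls x ↔ z * m ∈ cls x}
  one_mem' := fun z => by rw [mul_one]
  mul_mem' := by
    intro m n hm hn z
    rw [hm z, hn (z * m), mul_assoc]
  inv_mem' := by
    intro m hm z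
    have := hm (z * m⁻¹)
    rw [inv_mul_cancel_right] at this
    exact this.symm

theorem mem_rstab {x m : G} : m ∈ rstab x ↔ ∀ z : G, z ∈ cls x ↔ z * m ∈ cls x := Iff.rfl

theorem rstab_normal (x : G) : (rstab x).Normal := by
  constructor
  intro n hn g z
  have e1 : z ∈ cls x ↔ g⁻¹ * z * g ∈ cls x := by
    constructor
    · intro hz
      have := conj_mem_cls_of_mem hz g⁻¹
      simpa using this
    · intro hz
      have := conj_mem_cls_of_mem hz g
      simpa [mul_assoc] using this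
  have e2 : z * (g * n * g⁻¹) ∈ cls x ↔ g⁻¹ * z * g * n ∈ cls x := by
    constructor
    · intro hz
      have := conj_mem_cls_of_mem hz g⁻¹
      have e : g⁻¹ * (z * (g * n * g⁻¹)) * g⁻¹⁻¹ = g⁻¹ * z * g * n := by group
      rwa [e] at this
    · intro hz
      have := conj_mem_cls_of_mem hz g
      have e : g * (g⁻¹ * z * g * n) * g⁻¹ = z * (g * n * g⁻¹) := by group
      rwa [e] at this
  rw [e1, e2]
  exact mem_rstab.mp hn _

/-- the class of `x` is a union of cosets of its right stabilizer -/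
theorem card_rstab_dvd (x : G) : Nat.card (rstab x) ∣ Nat.card (cls x) := by
  have h := QuotientGroup.card_preimage_mk (rstab x)
    ((QuotientGroup.mk (s := rstab x)) '' (cls x))
  have e : ((QuotientGroup.mk (s := rstab x)) ⁻¹' ((QuotientGroup.mk (s := rstab x)) '' (cls x)) :
      Set G) = cls x := by
    ext g
    constructor
    · rintro ⟨z, hz, hzg⟩
      have h1 : z⁻¹ * g ∈ rstab x := QuotientGroup.eq.mp hzg
      have := (mem_rstab.mp h1 z).mp hz
      rwa [mul_inv_cancel_left] at this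
    · intro hg
      exact ⟨g, hg, rfl⟩
  rw [e] at h
  exact ⟨_, h⟩

/-- S4125-[CIA] -/
theorem central_of_index_mul_eq (x y : G) (hxy : Commute x y) (r s a b : ℕ) (hr : r.Prime)
    (hs : s.Prime) (hrs : r ≠ s)
    (hx : (Subgroup.centralizer ({x} : Set G)).index = r ^ a)
    (hy : (Subgroup.centralizer ({y} : Set G)).index = s ^ b)
    (hm : (Subgroup.centralizer ({x * y} : Set G)).index = r ^ a)
    (hoy : (orderOf y).Coprime r) : b = 0 := by
  classical
  have hrF : Fact r.Prime := ⟨hr⟩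
  set A := Subgroup.centralizer ({x} : Set G) with hA
  set B := Subgroup.centralizer ({y} : Set G) with hB
  have hcop : A.index.Coprime B.index := by
    rw [hx, hy]
    exact Nat.Coprime.pow _ _ ((Nat.coprime_primes hr hs).mpr hrs)
  -- Claim 1: products of conjugates of `x` and `y` lie in the class of `x * y`
  have hprod : ∀ g₁ g₂ : G, (g₁ * x * g₁⁻¹) * (g₂ * y * g₂⁻¹) ∈ cls (x * y) := by
    intro g₁ g₂
    obtain ⟨c, hc, u, hu, hcu⟩ := Cfsg.Agent.S4126.exists_mul_of_coprime_index A B hcop (g₁⁻¹ * g₂)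
    have hcx : x * c = c * x := (Subgroup.mem_centralizer_iff.mp hc) x (Set.mem_singleton x)
    have huy : y * u = u * y := (Subgroup.mem_centralizer_iff.mp hu) y (Set.mem_singleton y)
    have hg₂ : g₂ = g₁ * c * u := by
      have : g₁ * (g₁⁻¹ * g₂) = g₁ * (c * u) := by rw [hcu]
      rw [mul_inv_cancel_left] at this
      rw [this, mul_assoc]
    refine ⟨g₁ * c, ?_⟩
    have e1 : c * x * c⁻¹ = x := by rw [← hcx]; group
    have e2 : u * y * u⁻¹ = y := by rw [← huy]; group
    calc g₁ * c * (x * y) * (g₁ * c)⁻¹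
        = (g₁ * (c * x * c⁻¹) * g₁⁻¹) * (g₁ * c * y * c⁻¹ * g₁⁻¹) := by group
      _ = (g₁ * x * g₁⁻¹) * (g₁ * c * (u * y * u⁻¹) * c⁻¹ * g₁⁻¹) := by rw [e1, e2]
      _ = (g₁ * x * g₁⁻¹) * (g₂ * y * g₂⁻¹) := by rw [hg₂]; group
  -- Claim 2: `cls x * y' = cls (x * y)` for every conjugate `y'` of `y`
  have hcard : Nat.card (cls (x * y)) ≤ Nat.card (cls x) := by
    rw [card_cls, card_cls, hm, hx]
  have hsurj : ∀ y' ∈ cls y, ∀ w ∈ cls (x * y), ∃ z ∈ cls x, z * y' = w := by
    intro y' hy' w hw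
    obtain ⟨g₂, rfl⟩ := hy'
    let f : cls x → cls (x * y) := fun z => ⟨z.1 * (g₂ * y * g₂⁻¹), by
      obtain ⟨g₁, hg₁⟩ := z.2
      rw [← hg₁]
      exact hprod g₁ g₂⟩
    have hinj : Function.Injective f := by
      intro z z' hzz
      have : z.1 * (g₂ * y * g₂⁻¹) = z'.1 * (g₂ * y * g₂⁻¹) := congrArg Subtype.val hzz
      exact Subtype.ext (mul_right_cancel this)
    have hbij := hinj.bijective_of_nat_card_le hcard
    obtain ⟨z, hz⟩ := hbij.2 ⟨w, hw⟩
    exact ⟨z.1, z.2, congrArg Subtype.val hz⟩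
  -- Claim 3: `y' * y''⁻¹` lies in the right stabilizer of `cls x`
  have hgen : ∀ y' ∈ cls y, ∀ y'' ∈ cls y, y' * y''⁻¹ ∈ rstab x := by
    intro y' hy' y'' hy'' z
    obtain ⟨g', hg'⟩ := hy'
    obtain ⟨g'', hg''⟩ := hy''
    constructor
    · intro hz
      obtain ⟨g₁, hg₁⟩ := hz
      have h1 : z * y' ∈ cls (x * y) := by rw [← hg₁, ← hg']; exact hprod g₁ g'
      obtain ⟨z₂, hz₂, hz₂'⟩ := hsurj y'' ⟨g'', hg''⟩ _ h1
      have : z * (y' * y''⁻¹) = z₂ := by
        rw [← mul_assoc, ← hz₂', mul_inv_cancel_right]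
      rw [this]; exact hz₂
    · intro hz
      obtain ⟨g₁, hg₁⟩ := hz
      have h1 : z * (y' * y''⁻¹) * y'' ∈ cls (x * y) := by
        rw [← hg₁, ← hg'']; exact hprod g₁ g''
      have e : z * (y' * y''⁻¹) * y'' = z * y' := by group
      rw [e] at h1
      obtain ⟨z₂, hz₂, hz₂'⟩ := hsurj y' ⟨g', hg'⟩ _ h1
      have : z₂ = z := mul_right_cancel hz₂'
      rw [← this]; exact hz₂
  -- the right stabilizer is a normal `r`-group
  have hMcard : ∃ k : ℕ, Nat.card (rstab x) = r ^ k := by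
    have h := card_rstab_dvd x
    rw [card_cls, hx] at h
    obtain ⟨k, -, hk⟩ := (Nat.dvd_prime_pow hr).mp h
    exact ⟨k, hk⟩
  obtain ⟨k, hk⟩ := hMcard
  have hMp : IsPGroup r (rstab x) := IsPGroup.of_card hk
  have hMn : (rstab x).Normal := rstab_normal x
  -- `rstab x ≤ B` (fixed point of the `r`-group on `G ⧸ B`)
  have hMB : rstab x ≤ B := by
    by_cases hb : b = 0
    · intro m _
      have : B = ⊤ := by
        rw [← Subgroup.index_eq_one, hy, hb, pow_zero]
      rw [this]; exact Subgroup.mem_top m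
    · have hnd : ¬ r ∣ Nat.card (G ⧸ B) := by
        rw [← Subgroup.index, hy]
        intro hdvd
        have := (Nat.prime_dvd_prime_iff_eq hr hs).mp (hr.dvd_of_dvd_pow hdvd)
        exact hrs this
      obtain ⟨c, hc⟩ := hMp.nonempty_fixed_point_of_prime_not_dvd_card (G ⧸ B) hnd
      obtain ⟨g, rfl⟩ := QuotientGroup.mk_surjective c
      intro n hn
      have hn' : g * n * g⁻¹ ∈ rstab x := hMn.conj_mem n hn g
      have h1 := hc ⟨g * n * g⁻¹, hn'⟩
      have h2 : ((g * n * g⁻¹ * g : G) : G ⧸ B) = (g : G ⧸ B) := h1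
      rw [QuotientGroup.eq] at h2
      have e : (g * n * g⁻¹ * g)⁻¹ * g = n⁻¹ := by group
      rw [e] at h2
      have := B.inv_mem h2
      rwa [inv_inv] at this
  -- every conjugate of `y` equals `y`
  have hcentral : ∀ g : G, g * y * g⁻¹ = y := by
    intro g
    set m := g * y * g⁻¹ * y⁻¹ with hm_def
    have hmM : m ∈ rstab x := hgen _ (conj_mem_cls y g) _ (self_mem_cls y)
    have hmB : m ∈ B := hMB hmM
    have hcomm : Commute m y := by
      have := (Subgroup.mem_centralizer_iff.mp hmB) y (Set.mem_singleton y)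
      exact this.symm
    have hmy : m * y = g * y * g⁻¹ := by rw [hm_def]; group
    have hpow : m ^ orderOf y = 1 := by
      have h1 : (m * y) ^ orderOf y = m ^ orderOf y * y ^ orderOf y := hcomm.mul_pow _
      rw [pow_orderOf_eq_one, mul_one, hmy] at h1
      rw [← h1]
      have : (g * y * g⁻¹) ^ orderOf y = g * y ^ orderOf y * g⁻¹ := by
        rw [conj_pow]
      rw [this, pow_orderOf_eq_one]; group
    have hord1 : orderOf m ∣ orderOf y := orderOf_dvd_of_pow_eq_one hpow
    have hord2 : orderOf m ∣ r ^ k := by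
      have : orderOf (⟨m, hmM⟩ : rstab x) ∣ Nat.card (rstab x) := orderOf_dvd_natCard _
      rw [hk] at this
      rwa [Subgroup.orderOf_mk] at this
    have hcop2 : (orderOf y).Coprime (r ^ k) := Nat.Coprime.pow_right _ hoy
    have hone : orderOf m = 1 := Nat.eq_one_of_dvd_coprimes hcop2 hord1 hord2
    have hm1 : m = 1 := orderOf_eq_one_iff.mp hone
    rw [← hmy, hm1, one_mul]
  -- conclude
  have hBtop : B = ⊤ := by
    rw [eq_top_iff]
    intro g _
    rw [hB, Subgroup.mem_centralizer_iff]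
    intro w hw
    rw [Set.mem_singleton_iff] at hw
    subst hw
    have := hcentral g
    calc w * g = (g * w * g⁻¹) * g := by rw [this]
      _ = g * w := by group
  have h1 : s ^ b = 1 := by rw [← hy, hBtop, Subgroup.index_top]
  by_contra hb
  have : 1 < s ^ b := Nat.one_lt_pow hb hs.one_lt
  omega

end Cfsg.Agent.Lib.Helper76.QBaer
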