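import Mathlib
import Cfsg.Agent.Lib.Helper76.QBaerCIA

/-!
helper76, hedge for S4125-[CI] (helper75's sheet, q-Baer groups): the coprime-index lemma, from [CIA] used twice.
-/

set_option autoImplicit false

namespace Cfsg.Agent.Lib.Helper76.QBaer

open Cfsg.Agent.Lib.Helper75.QBaer

variable {G : Type*} [Group G] [Finite G]

/-- coprime indices multiply -/
theorem index_inf_eq_mul (A B : Subgroup G) (m n : ℕ) (hA : A.index = m) (hB : B.index = n)
    (hcop : m.Coprime n) : (A ⊓ B).index = m * n := by
  have hdvd1 : m ∣ (A ⊓ B).index := hA ▸ Subgroup.index_dvd_of_le inf_le_left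
  have hdvd2 : n ∣ (A ⊓ B).index := hB ▸ Subgroup.index_dvd_of_le inf_le_right
  have hdvd : m * n ∣ (A ⊓ B).index := Nat.Coprime.mul_dvd_of_dvd_of_dvd hcop hdvd1 hdvd2
  have hle : (A ⊓ B).index ≤ m * n := by
    have := Subgroup.index_inf_le (H := A) (K := B)
    rwa [hA, hB] at this
  have hne : (A ⊓ B).index ≠ 0 := Subgroup.index_ne_zero_of_finite
  exact le_antisymm hle (Nat.le_of_dvd (Nat.pos_of_ne_zero hne) hdvd)

/-- arithmetic core: if `|G : C(xy)| = r ^ c` in the situation of [CI], then `c = a` -/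
theorem index_mul_eq_of_pow (x y : G) (hxy : Commute x y) (r s a b c : ℕ) (hr : r.Prime)
    (hs : s.Prime) (hrs : r ≠ s)
    (hx : (Subgroup.centralizer ({x} : Set G)).index = r ^ a)
    (hy : (Subgroup.centralizer ({y} : Set G)).index = s ^ b)
    (hm : (Subgroup.centralizer ({x * y} : Set G)).index = r ^ c) : c = a := by
  set A := Subgroup.centralizer ({x} : Set G) with hA
  set B := Subgroup.centralizer ({y} : Set G) with hB
  set D := Subgroup.centralizer ({x * y} : Set G) with hD
  have hcop : (r ^ a).Coprime (s ^ b) := Nat.Coprime.pow _ _ ((Nat.coprime_primes hr hs).mpr hrs)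
  have hABD : A ⊓ B ≤ D := by
    intro g hg
    have h1 : x * g = g * x := (Subgroup.mem_centralizer_iff.mp hg.1) x (Set.mem_singleton x)
    have h2 : y * g = g * y := (Subgroup.mem_centralizer_iff.mp hg.2) y (Set.mem_singleton y)
    rw [hD, Subgroup.mem_centralizer_iff]
    intro w hw
    rw [Set.mem_singleton_iff] at hw
    subst hw
    calc x * y * g = x * (g * y) := by rw [mul_assoc, h2]
      _ = g * (x * y) := by rw [← mul_assoc, h1, mul_assoc]
  have hBDA : B ⊓ D ≤ A ⊓ B := by
    intro g hg
    have h2 : y * g = g * y := (Subgroup.mem_centralizer_iff.mp hg.1) y (Set.mem_singleton y)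
    have h3 : x * y * g = g * (x * y) :=
      (Subgroup.mem_centralizer_iff.mp hg.2) (x * y) (Set.mem_singleton _)
    have hgA : g ∈ Subgroup.centralizer ({x} : Set G) := by
      rw [Subgroup.mem_centralizer_iff]
      intro w hw
      rw [Set.mem_singleton_iff] at hw
      subst hw
      have h4 : w * (g * y) = g * w * y := by
        rw [← h2, ← mul_assoc, h3, mul_assoc]
      have : w * g * y = g * w * y := by rw [mul_assoc]; exact h4
      exact mul_right_cancel this
    exact ⟨hgA, hg.1⟩
  -- `|G : A ⊓ B| = r ^ a * s ^ b`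
  have hAB : (A ⊓ B).index = r ^ a * s ^ b := index_inf_eq_mul A B _ _ hx hy hcop
  have hrpos : 0 < r := hr.pos
  have hspos : 0 < s ^ b := pow_pos hs.pos b
  -- `c ≤ a`
  have hca : c ≤ a := by
    have h1 : r ^ c ∣ r ^ a * s ^ b := by
      rw [← hAB, ← hm]; exact Subgroup.index_dvd_of_le hABD
    have hcop' : (r ^ c).Coprime (s ^ b) :=
      Nat.Coprime.pow _ _ ((Nat.coprime_primes hr hs).mpr hrs)
    have h2 : r ^ c ∣ r ^ a := hcop'.dvd_of_dvd_mul_right h1
    exact (Nat.pow_dvd_pow_iff_le_right hr.one_lt).mp h2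
  -- `a ≤ c`
  have hac : a ≤ c := by
    have h1 : (A ⊓ B).index ≤ (B ⊓ D).index :=
      Nat.le_of_dvd (Nat.pos_of_ne_zero Subgroup.index_ne_zero_of_finite)
        (Subgroup.index_dvd_of_le hBDA)
    have h2 : (B ⊓ D).index ≤ s ^ b * r ^ c := by
      have := Subgroup.index_inf_le (H := B) (K := D)
      rwa [hy, hm] at this
    have h3 : r ^ a * s ^ b ≤ s ^ b * r ^ c := by rw [← hAB]; exact h1.trans h2
    have h4 : s ^ b * r ^ a ≤ s ^ b * r ^ c := by rwa [mul_comm (r ^ a)] at h3
    have h5 : r ^ a ≤ r ^ c := Nat.le_of_mul_le_mul_left h4 hspos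
    exact (Nat.pow_le_pow_iff_right hr.one_lt).mp h5
  omega

/-- S4125-[CI] -/
theorem coprime_index_lemma (x y : G) (hxy : Commute x y) (r s a b : ℕ) (hr : r.Prime)
    (hs : s.Prime) (hrs : r ≠ s)
    (hx : (Subgroup.centralizer ({x} : Set G)).index = r ^ a)
    (hy : (Subgroup.centralizer ({y} : Set G)).index = s ^ b)
    (hm : ∃ t c : ℕ, t.Prime ∧ (Subgroup.centralizer ({x * y} : Set G)).index = t ^ c)
    (hox : (orderOf x).Coprime s) (hoy : (orderOf y).Coprime r) : a = 0 ∨ b = 0 := by
  obtain ⟨t, c, ht, hc⟩ := hm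
  by_cases htr : t = r
  · subst htr
    have hca := index_mul_eq_of_pow x y hxy t s a b c hr hs hrs hx hy hc
    subst hca
    exact Or.inr (central_of_index_mul_eq x y hxy t s c b hr hs hrs hx hy hc hoy)
  by_cases hts : t = s
  · subst hts
    have hc' : (Subgroup.centralizer ({y * x} : Set G)).index = t ^ c := by
      rw [← hxy.eq]; exact hc
    have hcb := index_mul_eq_of_pow y x hxy.symm t r b a c hs hr (Ne.symm hrs) hy hx hc'
    subst hcb
    exact Or.inl (central_of_index_mul_eq y x hxy.symm t r c a hs hr (Ne.symm hrs) hy hx hc' hox)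
  -- `t ≠ r, s`: then `c = 0`, `x * y` is central
  have hc0 : c = 0 := by
    by_contra hc0
    have hABD : Subgroup.centralizer ({x} : Set G) ⊓ Subgroup.centralizer ({y} : Set G) ≤
        Subgroup.centralizer ({x * y} : Set G) := by
      intro g hg
      have h1 : x * g = g * x := (Subgroup.mem_centralizer_iff.mp hg.1) x (Set.mem_singleton x)
      have h2 : y * g = g * y := (Subgroup.mem_centralizer_iff.mp hg.2) y (Set.mem_singleton y)
      rw [Subgroup.mem_centralizer_iff]
      intro w hw
      rw [Set.mem_singleton_iff] at hw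
      subst hw
      calc x * y * g = x * (g * y) := by rw [mul_assoc, h2]
        _ = g * (x * y) := by rw [← mul_assoc, h1, mul_assoc]
    have h1 : t ^ c ∣ r ^ a * s ^ b := by
      have h2 := Subgroup.index_dvd_of_le hABD
      rw [hc] at h2
      have h3 : (Subgroup.centralizer ({x} : Set G) ⊓ Subgroup.centralizer ({y} : Set G)).index =
          r ^ a * s ^ b :=
        index_inf_eq_mul _ _ _ _ hx hy
          (Nat.Coprime.pow _ _ ((Nat.coprime_primes hr hs).mpr hrs))
      rw [h3] at h2
      exact h2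
    have h5 : t ∣ r ^ a * s ^ b := (dvd_pow_self t hc0).trans h1
    rcases (Nat.Prime.dvd_mul ht).mp h5 with h | h
    · exact htr ((Nat.prime_dvd_prime_iff_eq ht hr).mp (ht.dvd_of_dvd_pow h))
    · exact hts ((Nat.prime_dvd_prime_iff_eq ht hs).mp (ht.dvd_of_dvd_pow h))
  subst hc0
  rw [pow_zero, Subgroup.index_eq_one] at hc
  -- `x * y` central: `C(x) = C(y)`
  have hAB : Subgroup.centralizer ({x} : Set G) = Subgroup.centralizer ({y} : Set G) := by
    ext g
    have h3 : x * y * g = g * (x * y) := by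
      have : g ∈ Subgroup.centralizer ({x * y} : Set G) := by rw [hc]; exact Subgroup.mem_top g
      exact (Subgroup.mem_centralizer_iff.mp this) (x * y) (Set.mem_singleton _)
    simp only [Subgroup.mem_centralizer_iff, Set.mem_singleton_iff, forall_eq]
    constructor
    · intro h1
      have : x * (y * g) = x * (g * y) := by
        rw [← mul_assoc, h3, ← mul_assoc, ← h1, mul_assoc]
      exact mul_left_cancel this
    · intro h2
      have : x * g * y = g * x * y := by
        rw [mul_assoc, ← h2, ← mul_assoc, h3, mul_assoc]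
      exact mul_right_cancel this
  rw [hAB, hy] at hx
  -- `s ^ b = r ^ a` forces `a = 0`
  left
  by_contra ha
  have h1 : r ∣ s ^ b := by rw [hx]; exact dvd_pow_self r ha
  exact hrs ((Nat.prime_dvd_prime_iff_eq hr hs).mp (hr.dvd_of_dvd_pow h1))

end Cfsg.Agent.Lib.Helper76.QBaer
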