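import Mathlib
import Cfsg.Agent.Lib.Helper40.SpCubeC

/-!
# S2362 module [PSP] (helper76 for helper40): an element of order `p (q^m ± 1)` in
`PSp_{2(m+1)}(q)`, `q` odd.
-/

set_option autoImplicit false

namespace Cfsg.Agent.Lib.Helper76.S2362PSP

open Matrix Cfsg.Agent.Lib.Helper40

theorem exists_psp_orderOf_p_mul {F : Type*} [Field F] [Fintype F] (p : ℕ) [Fact p.Prime]
    [CharP F p] (hp2 : p ≠ 2) {m : ℕ} (hm : 1 ≤ m) (M : ℕ)
    (hM : M = Fintype.card F ^ m - 1 ∨ M = Fintype.card F ^ m + 1) :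
    ∃ y : Cfsg.PSp (m + 1) F, orderOf y = p * M := by
  have hp : p.Prime := Fact.out
  have h2F : (2 : F) ≠ 0 := two_ne_zero_of_char_ne_two (F := F) p hp2
  have hpodd : Odd p := hp.odd_of_ne_two hp2
  have hn : 1 ≤ m + 1 := by omega
  obtain ⟨t, ht⟩ : ∃ t : symplecticGroup (Fin m) F, orderOf t = M := by
    rcases hM with h | h
    · exact exists_orderOf_Sp_of_dvd_pow_sub_one p m hm M (by rw [h])
    · exact exists_orderOf_Sp_of_dvd_pow_add_one p m hm M (by rw [h])
  obtain ⟨u, hu⟩ := exists_sp_regUnip (F := F) p hp2 1 le_rfl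
  have hclog : Nat.clog p (2 * 1) = 1 := by
    have h2p : 2 ≤ p := hp.two_le
    apply le_antisymm
    · apply Nat.clog_le_of_le_pow
      simpa using h2p
    · exact Nat.clog_pos hp.one_lt (by norm_num)
  rw [hclog, pow_one] at hu
  have hMp : M.Coprime p :=
    coprime_char_of_dvd_pow_pm (F := F) p m M hm (by
      rcases hM with h | h
      · exact Or.inl (by rw [h])
      · exact Or.inr (by rw [h]))
  set g := spBlockHom (F := F) (rfl : m + 1 = m + 1) (t, u) with hg
  have hgord : orderOf g = p * M := by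
    rw [hg, orderOf_injective _ (spBlockHom_injective rfl), Prod.orderOf, ht, hu,
      hMp.lcm_eq_mul, mul_comm]
  refine ⟨QuotientGroup.mk g, ?_⟩
  set o := orderOf (QuotientGroup.mk g : Cfsg.PSp (m + 1) F) with ho
  obtain ⟨hdvd, -⟩ := orderOf_mk_PSp hn g
  rw [hgord, ← ho] at hdvd
  apply Nat.dvd_antisymm hdvd
  have h3 := pow_orderOf_eq_one (QuotientGroup.mk g : Cfsg.PSp (m + 1) F)
  rw [← ho, mk_pow_eq_one_iff_PSp hn] at h3
  rcases h3 with h3 | h3
  · have h4 : g ^ o = 1 := by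
      apply Subtype.ext
      rw [SubmonoidClass.coe_pow, h3]
      rfl
    rw [← hgord]
    exact orderOf_dvd_of_pow_eq_one h4
  · exfalso
    have h4 : g ^ o = spNegOne (m + 1) F := by
      apply Subtype.ext
      rw [SubmonoidClass.coe_pow, h3]
      rfl
    rw [hg, ← map_pow, Prod.pow_mk, ← spBlockHom_neg_one (rfl : m + 1 = m + 1)] at h4
    have h5 := spBlockHom_injective rfl h4
    have h6 : u ^ o = spNegOne 1 F := (Prod.mk.inj h5).2
    have h7 : (u ^ o) ^ p = 1 := by
      rw [← pow_mul, mul_comm, pow_mul, ← hu, pow_orderOf_eq_one, one_pow]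
    rw [h6, spNegOne_pow_odd p hpodd] at h7
    exact spNegOne_ne_one h2F le_rfl h7

end Cfsg.Agent.Lib.Helper76.S2362PSP
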