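/-
helper76: module [EXCAUT] for S4840 (helper15, board #2898).
A normal subgroup `R` of order 8 with a unique involution (so `R` is `C8` or `Q8`) in a group `H`
of order prime to 3 has `|H : C_H(R)|` dividing 16.
Proof: `H / C_H(R)` acts faithfully on the 6 elements of `R` different from `1` and the involution;
an element of order 5 would have exactly one fixed point, but fixed points come in inverse pairs.
-/
import Mathlib

set_option autoImplicit false

namespace Cfsg.Agent.Lib.Helper76.S4840

open Subgroup

section

variable {H : Type*} [Group H]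

/-- the six "other" elements of `R` -/
abbrev OtherElts (R : Subgroup H) (z : H) : Type _ := {x : H // x ∈ R ∧ x ≠ 1 ∧ x ≠ z}

/-- conjugation action on the other elements, as a permutation -/
def conjOther (R : Subgroup H) [R.Normal] (z : H)
    (hz : ∀ h : H, h * z * h⁻¹ = z) (h : H) : Equiv.Perm (OtherElts R z) where
  toFun x := ⟨h * x.1 * h⁻¹, by
    refine ⟨Subgroup.Normal.conj_mem inferInstance _ x.2.1 h, ?_, ?_⟩
    · intro h1
      apply x.2.2.1
      have : x.1 = h⁻¹ * (h * x.1 * h⁻¹) * h := by group
      rw [this, h1]; group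
    · intro h1
      apply x.2.2.2
      have : x.1 = h⁻¹ * (h * x.1 * h⁻¹) * h := by group
      rw [this, h1]
      have := hz h⁻¹
      rw [inv_inv] at this
      exact this⟩
  invFun x := ⟨h⁻¹ * x.1 * h, by
    refine ⟨?_, ?_, ?_⟩
    · have := Subgroup.Normal.conj_mem (inferInstance : R.Normal) _ x.2.1 h⁻¹
      rwa [inv_inv] at this
    · intro h1
      apply x.2.2.1
      have : x.1 = h * (h⁻¹ * x.1 * h) * h⁻¹ := by group
      rw [this, h1]; group
    · intro h1
      apply x.2.2.2
      have : x.1 = h * (h⁻¹ * x.1 * h) * h⁻¹ := by group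
      rw [this, h1]
      exact hz h⟩
  left_inv x := by
    apply Subtype.ext
    show h⁻¹ * (h * x.1 * h⁻¹) * h = x.1
    group
  right_inv x := by
    apply Subtype.ext
    show h * (h⁻¹ * x.1 * h) * h⁻¹ = x.1
    group

theorem conjOther_apply (R : Subgroup H) [R.Normal] (z : H)
    (hz : ∀ h : H, h * z * h⁻¹ = z) (h : H) (x : OtherElts R z) :
    ((conjOther R z hz h) x).1 = h * x.1 * h⁻¹ := rfl

/-- the conjugation action as a homomorphism -/
def conjOtherHom (R : Subgroup H) [R.Normal] (z : H)
    (hz : ∀ h : H, h * z * h⁻¹ = z) : H →* Equiv.Perm (OtherElts R z) where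
  toFun := conjOther R z hz
  map_one' := by
    apply Equiv.ext
    intro x
    apply Subtype.ext
    rw [conjOther_apply]
    simp
  map_mul' a b := by
    apply Equiv.ext
    intro x
    apply Subtype.ext
    rw [Equiv.Perm.mul_apply, conjOther_apply, conjOther_apply, conjOther_apply]
    group

theorem conjOtherHom_apply (R : Subgroup H) [R.Normal] (z : H)
    (hz : ∀ h : H, h * z * h⁻¹ = z) (h : H) (x : OtherElts R z) :
    ((conjOtherHom R z hz h) x).1 = h * x.1 * h⁻¹ := rfl

end

theorem index_centralizer_dvd_sixteen {H : Type*} [Group H] [Finite H] (R : Subgroup H) [R.Normal]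
    (hR8 : Nat.card R = 8)
    (hinv : ∀ s t : H, s ∈ R → t ∈ R → orderOf s = 2 → orderOf t = 2 → s = t)
    (h3 : ¬ 3 ∣ Nat.card H) : (Subgroup.centralizer (R : Set H)).index ∣ 16 := by
  classical
  -- the involution
  have : Fact (Nat.Prime 2) := ⟨Nat.prime_two⟩
  have : Fact (Nat.Prime 5) := ⟨by norm_num⟩
  obtain ⟨z', hz'⟩ := exists_prime_orderOf_dvd_card' (G := R) 2 (by rw [hR8]; norm_num)
  set z : H := (z' : H) with hzdef
  have hzR : z ∈ R := z'.2
  have hz2 : orderOf z = 2 := by rw [hzdef, Subgroup.orderOf_coe]; exact hz'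
  have hz1 : z ≠ 1 := by
    intro h; rw [h, orderOf_one] at hz2; omega
  have hzconj : ∀ h : H, h * z * h⁻¹ = z := by
    intro h
    apply hinv _ _ (Subgroup.Normal.conj_mem inferInstance _ hzR h) hzR _ hz2
    rw [← hz2]
    have hs : SemiconjBy h z (h * z * h⁻¹) := by
      unfold SemiconjBy; group
    exact (hs.orderOf_eq h).symm
  set φ := conjOtherHom R z hzconj with hφ
  -- kernel
  have hker : φ.ker = Subgroup.centralizer (R : Set H) := by
    ext h
    rw [MonoidHom.mem_ker, Subgroup.mem_centralizer_iff]
    constructor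
    · intro hh x hx
      by_cases hx1 : x = 1
      · rw [hx1]; simp
      by_cases hxz : x = z
      · rw [hxz]
        have := hzconj h
        calc z * h = (h * z * h⁻¹) * h := by rw [this]
          _ = h * z := by group
      · have h1 := congrArg (fun σ : Equiv.Perm (OtherElts R z) => (σ ⟨x, hx, hx1, hxz⟩).1) hh
        simp only [Equiv.Perm.coe_one, id_eq] at h1
        rw [conjOtherHom_apply] at h1
        calc x * h = (h * x * h⁻¹) * h := by rw [h1]
          _ = h * x := by group
    · intro hh
      apply Equiv.ext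
      intro x
      apply Subtype.ext
      rw [conjOtherHom_apply, Equiv.Perm.coe_one, id_eq]
      have := hh x.1 x.2.1
      calc h * x.1 * h⁻¹ = (x.1 * h) * h⁻¹ := by rw [this]
        _ = x.1 := by group
  rw [← hker, Subgroup.index_ker]
  -- card of OtherElts
  have hfinR : Finite R := inferInstance
  have hcardX : Nat.card (OtherElts R z) = 6 := by
    have e : OtherElts R z ≃ {x : R // x ≠ 1 ∧ x ≠ z'} :=
      { toFun := fun x => ⟨⟨x.1, x.2.1⟩, by
          refine ⟨?_, ?_⟩
          · intro h; apply x.2.2.1; exact congrArg Subtype.val h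
          · intro h; apply x.2.2.2; exact congrArg Subtype.val h⟩
        invFun := fun x => ⟨x.1.1, x.1.2, by
          intro h; apply x.2.1; exact Subtype.ext h, by
          intro h; apply x.2.2; exact Subtype.ext h⟩
        left_inv := fun x => rfl
        right_inv := fun x => rfl }
    rw [Nat.card_congr e]
    have : Fintype R := Fintype.ofFinite R
    rw [Nat.card_eq_fintype_card, Fintype.card_subtype]
    have hfilter : (Finset.univ.filter fun x : R => x ≠ 1 ∧ x ≠ z') =
        (Finset.univ.erase (1 : R)).erase z' := by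
      ext x
      simp only [Finset.mem_filter, Finset.mem_univ, true_and, Finset.mem_erase, and_true]
      tauto
    rw [hfilter, Finset.card_erase_of_mem, Finset.card_erase_of_mem (Finset.mem_univ _),
      Finset.card_univ, ← Nat.card_eq_fintype_card, hR8]
    rw [Finset.mem_erase]
    refine ⟨?_, Finset.mem_univ _⟩
    intro h
    apply hz1
    rw [hzdef, h]; rfl
  have hfinX : Finite (OtherElts R z) := Nat.finite_of_card_ne_zero (by rw [hcardX]; norm_num)
  have hdvd720 : Nat.card φ.range ∣ 720 := by
    have h1 : Nat.card φ.range ∣ Nat.card (Equiv.Perm (OtherElts R z)) :=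
      Subgroup.card_subgroup_dvd_card _
    rw [Nat.card_perm, hcardX] at h1
    exact h1
  have hdvdH : Nat.card φ.range ∣ Nat.card H := Subgroup.card_range_dvd φ
  have hcop3 : Nat.Coprime (Nat.card φ.range) 3 := by
    rw [Nat.coprime_comm, Nat.Prime.coprime_iff_not_dvd (by norm_num)]
    intro h
    exact h3 (h.trans hdvdH)
  have hcop5 : Nat.Coprime (Nat.card φ.range) 5 := by
    rw [Nat.coprime_comm, Nat.Prime.coprime_iff_not_dvd (by norm_num)]
    intro h5
    obtain ⟨σ', hσ'⟩ := exists_prime_orderOf_dvd_card' (G := φ.range) 5 h5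
    obtain ⟨g, hg⟩ := σ'.2
    set σ : Equiv.Perm (OtherElts R z) := (σ' : Equiv.Perm (OtherElts R z)) with hσdef
    have hσ5 : orderOf σ = 5 := by rw [hσdef, Subgroup.orderOf_coe]; exact hσ'
    have hσpow : σ ^ 5 ^ 1 = 1 := by
      rw [pow_one, ← hσ5]; exact pow_orderOf_eq_one σ
    have : Fintype (OtherElts R z) := Fintype.ofFinite _
    have hmod := Equiv.Perm.card_compl_support_modEq (p := 5) (n := 1) hσpow
    have hcardF : Fintype.card (OtherElts R z) = 6 := by
      rw [← Nat.card_eq_fintype_card, hcardX]
    rw [hcardF] at hmod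
    -- the complement of the support is closed under inversion
    have hle : σ.supportᶜ.card ≤ 6 := by
      rw [← hcardF]; exact Finset.card_le_univ _
    have hne : σ.supportᶜ.Nonempty := by
      rw [Finset.nonempty_iff_ne_empty]
      intro h0
      rw [h0, Finset.card_empty] at hmod
      exact absurd hmod (by decide)
    obtain ⟨x0, hx0⟩ := hne
    rw [Finset.mem_compl, Equiv.Perm.notMem_support] at hx0
    -- inverse of x0
    have hx0inv : x0.1⁻¹ ∈ R ∧ x0.1⁻¹ ≠ 1 ∧ x0.1⁻¹ ≠ z := by
      refine ⟨R.inv_mem x0.2.1, ?_, ?_⟩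
      · intro h; apply x0.2.2.1; rwa [inv_eq_one] at h
      · intro h
        apply x0.2.2.2
        have hzz : z⁻¹ = z := by
          have : z ^ 2 = 1 := by rw [← hz2]; exact pow_orderOf_eq_one z
          rw [pow_two] at this
          exact inv_eq_of_mul_eq_one_left this
        rw [← inv_inv x0.1, h, hzz]
    set y0 : OtherElts R z := ⟨x0.1⁻¹, hx0inv⟩ with hy0
    have hσg : σ = φ g := hg.symm
    have hy0fix : σ y0 = y0 := by
      apply Subtype.ext
      have h1 : ((φ g) x0).1 = x0.1 := by
        have := congrArg Subtype.val hx0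
        rw [hσg] at this
        exact this
      rw [conjOtherHom_apply] at h1
      rw [hσg, conjOtherHom_apply]
      show g * x0.1⁻¹ * g⁻¹ = x0.1⁻¹
      calc g * x0.1⁻¹ * g⁻¹ = (g * x0.1 * g⁻¹)⁻¹ := by group
        _ = x0.1⁻¹ := by rw [h1]
    have hy0ne : y0 ≠ x0 := by
      intro h
      have h1 : x0.1⁻¹ = x0.1 := congrArg Subtype.val h
      -- x0 would be an involution
      have h2 : x0.1 ^ 2 = 1 := by
        rw [pow_two]
        calc x0.1 * x0.1 = x0.1⁻¹ * x0.1 := by rw [h1]
          _ = 1 := inv_mul_cancel _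
      have h3' : orderOf x0.1 = 2 := by
        have hd : orderOf x0.1 ∣ 2 := orderOf_dvd_of_pow_eq_one h2
        rcases (Nat.dvd_prime Nat.prime_two).mp hd with h | h
        · exfalso; apply x0.2.2.1; exact orderOf_eq_one_iff.mp h
        · exact h
      exact x0.2.2.2 (hinv _ _ x0.2.1 hzR h3' hz2)
    have h2le : 2 ≤ σ.supportᶜ.card := by
      have hsub : ({x0, y0} : Finset (OtherElts R z)) ⊆ σ.supportᶜ := by
        intro w hw
        rw [Finset.mem_insert, Finset.mem_singleton] at hw
        rw [Finset.mem_compl, Equiv.Perm.notMem_support]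
        rcases hw with rfl | rfl
        · exact hx0
        · exact hy0fix
      have := Finset.card_le_card hsub
      rwa [Finset.card_pair hy0ne.symm] at this
    -- so card = 6
    have h6 : σ.supportᶜ.card = 6 := by
      have := hmod
      unfold Nat.ModEq at this
      omega
    have hall : σ.supportᶜ = Finset.univ := by
      apply Finset.eq_univ_of_card
      rw [h6, hcardF]
    have hσ1 : σ = 1 := by
      apply Equiv.ext
      intro w
      have : w ∈ σ.supportᶜ := by rw [hall]; exact Finset.mem_univ _
      rw [Finset.mem_compl, Equiv.Perm.notMem_support] at this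
      exact this
    rw [hσ1, orderOf_one] at hσ5
    omega
  have hcop45 : Nat.Coprime (Nat.card φ.range) 45 := by
    have : (45 : ℕ) = 3 * 3 * 5 := by norm_num
    rw [this]
    exact (hcop3.mul_right hcop3).mul_right hcop5
  have : (720 : ℕ) = 16 * 45 := by norm_num
  rw [this] at hdvd720
  exact hcop45.dvd_of_dvd_mul_right hdvd720

end Cfsg.Agent.Lib.Helper76.S4840
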