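/-
helper76: helper lemmas for module [EXC] of S4840 (helper15, board #2898).
Part a: a nonabelian group of order 8 with a unique involution contains `i, j` with the
quaternion relations.
-/
import Mathlib

set_option autoImplicit false

namespace Cfsg.Agent.Lib.Helper76.S4840

theorem orderOf_mem_of_card_eight {Q : Type*} [Group Q] [Finite Q] (hQ8 : Nat.card Q = 8) (x : Q) :
    orderOf x = 1 ∨ orderOf x = 2 ∨ orderOf x = 4 ∨ orderOf x = 8 := by
  have h : orderOf x ∣ 8 := by rw [← hQ8]; exact orderOf_dvd_natCard x
  have hle : orderOf x ≤ 8 := Nat.le_of_dvd (by norm_num) h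
  have hpos : 0 < orderOf x := orderOf_pos x
  interval_cases orderOf x <;> simp_all

theorem quaternion_rels {Q : Type*} [Group Q] [Finite Q] (hQ8 : Nat.card Q = 8)
    (hna : ¬ (∀ a b : Q, a * b = b * a))
    (huniq : ∀ s t : Q, orderOf s = 2 → orderOf t = 2 → s = t) :
    ∃ i j : Q, orderOf (i * i) = 2 ∧ j * j = i * i ∧ i * j = (i * i) * (j * i) := by
  push Not at hna
  obtain ⟨i, j, hij⟩ := hna
  -- involutions are central
  have hcentral : ∀ z : Q, orderOf z = 2 → ∀ g : Q, g * z = z * g := by
    intro z hz g
    have hs : SemiconjBy g z (g * z * g⁻¹) := by unfold SemiconjBy; group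
    have h2 : orderOf (g * z * g⁻¹) = 2 := by rw [← hs.orderOf_eq g]; exact hz
    have := huniq _ _ h2 hz
    calc g * z = (g * z * g⁻¹) * g := by group
      _ = z * g := by rw [this]
  -- a noncentral element has order 4
  have hfour : ∀ x y : Q, x * y ≠ y * x → orderOf x = 4 := by
    intro x y hxy
    rcases orderOf_mem_of_card_eight hQ8 x with h | h | h | h
    · exfalso; apply hxy; rw [orderOf_eq_one_iff.mp h]; simp
    · exfalso; exact hxy ((hcentral x h y).symm)
    · exact h
    · exfalso
      have hc : IsCyclic Q := isCyclic_of_orderOf_eq_card x (by rw [h, hQ8])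
      have := hc.isMulCommutative
      exact hxy (this.is_comm.comm x y)
  have sq_order : ∀ x : Q, orderOf x = 4 → orderOf (x * x) = 2 := by
    intro x hx
    rw [← pow_two, orderOf_pow, hx]
    norm_num
  have hi4 : orderOf i = 4 := hfour i j hij
  have hj4 : orderOf j = 4 := hfour j i (fun h => hij h.symm)
  have hij4 : orderOf (i * j) = 4 := by
    apply hfour (i * j) j
    intro h
    apply hij
    have : i * j * j = j * i * j := by rw [h, mul_assoc]
    exact mul_right_cancel this
  have hz := sq_order i hi4
  have hjj : j * j = i * i := huniq _ _ (sq_order j hj4) hz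
  have hijij : (i * j) * (i * j) = i * i := huniq _ _ (sq_order _ hij4) hz
  refine ⟨i, j, hz, hjj, ?_⟩
  -- z := i*i central with z*z = 1
  set z := i * i with hzdef
  have hzc := hcentral z hz
  have hzz : z * z = 1 := by
    have := pow_orderOf_eq_one z
    rwa [hz, pow_two] at this
  -- from i j i j = z get i j = z j i
  -- j i = z * (i j): indeed (ij)^{-1} = z (ij) and (ij)^{-1} = j^{-1} i^{-1} = (z j)(z i) = j i
  have hiinv : i⁻¹ = z * i := by
    apply inv_eq_of_mul_eq_one_left
    calc z * i * i = z * (i * i) := by rw [mul_assoc]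
      _ = 1 := by rw [← hzdef, hzz]
  have hjinv : j⁻¹ = z * j := by
    apply inv_eq_of_mul_eq_one_left
    calc z * j * j = z * (j * j) := by rw [mul_assoc]
      _ = 1 := by rw [hjj, hzz]
  have hijinv : (i * j)⁻¹ = z * (i * j) := by
    apply inv_eq_of_mul_eq_one_left
    calc z * (i * j) * (i * j) = z * ((i * j) * (i * j)) := by rw [mul_assoc]
      _ = 1 := by rw [hijij, hzz]
  have h1 : (i * j)⁻¹ = j * i := by
    rw [mul_inv_rev, hiinv, hjinv]
    calc z * j * (z * i) = z * (j * z) * i := by group
      _ = z * (z * j) * i := by rw [hzc j]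
      _ = (z * z) * (j * i) := by group
      _ = j * i := by rw [hzz, one_mul]
  -- so j i = z (i j), hence i j = z (j i)
  have h2 : j * i = z * (i * j) := by rw [← h1, hijinv]
  calc i * j = (z * z) * (i * j) := by rw [hzz, one_mul]
    _ = z * (z * (i * j)) := by rw [mul_assoc]
    _ = z * (j * i) := by rw [← h2]

end Cfsg.Agent.Lib.Helper76.S4840
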