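/-
helper76: helper lemmas for module [EXC] of S4840 (helper15, board #2898).
Part b: linear lemma (adapted copy of helper35's `Sharp2.invol_apply` / `Sharp2.card_dvd_of_quaternion`,
Lib/Helper35/Sharp2Nonsolv.lean, re-proved here to keep the import closure small:
only S0685 + S0688 are needed).
-/
import Mathlib
import Cfsg.Agent.S0685
import Cfsg.Agent.S0688

set_option autoImplicit false

namespace Cfsg.Agent.Lib.Helper76.S4840

universe u

section linear

variable {p : ℕ} [Fact p.Prime] {V : Type u} [AddCommGroup V] [Module (ZMod p) V]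
  (H : Subgroup (V ≃ₗ[ZMod p] V))

variable (hfree : ∀ h : H, ∀ v : V, v ≠ 0 → (h : V ≃ₗ[ZMod p] V) v = v → h = 1)
include hfree

/-- an involution of a freely acting linear group is `-1` -/
theorem invol_apply' {t : H} (ht : orderOf t = 2) (v : V) : (t : V ≃ₗ[ZMod p] V) v = -v := by
  have ht1 : t ≠ 1 := by
    intro h; rw [h, orderOf_one] at ht; omega
  have htt : t * t = 1 := by
    have := pow_orderOf_eq_one t
    rwa [ht, pow_two] at this
  have h2 : (t : V ≃ₗ[ZMod p] V) ((t : V ≃ₗ[ZMod p] V) v) = v := by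
    have : ((t * t : H) : V ≃ₗ[ZMod p] V) v = v := by rw [htt]; rfl
    exact this
  have h3 : v + (t : V ≃ₗ[ZMod p] V) v = 0 := by
    by_contra h0
    apply ht1
    apply hfree t _ h0
    rw [map_add, h2, add_comm]
  exact eq_neg_of_add_eq_zero_right h3

/-- involutions of a freely acting linear group are unique -/
theorem invol_unique' {s t : H} (hs : orderOf s = 2) (ht : orderOf t = 2) : s = t := by
  apply Subtype.ext
  apply LinearEquiv.ext
  intro v
  rw [invol_apply' H hfree hs, invol_apply' H hfree ht]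

/-- a quaternion subgroup `⟨i, j⟩` gives `|V| = |W|²`, and a subgroup centralizing it has order
dividing `|W| - 1` -/
theorem card_dvd_of_quaternion' [Finite V] [Nontrivial V] (i j : H) (hz : orderOf (i * i) = 2)
    (hjj : j * j = i * i) (hij : i * j = (i * i) * (j * i))
    (M : Subgroup H) (hMi : ∀ x ∈ M, i * x = x * i) (hMj : ∀ x ∈ M, j * x = x * j) :
    ∃ W : Submodule (ZMod p) V, Nat.card V = Nat.card W * Nat.card W ∧
      Nat.card M ∣ Nat.card W - 1 := by
  have hneg : ∀ v : V, ((i * i : H) : V ≃ₗ[ZMod p] V) v = -v := invol_apply' H hfree hz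
  have hz1 : i * i ≠ 1 := by
    intro h; rw [h, orderOf_one] at hz; omega
  have h2 : (2 : ZMod p) ≠ 0 := by
    intro h0
    obtain ⟨v, hv⟩ := exists_ne (0 : V)
    apply hz1
    apply hfree _ v hv
    rw [hneg]
    have : (2 : ZMod p) • v = 0 := by rw [h0, zero_smul]
    rw [two_smul] at this
    exact (eq_neg_of_add_eq_zero_left this).symm
  let I : V →ₗ[ZMod p] V := ((i : V ≃ₗ[ZMod p] V) : V →ₗ[ZMod p] V)
  let J : V →ₗ[ZMod p] V := ((j : V ≃ₗ[ZMod p] V) : V →ₗ[ZMod p] V)
  have hII : ∀ v, I (I v) = -v := by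
    intro v
    rw [← hneg]
    rfl
  have hJJ : ∀ v, J (J v) = -v := by
    intro v
    rw [← hneg, ← hjj]
    rfl
  have hIJ : ∀ v, I (J v) = -J (I v) := by
    intro v
    rw [← hneg]
    show ((i * j : H) : V ≃ₗ[ZMod p] V) v = _
    rw [hij]
    rfl
  obtain ⟨a, b, hab⟩ := ZMod.sq_add_sq p (-1)
  have hVW := Cfsg.Agent.S0688.card_eq_sq_abs (Cfsg.Agent.S0688.eM I J a b)
    (Cfsg.Agent.S0688.fM I J a b) (Cfsg.Agent.S0688.e_e I J a b hII hJJ hIJ hab)
    (Cfsg.Agent.S0688.f_f I J a b hII hJJ hIJ hab) (Cfsg.Agent.S0688.e_f I J a b hII hJJ hIJ) h2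
  set W : Submodule (ZMod p) V :=
    LinearMap.ker (Cfsg.Agent.S0688.eM I J a b - LinearMap.id) with hW
  have hmemW : ∀ v : V, v ∈ W ↔ Cfsg.Agent.S0688.eM I J a b v = v := by
    intro v
    rw [hW, LinearMap.mem_ker, LinearMap.sub_apply, LinearMap.id_apply, sub_eq_zero]
  have hinv : ∀ c ∈ M, ∀ v ∈ W, ((c : H) : V ≃ₗ[ZMod p] V) v ∈ W := by
    intro c hc v hv
    rw [hmemW] at hv ⊢
    have c1 : ∀ w : V, I ((c : V ≃ₗ[ZMod p] V) w) = (c : V ≃ₗ[ZMod p] V) (I w) := by
      intro w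
      have := hMi c hc
      show ((i * c : H) : V ≃ₗ[ZMod p] V) w = _
      rw [this]
      rfl
    have c2 : ∀ w : V, J ((c : V ≃ₗ[ZMod p] V) w) = (c : V ≃ₗ[ZMod p] V) (J w) := by
      intro w
      have := hMj c hc
      show ((j * c : H) : V ≃ₗ[ZMod p] V) w = _
      rw [this]
      rfl
    have h5 : (c : V ≃ₗ[ZMod p] V) (Cfsg.Agent.S0688.eM I J a b v)
        = a • (c : V ≃ₗ[ZMod p] V) (I v) + b • (c : V ≃ₗ[ZMod p] V) (J v) := by
      rw [Cfsg.Agent.S0688.eM_apply, map_add, map_smul, map_smul]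
    rw [Cfsg.Agent.S0688.eM_apply, c1, c2, ← h5, hv]
  have hdvd := Cfsg.Agent.S0685.card_dvd_card_sub_one H hfree M W hinv
  exact ⟨W, hVW, hdvd⟩

end linear

end Cfsg.Agent.Lib.Helper76.S4840
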