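/-
helper76: module [EXC] for S4840 (helper15, board #2898): the exceptional case
`p = 3`, `O_2(X)` nonabelian of order 8.  Exact statement of the board post.
-/
import Mathlib
import Cfsg.Agent.Lib.Helper1.HallDom
import Cfsg.Agent.Lib.Helper76.S4840EXCAUT
import Cfsg.Agent.Lib.Helper76.S4840EXCa
import Cfsg.Agent.Lib.Helper76.S4840EXCb

set_option autoImplicit false

namespace Cfsg.Agent.Lib.Helper76.S4840

section action

variable {V : Type*} [AddCommGroup V] [Module (ZMod 3) V] (X : Subgroup (V ≃ₗ[ZMod 3] V))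

/-- the action of a linear group on the nonzero vectors -/
@[reducible] def nzAction : MulAction X {v : V // v ≠ 0} where
  smul g v := ⟨(g : V ≃ₗ[ZMod 3] V) v.1, fun h => v.2 ((LinearEquiv.map_eq_zero_iff _).mp h)⟩
  one_smul _ := Subtype.ext rfl
  mul_smul _ _ _ := Subtype.ext rfl

theorem nzAction_smul_val (g : X) (v : {v : V // v ≠ 0}) :
    ((nzAction X).smul g v).1 = (g : V ≃ₗ[ZMod 3] V) v.1 := rfl

end action

/-- arithmetic heart: `w = 3^e`, `(w^2 - 1) = c * idx`, `c ∣ w - 1`, `idx ∣ 16`, `w^2 ≥ 2` force `e = 1` -/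
theorem arith_exc (e c idx : ℕ) (hc : c ∣ 3 ^ e - 1) (hidx : idx ∣ 16)
    (hprod : c * idx = 3 ^ e * 3 ^ e - 1) (hV : 2 ≤ 3 ^ e * 3 ^ e) : e = 1 := by
  have he0 : e ≠ 0 := by
    rintro rfl
    norm_num at hV
  have hw3 : 3 ≤ 3 ^ e := by
    calc 3 = 3 ^ 1 := by norm_num
      _ ≤ 3 ^ e := Nat.pow_le_pow_right (by norm_num) (Nat.one_le_iff_ne_zero.mpr he0)
  set w := 3 ^ e with hw
  obtain ⟨t, ht⟩ := hc
  have hfac : w * w - 1 = (w - 1) * (w + 1) := by
    obtain ⟨n, hn⟩ : ∃ n, w = n + 1 := ⟨w - 1, by omega⟩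
    rw [hn]
    simp only [Nat.add_sub_cancel]
    have : (n + 1) * (n + 1) = n * (n + 1 + 1) + 1 := by ring
    omega
  have hcpos : 0 < c := by
    rcases Nat.eq_zero_or_pos c with h | h
    · rw [h, zero_mul] at ht; omega
    · exact h
  have h1 : c * idx = c * (t * (w + 1)) := by
    rw [hprod, hfac, ht]; ring
  have h2 : idx = t * (w + 1) := Nat.eq_of_mul_eq_mul_left hcpos h1
  have h3 : w + 1 ∣ 16 := Dvd.dvd.trans ⟨t, by rw [h2]; ring⟩ hidx
  have h4 : w + 1 ≤ 16 := Nat.le_of_dvd (by norm_num) h3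
  have he2 : e ≤ 2 := by
    by_contra hgt
    push Not at hgt
    have : 3 ^ 3 ≤ 3 ^ e := Nat.pow_le_pow_right (by norm_num) hgt
    omega
  interval_cases e
  · exact absurd rfl he0
  · rfl
  · exfalso
    norm_num [hw] at h3

set_option maxHeartbeats 1600000 in
theorem exceptional {V : Type*} [AddCommGroup V] [Module (ZMod 3) V] [Finite V]
    (X : Subgroup (V ≃ₗ[ZMod 3] V)) [Group.IsSolvable X]
    (htrans : ∀ v w : V, v ≠ 0 → w ≠ 0 → ∃ g ∈ X, g v = w)
    (hstab : ∀ v : V, v ≠ 0 → ∀ g ∈ X, g v = v → ∃ k : ℕ, g ^ 3 ^ k = 1)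
    (R : Subgroup X) [R.Normal] (hR8 : Nat.card R = 8) (hRn : ¬ IsMulCommutative R) :
    ∃ D : Subgroup X, D.Normal ∧ (Nat.card D).Coprime 3 ∧ commutator X ≤ D := by
  classical
  have hp3 : Fact (Nat.Prime 3) := ⟨by norm_num⟩
  have hfinGL : Finite (V ≃ₗ[ZMod 3] V) :=
    Finite.of_injective (fun e : V ≃ₗ[ZMod 3] V => (e : V → V)) DFunLike.coe_injective
  -- V is nontrivial
  have hVnt : Nontrivial V := by
    by_contra hnt
    rw [not_nontrivial_iff_subsingleton] at hnt
    have hsub : Subsingleton (V ≃ₗ[ZMod 3] V) := by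
      constructor
      intro a b
      apply LinearEquiv.ext
      intro v
      exact Subsingleton.elim _ _
    have : Subsingleton R := by
      constructor
      intro a b
      apply Subtype.ext
      apply Subtype.ext
      exact Subsingleton.elim _ _
    have := Nat.card_of_subsingleton (1 : R)
    omega
  obtain ⟨u, hu⟩ := exists_ne (0 : V)
  -- 3 ∣ |V|
  have h3V : 3 ∣ Nat.card V := by
    have hord : addOrderOf u = 3 := by
      have h3u : (3 : ℕ) • u = 0 := by
        have : ((3 : ℕ) : ZMod 3) = 0 := ZMod.natCast_self 3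
        rw [← Nat.cast_smul_eq_nsmul (ZMod 3), this, zero_smul]
      have hd : addOrderOf u ∣ 3 := addOrderOf_dvd_of_nsmul_eq_zero h3u
      rcases (Nat.dvd_prime (by norm_num : Nat.Prime 3)).mp hd with h | h
      · exfalso; exact hu (AddMonoid.addOrderOf_eq_one_iff.mp h)
      · exact h
    rw [← hord]
    exact addOrderOf_dvd_natCard u
  have hVpos : 0 < Nat.card V := Nat.card_pos
  have hV3 : 3 ≤ Nat.card V := Nat.le_of_dvd hVpos h3V
  -- the action on nonzero vectors
  let act : MulAction X {v : V // v ≠ 0} := nzAction X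
  have hsmul : ∀ (g : X) (v : {v : V // v ≠ 0}), (g • v).1 = (g : V ≃ₗ[ZMod 3] V) v.1 :=
    fun g v => rfl
  have hpre : MulAction.IsPretransitive X {v : V // v ≠ 0} := by
    constructor
    intro v w
    obtain ⟨g, hg, hgv⟩ := htrans v.1 w.1 v.2 w.2
    exact ⟨⟨g, hg⟩, Subtype.ext hgv⟩
  have hcardV' : Nat.card {v : V // v ≠ 0} = Nat.card V - 1 := by
    have : Fintype V := Fintype.ofFinite V
    rw [Nat.card_eq_fintype_card, Nat.card_eq_fintype_card,
      Fintype.card_subtype_compl (fun v : V => v = 0), Fintype.card_subtype_eq]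
  set u0 : {v : V // v ≠ 0} := ⟨u, hu⟩ with hu0
  set P : Subgroup X := MulAction.stabilizer X u0 with hP
  have hPidx : P.index = Nat.card V - 1 := by
    rw [hP, MulAction.index_stabilizer_of_transitive, hcardV']
  have hPp : IsPGroup 3 P := by
    intro g
    have hg : (g : X) • u0 = u0 := g.2
    have hg' : ((g : X) : V ≃ₗ[ZMod 3] V) u = u := by
      have := congrArg Subtype.val hg
      rwa [hsmul] at this
    obtain ⟨k, hk⟩ := hstab u hu _ (g : X).2 hg'
    refine ⟨k, ?_⟩
    apply Subtype.ext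
    apply Subtype.ext
    rw [Subgroup.coe_pow, Subgroup.coe_pow, hk]
    rfl
  obtain ⟨a, ha⟩ := hPp.exists_card_eq
  have hXcard : Nat.card X = (Nat.card V - 1) * 3 ^ a := by
    rw [← hPidx, ← ha]
    exact (Subgroup.index_mul_card P).symm
  set m := Nat.card V - 1 with hm
  have hm3 : Nat.Coprime m 3 := by
    rw [Nat.coprime_comm, Nat.Prime.coprime_iff_not_dvd (by norm_num)]
    intro h
    obtain ⟨k1, hk1⟩ := h3V
    obtain ⟨k2, hk2⟩ := h
    omega
  have hmn : Nat.Coprime m (3 ^ a) := hm3.pow_right a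
  have hRcop : (Nat.card R).Coprime (3 ^ a) := by
    rw [hR8]
    exact Nat.Coprime.pow_right a (by norm_num)
  obtain ⟨H, hHcard, hRH⟩ := Cfsg.Agent.Lib.Helper1.hall_dom (G := ↥X) m (3 ^ a) hXcard hmn R hRcop
  -- the embedding of H into GL(V)
  set ψ : ↥H →* (V ≃ₗ[ZMod 3] V) := X.subtype.comp H.subtype with hψ
  have hψinj : Function.Injective ψ := X.subtype_injective.comp H.subtype_injective
  set H₀ : Subgroup (V ≃ₗ[ZMod 3] V) := ψ.range with hH₀
  set ψr : ↥H →* ↥H₀ := ψ.rangeRestrict with hψr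
  have hψrinj : Function.Injective ψr := by
    rw [hψr, MonoidHom.rangeRestrict_injective_iff]; exact hψinj
  have hfree : ∀ h : H₀, ∀ v : V, v ≠ 0 → (h : V ≃ₗ[ZMod 3] V) v = v → h = 1 := by
    rintro ⟨g, h', rfl⟩ v hv hfix
    have hgX : ψ h' ∈ X := (h' : X).2
    obtain ⟨k, hk⟩ := hstab v hv (ψ h') hgX hfix
    have h1 : (ψ h') ^ m = 1 := by
      rw [← map_pow, ← hHcard, pow_card_eq_one', map_one]
    have h2 := pow_gcd_eq_one.mpr ⟨h1, hk⟩
    have hg1 : Nat.gcd m (3 ^ k) = 1 := hm3.pow_right k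
    rw [hg1, pow_one] at h2
    apply Subtype.ext
    exact h2
  -- unique involution in H (transported)
  have huniqH : ∀ s t : ↥H, orderOf s = 2 → orderOf t = 2 → s = t := by
    intro s t hs ht
    apply hψrinj
    apply invol_unique' H₀ hfree
    · rw [orderOf_injective ψr hψrinj]; exact hs
    · rw [orderOf_injective ψr hψrinj]; exact ht
  -- quaternion relations in R
  set ι : ↥R →* ↥H := Subgroup.inclusion hRH with hι
  have hιinj : Function.Injective ι := Subgroup.inclusion_injective hRH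
  have hna : ¬ (∀ a b : R, a * b = b * a) := by
    intro h
    exact hRn ⟨⟨h⟩⟩
  have huniqR : ∀ s t : R, orderOf s = 2 → orderOf t = 2 → s = t := by
    intro s t hs ht
    apply hιinj
    apply huniqH
    · rw [orderOf_injective ι hιinj]; exact hs
    · rw [orderOf_injective ι hιinj]; exact ht
  obtain ⟨i, j, hz, hjj, hij⟩ := quaternion_rels hR8 hna huniqR
  set i₀ : ↥H₀ := ψr (ι i) with hi₀
  set j₀ : ↥H₀ := ψr (ι j) with hj₀
  have hz₀ : orderOf (i₀ * i₀) = 2 := by
    rw [hi₀, ← map_mul, ← map_mul, orderOf_injective ψr hψrinj, orderOf_injective ι hιinj]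
    exact hz
  have hjj₀ : j₀ * j₀ = i₀ * i₀ := by
    rw [hi₀, hj₀, ← map_mul, ← map_mul, ← map_mul, ← map_mul, hjj]
  have hij₀ : i₀ * j₀ = (i₀ * i₀) * (j₀ * i₀) := by
    rw [hi₀, hj₀]
    simp only [← map_mul]
    rw [hij]
  -- EXCAUT inside H
  set R' : Subgroup ↥H := R.subgroupOf H with hR'
  have : R'.Normal := by rw [hR']; infer_instance
  have hR'8 : Nat.card R' = 8 := by
    rw [hR', Nat.card_congr (Subgroup.subgroupOfEquivOfLe hRH).toEquiv, hR8]
  have h3H : ¬ 3 ∣ Nat.card H := by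
    rw [hHcard]
    intro h
    have := Nat.Coprime.eq_one_of_dvd hm3.symm h
    omega
  have hidx := index_centralizer_dvd_sixteen R' hR'8
    (fun s t _ _ hs ht => huniqH s t hs ht) h3H
  set C : Subgroup ↥H := Subgroup.centralizer (R' : Set ↥H) with hC
  set M : Subgroup ↥H₀ := C.map ψr with hM
  have hMcard : Nat.card M = Nat.card C := Subgroup.card_map_of_injective hψrinj
  have hcomm : ∀ r : R, ∀ x ∈ M, ψr (ι r) * x = x * ψr (ι r) := by
    rintro r x ⟨c, hc, rfl⟩
    rw [← map_mul, ← map_mul]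
    congr 1
    have hrR' : ι r ∈ R' := by
      rw [hR', Subgroup.mem_subgroupOf]
      exact r.2
    exact Subgroup.mem_centralizer_iff.mp hc (ι r) hrR'
  obtain ⟨W, hVW, hdvd⟩ := card_dvd_of_quaternion' H₀ hfree i₀ j₀ hz₀ hjj₀ hij₀ M
    (hcomm i) (hcomm j)
  -- w is a power of 3
  obtain ⟨e, he⟩ : ∃ e : ℕ, Nat.card W = 3 ^ e := by
    have : Fintype W := Fintype.ofFinite W
    refine ⟨Module.finrank (ZMod 3) W, ?_⟩
    rw [Nat.card_eq_fintype_card, Module.card_eq_pow_finrank (K := ZMod 3) (V := W), ZMod.card]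
  have hCI : Nat.card C * C.index = Nat.card H := Subgroup.card_mul_index C
  have he1 : e = 1 := by
    apply arith_exc e (Nat.card C) C.index
    · rw [← he, ← hMcard]; exact hdvd
    · exact hidx
    · rw [hCI, hHcard, hm, hVW, he]
    · rw [← he, ← hVW]; omega
  have hV9 : Nat.card V = 9 := by rw [hVW, he, he1]; norm_num
  have hm8 : m = 8 := by rw [hm, hV9]
  -- X embeds in Perm of the 8 nonzero vectors
  have hX8 : Nat.card X ∣ Nat.factorial 8 := by
    have hinj : Function.Injective (MulAction.toPermHom X {v : V // v ≠ 0}) := by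
      rw [injective_iff_map_eq_one]
      intro g hg
      apply Subtype.ext
      apply LinearEquiv.ext
      intro v
      by_cases hv : v = 0
      · rw [hv, map_zero, map_zero]
      · have := congrArg (fun σ : Equiv.Perm {v : V // v ≠ 0} => (σ ⟨v, hv⟩).1) hg
        simp only [MulAction.toPermHom_apply, MulAction.toPerm_apply, Equiv.Perm.coe_one,
          id_eq] at this
        rw [hsmul] at this
        exact this
    have := Subgroup.card_dvd_of_injective _ hinj
    rwa [Nat.card_perm, hcardV', hm8] at this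
  have ha2 : a ≤ 2 := by
    by_contra hgt
    push Not at hgt
    have h27 : 3 ^ 3 ∣ Nat.card X := by
      rw [hXcard]
      exact Dvd.dvd.mul_left (pow_dvd_pow 3 hgt) _
    have := h27.trans hX8
    norm_num [Nat.factorial] at this
  -- the quotient X/R has order 3^a
  have hquot : Nat.card (X ⧸ R) = 3 ^ a := by
    have h1 := Subgroup.card_eq_card_quotient_mul_card_subgroup R
    rw [hXcard, hR8, hm8] at h1
    omega
  have hcommq : IsMulCommutative (X ⧸ R) := by
    interval_cases a
    · rw [pow_zero] at hquot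
      have : Subsingleton (X ⧸ R) := (Nat.card_eq_one_iff_unique.mp hquot).1
      exact ⟨⟨fun a b => Subsingleton.elim _ _⟩⟩
    · rw [pow_one] at hquot
      have : IsCyclic (X ⧸ R) := isCyclic_of_prime_card hquot
      exact IsCyclic.isMulCommutative
    · exact IsPGroup.isMulCommutative_of_card_eq_prime_sq hquot
  refine ⟨R, inferInstance, ?_, ?_⟩
  · rw [hR8]; norm_num
  · exact Subgroup.Normal.quotient_commutative_iff_commutator_le.mp hcommq

end Cfsg.Agent.Lib.Helper76.S4840
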