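import Mathlib
import Cfsg.Agent.Lib.Helper17.SylowCard
import Cfsg.Agent.Lib.Helper17.SimpleIndex
import Cfsg.Agent.Lib.Helper17.Burnside
import Cfsg.Agent.Lib.Helper17.PrimeSylow
import Cfsg.Agent.Lib.Helper17.SimpleTools
import Cfsg.Agent.Lib.Helper17.AltNormalizer
import Cfsg.Agent.Lib.Helper76.InvolCentParity

set_option autoImplicit false

/-!
# There is no simple group of order 1008

`1008 = 2⁴ · 3² · 7`.  The number of Sylow `7`-subgroups is `8` or `36`; `8` is impossible since
then `G ≤ A₈` and `|N(P)| = 126`.  So `|N(P)| = 28`, `|C(P)| = 14` and there is an involution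
`z ∈ C(P)`.  By the parity of involution centralizers, `8 ∣ |C(z)|`, and `7 ∣ |C(z)|`, so
`56 ∣ |C(z)|`; the index of `C(z)` is `9` or `18`, and `9` is impossible (`G ≤ A₉` would force
`2 |N(P)| ∣ 84`).  So `|C(z)| = 56`; the number `n` of Sylow `7`-subgroups of `C(z)` is `1` or `8`,
and `|N_{C(z)}(P)| = 56 / n` is even (contains `z`) and divides `|N(P)| = 28`: contradiction.
-/

namespace Cfsg.Agent.Lib.Helper76.Simple1008

open Subgroup Cfsg.Agent.Lib.Helper17

theorem fact7 : Fact (Nat.Prime 7) := ⟨by norm_num⟩
theorem fact2 : Fact (Nat.Prime 2) := ⟨by norm_num⟩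

attribute [local instance] fact7 fact2

/-- In a non-commutative simple group the centralizer of a nontrivial element is proper. -/
theorem centralizer_singleton_ne_top {G : Type*} [Group G] [IsSimpleGroup G]
    (hG : ¬ IsMulCommutative G) (z : G) (hz : z ≠ 1) : centralizer ({z} : Set G) ≠ ⊤ := by
  intro htop
  have hzc : z ∈ center G := by
    rw [Subgroup.mem_center_iff]
    intro g
    have hg : g ∈ centralizer ({z} : Set G) := by rw [htop]; trivial
    exact (Subgroup.mem_centralizer_singleton_iff.1 hg)
  have hnorm : (center G).Normal := inferInstance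
  rcases hnorm.eq_bot_or_eq_top with hb | ht
  · rw [hb, Subgroup.mem_bot] at hzc
    exact hz hzc
  · apply hG
    refine ⟨⟨fun a b => ?_⟩⟩
    have ha : a ∈ center G := by rw [ht]; trivial
    exact ((Subgroup.mem_center_iff.1 ha) b).symm

theorem not_simple_of_card_1008 {G : Type*} [Group G] [Finite G] [IsSimpleGroup G]
    (h : Nat.card G = 1008) : False := by
  have hG : ¬ IsMulCommutative G := not_comm_of_simple_of_not_prime (by rw [h]; norm_num)
  have hcard : Nat.card G = 7 ^ 1 * 144 := by rw [h]; norm_num
  have h7dvd : 7 ∣ Nat.card G := by rw [h]; norm_num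
  obtain ⟨P⟩ := (Sylow.nonempty : Nonempty (Sylow 7 G))
  have hP7 : Nat.card (P : Subgroup G) = 7 := by
    rw [sylow_card_of_card_eq P hcard (by norm_num)]; norm_num
  -- the number of Sylow 7-subgroups
  have hdvd : Nat.card (Sylow 7 G) ∣ 144 := card_sylow_dvd_of_card_eq hcard (by norm_num)
  have hmod : Nat.card (Sylow 7 G) % 7 = 1 := card_sylow_modEq_one 7 G
  have hne1 : Nat.card (Sylow 7 G) ≠ 1 :=
    card_sylow_ne_one_of_simple hcard (by norm_num) (by norm_num) (by norm_num)
  have hN := card_sylow_mul_card_normalizer P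
  rw [h] at hN
  have hNtop : normalizer ((P : Subgroup G) : Set G) ≠ ⊤ := by
    intro htop
    apply hne1
    have hi : Nat.card (Sylow 7 G) = (normalizer ((P : Subgroup G) : Set G)).index :=
      P.card_eq_index_normalizer
    rw [hi, htop, Subgroup.index_top]
  have hcases : Nat.card (Sylow 7 G) = 8 ∨ Nat.card (Sylow 7 G) = 36 := by
    have hle : Nat.card (Sylow 7 G) ≤ 144 := Nat.le_of_dvd (by norm_num) hdvd
    generalize Nat.card (Sylow 7 G) = c at *
    interval_cases c <;> omega
  have hN28 : Nat.card (normalizer ((P : Subgroup G) : Set G)) = 28 := by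
    rcases hcases with hc | hc
    · exfalso
      have hidx : (normalizer ((P : Subgroup G) : Set G)).index = 8 := by
        have hi : Nat.card (Sylow 7 G) = (normalizer ((P : Subgroup G) : Set G)).index :=
          P.card_eq_index_normalizer
        rw [← hi, hc]
      have h1 := two_mul_card_normalizer_dvd_of_index_of_simple hG 7 (by norm_num)
        (normalizer ((P : Subgroup G) : Set G)) hNtop (by rw [hidx]; norm_num)
        (by rw [hidx]; norm_num) P h7dvd
      rw [hidx] at h1
      rw [hc] at hN
      have hN126 : Nat.card (normalizer ((P : Subgroup G) : Set G)) = 126 := by omega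
      rw [hN126] at h1
      revert h1
      decide
    · rw [hc] at hN
      omega
  -- `|C(P)| = 14`
  have hr1 := relIndex_cent_norm_dvd_pred_of_card_prime P hP7
  have hr2 := mul_relIndex_cent_norm_dvd_of_card_prime P hP7
  have hr3 := relIndex_cent_norm_ne_one_of_simple hG P h7dvd
  have hr4 := card_mul_relIndex_of_le
    (Subgroup.centralizer_le_normalizer ((P : Subgroup G) : Set G))
  rw [hN28] at hr2 hr4
  have hC14 : Nat.card (centralizer ((P : Subgroup G) : Set G)) = 14 := by
    generalize (centralizer ((P : Subgroup G) : Set G)).relIndex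
      (normalizer ((P : Subgroup G) : Set G)) = r at *
    have hr6 : r ∣ 6 := hr1
    have hr28 : r ∣ 4 := Nat.dvd_of_mul_dvd_mul_left (by norm_num : 0 < 7) hr2
    have hle : r ≤ 4 := Nat.le_of_dvd (by norm_num) hr28
    have hr : r = 2 := by
      interval_cases r <;> omega
    rw [hr] at hr4
    omega
  -- an involution `z` centralizing `P`
  obtain ⟨z', hz'⟩ := exists_prime_orderOf_dvd_card' (G := centralizer ((P : Subgroup G) : Set G))
    2 (by rw [hC14]; norm_num)
  obtain ⟨z, hzC⟩ := z'
  have hz2 : orderOf z = 2 := by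
    rw [← hz']; exact (Subgroup.orderOf_mk z hzC).symm
  have hz1 : z ≠ 1 := by
    intro h1
    rw [h1, orderOf_one] at hz2
    omega
  set C : Subgroup G := centralizer ({z} : Set G) with hCdef
  have hPC : (P : Subgroup G) ≤ C := by
    intro x hx
    rw [hCdef, Subgroup.mem_centralizer_singleton_iff]
    exact Subgroup.mem_centralizer_iff.1 hzC x hx
  have hCtop : C ≠ ⊤ := centralizer_singleton_ne_top hG z hz1
  -- `56 ∣ |C|`
  have h8C : 8 ∣ Nat.card C :=
    InvolCentParity.eight_dvd_card_centralizer_of_simple hG (by rw [h]; norm_num) z hz2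
  have h7C : 7 ∣ Nat.card C := by
    have := Subgroup.card_dvd_of_le hPC
    rwa [hP7] at this
  have h56C : 56 ∣ Nat.card C :=
    Nat.Coprime.mul_dvd_of_dvd_of_dvd (by norm_num : Nat.Coprime 8 7) h8C h7C
  have hfact := two_mul_card_dvd_factorial_index_of_simple hG C hCtop
  rw [h] at hfact
  have hidxC := C.index_mul_card
  rw [h] at hidxC
  -- the index of `C` is `9` or `18`
  have hi8 : 8 ≤ C.index := by
    by_contra hlt
    have hle : C.index ≤ 7 := by omega
    have h0 : C.index ≠ 0 := Subgroup.index_ne_zero_of_finite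
    generalize C.index = k at *
    interval_cases k <;> revert hfact <;> decide
  have hC56 : Nat.card C = 56 := by
    obtain ⟨k, hk⟩ := h56C
    have hik : C.index * k = 18 := by
      rw [hk] at hidxC
      have : 56 * (C.index * k) = 56 * 18 := by
        have e : 56 * (C.index * k) = C.index * (56 * k) := by ring
        rw [e, hidxC]
      exact Nat.eq_of_mul_eq_mul_left (by norm_num) this
    have hi18 : C.index ∣ 18 := Dvd.intro _ hik
    have hile : C.index ≤ 18 := Nat.le_of_dvd (by norm_num) hi18
    have hi : C.index = 9 ∨ C.index = 18 := by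
      generalize C.index = i at *
      interval_cases i <;> omega
    rcases hi with hi | hi
    · exfalso
      have h1 := two_mul_card_normalizer_dvd_of_index_of_simple hG 7 (by norm_num)
        C hCtop (by rw [hi]; norm_num) (by rw [hi]; norm_num) P h7dvd
      rw [hi, hN28] at h1
      revert h1
      decide
    · rw [hi] at hik
      have : k = 1 := by omega
      rw [hk, this]
  -- Sylow 7-subgroups of `C`
  set P' : Sylow 7 C := P.subtype hPC with hP'def
  have hmodC : Nat.card (Sylow 7 C) % 7 = 1 := card_sylow_modEq_one 7 C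
  have hNC := card_sylow_mul_card_normalizer P'
  rw [hC56] at hNC
  -- `N_C(P')` embeds in `N_G(P)`
  have hnorm_eq : normalizer ((P' : Subgroup C) : Set C) =
      (normalizer ((P : Subgroup G) : Set G)).subgroupOf C := by
    rw [hP'def, Sylow.coe_subtype, Subgroup.subgroupOf_normalizer_eq hPC]
  have hm28 : Nat.card (normalizer ((P' : Subgroup C) : Set C)) ∣ 28 := by
    rw [hnorm_eq, ← hN28]
    have hinj : Function.Injective
        ((C.subtype).comp ((normalizer ((P : Subgroup G) : Set G)).subgroupOf C).subtype) :=
      fun a b hab => Subtype.ext (Subtype.ext hab)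
    have hrange : ((C.subtype).comp
        ((normalizer ((P : Subgroup G) : Set G)).subgroupOf C).subtype).range ≤
        normalizer ((P : Subgroup G) : Set G) := by
      rintro _ ⟨x, rfl⟩
      exact x.2
    have h1 := Subgroup.card_dvd_of_le hrange
    rwa [← Nat.card_congr (MonoidHom.ofInjective hinj).toEquiv] at h1
  -- `z ∈ N_C(P')` so `2 ∣ |N_C(P')|`
  have hm2 : 2 ∣ Nat.card (normalizer ((P' : Subgroup C) : Set C)) := by
    have hzmem : z ∈ C := by
      rw [hCdef, Subgroup.mem_centralizer_singleton_iff]
    have hzN : (⟨z, hzmem⟩ : C) ∈ normalizer ((P' : Subgroup C) : Set C) := by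
      rw [hnorm_eq, Subgroup.mem_subgroupOf]
      exact Subgroup.centralizer_le_normalizer _ hzC
    have := Subgroup.orderOf_dvd_natCard _ hzN
    rwa [Subgroup.orderOf_mk, hz2] at this
  generalize Nat.card (normalizer ((P' : Subgroup C) : Set C)) = m at *
  generalize Nat.card (Sylow 7 C) = n at *
  have hn56 : n ∣ 56 := Dvd.intro _ hNC
  have hnle : n ≤ 56 := Nat.le_of_dvd (by norm_num) hn56
  have hmle : m ≤ 28 := Nat.le_of_dvd (by norm_num) hm28
  have hn : n = 1 ∨ n = 8 := by
    interval_cases n <;> omega
  rcases hn with hn | hn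
  · rw [hn] at hNC; omega
  · rw [hn] at hNC
    have : m = 7 := by omega
    rw [this] at hm2
    omega

end Cfsg.Agent.Lib.Helper76.Simple1008
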