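import Mathlib
import Cfsg.Agent.S0675

set_option autoImplicit false

/-!
# Simple groups with a subgroup of prime index

A non-commutative finite simple group with a subgroup of prime index `p` acts faithfully and
transitively on `p` points; by Burnside's prime degree theorem (S0675) it is doubly transitive, so
`p * (p - 1)` divides its order.
-/

namespace Cfsg.Agent.Lib.Helper76.SimplePrimeIndex

open MulAction

/-- A `2`-pretransitive group on a finite set `α` with at least two points has order divisible by
`|α| * (|α| - 1)`. -/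
theorem card_mul_pred_dvd_of_two_pretransitive {Γ α : Type*} [Group Γ] [Finite Γ]
    [MulAction Γ α] [Finite α] (h2 : IsMultiplyPretransitive Γ α 2) (hα : 2 ≤ Nat.card α) :
    Nat.card α * (Nat.card α - 1) ∣ Nat.card Γ := by
  classical
  have := Fintype.ofFinite α
  have hne : Nonempty (Fin 2 ↪ α) := by
    rw [Nat.card_eq_fintype_card] at hα
    have : Fintype.card (Fin 2) ≤ Fintype.card α := by simpa using hα
    exact Function.Embedding.nonempty_of_card_le this
  obtain ⟨x⟩ := hne
  have hpre : IsPretransitive Γ (Fin 2 ↪ α) := h2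
  have h1 := MulAction.index_stabilizer_of_transitive Γ x
  have h3 : Nat.card (Fin 2 ↪ α) = Nat.card α * (Nat.card α - 1) := by
    rw [Nat.card_eq_fintype_card, Fintype.card_embedding_eq, Fintype.card_fin,
      Nat.card_eq_fintype_card]
    simp [Nat.descFactorial, mul_comm]
  rw [← h3, ← h1]
  exact Subgroup.index_dvd_card _

/-- A non-commutative finite simple group with a subgroup of prime index `p` has order divisible by
`p * (p - 1)`. -/
theorem prime_index_mul_pred_dvd_card_of_simple {G : Type*} [Group G] [Finite G] [IsSimpleGroup G]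
    (hG : ¬ IsMulCommutative G) (M : Subgroup G) {p : ℕ} (hp : p.Prime) (hM : M.index = p) :
    p * (p - 1) ∣ Nat.card G := by
  classical
  have hfin : Finite (G ⧸ M) := inferInstance
  have := Fintype.ofFinite (G ⧸ M)
  have hcard : Nat.card (G ⧸ M) = p := by rw [← hM]; rfl
  have hMtop : M ≠ ⊤ := by
    intro h
    rw [h, Subgroup.index_top] at hM
    exact hp.one_lt.ne hM
  -- the coset action is faithful
  have hinj : Function.Injective (MulAction.toPermHom G (G ⧸ M)) := by
    rw [← MonoidHom.ker_eq_bot_iff, ← Subgroup.normalCore_eq_ker]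
    rcases (Subgroup.normalCore_normal M).eq_bot_or_eq_top with h | h
    · exact h
    · exact absurd (top_le_iff.1 (h ▸ Subgroup.normalCore_le M)) hMtop
  set Γ : Subgroup (Equiv.Perm (G ⧸ M)) := (MulAction.toPermHom G (G ⧸ M)).range with hΓ
  have e : G ≃* Γ := MonoidHom.ofInjective hinj
  have hpre : IsPretransitive Γ (G ⧸ M) := by
    refine ⟨fun a b => ?_⟩
    obtain ⟨g, hg⟩ := MulAction.exists_smul_eq G a b
    exact ⟨⟨MulAction.toPermHom G (G ⧸ M) g, g, rfl⟩, hg⟩
  rcases Cfsg.Agent.S0675.result (α := G ⧸ M)
      (by rw [← Nat.card_eq_fintype_card, hcard]; exact hp) Γ with hs | h2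
  · exfalso
    apply hG
    have hsG : Group.IsSolvable G :=
      Group.isSolvable_of_isSolvable_injective (f := e.toMonoidHom) e.injective
    exact ⟨⟨fun a b => (IsSimpleGroup.comm_iff_isSolvable.2 hsG) a b⟩⟩
  · have h := card_mul_pred_dvd_of_two_pretransitive h2 (by rw [hcard]; exact hp.two_le)
    rw [hcard, ← Nat.card_congr e.toEquiv] at h
    exact h

end Cfsg.Agent.Lib.Helper76.SimplePrimeIndex
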