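import Mathlib
import Cfsg.Agent.Lib.Helper17.SylowInter
import Cfsg.Agent.Lib.Helper17.SylowCard
import Cfsg.Agent.Lib.Helper17.SimpleIndex
import Cfsg.Agent.Lib.Helper17.Burnside
import Cfsg.Agent.Lib.Helper76.SimplePrimeIndex

set_option autoImplicit false

/-!
# There is no simple group of order 612

`612 = 2² · 3² · 17`.  The number of Sylow `3`-subgroups is `4` or `34`, neither of which is
`1 mod 9`, so there are Sylow `3`-subgroups `P ≠ R` with `D = P ⊓ R` of order `3` normalised by
both.  `M = N(D)` is a proper subgroup containing at least `4` Sylow `3`-subgroups, and its index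
is at least `17`, so `|M| = 36` and `M` has index `17`.  By Burnside's prime degree theorem `G` is
doubly transitive of degree `17`, so `17 * 16 ∣ 612`, which is absurd.
-/

namespace Cfsg.Agent.Lib.Helper76.Simple612

open Subgroup Cfsg.Agent.Lib.Helper17

theorem fact3 : Fact (Nat.Prime 3) := ⟨by norm_num⟩

attribute [local instance] fact3

theorem not_simple_of_card_612 {G : Type*} [Group G] [Finite G] [IsSimpleGroup G]
    (h : Nat.card G = 612) : False := by
  have hG : ¬ IsMulCommutative G := not_comm_of_simple_of_not_prime (by rw [h]; norm_num)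
  have hcard : Nat.card G = 3 ^ 2 * 68 := by rw [h]; norm_num
  -- the number of Sylow 3-subgroups is not 1 mod 9
  have hdvd : Nat.card (Sylow 3 G) ∣ 68 := card_sylow_dvd_of_card_eq hcard (by norm_num)
  have hmod : Nat.card (Sylow 3 G) % 3 = 1 := card_sylow_modEq_one 3 G
  have hne1 : Nat.card (Sylow 3 G) ≠ 1 :=
    card_sylow_ne_one_of_simple hcard (by norm_num) (by norm_num) (by norm_num)
  have hnot : ¬ Nat.card (Sylow 3 G) ≡ 1 [MOD 3 ^ 2] := by
    have hle : Nat.card (Sylow 3 G) ≤ 68 := Nat.le_of_dvd (by norm_num) hdvd
    unfold Nat.ModEq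
    generalize Nat.card (Sylow 3 G) = c at *
    interval_cases c <;> omega
  obtain ⟨P, R, hne, hPM, hRM, hD⟩ := exists_sylow_pair_normalizing_inter hnot
  have hP9 : Nat.card (P : Subgroup G) = 9 := by
    rw [sylow_card_of_card_eq P hcard (by norm_num)]; norm_num
  rw [hP9] at hD
  have hD3 : Nat.card ((P : Subgroup G) ⊓ (R : Subgroup G) : Subgroup G) = 3 := by omega
  set D : Subgroup G := (P : Subgroup G) ⊓ (R : Subgroup G) with hDdef
  set M : Subgroup G := normalizer (D : Set G) with hMdef
  -- `M` is proper
  have hMtop : M ≠ ⊤ := by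
    intro htop
    have hn : D.Normal := Subgroup.normalizer_eq_top_iff.1 htop
    rcases hn.eq_bot_or_eq_top with hb | ht
    · rw [hb, Subgroup.card_bot] at hD3; omega
    · rw [ht, Subgroup.card_top, h] at hD3; omega
  have hs4 := succ_le_card_sylow_subgroup M P R hne hPM hRM
  have hsdvd := card_sylow_subgroup_mul_card_dvd M P hPM
  rw [hP9] at hsdvd
  have hfact := two_mul_card_dvd_factorial_index_of_simple hG M hMtop
  rw [h] at hfact
  have hidx := M.index_mul_card
  rw [h] at hidx
  -- the index of `M` is at least `17`
  have h17 : 17 ≤ M.index := by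
    have h17p : Nat.Prime 17 := by norm_num
    have : 17 ∣ (M.index).factorial := dvd_trans (by norm_num) hfact
    exact (h17p.dvd_factorial).1 this
  have hM17 : M.index = 17 := by
    obtain ⟨k, hk⟩ := hsdvd
    have hs := hs4
    generalize Nat.card (Sylow 3 M) = s at *
    generalize Nat.card M = m at *
    generalize M.index = i at *
    subst hk
    have hk0 : 0 < k := by
      rcases Nat.eq_zero_or_pos k with h0 | h0
      · subst h0; simp at hidx
      · exact h0
    have hi36 : i * 36 ≤ 612 := by
      calc i * 36 ≤ i * (s * 9 * k) := by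
            apply Nat.mul_le_mul_left
            nlinarith
        _ = 612 := hidx
    have hi : i ≤ 17 := by omega
    omega
  have hfin := SimplePrimeIndex.prime_index_mul_pred_dvd_card_of_simple hG M
    (by norm_num : Nat.Prime 17) hM17
  rw [h] at hfin
  revert hfin
  decide

end Cfsg.Agent.Lib.Helper76.Simple612
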