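import Mathlib
import Cfsg.Agent.Lib.Helper76.CommHom
import Cfsg.Agent.Lib.Helper63.PGroupBasic

/-!
# Small lemmas on finite `p`-groups (class two homs, centralizers of index `p`, order `p^4`)
-/

namespace Cfsg.Agent.Lib.Helper76

open Subgroup
open scoped commutatorElement

variable {P : Type*} [Group P]

/-- A subgroup of prime index is maximal: adding an element outside gives everything. -/
theorem sup_zpowers_eq_top_of_index_prime (p : ℕ) [hp : Fact p.Prime] (N : Subgroup P)
    (hN : N.index = p) (x : P) (hx : x ∉ N) : N ⊔ zpowers x = ⊤ := by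
  have h1 : N ≤ N ⊔ zpowers x := le_sup_left
  have h2 := Subgroup.relIndex_mul_index h1
  rw [hN] at h2
  have h3 : (N ⊔ zpowers x).index ∣ p := Dvd.intro_left _ h2
  rcases (Nat.dvd_prime hp.out).mp h3 with h | h
  · exact Subgroup.index_eq_one.mp h
  · exfalso
    rw [h] at h2
    have h4 : N.relIndex (N ⊔ zpowers x) = 1 := by
      have hp0 : 0 < p := hp.out.pos
      exact Nat.eq_of_mul_eq_mul_right hp0 (by rw [h2, one_mul])
    have h5 : N ⊔ zpowers x ≤ N := Subgroup.relIndex_eq_one.mp h4
    exact hx (h5 (le_sup_right (a := N) (mem_zpowers x)))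

/-- In a finite `p`-group, a strict inclusion of subgroups multiplies the order by at least `p`. -/
theorem p_mul_card_dvd_of_lt [Finite P] (p : ℕ) [hp : Fact p.Prime] (hP : IsPGroup p P)
    {H K : Subgroup P} (h : H < K) : p * Nat.card H ∣ Nat.card K := by
  obtain ⟨i, hi⟩ := IsPGroup.iff_card.mp (hP.to_subgroup H)
  obtain ⟨j, hj⟩ := IsPGroup.iff_card.mp (hP.to_subgroup K)
  have hle : Nat.card H ∣ Nat.card K := Subgroup.card_dvd_of_le h.le
  have hne : Nat.card H ≠ Nat.card K := by
    intro he
    exact h.ne (Subgroup.eq_of_le_of_card_ge h.le he.ge)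
  rw [hi, hj] at hle hne ⊢
  have hij : i ≤ j := (Nat.pow_dvd_pow_iff_le_right hp.out.one_lt).mp hle
  have hij' : i < j := lt_of_le_of_ne hij (fun e => hne (by rw [e]))
  rw [← pow_succ']
  exact pow_dvd_pow p hij'

/-- If `P' ≤ Z(P)` then `x ↦ [x,a]` is a homomorphism. -/
def commHomLeft (h : commutator P ≤ center P) (a : P) : P →* P where
  toFun x := x * a * x⁻¹ * a⁻¹
  map_one' := by simp
  map_mul' x y := by
    have hc : y * a * y⁻¹ * a⁻¹ ∈ center P := by
      apply h
      rw [← commutatorElement_def, _root_.commutator_def]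
      exact commutator_mem_commutator (mem_top _) (mem_top _)
    rw [mem_center_iff] at hc
    have h1 : y * a * y⁻¹ = (y * a * y⁻¹ * a⁻¹) * a := by group
    calc x * y * a * (x * y)⁻¹ * a⁻¹ = x * (y * a * y⁻¹) * x⁻¹ * a⁻¹ := by group
      _ = x * ((y * a * y⁻¹ * a⁻¹) * a) * x⁻¹ * a⁻¹ := by rw [← h1]
      _ = (x * (y * a * y⁻¹ * a⁻¹)) * (a * x⁻¹ * a⁻¹) := by group
      _ = ((y * a * y⁻¹ * a⁻¹) * x) * (a * x⁻¹ * a⁻¹) := by rw [hc x]
      _ = (y * a * y⁻¹ * a⁻¹) * (x * a * x⁻¹ * a⁻¹) := by group
      _ = (x * a * x⁻¹ * a⁻¹) * (y * a * y⁻¹ * a⁻¹) := (hc _).symm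

theorem ker_commHomLeft (h : commutator P ≤ center P) (a : P) :
    (commHomLeft h a).ker = centralizer {a} := by
  ext x
  rw [MonoidHom.mem_ker, mem_centralizer_iff]
  show x * a * x⁻¹ * a⁻¹ = 1 ↔ _
  constructor
  · intro hx b hb
    rw [Set.mem_singleton_iff] at hb; subst hb
    have : x * b * x⁻¹ = b := by rwa [mul_inv_eq_one] at hx
    calc b * x = (x * b * x⁻¹) * x := by rw [this]
      _ = x * b := by group
  · intro hx
    have := hx a rfl
    rw [← this]; group

theorem range_commHomLeft_le (h : commutator P ≤ center P) (a : P) :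
    (commHomLeft h a).range ≤ commutator P := by
  rintro _ ⟨x, rfl⟩
  show x * a * x⁻¹ * a⁻¹ ∈ _
  rw [← commutatorElement_def, _root_.commutator_def]
  exact commutator_mem_commutator (mem_top _) (mem_top _)

/-- In a class-two group the index of every centralizer divides `|P'|`. -/
theorem index_centralizer_dvd_card_commutator [Finite P] (h : commutator P ≤ center P) (a : P) :
    (centralizer ({a} : Set P)).index ∣ Nat.card (commutator P) := by
  rw [← ker_commHomLeft h a, Subgroup.index_ker]
  exact Subgroup.card_dvd_of_le (range_commHomLeft_le h a)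

/-- A finite group whose centre has index dividing a prime is abelian. -/
theorem commutative_of_index_center_dvd_prime {G : Type*} [Group G] [Finite G] (p : ℕ)
    [hp : Fact p.Prime] (h : (center G).index ∣ p) : ∀ a b : G, a * b = b * a := by
  have hcard : Nat.card (G ⧸ center G) = (center G).index := (Subgroup.index_eq_card _).symm
  have hcyc : IsCyclic (G ⧸ center G) := by
    rcases (Nat.dvd_prime hp.out).mp h with h1 | h1
    · have : Subsingleton (G ⧸ center G) := by
        rw [← Finite.card_le_one_iff_subsingleton, hcard, h1]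
      exact isCyclic_of_subsingleton
    · exact isCyclic_of_prime_card (hcard.trans h1)
  have hc := MonoidHom.isMulCommutative_of_isCyclic_of_ker_le_center (QuotientGroup.mk' (center G))
    (by rw [QuotientGroup.ker_mk'])
  exact hc.is_comm.comm

/-- If `G = A⟨b⟩` with `A` abelian normal containing the centre, then `|G'| · |Z(G)| = |A|`. -/
theorem card_commutator_mul_card_center [Finite P] (A : Subgroup P) [hn : A.Normal]
    (hA : ∀ a ∈ A, ∀ b ∈ A, a * b = b * a) (b : P) (hb : A ⊔ zpowers b = ⊤)
    (hZ : center P ≤ A) :
    Nat.card (commutator P) * Nat.card (center P) = Nat.card A := by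
  rw [← card_commutator_mul_card_ker A hA b hb]
  congr 1
  have : (commHom A hA b).ker.map A.subtype = center P := by
    ext z
    constructor
    · rintro ⟨a, ha, rfl⟩
      have ha' : b * (a : P) = a * b := (mem_ker_commHom A hA b a).mp ha
      -- centralizer of `a` contains `A` and `b`
      have h1 : A ≤ centralizer ({(a : P)} : Set P) := by
        intro y hy
        rw [mem_centralizer_iff]
        intro c hc
        rw [Set.mem_singleton_iff] at hc; subst hc
        exact hA _ a.2 _ hy
      have h2 : b ∈ centralizer ({(a : P)} : Set P) := by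
        rw [mem_centralizer_iff]
        intro c hc
        rw [Set.mem_singleton_iff] at hc; subst hc
        exact ha'.symm
      have h3 : centralizer ({(a : P)} : Set P) = ⊤ := by
        rw [eq_top_iff, ← hb]
        exact sup_le h1 (by rw [zpowers_le]; exact h2)
      rw [Subgroup.coe_subtype, mem_center_iff]
      intro g
      have hg : g ∈ centralizer ({(a : P)} : Set P) := by rw [h3]; exact mem_top g
      rw [mem_centralizer_iff] at hg
      exact (hg a rfl).symm
    · intro hz
      refine ⟨⟨z, hZ hz⟩, ?_, rfl⟩
      rw [SetLike.mem_coe, mem_ker_commHom]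
      rw [mem_center_iff] at hz
      exact hz b
  rw [← this, Subgroup.card_subtype]

/-- In a group of order `p^4`, the centralizer of an element with class of size `p` is abelian. -/
theorem centralizer_comm_of_index_eq_prime [Finite P] (p : ℕ) [hp : Fact p.Prime]
    (hP : Nat.card P = p ^ 4) (a : P) (hidx : (centralizer ({a} : Set P)).index = p) :
    ∀ x ∈ centralizer ({a} : Set P), ∀ y ∈ centralizer ({a} : Set P), x * y = y * x := by
  have hPp : IsPGroup p P := IsPGroup.of_card hP
  set A := centralizer ({a} : Set P) with hAdef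
  have hp0 : 0 < p := hp.out.pos
  have hcardA : Nat.card A = p ^ 3 := by
    have := Subgroup.card_mul_index A
    rw [hidx, hP] at this
    apply Nat.eq_of_mul_eq_mul_right hp0
    rw [this]; ring
  have haA : a ∈ A := by
    rw [hAdef, mem_centralizer_iff]
    intro c hc
    rw [Set.mem_singleton_iff] at hc; subst hc; rfl
  have haZ : a ∉ center P := by
    intro hz
    have : A = ⊤ := by
      rw [eq_top_iff]
      intro g _
      rw [hAdef, mem_centralizer_iff]
      intro c hc
      rw [Set.mem_singleton_iff] at hc; subst hc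
      rw [mem_center_iff] at hz
      exact (hz g).symm
    rw [this, Subgroup.index_top] at hidx
    exact hp.out.one_lt.ne hidx
  set T := center P ⊔ zpowers a with hT
  have hZT : center P < T := by
    refine lt_of_le_of_ne le_sup_left ?_
    intro he
    apply haZ
    rw [he]
    exact le_sup_right (a := center P) (mem_zpowers a)
  have hTA : T ≤ A := by
    refine sup_le (Subgroup.center_le_centralizer _) ?_
    rw [zpowers_le]; exact haA
  have hPnt : Nontrivial P := by
    rw [← Finite.one_lt_card_iff_nontrivial, hP]
    exact Nat.one_lt_pow (by norm_num) hp.out.one_lt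
  have hZcard : p ∣ Nat.card (center P) := by
    have hbot : (⊥ : Subgroup P) < center P := hPp.bot_lt_center
    have := p_mul_card_dvd_of_lt p hPp hbot
    rwa [Subgroup.card_bot, mul_one] at this
  have hTcard : p ^ 2 ∣ Nat.card T := by
    have := p_mul_card_dvd_of_lt p hPp hZT
    rw [pow_two]
    exact dvd_trans (Nat.mul_dvd_mul_left p hZcard) this
  -- `T` lies in the centre of `A`
  have hTc : T.subgroupOf A ≤ center A := by
    intro t ht
    rw [mem_subgroupOf] at ht
    rw [mem_center_iff]
    intro y
    apply Subtype.ext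
    rw [Subgroup.coe_mul, Subgroup.coe_mul]
    -- `t ∈ T = Z(P)⟨a⟩` commutes with `y ∈ C(a)`
    have hy : T ≤ centralizer ({(y : P)} : Set P) := by
      refine sup_le ?_ ?_
      · exact Subgroup.center_le_centralizer _
      · rw [zpowers_le, mem_centralizer_iff]
        intro c hc
        rw [Set.mem_singleton_iff] at hc; subst hc
        have hy2 : (y : P) ∈ centralizer ({a} : Set P) := y.2
        rw [mem_centralizer_iff] at hy2
        exact (hy2 a rfl).symm
    have := hy ht
    rw [mem_centralizer_iff] at this
    exact this y rfl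
  have hcardTA : Nat.card (T.subgroupOf A) = Nat.card T :=
    Nat.card_congr (Subgroup.subgroupOfEquivOfLe hTA).toEquiv
  have hZA : p ^ 2 ∣ Nat.card (center A) := by
    refine dvd_trans ?_ (Subgroup.card_dvd_of_le hTc)
    rw [hcardTA]; exact hTcard
  have hidxA : (center A).index ∣ p := by
    obtain ⟨m, hm⟩ := hZA
    have h1 := Subgroup.card_mul_index (center A)
    rw [hcardA, hm] at h1
    have h2 : m * (center A).index = p := by
      have hp2 : 0 < p ^ 2 := pow_pos hp0 2
      apply Nat.eq_of_mul_eq_mul_left hp2
      rw [← mul_assoc, h1]; ring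
    exact Dvd.intro_left m h2
  have hcomm := commutative_of_index_center_dvd_prime p hidxA
  intro x hx y hy
  exact congrArg Subtype.val (hcomm ⟨x, hx⟩ ⟨y, hy⟩)

/-- In a group of order `p^4` having an element with class of size `p`: `|P'| · |Z(P)| = p^3`. -/
theorem card_commutator_mul_card_center_of_index_eq_prime [Finite P] (p : ℕ) [hp : Fact p.Prime]
    (hP : Nat.card P = p ^ 4) (a : P) (hidx : (centralizer ({a} : Set P)).index = p) :
    Nat.card (commutator P) * Nat.card (center P) = p ^ 3 := by
  have hPp : IsPGroup p P := IsPGroup.of_card hP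
  have hp0 : 0 < p := hp.out.pos
  have hn : (centralizer ({a} : Set P)).Normal :=
    Cfsg.Agent.Lib.Helper63.normal_of_index_eq_prime hPp _ hidx
  have hA := centralizer_comm_of_index_eq_prime p hP a hidx
  have hcardA : Nat.card (centralizer ({a} : Set P)) = p ^ 3 := by
    have := Subgroup.card_mul_index (centralizer ({a} : Set P))
    rw [hidx, hP] at this
    apply Nat.eq_of_mul_eq_mul_right hp0
    rw [this]; ring
  have hex : ∃ b : P, b ∉ centralizer ({a} : Set P) := by
    by_contra h
    have : centralizer ({a} : Set P) = ⊤ := eq_top_iff.mpr fun x _ => by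
      by_contra hx; exact h ⟨x, hx⟩
    rw [this, Subgroup.index_top] at hidx
    exact hp.out.one_lt.ne hidx
  obtain ⟨b, hb⟩ := hex
  have hsup := sup_zpowers_eq_top_of_index_prime p _ hidx b hb
  rw [card_commutator_mul_card_center _ hA b hsup (Subgroup.center_le_centralizer _), hcardA]

end Cfsg.Agent.Lib.Helper76
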