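/-
helper76: project SPMD (helper94, S2333), module [S-KER] (hedge): the exact sheet name/statement.
Import this file only if no other landing of `normal_eq_top` is imported.
-/
import Mathlib
import Cfsg.Agent.Lib.Helper94.SPMD.Defs
import Cfsg.Agent.Lib.Helper76.SpmdSKer

set_option autoImplicit false

namespace Cfsg.Agent.Lib.Helper94.SPMD

open Matrix Module

variable {F : Type*} [Field F] [Fintype F] {n : ℕ}

/-- **[S-KER]** a normal subgroup of `Sp_{2n}(F)` containing a non-central element is everything -/
theorem normal_eq_top (hn : 2 ≤ n) (hex : n = 2 → 3 ≤ Fintype.card F)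
    (N : Subgroup (Matrix.symplecticGroup (Fin n) F)) [N.Normal]
    (x : Matrix.symplecticGroup (Fin n) F) (hx : x ∈ N) (hnc : ∃ g, g * x ≠ x * g) : N = ⊤ :=
  SKer.normal_eq_top_h76 hn hex N x hx hnc

end Cfsg.Agent.Lib.Helper94.SPMD
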