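import Cfsg.Agent.Lib.Helper60.St3Defs
import Cfsg.Agent.S1028

/-!
Project STEINBERG phase 3c (S2399, helper60's sheet), module P-[UBAR]: in characteristic `p`, the subgroup `Ū` of a
Steinberg model on which the matrix projection is injective is a `p`-group (its matrices are unipotent, S1028).
-/

set_option autoImplicit false

namespace Cfsg.Agent.Lib.Helper76.St3

open Cfsg.Lie Cfsg.Agent.Lib.Helper35.St Cfsg.Agent.Lib.Helper60.St3

universe u v w

variable {D : ChevalleyDatum} {K : Type u} [Field K] {Γ : Type v} [Group Γ] {E : Type w} [Group E]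

/-- the matrix projection maps `Ū` into `U` -/
theorem pi_mem_posUnipotent (M : Model D K Γ) {g : Γ} (hg : g ∈ M.Ubar) :
    M.π g ∈ D.posUnipotent K := by
  unfold Model.Ubar Model.sub at hg
  induction hg using Subgroup.closure_induction with
  | mem x hx =>
    obtain ⟨r, t, hr, rfl⟩ := hx
    exact Subgroup.subset_closure ⟨r, t, hr, M.hπ r hr.1 t⟩
  | one => rw [map_one]; exact Subgroup.one_mem _
  | mul x y _ _ hx hy => rw [map_mul]; exact Subgroup.mul_mem _ hx hy
  | inv x _ hx => rw [map_inv]; exact Subgroup.inv_mem _ hx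

/-- a unipotent matrix in characteristic `p` has `p`-power order -/
theorem pow_char_pow_eq_one_of_sub_one_nilpotent {ι : Type*} [Fintype ι] [DecidableEq ι] (p : ℕ)
    [Fact p.Prime] [CharP K p] (A : Matrix ι ι K) (N : ℕ) (hA : (A - 1) ^ N = 0) :
    A ^ p ^ N = 1 := by
  rcases isEmpty_or_nonempty ι with he | hne
  · exact Subsingleton.elim _ _
  · have hle : N ≤ p ^ N := (Nat.lt_pow_self (Fact.out : p.Prime).one_lt).le
    have h1 : (A - 1) ^ (p ^ N) = 0 := pow_eq_zero_of_le hle hA
    rw [sub_pow_char_pow_of_commute _ _ (Commute.one_right _), one_pow, sub_eq_zero] at h1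
    exact h1

/-- P-[UBAR] -/
theorem isPGroup_Ubar (hD : D ∈ [chevG2, chevB2, chevD4, chevF4, chevE6, chevE7, chevE8]) (p : ℕ)
    [Fact p.Prime] [CharP K p] (M : Model D K Γ) (hp : M.InjPos) : IsPGroup p ↥M.Ubar := by
  rintro ⟨g, hg⟩
  refine ⟨D.rank + D.nroots, ?_⟩
  apply Subtype.ext
  rw [Subgroup.coe_pow, Subgroup.coe_one]
  apply hp _ (Subgroup.pow_mem _ hg _) _ (Subgroup.one_mem _)
  rw [map_pow, map_one]
  apply Units.ext
  rw [Units.val_pow_eq_pow_val, Units.val_one]
  exact pow_char_pow_eq_one_of_sub_one_nilpotent p _ _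
    (Cfsg.Agent.S1028.result D hD (M.π g) (pi_mem_posUnipotent M hg))

end Cfsg.Agent.Lib.Helper76.St3
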