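import Mathlib
import Cfsg.Agent.Lib.Helper85.Suz2Defs

/-!
# SUZ2-[C2A'] (helper85's sheet): if `P/Z0` has exponent 4 and `Nsub P` is central then `P' ≤ Z0`
-/

set_option autoImplicit false

namespace Cfsg.Agent.Lib.Helper76.Suz2

open Cfsg.Agent.Lib.Helper19.Suz Cfsg.Agent.Lib.Helper85.Suz2

universe u

variable {P : Type u} [Group P] {Y : Subgroup (MulAut P)}

/-- in a group whose squares are central, commutators are central involutions -/
theorem comm_sq_of_squares_central {G : Type*} [Group G]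
    (hsq : ∀ x : G, x * x ∈ Subgroup.center G) (x y : G) :
    x⁻¹ * y⁻¹ * x * y ∈ Subgroup.center G ∧
      (x⁻¹ * y⁻¹ * x * y) * (x⁻¹ * y⁻¹ * x * y) = 1 := by
  have hx := hsq x
  have hc : x⁻¹ * y⁻¹ * x * y = ((x⁻¹ * y⁻¹) * (x⁻¹ * y⁻¹)) * (x * x) * (y * y) := by
    have h1 := Subgroup.mem_center_iff.mp hx y
    -- y * (x * x) = (x * x) * y
    calc x⁻¹ * y⁻¹ * x * y = x⁻¹ * y⁻¹ * x⁻¹ * y⁻¹ * (y * (x * x)) * y := by group
      _ = x⁻¹ * y⁻¹ * x⁻¹ * y⁻¹ * ((x * x) * y) * y := by rw [h1]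
      _ = ((x⁻¹ * y⁻¹) * (x⁻¹ * y⁻¹)) * (x * x) * (y * y) := by group
  have hcen : x⁻¹ * y⁻¹ * x * y ∈ Subgroup.center G := by
    rw [hc]
    exact Subgroup.mul_mem _ (Subgroup.mul_mem _ (hsq _) hx) (hsq y)
  refine ⟨hcen, ?_⟩
  obtain ⟨c, hcdef⟩ : ∃ c, c = x⁻¹ * y⁻¹ * x * y := ⟨_, rfl⟩
  rw [← hcdef] at hcen ⊢
  have hcc := Subgroup.mem_center_iff.mp hcen
  -- x * c = y⁻¹ * x * y
  have h2 : x * c = y⁻¹ * x * y := by rw [hcdef]; group
  have h3 : (x * c) * (x * c) = x * x := by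
    rw [h2]
    have h4 := Subgroup.mem_center_iff.mp hx y
    calc y⁻¹ * x * y * (y⁻¹ * x * y) = y⁻¹ * ((x * x) * y) := by group
      _ = y⁻¹ * (y * (x * x)) := by rw [h4]
      _ = x * x := by group
  have h5 : (x * c) * (x * c) = (x * x) * (c * c) := by
    have := hcc x
    calc (x * c) * (x * c) = x * (c * x) * c := by group
      _ = x * (x * c) * c := by rw [this]
      _ = (x * x) * (c * c) := by group
  rw [h5] at h3
  exact mul_left_cancel (a := x * x) (by rw [h3, mul_one])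

/-- **SUZ2-[C2A']** -/
theorem SHyp.comm_mem_Z0_of_quot_four (h : SHyp P Y) (hQ : SHyp (P ⧸ Z0 P) (Kbar Y))
    (hcen : Nsub P ≤ Subgroup.center P)
    (hq : ∀ x : P ⧸ Z0 P, (x * x) * (x * x) = 1) : ∀ x y : P, x⁻¹ * y⁻¹ * x * y ∈ Z0 P := by
  have hsq : ∀ x : P, x * x ∈ Subgroup.center P := by
    intro x
    apply hcen
    show (QuotientGroup.mk' (Z0 P)) (x * x) ∈ Z0 (P ⧸ Z0 P)
    rw [hQ.mem_Z0_iff]
    exact hq (QuotientGroup.mk x)
  intro x y
  rw [h.mem_Z0_iff]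
  exact (comm_sq_of_squares_central hsq x y).2

end Cfsg.Agent.Lib.Helper76.Suz2
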