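import Cfsg.Agent.Lib.Helper76.Suz2NTF
import Cfsg.Agent.Lib.Helper92.Suz2NTOrd
import Cfsg.Agent.Lib.Helper92.Suz2NTThree
import Cfsg.Agent.Lib.Helper50.Suz2.NtFour

/-!
SUZ2-[NTF]: the exact skeleton statements `LamArith.frob_fix`, `LamArith.sq_fix`,
`LamArith.three`, `LamArith.nonconj`, obtained from the hypothesis forms in `Suz2NTF` and the
number-theory lemmas `nt_ord`, `nt_three`, `nt_four` (helper92, helper50).
-/

namespace Cfsg.Agent.Lib.Helper76.Suz2

open Cfsg.Agent.Lib.Helper85.Suz2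

theorem ntOrd_holds : NtOrd :=
  fun n e m hn he hm k hk => Cfsg.Agent.Lib.Helper92.Suz2.nt_ord n e m hn he hm k hk

theorem ntThree_holds : NtThree :=
  fun n e m hn he hm i j hij hj => Cfsg.Agent.Lib.Helper92.Suz2.nt_three n e m hn he hm i j hij hj

theorem ntFour_holds : NtFour :=
  fun n e m hn he hm s s' j hs hsn hs' hs'n hj h =>
    Cfsg.Agent.Lib.Helper50.Suz2.nt_four n e m hn he hm s s' j hs hsn hs' hs'n hj h

section field
variable {F : Type*} [Field F] [Fintype F] {lam : F} {n e : ℕ}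

/-- [NTF-FIX] -/
theorem LamArith.frob_fix (L : LamArith F lam n e) (σ : F ≃+* F) (h : σ lam = lam) : σ = 1 :=
  LamArith.frob_fix_of ntOrd_holds L σ h

/-- [NTF-SQ] -/
theorem LamArith.sq_fix (L : LamArith F lam n e) (σ : F ≃+* F) (h : σ lam * σ lam = lam) :
    ∀ x : F, σ x * σ x = x :=
  LamArith.sq_fix_of ntOrd_holds L σ h

/-- [NTF-THREE] -/
theorem LamArith.three (L : LamArith F lam n e) (σ τ : F ≃+* F) (hne : σ ≠ τ) :
    σ lam * τ lam ≠ lam :=
  LamArith.three_of ntThree_holds L σ τ hne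

/-- [NTF-NONCONJ] -/
theorem LamArith.nonconj (L : LamArith F lam n e) (τ τ' : F ≃+* F) (hτ : τ ≠ 1) (hτ' : τ' ≠ 1)
    (k : ℕ) (h : (lam * (τ lam)⁻¹) ^ (2 ^ k) = lam * (τ' lam)⁻¹) : τ = τ' :=
  LamArith.nonconj_of ntFour_holds L τ τ' hτ hτ' k h

end field

end Cfsg.Agent.Lib.Helper76.Suz2
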