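import Cfsg.Agent.Lib.Helper76.MaxPairCrit
import Cfsg.Agent.Lib.Helper75.BGChar
import Cfsg.Agent.Lib.Helper75.Ito
import Cfsg.Agent.S0887
import Cfsg.Agent.S0914

/-!
# Brauer pairs carrying a weight are centric and radical (helper76)

`(Q, e)` a Brauer pair, `T = N_G(Q, e)`, `χ` an irreducible character in the block of `T` with the
idempotent of `e`, trivial on `Q` and of defect zero as a character of `T / Q`.  Then `Z(Q)` is a
defect group of `e` and `Q = O_p(T)`.
-/

set_option autoImplicit false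

namespace Cfsg.Agent.Lib.Helper76

open Cfsg MonoidAlgebra Cfsg.Agent.Lib.Helper16 Cfsg.Agent.Lib.Helper77 Cfsg.Agent.Lib.Helper78

universe u

section Index

variable {G : Type u} [Group G]

theorem relIndex_mul_card_of_le {A B : Subgroup G} (h : A ≤ B) :
    A.relIndex B * Nat.card A = Nat.card B := by
  have h1 : Nat.card (A.subgroupOf B) = Nat.card A :=
    Nat.card_congr (Subgroup.subgroupOfEquivOfLe h).toEquiv
  rw [← h1]
  exact Subgroup.index_mul_card (A.subgroupOf B)

end Index

section Radical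

variable {G : Type u} [Group G] [Fintype G] {M : Ideal AlgInt}

/-- If `T / Q` has an irreducible character of defect zero then `Q` contains every normal
`p`-subgroup of `T`. -/
theorem le_of_defect_zero_quotient {p : ℕ} [Fact p.Prime] (hM : IsPModular p M)
    {Q T : Subgroup G} (hQT : Q ≤ T) (hTN : T ≤ Subgroup.normalizer (Q : Set G))
    (χ : IrrCharacter T) (hχQ : ∀ t : T, (t : G) ∈ Q → (χ : T → ℂ) t = (χ : T → ℂ) 1)
    (hdeg : (charDegree (χ : T → ℂ)).factorization p + (Nat.card Q).factorization p =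
      (Nat.card T).factorization p)
    (R : Subgroup G) (hRT : R ≤ T) (hR : IsPGroup p R)
    (hnorm : ∀ t ∈ T, t ∈ Subgroup.normalizer (R : Set G)) : R ≤ Q := by
  classical
  have hMp := isPModular_isPrime hM
  have hp : p.Prime := Fact.out
  have : Fintype ↥T := Fintype.ofFinite _
  set QX : Subgroup ↥T := Q.subgroupOf T with hQX
  have hQXn : QX.Normal := Subgroup.normal_subgroupOf_of_le_normalizer hTN
  have : Fintype (↥T ⧸ QX) := Fintype.ofFinite _
  have hker : ∀ n ∈ QX, (χ : T → ℂ) n = (χ : T → ℂ) 1 :=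
    fun n hn => hχQ n (Subgroup.mem_subgroupOf.mp hn)
  set χb : IrrCharacter (↥T ⧸ QX) := deflate QX χ hker with hχb
  have hdegb : charDegree (χb : ↥T ⧸ QX → ℂ) = charDegree (χ : T → ℂ) := by
    unfold charDegree
    have h1 := deflate_mk QX χ hker 1
    rw [QuotientGroup.mk_one] at h1
    rw [hχb, h1]
  -- order of the quotient
  have hcardQX : Nat.card QX = Nat.card Q :=
    Nat.card_congr (Subgroup.subgroupOfEquivOfLe hQT).toEquiv
  have hcard : Nat.card (↥T ⧸ QX) * Nat.card Q = Nat.card T := by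
    rw [← hcardQX, ← Subgroup.index_eq_card]
    exact Subgroup.index_mul_card QX
  have hq0 : Nat.card (↥T ⧸ QX) ≠ 0 := Nat.card_pos.ne'
  have hQ0 : Nat.card Q ≠ 0 := Nat.card_pos.ne'
  have hfac : (Nat.card (↥T ⧸ QX)).factorization p + (Nat.card Q).factorization p =
      (Nat.card T).factorization p := by
    rw [← hcard, Nat.factorization_mul hq0 hQ0]
    rfl
  have hdz : ¬ p ∣ Nat.card (↥T ⧸ QX) / charDegree (χb : ↥T ⧸ QX → ℂ) := by
    rw [not_dvd_div_iff_factorization_eq hp (Cfsg.Agent.Lib.Helper79.irr_charDegree_dvd_card χb) hq0,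
      hdegb]
    omega
  have hsing := Cfsg.Agent.S0914.block_singleton_of_defect_zero p M hM χb hdz
  have hB : IsPBlock M (blockOf M (χb : ↥T ⧸ QX → ℂ)) := ⟨χb, rfl⟩
  have hdef0 : blockDefect p (blockOf M (χb : ↥T ⧸ QX → ℂ)) = 0 := by
    rw [blockDefect_eq_zero_iff hM hB]
    intro χ' hχ'
    rw [hsing, Set.mem_singleton_iff] at hχ'
    rw [hχ']
    exact hdz
  obtain ⟨D, hD⟩ := exists_isDefectGroup p hB
  have hDcard := card_defectGroup hM hB hD
  rw [hdef0, pow_zero] at hDcard
  have hDbot : D = ⊥ := Subgroup.card_eq_one.mp hDcard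
  -- the image of `R`
  set RX : Subgroup ↥T := R.subgroupOf T with hRX
  have hRXn : RX.Normal := Subgroup.normal_subgroupOf_of_le_normalizer (fun t ht => hnorm t ht)
  have hRXp : IsPGroup p RX := hR.comap_subtype
  have hRbn : (RX.map (QuotientGroup.mk' QX)).Normal :=
    Subgroup.Normal.map hRXn _ (QuotientGroup.mk'_surjective QX)
  have hRbp : IsPGroup p (RX.map (QuotientGroup.mk' QX)) := hRXp.map _
  have hle := normal_pGroup_le_defectGroup hM (RX.map (QuotientGroup.mk' QX)) hRbp hB hD
  rw [hDbot] at hle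
  intro r hr
  have hrT : r ∈ T := hRT hr
  have h1 : QuotientGroup.mk' QX ⟨r, hrT⟩ ∈ RX.map (QuotientGroup.mk' QX) :=
    Subgroup.mem_map_of_mem _ (Subgroup.mem_subgroupOf.mpr hr)
  have h2 := hle h1
  rw [Subgroup.mem_bot, QuotientGroup.mk'_apply, QuotientGroup.eq_one_iff] at h2
  exact Subgroup.mem_subgroupOf.mp h2

end Radical

section Centric

variable {G : Type u} [Group G] [Fintype G] {M : Ideal AlgInt}

open scoped Pointwise

/-- A Brauer pair carrying a weight is centric: `Z(Q)` is a defect group of `e`. -/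
theorem isDefectGroup_centerIn_of_weight {p : ℕ} [Fact p.Prime] (hM : IsPModular p M)
    {Q : Subgroup G} {e : Set (IrrCharacter (Subgroup.centralizer (Q : Set G)))}
    (hPe : IsBrauerPair p M Q e) {T : Subgroup G}
    (hT : ∀ y : G, y ∈ T ↔ y ∈ Subgroup.normalizer (Q : Set G) ∧
      StabilizesBlock (Subgroup.centralizer (Q : Set G)) e y)
    {F' : Set (IrrCharacter T)}
    (hF'f : ∀ t : T, blockCoeff F' t =
      subgroupBlockCoeff (Subgroup.centralizer (Q : Set G)) e (t : G))
    (χ : IrrCharacter T) (hχ : χ ∈ F')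
    (hχQ : ∀ t : T, (t : G) ∈ Q → (χ : T → ℂ) t = (χ : T → ℂ) 1)
    (hdeg : (charDegree (χ : T → ℂ)).factorization p + (Nat.card Q).factorization p =
      (Nat.card T).factorization p) :
    IsDefectGroup p M e ((Q ⊓ Subgroup.centralizer (Q : Set G)).subgroupOf
      (Subgroup.centralizer (Q : Set G))) := by
  classical
  have hMp := isPModular_isPrime hM
  have hp : p.Prime := Fact.out
  have hQ : IsPGroup p Q := hPe.1
  have he : IsPBlock M e := hPe.2
  have hQT : Q ≤ T := le_stab hT
  have hCT : Subgroup.centralizer (Q : Set G) ≤ T := centralizer_le_stab hT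
  have hTN : T ≤ Subgroup.normalizer (Q : Set G) := stab_le_normalizer hT
  have hTs := stab_stabilizes hT
  have : Fintype ↥T := Fintype.ofFinite _
  have : Fintype ↥(Subgroup.centralizer (Q : Set G)) := Fintype.ofFinite _
  -- the normal subgroup `Q C_G(Q)` of `T`
  set H : Subgroup G := Q ⊔ Subgroup.centralizer (Q : Set G) with hH
  have hHT : H ≤ T := sup_le hQT hCT
  set N : Subgroup ↥T := H.subgroupOf T with hNdef
  have hNn : N.Normal := by
    refine ⟨fun k hk l => ?_⟩
    rw [hNdef, Subgroup.mem_subgroupOf] at hk ⊢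
    have := Cfsg.Agent.Lib.Helper82.conj_mem_sup_centralizer Q (hTN l.2) hk
    simpa using this
  have : Fintype ↥N := Fintype.ofFinite _
  set QX : Subgroup ↥T := Q.subgroupOf T with hQX
  have hQXp : IsPGroup p QX := hQ.comap_subtype
  have hQXn : QX.Normal := Subgroup.normal_subgroupOf_of_le_normalizer hTN
  have hQXN : QX ≤ N := by
    intro x hx
    rw [hNdef, Subgroup.mem_subgroupOf]
    exact (le_sup_left : Q ≤ H) (Subgroup.mem_subgroupOf.mp hx)
  have hNnorm : N ≤ Subgroup.normalizer (QX : Set ↥T) := by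
    rw [Subgroup.normalizer_eq_top]
    exact le_top
  have hCN : Subgroup.centralizer (QX : Set ↥T) ≤ N := by
    intro c hc
    rw [hNdef, Subgroup.mem_subgroupOf]
    exact (le_sup_right : Subgroup.centralizer (Q : Set G) ≤ H)
      (coe_mem_centralizer_of_subgroupOf T Q hQT hc)
  set fX := pullBlock (centEquivIn T Q hQT hCT) e with hfX
  have hfXb : IsPBlock M fX := isPBlock_pullBlock _ he
  have hstabX : ∀ x ∈ N, StabilizesBlock (Subgroup.centralizer (QX : Set ↥T)) fX x :=
    fun x _ => stabilizesBlock_pullBlock_centEquivIn T Q hQT hCT e x (hTs x x.2)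
  obtain ⟨b, hb, hbf⟩ := exists_block_of_stable hM QX N hQXp hQXN hNnorm hCN fX hfXb hstabX
  have hbcoef : ∀ t : ↥N, blockCoeff b t =
      subgroupBlockCoeff (Subgroup.centralizer (Q : Set G)) e (((t : ↥T) : G)) := by
    intro t
    rw [hbf t, hfX, subgroupBlockCoeff_pullBlock_centEquivIn T Q hQT hCT e (t : ↥T)]
  have hFb : ∀ x : ↥T, blockCoeff F' x = (stableElt N b).coeff x := by
    intro x
    rw [coeff_stableElt_eq_subgroupBlockCoeff, hF'f x]
    by_cases hx : x ∈ N
    · rw [subgroupBlockCoeff_apply_mem N b hx, hbcoef]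
    · rw [subgroupBlockCoeff_apply_not_mem N b hx]
      unfold subgroupBlockCoeff
      rw [dif_neg]
      intro hxC
      apply hx
      rw [hNdef, Subgroup.mem_subgroupOf]
      exact (le_sup_right : Subgroup.centralizer (Q : Set G) ≤ H) hxC
  have hst : IsGStable N b := by
    apply isGStable_of_blockCoeff_conj N
    intro x n
    rw [hbcoef, hbcoef]
    have h1 := hF'f (x * (n : ↥T) * x⁻¹)
    have h2 := hF'f (n : ↥T)
    rw [← h1, ← h2]
    exact isClassFunction_blockCoeff F' (n : ↥T) x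
  -- a constituent `ψ` of `χ` restricted to `Q C_G(Q)`
  obtain ⟨ψ, hψ⟩ := exists_constituent N χ
  have hψb : ψ ∈ b := (mem_iff_constituent_mem_of_blockCoeff_eq N hst hFb χ ψ hψ).mp hχ
  have hresχ : IsCharacter N (fun n : N => (χ : T → ℂ) n) :=
    Cfsg.Agent.Lib.Helper75.isCharacter_res N (Cfsg.Agent.Lib.Helper78.IsIrrCharacter.isCharacter χ.2)
  have hψQ : ∀ n : N, ((n : ↥T) : G) ∈ Q → (ψ : N → ℂ) n = (ψ : N → ℂ) 1 := by
    intro n hn
    apply Cfsg.Agent.Lib.Helper75.constituent_ker hresχ ψ hψ n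
    show (χ : T → ℂ) (n : ↥T) = (χ : T → ℂ) ((1 : ↥N) : ↥T)
    rw [Subgroup.coe_one]
    exact hχQ n hn
  -- deflate `ψ` to `N / Q`
  set QN : Subgroup ↥N := QX.subgroupOf N with hQN
  have hQNn : QN.Normal := Subgroup.Normal.subgroupOf hQXn N
  have hkerψ : ∀ n ∈ QN, (ψ : N → ℂ) n = (ψ : N → ℂ) 1 := by
    intro n hn
    exact hψQ n (Subgroup.mem_subgroupOf.mp (Subgroup.mem_subgroupOf.mp hn))
  set ψb : IrrCharacter (↥N ⧸ QN) := deflate QN ψ hkerψ with hψbdef
  -- the inclusion of `C_G(Q)` in `N`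
  let ι : ↥(Subgroup.centralizer (Q : Set G)) →* ↥N :=
    (Subgroup.inclusion hCT).codRestrict N (fun c => by
      rw [hNdef, Subgroup.mem_subgroupOf]
      exact (le_sup_right : Subgroup.centralizer (Q : Set G) ≤ H) c.2)
  have hι : ∀ c : ↥(Subgroup.centralizer (Q : Set G)), (((ι c : ↥N) : ↥T) : G) = (c : G) :=
    fun c => rfl
  have hιinj : Function.Injective ι := by
    intro c c' h
    apply Subtype.ext
    rw [← hι c, ← hι c', h]
  let π : ↥(Subgroup.centralizer (Q : Set G)) →* ↥N ⧸ QN := (QuotientGroup.mk' QN).comp ι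
  have hπsurj : Function.Surjective π := by
    intro x
    obtain ⟨n, rfl⟩ := QuotientGroup.mk'_surjective QN x
    have hn : ((n : ↥T) : G) ∈ H := Subgroup.mem_subgroupOf.mp n.2
    have hmul : ((H : Subgroup G) : Set G) =
        (Subgroup.centralizer (Q : Set G) : Set G) * (Q : Set G) := by
      rw [hH, sup_comm]
      exact Subgroup.coe_mul_of_left_le_normalizer_right _ _ (Subgroup.centralizer_le_normalizer _)
    have hn' : ((n : ↥T) : G) ∈ ((H : Subgroup G) : Set G) := hn
    rw [hmul] at hn'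
    obtain ⟨c, hc, q, hq, hcq⟩ := Set.mem_mul.mp hn'
    refine ⟨⟨c, hc⟩, ?_⟩
    show QuotientGroup.mk' QN (ι ⟨c, hc⟩) = QuotientGroup.mk' QN n
    rw [QuotientGroup.mk'_apply, QuotientGroup.mk'_apply, QuotientGroup.eq]
    rw [hQN, Subgroup.mem_subgroupOf, hQX, Subgroup.mem_subgroupOf]
    have : ((((ι ⟨c, hc⟩)⁻¹ * n : ↥N) : ↥T) : G) = q := by
      simp only [Subgroup.coe_mul, Subgroup.coe_inv, hι]
      rw [← hcq]
      group
    rw [this]
    exact hq
  set θ : IrrCharacter ↥(Subgroup.centralizer (Q : Set G)) :=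
    ⟨(ψb : ↥N ⧸ QN → ℂ) ∘ π,
      Cfsg.Agent.Lib.Helper81.isIrrCharacter_comp_surjective ψb.2 π hπsurj⟩ with hθdef
  have hθψ : ∀ c : ↥(Subgroup.centralizer (Q : Set G)),
      (θ : ↥(Subgroup.centralizer (Q : Set G)) → ℂ) c = (ψ : N → ℂ) (ι c) := by
    intro c
    exact deflate_mk QN ψ hkerψ (ι c)
  -- `θ` lies in `e`
  have hθe : θ ∈ e := by
    by_contra hne
    have h1 := Cfsg.Agent.Lib.Helper78.sum_blockCoeff_mul_irr_of_not_mem e hne
    have h2 := Cfsg.Agent.Lib.Helper78.sum_blockCoeff_mul_irr b hψb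
    have h3 : ∑ c : ↥(Subgroup.centralizer (Q : Set G)),
        blockCoeff e c * (θ : ↥(Subgroup.centralizer (Q : Set G)) → ℂ) c =
        ∑ n : ↥N, blockCoeff b n * (ψ : N → ℂ) n := by
      apply Fintype.sum_of_injective ι hιinj
      · intro n hn
        rw [hbcoef]
        unfold subgroupBlockCoeff
        rw [dif_neg, zero_mul]
        intro hnC
        apply hn
        exact ⟨⟨((n : ↥T) : G), hnC⟩, Subtype.ext (Subtype.ext rfl)⟩
      · intro c
        rw [hθψ c, hbcoef, hι c]
        unfold subgroupBlockCoeff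
        rw [dif_pos c.2]
    rw [h1, h2] at h3
    exact Cfsg.Agent.Lib.Helper79.irr_apply_one_ne_zero ψ h3.symm
  -- degrees
  have hdθψ : charDegree (θ : ↥(Subgroup.centralizer (Q : Set G)) → ℂ) =
      charDegree (ψ : N → ℂ) := by
    unfold charDegree
    rw [hθψ 1, map_one]
  have hχ1 := Cfsg.Agent.Lib.Helper79.irr_apply_one_eq_charDegree χ
  have hψ1 := Cfsg.Agent.Lib.Helper79.irr_apply_one_eq_charDegree ψ
  obtain ⟨hd1, hd2⟩ := Cfsg.Agent.S0887.result N (χ : T → ℂ) χ.2 (ψ : N → ℂ) ψ.2 hψ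
    (charDegree (χ : T → ℂ)) (charDegree (ψ : N → ℂ)) hχ1 hψ1
  have hψpos := Cfsg.Agent.Lib.Helper79.irr_charDegree_pos ψ
  have hχpos := Cfsg.Agent.Lib.Helper79.irr_charDegree_pos χ
  have hNi0 : N.index ≠ 0 := Subgroup.index_ne_zero_of_finite
  have hquot0 : charDegree (χ : T → ℂ) / charDegree (ψ : N → ℂ) ≠ 0 := by
    intro h0
    rw [h0] at hd2
    exact hNi0 (zero_dvd_iff.mp hd2)
  have hle1 : (charDegree (χ : T → ℂ)).factorization p - (charDegree (ψ : N → ℂ)).factorization p ≤
      N.index.factorization p := by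
    have h1 := (Nat.factorization_le_iff_dvd hquot0 hNi0).mpr hd2 p
    rw [Nat.factorization_div hd1] at h1
    exact h1
  have hNcard : N.index.factorization p + (Nat.card N).factorization p =
      (Nat.card T).factorization p := by
    rw [← Subgroup.index_mul_card N, Nat.factorization_mul hNi0 Nat.card_pos.ne']
    rfl
  -- the order of `N`
  set CX : Subgroup ↥T := (Subgroup.centralizer (Q : Set G)).subgroupOf T with hCX
  have hCXn : CX.Normal := by
    apply Subgroup.normal_subgroupOf_of_le_normalizer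
    intro t ht
    have h1 : Subgroup.normalizer (Q : Set G) ≤
        Subgroup.normalizer ((Subgroup.centralizer (Q : Set G) : Subgroup G) : Set G) := by
      have := (Subgroup.normal_subgroupOf_iff_le_normalizer
        (Subgroup.centralizer_le_normalizer (Q : Set G))).mp inferInstance
      exact this
    exact h1 (hTN ht)
  have hNsup : N = CX ⊔ QX := by
    rw [hNdef, hH, sup_comm, Subgroup.subgroupOf_sup hCT hQT]
  have hr1 : CX.relIndex N = (CX ⊓ QX).relIndex QX := by
    rw [hNsup, Subgroup.relIndex_sup_left, Subgroup.inf_relIndex_right]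
  have hc1 := relIndex_mul_card_of_le (le_sup_left : CX ≤ CX ⊔ QX)
  rw [← hNsup] at hc1
  have hc2 := relIndex_mul_card_of_le (inf_le_right : CX ⊓ QX ≤ QX)
  have hcardCX : Nat.card CX = Nat.card (Subgroup.centralizer (Q : Set G)) :=
    Nat.card_congr (Subgroup.subgroupOfEquivOfLe hCT).toEquiv
  have hcardQX : Nat.card QX = Nat.card Q :=
    Nat.card_congr (Subgroup.subgroupOfEquivOfLe hQT).toEquiv
  have hinf : CX ⊓ QX = (Q ⊓ Subgroup.centralizer (Q : Set G)).subgroupOf T := by
    ext x
    simp only [Subgroup.mem_inf, Subgroup.mem_subgroupOf, hCX, hQX]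
    tauto
  have hcardZ : Nat.card ↥(CX ⊓ QX) = Nat.card ↥(Q ⊓ Subgroup.centralizer (Q : Set G)) := by
    rw [hinf]
    exact Nat.card_congr (Subgroup.subgroupOfEquivOfLe (inf_le_left.trans hQT)).toEquiv
  rw [hcardCX] at hc1
  rw [hcardQX, hcardZ, ← hr1] at hc2
  have hr0 : CX.relIndex N ≠ 0 := by
    intro h0
    rw [h0, zero_mul] at hc1
    exact Nat.card_pos.ne' hc1.symm
  have hf1 : (CX.relIndex N).factorization p +
      (Nat.card (Subgroup.centralizer (Q : Set G))).factorization p =
      (Nat.card N).factorization p := by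
    rw [← hc1, Nat.factorization_mul hr0 Nat.card_pos.ne']
    rfl
  have hf2 : (CX.relIndex N).factorization p +
      (Nat.card ↥(Q ⊓ Subgroup.centralizer (Q : Set G))).factorization p =
      (Nat.card Q).factorization p := by
    rw [← hc2, Nat.factorization_mul hr0 Nat.card_pos.ne']
    rfl
  -- upper bound via Ito
  set Z := (Q ⊓ Subgroup.centralizer (Q : Set G)).subgroupOf (Subgroup.centralizer (Q : Set G))
    with hZdef
  have hZc : Z ≤ Subgroup.center ↥(Subgroup.centralizer (Q : Set G)) := centerIn_le_center Q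
  have hZn : Z.Normal := by
    refine ⟨fun z hz c => ?_⟩
    have h1 := Subgroup.mem_center_iff.mp (hZc hz) c
    rw [h1, mul_inv_cancel_right]
    exact hz
  have hZab : ∀ a ∈ Z, ∀ b ∈ Z, a * b = b * a := by
    intro a ha b _
    exact (Subgroup.mem_center_iff.mp (hZc ha) b).symm
  have hito := Cfsg.Agent.Lib.Helper75.ito Z hZab (θ : ↥(Subgroup.centralizer (Q : Set G)) → ℂ) θ.2
  have hZi0 : Z.index ≠ 0 := Subgroup.index_ne_zero_of_finite
  have hθpos := Cfsg.Agent.Lib.Helper79.irr_charDegree_pos θ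
  have hle2 : (charDegree (θ : ↥(Subgroup.centralizer (Q : Set G)) → ℂ)).factorization p ≤
      Z.index.factorization p :=
    (Nat.factorization_le_iff_dvd hθpos.ne' hZi0).mpr hito p
  have hZcard : Z.index.factorization p +
      (Nat.card ↥(Q ⊓ Subgroup.centralizer (Q : Set G))).factorization p =
      (Nat.card (Subgroup.centralizer (Q : Set G))).factorization p := by
    rw [← card_centerIn Q, ← Subgroup.index_mul_card Z,
      Nat.factorization_mul hZi0 Nat.card_pos.ne']
    rfl
  apply isDefectGroup_centerIn_of_degree hM hQ he θ hθe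
  rw [hdθψ] at hle2 ⊢
  omega

end Centric

end Cfsg.Agent.Lib.Helper76
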